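import Mathlib
import Cfsg.Prelude.Def_Sporadic_a
import Cfsg.Agent.Lib.Helper1.LeechIndex

set_option autoImplicit false

namespace Cfsg.Agent.Lib.Helper9.LeechTS

open Cfsg Cfsg.Agent.Lib.Helper1

theorem leech_le_latA1 : leechLattice ≤ latA1 := by
  rw [leech_eq]
  exact fun x hx => hx.1.1

theorem leech_word {x : GolayPt → ℤ} (hx : x ∈ leechLattice) : wordZ (halfV x) ∈ golayCode := by
  rw [leech_eq] at hx
  exact hx.1.2

theorem leech_sum {x : GolayPt → ℤ} (hx : x ∈ leechLattice) :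
    (8 : ℤ) ∣ ∑ i, x i - 4 * x none := by
  rw [leech_eq, AddSubgroup.mem_inf, AddMonoidHom.mem_ker, h3_apply] at hx
  have h := hx.2
  exact (ZMod.intCast_zmod_eq_zero_iff_dvd _ 8).1 h

/-- the sublattice: even vectors, all coordinates congruent mod 4 -/
def latTS : AddSubgroup (GolayPt → ℤ) where
  carrier := {x | x ∈ leechLattice ∧ x none % 2 = 0 ∧ ∀ i, (x i - x none) % 4 = 0}
  zero_mem' := ⟨leechLattice.zero_mem, by simp, fun i => by simp⟩
  add_mem' := by
    rintro x y ⟨hx, hx2, hx4⟩ ⟨hy, hy2, hy4⟩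
    refine ⟨leechLattice.add_mem hx hy, ?_, fun i => ?_⟩
    · simp only [Pi.add_apply]; omega
    · have := hx4 i
      have := hy4 i
      simp only [Pi.add_apply]; omega
  neg_mem' := by
    rintro x ⟨hx, hx2, hx4⟩
    refine ⟨leechLattice.neg_mem hx, ?_, fun i => ?_⟩
    · simp only [Pi.neg_apply]; omega
    · have := hx4 i
      simp only [Pi.neg_apply]; omega

theorem mem_latTS (x : GolayPt → ℤ) : x ∈ latTS ↔
    x ∈ leechLattice ∧ x none % 2 = 0 ∧ ∀ i, (x i - x none) % 4 = 0 := Iff.rfl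

/-- the hom onto the code -/
def phi : leechLattice →+ golayCode where
  toFun x := ⟨wordZ (halfV x.1) + ((x.1 none : ℤ) : ZMod 2) • (1 : GolayPt → ZMod 2),
    golayCode.add_mem (leech_word x.2) (golayCode.smul_mem _ one_mem_golayCode)⟩
  map_zero' := by
    apply Subtype.ext
    show wordZ (halfV 0) + (((0 : GolayPt → ℤ) none : ℤ) : ZMod 2) • (1 : GolayPt → ZMod 2) = 0
    rw [halfV_zero, wordZ_zero]
    simp
  map_add' := by
    intro x y
    apply Subtype.ext
    show wordZ (halfV (x.1 + y.1)) + (((x.1 + y.1) none : ℤ) : ZMod 2) • (1 : GolayPt → ZMod 2)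
      = (wordZ (halfV x.1) + ((x.1 none : ℤ) : ZMod 2) • (1 : GolayPt → ZMod 2))
        + (wordZ (halfV y.1) + ((y.1 none : ℤ) : ZMod 2) • (1 : GolayPt → ZMod 2))
    rw [halfV_add (leech_le_latA1 x.2) (leech_le_latA1 y.2), wordZ_add, Pi.add_apply]
    push_cast
    rw [add_smul]
    abel

theorem phi_val (x : leechLattice) : ((phi x : golayCode) : GolayPt → ZMod 2) =
    wordZ (halfV x.1) + ((x.1 none : ℤ) : ZMod 2) • (1 : GolayPt → ZMod 2) := rfl

theorem phi_ker (x : leechLattice) : phi x = 0 ↔ (x : GolayPt → ℤ) ∈ latTS := by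
  have h1 := leech_le_latA1 x.2
  constructor
  · intro h
    have h' : wordZ (halfV x.1) + ((x.1 none : ℤ) : ZMod 2) • (1 : GolayPt → ZMod 2) = 0 := by
      rw [← phi_val, h]; rfl
    have hn := congrFun h' none
    simp only [Pi.add_apply, wordZ_apply, halfV, sub_self, Pi.smul_apply, Pi.one_apply,
      smul_eq_mul, mul_one, Pi.zero_apply] at hn
    have hn' : ((x.1 none : ℤ) : ZMod 2) = 0 := by simpa using hn
    have h2 : x.1 none % 2 = 0 := by
      have := (ZMod.intCast_zmod_eq_zero_iff_dvd _ 2).1 hn'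
      omega
    refine ⟨x.2, h2, fun i => ?_⟩
    have hi := congrFun h' i
    rw [hn'] at hi
    simp only [Pi.add_apply, wordZ_apply, zero_smul, Pi.zero_apply, add_zero] at hi
    have h3 := (ZMod.intCast_zmod_eq_zero_iff_dvd _ 2).1 hi
    have h4 := h1 i
    simp only [halfV] at h3
    omega
  · rintro ⟨_, h2, h4⟩
    apply Subtype.ext
    show wordZ (halfV x.1) + ((x.1 none : ℤ) : ZMod 2) • (1 : GolayPt → ZMod 2) = 0
    have hn' : ((x.1 none : ℤ) : ZMod 2) = 0 :=
      (ZMod.intCast_zmod_eq_zero_iff_dvd _ 2).2 (by omega)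
    rw [hn', zero_smul, add_zero]
    funext i
    rw [wordZ_apply, Pi.zero_apply]
    apply (ZMod.intCast_zmod_eq_zero_iff_dvd _ 2).2
    have := h4 i
    simp only [halfV]
    omega

/-- 0/1 lift of a binary word -/
def liftZ (c : GolayPt → ZMod 2) : GolayPt → ℤ := fun i => (((c i).val : ℕ) : ℤ)

theorem wordZ_liftZ (c : GolayPt → ZMod 2) : wordZ (liftZ c) = c := by
  funext i
  simp [wordZ_apply, liftZ]

theorem liftZ_eq_ite (c : GolayPt → ZMod 2) (i : GolayPt) :
    liftZ c i = if c i ≠ 0 then 1 else 0 := by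
  unfold liftZ
  generalize c i = z
  revert z
  decide

theorem sum_liftZ (c : GolayPt → ZMod 2) : ∑ i, liftZ c i = ((support₂ c).card : ℤ) := by
  simp_rw [liftZ_eq_ite]
  rw [Finset.sum_boole]
  rfl

theorem even_lift_mem {c : GolayPt → ZMod 2} (hc : c ∈ golayCode) :
    (fun i => 2 * liftZ c i) ∈ leechLattice := by
  rw [mem_leechLattice_iff]
  refine ⟨0, liftZ c, fun i => by ring, ?_, by rw [wordZ_liftZ]; exact hc⟩
  rw [← Finset.mul_sum, sum_liftZ]
  obtain ⟨k, hk⟩ := four_dvd_card_support₂ hc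
  rw [hk]
  unfold Int.ModEq
  push_cast
  omega

theorem phi_even_lift {c : GolayPt → ZMod 2} (hc : c ∈ golayCode) (h0 : c none = 0) :
    phi ⟨_, even_lift_mem hc⟩ = ⟨c, hc⟩ := by
  apply Subtype.ext
  rw [phi_val]
  show wordZ (halfV (fun i => 2 * liftZ c i)) +
    (((2 * liftZ c none : ℤ)) : ZMod 2) • (1 : GolayPt → ZMod 2) = c
  have hl : liftZ c none = 0 := by
    unfold liftZ
    rw [h0]
    rfl
  have hh : halfV (fun i => 2 * liftZ c i) = liftZ c := by
    funext i
    simp only [halfV, hl]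
    omega
  rw [hh, wordZ_liftZ, hl]
  simp

/-- an odd vector -/
def x0 : GolayPt → ℤ := fun i => match i with
  | none => -3
  | some _ => 1

theorem x0_mem : x0 ∈ leechLattice := by
  rw [mem_leechLattice_iff]
  refine ⟨1, fun i => match i with | none => -2 | some _ => 0, ?_, ?_, ?_⟩
  · intro i
    cases i <;> rfl
  · rw [Fintype.sum_option]
    simp only [x0]
    rw [Finset.sum_const, Finset.card_univ, ZMod.card]
    decide
  · have : wordZ (fun i : GolayPt => match i with | none => (-2 : ℤ) | some _ => 0) = 0 := by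
      funext i
      cases i
      · show ((-2 : ℤ) : ZMod 2) = 0
        decide
      · show ((0 : ℤ) : ZMod 2) = 0
        simp
    rw [this]
    exact golayCode.zero_mem

theorem phi_x0 : phi ⟨x0, x0_mem⟩ = ⟨1, one_mem_golayCode⟩ := by
  apply Subtype.ext
  rw [phi_val]
  show wordZ (halfV x0) + ((x0 none : ℤ) : ZMod 2) • (1 : GolayPt → ZMod 2) = 1
  have : wordZ (halfV x0) = 0 := by
    funext i
    cases i
    · show (((x0 none - x0 none) / 2 : ℤ) : ZMod 2) = 0
      simp
    · show ((((1 : ℤ) - (-3)) / 2 : ℤ) : ZMod 2) = 0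
      decide
  rw [this, zero_add]
  show (((-3 : ℤ)) : ZMod 2) • (1 : GolayPt → ZMod 2) = 1
  have : ((-3 : ℤ) : ZMod 2) = 1 := by decide
  rw [this, one_smul]

theorem phi_surjective : Function.Surjective phi := by
  rintro ⟨c, hc⟩
  have hcases : c none = 0 ∨ c none = 1 := by
    generalize c none = z
    revert z
    decide
  rcases hcases with h0 | h1
  · exact ⟨_, phi_even_lift hc h0⟩
  · have hc' : c + 1 ∈ golayCode := golayCode.add_mem hc one_mem_golayCode
    have h0' : (c + 1) none = 0 := by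
      rw [Pi.add_apply, h1, Pi.one_apply]
      decide
    refine ⟨⟨x0, x0_mem⟩ + ⟨_, even_lift_mem hc'⟩, ?_⟩
    rw [map_add, phi_x0, phi_even_lift hc' h0']
    apply Subtype.ext
    show (1 : GolayPt → ZMod 2) + (c + 1) = c
    funext i
    simp only [Pi.add_apply, Pi.one_apply]
    generalize c i = z
    revert z
    decide

theorem index_latTS : (latTS.addSubgroupOf leechLattice).index = 2 ^ 12 := by
  have h := relIndex_eq_card latTS leechLattice phi phi_surjective phi_ker
  unfold AddSubgroup.relIndex at h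
  rw [h, ← Nat.card_congr codeEquiv, Nat.card_eq_fintype_card, Fintype.card_fin]
  norm_num

theorem sqNorm_latTS {v : GolayPt → ℤ} (hv : v ∈ latTS) : (32 : ℤ) ∣ sqNorm v := by
  obtain ⟨hvL, h2, h4⟩ := hv
  have hsum := leech_sum hvL
  obtain ⟨b, hb⟩ : ∃ b : GolayPt → ℤ, ∀ i, v i = v none + 2 * (2 * b i) :=
    ⟨fun i => (v i - v none) / 4, fun i => by
      have := h4 i
      show v i = v none + 2 * (2 * ((v i - v none) / 4))
      omega⟩
  have e1 := sqNorm_expand v (fun i => 2 * b i) (v none) hb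
  have e2 := sum_expand v (fun i => 2 * b i) (v none) hb
  have e3 : ∑ i, (2 * b i) = 2 * ∑ i, b i := by rw [Finset.mul_sum]
  have e4 : ∑ i, (2 * b i) ^ 2 = 4 * ∑ i, b i ^ 2 := by
    rw [Finset.mul_sum]
    apply Finset.sum_congr rfl
    intros
    ring
  have e5 : (2 : ℤ) ∣ ∑ i, b i ^ 2 - ∑ i, b i := by
    rw [← Finset.sum_sub_distrib]
    apply Finset.dvd_sum
    intro i _
    have : b i ^ 2 - b i = b i * (b i - 1) := by ring
    rw [this]
    exact even_iff_two_dvd.mp (Int.even_mul_pred_self _)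
  rw [e3] at e1 e2
  rw [e4] at e1
  obtain ⟨k, hk⟩ : ∃ k, v none = 2 * k := ⟨v none / 2, by omega⟩
  obtain ⟨t, ht⟩ := e5
  generalize ∑ i, b i = B at *
  generalize ∑ i, b i ^ 2 = Q at *
  generalize ∑ i, v i = S at *
  obtain ⟨s, hs⟩ : ∃ s, B = 2 * s := ⟨B / 2, by omega⟩
  have hQ : Q = 2 * s + 2 * t := by omega
  rw [e1, hk, hs, hQ]
  exact ⟨3 * k ^ 2 + k * s + s + t, by ring⟩

theorem main : ∃ A : AddSubgroup (GolayPt → ℤ), A ≤ leechLattice ∧
    (∀ v ∈ leechLattice, (2 : ℤ) • v ∈ A) ∧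
    (A.addSubgroupOf leechLattice).index = 2 ^ 12 ∧ ∀ v ∈ A, (32 : ℤ) ∣ sqNorm v := by
  refine ⟨latTS, fun x hx => hx.1, ?_, index_latTS, fun v hv => sqNorm_latTS hv⟩
  intro v hv
  refine ⟨leechLattice.zsmul_mem hv 2, ?_, fun i => ?_⟩
  · simp only [Pi.smul_apply, smul_eq_mul]
    omega
  · have := leech_le_latA1 hv i
    simp only [Pi.smul_apply, smul_eq_mul]
    omega

end Cfsg.Agent.Lib.Helper9.LeechTS
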