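import Mathlib
import Cfsg.Prelude.Def_Sporadic_a

set_option autoImplicit false

namespace Cfsg.Agent.Lib.Helper9.GolayAbs

open Finset Cfsg

variable {α : Type*} [Fintype α] [DecidableEq α]

theorem zmod2_cases (x : ZMod 2) : x = 0 ∨ x = 1 := by
  revert x; decide

theorem wt_eq (w : α → ZMod 2) : hammingNorm w = (support₂ w).card := by
  unfold hammingNorm support₂
  congr

theorem mem_supp {w : α → ZMod 2} {i : α} : i ∈ support₂ w ↔ w i = 1 := by
  unfold support₂
  simp only [mem_filter, mem_univ, true_and]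
  rcases zmod2_cases (w i) with h | h <;> simp [h]

theorem supp_eq_filter (w : α → ZMod 2) : support₂ w = univ.filter fun i => w i ≠ 0 := by
  unfold support₂
  congr

/-- indicator word of a set -/
def ind (s : Finset α) : α → ZMod 2 := fun i => if i ∈ s then 1 else 0

theorem supp_ind (s : Finset α) : support₂ (ind s) = s := by
  ext i
  simp [mem_supp, ind]

theorem ind_supp (w : α → ZMod 2) : ind (support₂ w) = w := by
  funext i
  unfold ind
  simp only [mem_supp]
  rcases zmod2_cases (w i) with h | h <;> simp [h]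

theorem supp_injective : Function.Injective (support₂ : (α → ZMod 2) → Finset α) := by
  intro u v h
  rw [← ind_supp u, ← ind_supp v, h]

theorem supp_zero : support₂ (0 : α → ZMod 2) = ∅ := by
  ext i
  simp [mem_supp]

theorem supp_eq_empty {w : α → ZMod 2} : support₂ w = ∅ ↔ w = 0 := by
  constructor
  · intro h
    apply supp_injective
    rw [h, supp_zero]
  · rintro rfl
    exact supp_zero

theorem sub_eq_add2 (u v : α → ZMod 2) : u - v = u + v := by
  funext i
  simp only [Pi.sub_apply, Pi.add_apply]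
  rcases zmod2_cases (u i) with h | h <;> rcases zmod2_cases (v i) with h' | h' <;>
    rw [h, h'] <;> decide

theorem add_self2 (u : α → ZMod 2) : u + u = 0 := by
  rw [← sub_eq_add2, sub_self]

theorem supp_add (u v : α → ZMod 2) :
    support₂ (u + v) = (support₂ u \ support₂ v) ∪ (support₂ v \ support₂ u) := by
  ext i
  simp only [mem_supp, mem_union, mem_sdiff, Pi.add_apply]
  rcases zmod2_cases (u i) with h | h <;> rcases zmod2_cases (v i) with h' | h' <;>
    rw [h, h'] <;> decide

theorem card_supp_add (u v : α → ZMod 2) :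
    (support₂ (u + v)).card + 2 * (support₂ u ∩ support₂ v).card
      = (support₂ u).card + (support₂ v).card := by
  rw [supp_add, card_union_of_disjoint]
  · have h1 := card_sdiff_add_card_inter (support₂ u) (support₂ v)
    have h2 := card_sdiff_add_card_inter (support₂ v) (support₂ u)
    rw [inter_comm] at h2
    omega
  · rw [disjoint_left]
    intro i hi hi'
    exact (mem_sdiff.mp hi).2 (mem_sdiff.mp hi').1

theorem wt_add (u v : α → ZMod 2) :
    hammingNorm (u + v) + 2 * (support₂ u ∩ support₂ v).card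
      = hammingNorm u + hammingNorm v := by
  rw [wt_eq, wt_eq, wt_eq]
  exact card_supp_add u v

theorem wt_add_le (u v : α → ZMod 2) : hammingNorm (u + v) ≤ hammingNorm u + hammingNorm v := by
  have := wt_add u v
  omega

theorem dot_eq (u v : α → ZMod 2) :
    ∑ i, u i * v i = ((support₂ u ∩ support₂ v).card : ZMod 2) := by
  have : ∀ i, u i * v i = if i ∈ support₂ u ∩ support₂ v then 1 else 0 := by
    intro i
    simp only [mem_inter, mem_supp]
    rcases zmod2_cases (u i) with h | h <;> rcases zmod2_cases (v i) with h' | h' <;>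
      rw [h, h'] <;> decide
  simp_rw [this]
  rw [Finset.sum_ite_mem, Finset.sum_const]
  simp

theorem even_inter_of_dot {u v : α → ZMod 2} (h : ∑ i, u i * v i = 0) :
    2 ∣ (support₂ u ∩ support₂ v).card := by
  rw [dot_eq] at h
  exact (ZMod.natCast_eq_zero_iff _ 2).mp h

theorem wt_eq_zero {w : α → ZMod 2} : hammingNorm w = 0 ↔ w = 0 := by
  rw [wt_eq, card_eq_zero, supp_eq_empty]

/-- number of words of weight `k` -/
theorem card_wt_eq (k : ℕ) :
    (univ.filter fun u : α → ZMod 2 => hammingNorm u = k).card = (Fintype.card α).choose k := by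
  rw [← Finset.card_univ, ← Finset.card_powersetCard]
  apply Finset.card_bij (fun u _ => support₂ u)
  · intro u hu
    rw [mem_filter] at hu
    rw [mem_powersetCard]
    exact ⟨subset_univ _, by rw [← wt_eq]; exact hu.2⟩
  · intro u _ v _ h
    exact supp_injective h
  · intro s hs
    rw [mem_powersetCard] at hs
    refine ⟨ind s, ?_, supp_ind s⟩
    rw [mem_filter]
    exact ⟨mem_univ _, by rw [wt_eq, supp_ind]; exact hs.2⟩

/-- abstract counting lemma -/
theorem counting {V Q : Type*} [DecidableEq V] [Finite Q] (hQ : Nat.card Q = 4096) (π : V → Q)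
    (L3 L4 : Finset V) (h3 : L3.card = 2325) (h4 : L4.card = 10626)
    (hinj : ∀ u ∈ L3, ∀ u' ∈ L3, π u = π u' → u = u')
    (hfib : ∀ q, ∀ F ⊆ L4, (∀ u ∈ F, π u = q) → F.card ≤ 6)
    (hdisj : ∀ u ∈ L3, ∀ u' ∈ L4, π u ≠ π u') (q : Q) :
    (∃ u ∈ L3, π u = q) ∨ ∃ F ⊆ L4, F.card = 6 ∧ (∀ u ∈ F, π u = q) ∧
      ∀ u ∈ L4, π u = q → u ∈ F := by
  classical
  haveI := Fintype.ofFinite Q
  have hA : (L3.image π).card = 2325 := by
    rw [Finset.card_image_of_injOn]
    · exact h3
    · intro u hu u' hu' h
      exact hinj u hu u' hu' h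
  have hAB : Disjoint (L3.image π) (L4.image π) := by
    rw [disjoint_left]
    intro x hx hx'
    obtain ⟨u, hu, rfl⟩ := mem_image.mp hx
    obtain ⟨u', hu', h⟩ := mem_image.mp hx'
    exact hdisj u hu u' hu' h.symm
  have hsum : L4.card = ∑ b ∈ L4.image π, (L4.filter (fun u => π u = b)).card :=
    Finset.card_eq_sum_card_fiberwise (fun x hx => Finset.mem_image_of_mem _ hx)
  have hle : ∀ b ∈ L4.image π, (L4.filter (fun u => π u = b)).card ≤ 6 := fun b _ =>
    hfib b _ (filter_subset _ _) (fun u hu => (mem_filter.mp hu).2)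
  have hB1 : 10626 ≤ 6 * (L4.image π).card := by
    rw [← h4, hsum]
    calc _ ≤ ∑ _b ∈ L4.image π, 6 := sum_le_sum hle
      _ = 6 * (L4.image π).card := by rw [Finset.sum_const, smul_eq_mul, mul_comm]
  have hAB2 : (L3.image π).card + (L4.image π).card ≤ 4096 := by
    rw [← card_union_of_disjoint hAB, ← hQ, Nat.card_eq_fintype_card]
    exact card_le_univ _
  have hB : (L4.image π).card = 1771 := by omega
  have hall : ∀ b ∈ L4.image π, (L4.filter (fun u => π u = b)).card = 6 := by
    by_contra hne
    push Not at hne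
    obtain ⟨b0, hb0, hlt⟩ := hne
    have : ∑ b ∈ L4.image π, (L4.filter (fun u => π u = b)).card < ∑ _b ∈ L4.image π, 6 :=
      sum_lt_sum hle ⟨b0, hb0, lt_of_le_of_ne (hle b0 hb0) hlt⟩
    rw [← hsum, Finset.sum_const, smul_eq_mul, hB, h4] at this
    omega
  have hcover : L3.image π ∪ L4.image π = univ := by
    apply eq_univ_of_card
    rw [card_union_of_disjoint hAB, hA, hB, ← Nat.card_eq_fintype_card, hQ]
  have hq : q ∈ L3.image π ∪ L4.image π := by rw [hcover]; exact mem_univ _
  rcases mem_union.mp hq with h | h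
  · left
    obtain ⟨u, hu, rfl⟩ := mem_image.mp h
    exact ⟨u, hu, rfl⟩
  · right
    exact ⟨L4.filter (fun u => π u = q), filter_subset _ _, hall q h,
      fun u hu => (mem_filter.mp hu).2, fun u hu hπ => mem_filter.mpr ⟨hu, hπ⟩⟩

end Cfsg.Agent.Lib.Helper9.GolayAbs
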