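import Mathlib
import Cfsg.Agent.Lib.Helper9.GolayAbs

set_option autoImplicit false

namespace Cfsg.Agent.Lib.Helper9.GolayAbs

open Finset Cfsg

variable {C : Submodule (ZMod 2) (Fin 24 → ZMod 2)}

theorem card_quot (hdim : Module.finrank (ZMod 2) C = 12) :
    Nat.card ((Fin 24 → ZMod 2) ⧸ C) = 4096 := by
  have h1 := Submodule.card_eq_card_quotient_mul_card C
  have h2 : Nat.card (Fin 24 → ZMod 2) = 2 ^ 24 := by
    rw [Nat.card_fun]; simp
  have h3 : Nat.card C = 2 ^ 12 := by
    rw [Module.natCard_eq_pow_finrank (K := ZMod 2), hdim]; simp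
  rw [h2, h3] at h1
  have : (2:ℕ)^24 = 2^12 * 4096 := by norm_num
  rw [this] at h1
  exact (Nat.eq_of_mul_eq_mul_left (by norm_num) h1).symm

theorem card_le3 : (univ.filter fun u : Fin 24 → ZMod 2 => hammingNorm u ≤ 3).card = 2325 := by
  have h := Finset.card_eq_sum_card_fiberwise
    (s := univ.filter fun u : Fin 24 → ZMod 2 => hammingNorm u ≤ 3) (t := range 4)
    (f := fun u => hammingNorm u)
    (fun u hu => by
      rw [Finset.mem_coe, mem_filter] at hu
      rw [Finset.mem_coe, mem_range]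
      show hammingNorm u < 4
      omega)
  rw [h]
  have : ∀ k ∈ range 4, ((univ.filter fun u : Fin 24 → ZMod 2 => hammingNorm u ≤ 3).filter
      (fun u => hammingNorm u = k)).card = (24).choose k := by
    intro k hk
    rw [mem_range] at hk
    have h24 := card_wt_eq (α := Fin 24) k
    rw [Fintype.card_fin] at h24
    rw [← h24, Finset.filter_filter]
    refine congrArg Finset.card (Finset.filter_congr ?_)
    intro u _
    constructor
    · intro h; exact h.2
    · intro h; exact ⟨by omega, h⟩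
  rw [Finset.sum_congr rfl this]
  simp only [Finset.sum_range_succ, Finset.sum_range_zero]
  norm_num [Nat.choose]

theorem card_eq4 : (univ.filter fun u : Fin 24 → ZMod 2 => hammingNorm u = 4).card = 10626 := by
  rw [card_wt_eq 4, Fintype.card_fin]
  norm_num [Nat.choose]

section
variable (hmin : ∀ w ∈ C, w ≠ 0 → 8 ≤ hammingNorm w)
include hmin

theorem eq_of_small {u u' : Fin 24 → ZMod 2} (h : u - u' ∈ C)
    (hw : hammingNorm u + hammingNorm u' < 8) : u = u' := by
  by_contra hne
  have h0 : u - u' ≠ 0 := sub_ne_zero.mpr hne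
  have h8 := hmin _ h h0
  rw [sub_eq_add2] at h8
  have := wt_add_le u u'
  omega

theorem disjoint_of_four {u u' : Fin 24 → ZMod 2} (h : u - u' ∈ C) (hu : hammingNorm u = 4)
    (hu' : hammingNorm u' = 4) (hne : u ≠ u') : Disjoint (support₂ u) (support₂ u') := by
  have h0 : u - u' ≠ 0 := sub_ne_zero.mpr hne
  have h8 := hmin _ h h0
  rw [sub_eq_add2] at h8
  have := wt_add u u'
  rw [Finset.disjoint_iff_inter_eq_empty, ← Finset.card_eq_zero]
  omega

theorem fiber_card (F : Finset (Fin 24 → ZMod 2)) (hF4 : ∀ u ∈ F, hammingNorm u = 4)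
    (hFC : ∀ u ∈ F, ∀ u' ∈ F, u - u' ∈ C) :
    (F.biUnion support₂).card = 4 * F.card := by
  have hdis : ∀ u ∈ F, ∀ u' ∈ F, u ≠ u' → Disjoint (support₂ u) (support₂ u') :=
    fun u hu u' hu' hne => disjoint_of_four hmin (hFC u hu u' hu') (hF4 u hu) (hF4 u' hu') hne
  rw [Finset.card_biUnion hdis,
    Finset.sum_congr rfl (fun u hu => by rw [← wt_eq, hF4 u hu]), Finset.sum_const, smul_eq_mul,
    mul_comm]

theorem fiber_le (F : Finset (Fin 24 → ZMod 2)) (hF4 : ∀ u ∈ F, hammingNorm u = 4)
    (hFC : ∀ u ∈ F, ∀ u' ∈ F, u - u' ∈ C) : F.card ≤ 6 := by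
  have h1 := fiber_card hmin F hF4 hFC
  have h3 : (F.biUnion support₂).card ≤ 24 := by
    calc _ ≤ (univ : Finset (Fin 24)).card := card_le_univ _
    _ = 24 := by simp
  omega

theorem coset_structure (hdim : Module.finrank (ZMod 2) C = 12) (w : Fin 24 → ZMod 2) :
    (∃ u : Fin 24 → ZMod 2, hammingNorm u ≤ 3 ∧ u - w ∈ C) ∨
    ∃ F : Finset (Fin 24 → ZMod 2), F.card = 6 ∧ (∀ u ∈ F, hammingNorm u = 4 ∧ u - w ∈ C) ∧
      ∀ u : Fin 24 → ZMod 2, hammingNorm u = 4 → u - w ∈ C → u ∈ F := by
  have key := counting (card_quot hdim) (fun u : Fin 24 → ZMod 2 => (Submodule.Quotient.mk u : (Fin 24 → ZMod 2) ⧸ C))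
    (univ.filter fun u : Fin 24 → ZMod 2 => hammingNorm u ≤ 3)
    (univ.filter fun u : Fin 24 → ZMod 2 => hammingNorm u = 4) card_le3 card_eq4
    (by
      intro u hu u' hu' h
      rw [mem_filter] at hu hu'
      exact eq_of_small hmin ((Submodule.Quotient.eq C).mp h) (by omega))
    (by
      intro q F hF hq
      apply fiber_le hmin F
      · intro u hu
        exact (mem_filter.mp (hF hu)).2
      · intro u hu u' hu'
        exact (Submodule.Quotient.eq C).mp ((hq u hu).trans (hq u' hu').symm))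
    (by
      intro u hu u' hu' h
      rw [mem_filter] at hu hu'
      have := eq_of_small hmin ((Submodule.Quotient.eq C).mp h) (by omega)
      rw [this] at hu
      omega)
    (Submodule.Quotient.mk w)
  rcases key with ⟨u, hu, h⟩ | ⟨F, hF, hF6, hFq, hFall⟩
  · left
    exact ⟨u, (mem_filter.mp hu).2, (Submodule.Quotient.eq C).mp h⟩
  · right
    refine ⟨F, hF6, fun u hu => ⟨(mem_filter.mp (hF hu)).2, (Submodule.Quotient.eq C).mp (hFq u hu)⟩,
      fun u hu4 huw => hFall u (mem_filter.mpr ⟨mem_univ _, hu4⟩) ((Submodule.Quotient.eq C).mpr huw)⟩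

theorem exists_octad (hdim : Module.finrank (ZMod 2) C = 12) (s : Finset (Fin 24))
    (hs : s.card = 5) : ∃ c ∈ C, hammingNorm c = 8 ∧ s ⊆ support₂ c := by
  have hne : s.Nonempty := by rw [← card_pos]; omega
  obtain ⟨a, ha⟩ := hne
  have hT : (s.erase a).card = 4 := by rw [card_erase_of_mem ha, hs]
  have hu4 : hammingNorm (ind (s.erase a)) = 4 := by rw [wt_eq, supp_ind, hT]
  rcases coset_structure hmin hdim (ind (s.erase a)) with ⟨u0, h0, h0C⟩ | ⟨F, hF6, hF, hFall⟩
  · have := eq_of_small hmin h0C (by omega)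
    rw [this] at h0
    omega
  · have huF : ind (s.erase a) ∈ F := hFall _ hu4 (by rw [sub_self]; exact C.zero_mem)
    have hFC : ∀ u ∈ F, ∀ u' ∈ F, u - u' ∈ C := by
      intro u hu u' hu'
      have := C.sub_mem (hF u hu).2 (hF u' hu').2
      rwa [sub_sub_sub_cancel_right] at this
    have hcard := fiber_card hmin F (fun u hu => (hF u hu).1) hFC
    have huniv : F.biUnion support₂ = univ := by
      apply eq_univ_of_card
      rw [hcard, hF6]; simp
    have haU : a ∈ F.biUnion support₂ := by rw [huniv]; exact mem_univ _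
    obtain ⟨u', hu', hau'⟩ := mem_biUnion.mp haU
    have hne' : ind (s.erase a) ≠ u' := by
      intro h
      rw [← h, supp_ind] at hau'
      exact (mem_erase.mp hau').1 rfl
    have hdisj := disjoint_of_four hmin (hFC _ huF _ hu') hu4 (hF u' hu').1 hne'
    refine ⟨ind (s.erase a) + u', ?_, ?_, ?_⟩
    · have := hFC _ huF _ hu'
      rwa [sub_eq_add2] at this
    · have h1 := wt_add (ind (s.erase a)) u'
      rw [Finset.disjoint_iff_inter_eq_empty] at hdisj
      rw [hdisj, hu4, (hF u' hu').1] at h1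
      simpa using h1
    · intro x hx
      rw [supp_add, mem_union, mem_sdiff, mem_sdiff]
      by_cases hxa : x = a
      · right
        subst hxa
        refine ⟨hau', ?_⟩
        rw [supp_ind]
        exact fun h => (mem_erase.mp h).1 rfl
      · left
        have hxT : x ∈ support₂ (ind (s.erase a)) := by
          rw [supp_ind]; exact mem_erase.mpr ⟨hxa, hx⟩
        exact ⟨hxT, fun h => (disjoint_left.mp hdisj) hxT h⟩

theorem octad_unique {c c' : Fin 24 → ZMod 2} (hc : c ∈ C) (hc' : c' ∈ C)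
    (h8 : hammingNorm c = 8) (h8' : hammingNorm c' = 8) (s : Finset (Fin 24)) (hs : s.card = 5)
    (hsc : s ⊆ support₂ c) (hsc' : s ⊆ support₂ c') : c = c' := by
  by_contra hne
  have h0 : c - c' ≠ 0 := sub_ne_zero.mpr hne
  have hge := hmin _ (C.sub_mem hc hc') h0
  rw [sub_eq_add2] at hge
  have h1 := wt_add c c'
  have h2 : s.card ≤ (support₂ c ∩ support₂ c').card :=
    card_le_card (subset_inter hsc hsc')
  omega

theorem span_and_dvd (hdim : Module.finrank (ZMod 2) C = 12)
    (horth : ∀ v ∈ C, ∀ w ∈ C, ∑ i, v i * w i = 0) :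
    ∀ n : ℕ, ∀ w ∈ C, hammingNorm w = n →
      w ∈ Submodule.span (ZMod 2) {w : Fin 24 → ZMod 2 | w ∈ C ∧ hammingNorm w = 8} ∧
        4 ∣ hammingNorm w := by
  intro n
  induction n using Nat.strong_induction_on with
  | _ n ih =>
    intro w hw hn
    by_cases h0 : w = 0
    · subst h0
      exact ⟨Submodule.zero_mem _, by simp⟩
    · have h8 := hmin w hw h0
      have h8' := h8
      rw [wt_eq] at h8'
      obtain ⟨s, hsw, hs5⟩ := Finset.exists_subset_card_eq (show 5 ≤ (support₂ w).card by omega)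
      obtain ⟨c, hcC, hc8, hsc⟩ := exists_octad hmin hdim s hs5
      have h1 := wt_add w c
      have h2 : s.card ≤ (support₂ w ∩ support₂ c).card :=
        card_le_card (subset_inter hsw hsc)
      have h3 := even_inter_of_dot (horth w hw c hcC)
      have hlt : hammingNorm (w + c) < n := by
        rw [← hn]; omega
      obtain ⟨hsp, hdv⟩ := ih _ hlt (w + c) (C.add_mem hw hcC) rfl
      have hwc : w = (w + c) + c := by
        rw [add_assoc, add_self2, add_zero]
      constructor
      · rw [hwc]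
        exact Submodule.add_mem _ hsp (Submodule.subset_span ⟨hcC, hc8⟩)
      · obtain ⟨m, hm⟩ := h3
        obtain ⟨j, hj⟩ := hdv
        exact ⟨j + m - 2, by omega⟩

end

end Cfsg.Agent.Lib.Helper9.GolayAbs
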