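import Mathlib
import Cfsg.Agent.S0391

set_option autoImplicit false

namespace Cfsg.Agent.Lib.Helper9

open Cfsg

theorem sqNorm_add' (x y : GolayPt → ℤ) :
    sqNorm (x + y) = sqNorm x + sqNorm y + 2 * dotInt x y := by
  unfold sqNorm dotInt
  rw [Finset.mul_sum, ← Finset.sum_add_distrib, ← Finset.sum_add_distrib]
  apply Finset.sum_congr rfl
  intro i _
  simp only [Pi.add_apply]
  ring

theorem sqNorm_sub' (x y : GolayPt → ℤ) :
    sqNorm (x - y) = sqNorm x + sqNorm y - 2 * dotInt x y := by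
  unfold sqNorm dotInt
  rw [Finset.mul_sum, ← Finset.sum_add_distrib, ← Finset.sum_sub_distrib]
  apply Finset.sum_congr rfl
  intro i _
  simp only [Pi.sub_apply]
  ring

theorem sqNorm_two_smul (z : GolayPt → ℤ) : sqNorm ((2 : ℕ) • z) = 4 * sqNorm z := by
  unfold sqNorm
  rw [Finset.mul_sum]
  apply Finset.sum_congr rfl
  intro i _
  simp only [Pi.smul_apply, nsmul_eq_mul]
  push_cast
  ring

theorem leech_cong (x y : GolayPt → ℤ) (hx : x ∈ leechLattice) (hy : y ∈ leechLattice) (hxy : x ≠ y)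
    (hxn : sqNorm x ≤ 64) (hyn : sqNorm y ≤ 64)
    (hc : ∃ z ∈ leechLattice, x - y = 2 • z) :
    x = -y ∨ (sqNorm x = 64 ∧ sqNorm y = 64 ∧ dotInt x y = 0) := by
  obtain ⟨z, hz, hxyz⟩ := hc
  by_cases hneg : x = -y
  · left; exact hneg
  · right
    have hz0 : z ≠ 0 := by
      intro h
      apply hxy
      rw [h, smul_zero] at hxyz
      exact sub_eq_zero.mp hxyz
    have h1 : 32 ≤ sqNorm z := Cfsg.Agent.S0391.result z hz hz0
    have hw : z + y ∈ leechLattice := leechLattice.add_mem hz hy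
    have hw0 : z + y ≠ 0 := by
      intro h
      apply hneg
      have : x = 2 • z + y := by rw [← hxyz]; abel
      rw [this]
      have hzy : z = -y := eq_neg_of_add_eq_zero_left h
      rw [hzy]; abel
    have h2 : 32 ≤ sqNorm (z + y) := Cfsg.Agent.S0391.result _ hw hw0
    have e1 : sqNorm (x - y) = 4 * sqNorm z := by rw [hxyz]; exact sqNorm_two_smul z
    have e2 : sqNorm (x + y) = 4 * sqNorm (z + y) := by
      have : x + y = (2 : ℕ) • (z + y) := by
        have : x = 2 • z + y := by rw [← hxyz]; abel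
        rw [this]; abel
      rw [this]; exact sqNorm_two_smul _
    have e3 := sqNorm_add' x y
    have e4 := sqNorm_sub' x y
    refine ⟨?_, ?_, ?_⟩ <;> omega

end Cfsg.Agent.Lib.Helper9
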