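import Cfsg.Agent.Lib.Helper9.SylowConj

set_option autoImplicit false

namespace Cfsg.Agent.Lib.Helper9

variable {G : Type*} [Group G]

/-- The intersection of a Sylow `p`-subgroup with a normal subgroup `N` has the order of a Sylow
`p`-subgroup of `N`. -/
theorem card_sylow_inf_normal [Finite G] (p : ℕ) [Fact p.Prime] (P : Sylow p G) (N : Subgroup G)
    [N.Normal] : Nat.card ↥((P : Subgroup G) ⊓ N) = p ^ (Nat.card N).factorization p := by
  apply le_antisymm
  · exact card_le_of_isPGroup_le p (P.2.to_le inf_le_left) inf_le_right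
  · obtain ⟨Q⟩ : Nonempty (Sylow p N) := inferInstance
    have hQ' : IsPGroup p ((Q : Subgroup N).map N.subtype) := Q.2.map _
    have hcard : Nat.card ((Q : Subgroup N).map N.subtype) = p ^ (Nat.card N).factorization p := by
      rw [Subgroup.card_map_of_injective N.subtype_injective]
      exact Q.card_eq_multiplicity
    obtain ⟨a, ha⟩ := exists_conj_le_sylow p P hQ'
    have hle : ((Q : Subgroup N).map N.subtype).map (MulAut.conj a).toMonoidHom ≤
        (P : Subgroup G) ⊓ N := by
      refine le_inf ha ?_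
      rintro _ ⟨_, ⟨x, -, rfl⟩, rfl⟩
      exact ‹N.Normal›.conj_mem _ x.2 a
    rw [← hcard, ← card_map_conj _ a]
    exact Subgroup.card_le_of_le hle

/-- Frattini argument relative to a Sylow subgroup of the whole group. -/
theorem frattini_inf [Finite G] (p : ℕ) [Fact p.Prime] (P : Sylow p G) (N : Subgroup G)
    [hN : N.Normal] (g : G) :
    ∃ n ∈ N, ∃ h : G, g = h * n ∧ ∀ x ∈ (P : Subgroup G) ⊓ N, h * x * h⁻¹ ∈ (P : Subgroup G) ⊓ N := by
  have hcard := card_sylow_inf_normal p P N
  have hK : IsPGroup p (((P : Subgroup G) ⊓ N).map (MulAut.conj g).toMonoidHom) :=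
    (P.2.to_le inf_le_left).map _
  have hKN : ((P : Subgroup G) ⊓ N).map (MulAut.conj g).toMonoidHom ≤ N := by
    rintro _ ⟨x, hx, rfl⟩
    exact hN.conj_mem _ hx.2 g
  obtain ⟨m, hmN, hm⟩ := exists_conj_le_of_sylow_card p (inf_le_right : (P : Subgroup G) ⊓ N ≤ N)
    hKN hK hcard
  refine ⟨(m * g)⁻¹ * m⁻¹ * (m * g), ?_, m * g, by group, ?_⟩
  · have := hN.conj_mem _ (N.inv_mem hmN) (m * g)⁻¹
    simpa using this
  · intro x hx
    have h1 : (MulAut.conj m).toMonoidHom ((MulAut.conj g).toMonoidHom x) ∈ (P : Subgroup G) ⊓ N :=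
      hm ⟨_, ⟨x, hx, rfl⟩, rfl⟩
    have h2 : m * g * x * (m * g)⁻¹ = (MulAut.conj m).toMonoidHom ((MulAut.conj g).toMonoidHom x) := by
      simp [MulAut.conj_apply, mul_assoc]
    rw [h2]
    exact h1

end Cfsg.Agent.Lib.Helper9
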