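import Mathlib

set_option autoImplicit false
set_option maxHeartbeats 800000

namespace Cfsg.Agent.Lib.Helper9

section Class2

variable {G : Type*} [Group G]

theorem pow_mul_of_comm {a b c : G} (hc : b * a = c * a * b) (hcb : Commute c b) (n : ℕ) :
    b ^ n * a = c ^ n * a * b ^ n := by
  induction n with
  | zero => simp
  | succ n ih =>
    calc b ^ (n + 1) * a = b * (b ^ n * a) := by rw [pow_succ', mul_assoc]
      _ = b * (c ^ n * a * b ^ n) := by rw [ih]
      _ = c ^ n * (b * a) * b ^ n := by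
        have h1 : b * c ^ n = c ^ n * b := ((hcb.pow_left n).eq).symm
        rw [← mul_assoc, ← mul_assoc, h1, mul_assoc (c ^ n) b a]
      _ = c ^ n * (c * a * b) * b ^ n := by rw [hc]
      _ = c ^ (n + 1) * a * b ^ (n + 1) := by
        rw [pow_succ, pow_succ']
        simp only [mul_assoc]

theorem mul_pow_of_comm {a b c : G} (hc : b * a = c * a * b) (hca : Commute c a)
    (hcb : Commute c b) (n : ℕ) : (a * b) ^ n = c ^ (n.choose 2) * a ^ n * b ^ n := by
  induction n with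
  | zero => simp
  | succ n ih =>
    have h1 := pow_mul_of_comm hc hcb n
    have h2 : a ^ n * c ^ n = c ^ n * a ^ n := ((hca.pow_pow n n).eq).symm
    have h3 : (n + 1).choose 2 = n.choose 2 + n := by
      rw [Nat.choose_succ_succ' n 1, Nat.choose_one_right, add_comm]
    calc (a * b) ^ (n + 1) = (a * b) ^ n * (a * b) := pow_succ _ _
      _ = c ^ (n.choose 2) * a ^ n * b ^ n * (a * b) := by rw [ih]
      _ = c ^ (n.choose 2) * a ^ n * (b ^ n * a) * b := by simp only [mul_assoc]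
      _ = c ^ (n.choose 2) * a ^ n * (c ^ n * a * b ^ n) * b := by rw [h1]
      _ = c ^ (n.choose 2) * (a ^ n * c ^ n) * a * b ^ n * b := by simp only [mul_assoc]
      _ = c ^ (n.choose 2) * (c ^ n * a ^ n) * a * b ^ n * b := by rw [h2]
      _ = c ^ ((n + 1).choose 2) * a ^ (n + 1) * b ^ (n + 1) := by
        rw [h3, pow_add, pow_succ, pow_succ]
        simp only [mul_assoc]

end Class2

section Fix

variable {P : Type*} [Group P]

/-- If a coprime automorphism fixes `x⁻¹ α(x)`, a `p`-element, then it fixes `x`. -/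
theorem fix_of_fix_comm (p : ℕ) (α : MulAut P) (hα : (orderOf α).Coprime p) {x : P}
    (ht : α (x⁻¹ * α x) = x⁻¹ * α x) {k : ℕ} (hk : (x⁻¹ * α x) ^ p ^ k = 1) : α x = x := by
  have hpow : ∀ n : ℕ, (α ^ n) x = x * (x⁻¹ * α x) ^ n := by
    intro n
    induction n with
    | zero => simp
    | succ n ih =>
      rw [pow_succ', MulAut.mul_apply, ih, map_mul, map_pow, ht, pow_succ', ← mul_assoc,
        mul_inv_cancel_left]
  have h3 := hpow (orderOf α)
  rw [pow_orderOf_eq_one, MulAut.one_apply] at h3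
  have h4 : (x⁻¹ * α x) ^ orderOf α = 1 := by
    have := mul_left_cancel (a := x) (b := 1) (c := (x⁻¹ * α x) ^ orderOf α)
      (by rw [mul_one]; exact h3)
    exact this.symm
  have hd1 := orderOf_dvd_of_pow_eq_one h4
  have hd2 := orderOf_dvd_of_pow_eq_one hk
  have hcop : Nat.Coprime (orderOf α) (p ^ k) := Nat.Coprime.pow_right k hα
  have h5 := Nat.dvd_gcd hd1 hd2
  rw [hcop] at h5
  have h6 : x⁻¹ * α x = 1 := orderOf_eq_one_iff.mp (Nat.dvd_one.mp h5)
  have := congrArg (fun z => x * z) h6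
  simpa using this

end Fix

section Main

/-- A nontrivial finite `p`-group has a proper subgroup containing all `p`-th powers and all
commutators. -/
theorem exists_proper_frattini_like {Q : Type*} [Group Q] [Finite Q] (p : ℕ) [hp : Fact p.Prime]
    (hQ : IsPGroup p Q) [Nontrivial Q] :
    ∃ M : Subgroup Q, M ≠ ⊤ ∧ (∀ x : Q, x ^ p ∈ M) ∧ ∀ a b : Q, a * b * a⁻¹ * b⁻¹ ∈ M := by
  obtain ⟨k, hk⟩ := hQ.exists_card_eq
  have hk0 : k ≠ 0 := by
    rintro rfl
    rw [pow_zero] at hk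
    exact (Finite.one_lt_card (α := Q)).ne' hk
  obtain ⟨j, rfl⟩ := Nat.exists_eq_succ_of_ne_zero hk0
  obtain ⟨M, hM⟩ := Sylow.exists_subgroup_card_pow_prime p (G := Q) (n := j)
    (by rw [hk]; exact pow_dvd_pow p (Nat.le_succ j))
  have hidx : M.index = p := by
    have h1 := M.card_mul_index
    rw [hM, hk, pow_succ] at h1
    exact Nat.eq_of_mul_eq_mul_left (pow_pos hp.out.pos j) h1
  haveI hMn : M.Normal := Subgroup.normal_of_index_eq_minFac_card
    (by rw [hidx, hk, hp.out.pow_minFac (Nat.succ_ne_zero j)])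
  have hcardq : Nat.card (Q ⧸ M) = p := by
    rw [← Subgroup.index_eq_card]
    exact hidx
  refine ⟨M, ?_, ?_, ?_⟩
  · intro h
    rw [h, Subgroup.index_top] at hidx
    exact hp.out.one_lt.ne hidx
  · intro x
    rw [← QuotientGroup.eq_one_iff, QuotientGroup.mk_pow, ← hcardq]
    exact pow_card_eq_one'
  · intro a b
    haveI : IsCyclic (Q ⧸ M) := isCyclic_of_prime_card hcardq
    rw [← QuotientGroup.eq_one_iff]
    show ((a : Q ⧸ M) * (b : Q ⧸ M) * (a : Q ⧸ M)⁻¹ * (b : Q ⧸ M)⁻¹) = 1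
    rw [mul_comm' (a : Q ⧸ M) (b : Q ⧸ M)]
    group

variable {P : Type*} [Group P] [Finite P]

/-- Key inductive statement: a coprime automorphism of a finite `p`-group fixing all elements of
order `p` (and `4` when `p = 2`) fixes every invariant subgroup pointwise. -/
theorem fix_of_invariant (p : ℕ) [hp : Fact p.Prime] (hP : IsPGroup p P) (α : MulAut P)
    (hα : (orderOf α).Coprime p)
    (hfix : ∀ x : P, (x ^ p = 1 ∨ (p = 2 ∧ x ^ 4 = 1)) → α x = x) :
    ∀ n : ℕ, ∀ Q : Subgroup P, Nat.card Q = n → (∀ x ∈ Q, α x ∈ Q) → ∀ x ∈ Q, α x = x := by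
  intro n
  induction n using Nat.strong_induction_on with
  | _ n ih =>
    intro Q hQn hQα
    have hpk : ∀ t : P, ∃ k : ℕ, t ^ p ^ k = 1 := fun t => hP t
    -- the subgroup `[Q, α]`
    have hTle : Subgroup.closure {t : P | ∃ x ∈ Q, t = x⁻¹ * α x} ≤ Q := by
      rw [Subgroup.closure_le]
      rintro _ ⟨x, hx, rfl⟩
      exact Q.mul_mem (Q.inv_mem hx) (hQα x hx)
    have hTα : ∀ t ∈ Subgroup.closure {t : P | ∃ x ∈ Q, t = x⁻¹ * α x},
        α t ∈ Subgroup.closure {t : P | ∃ x ∈ Q, t = x⁻¹ * α x} := by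
      intro t ht
      induction ht using Subgroup.closure_induction with
      | mem y hy =>
        obtain ⟨x, hx, rfl⟩ := hy
        apply Subgroup.subset_closure
        refine ⟨α x, hQα x hx, ?_⟩
        rw [map_mul, map_inv]
      | one => rw [map_one]; exact Subgroup.one_mem _
      | mul a b _ _ iha ihb => rw [map_mul]; exact Subgroup.mul_mem _ iha ihb
      | inv a _ iha => rw [map_inv]; exact Subgroup.inv_mem _ iha
    by_cases hTQ : Subgroup.closure {t : P | ∃ x ∈ Q, t = x⁻¹ * α x} = Q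
    swap
    · -- `[Q, α] < Q`
      have hlt : Nat.card ↥(Subgroup.closure {t : P | ∃ x ∈ Q, t = x⁻¹ * α x}) < n := by
        rw [← hQn]
        by_contra hge
        rw [not_lt] at hge
        exact hTQ (Subgroup.eq_of_le_of_card_ge hTle hge)
      have hTfix := ih _ hlt _ rfl hTα
      intro x hx
      obtain ⟨k, hk⟩ := hpk (x⁻¹ * α x)
      exact fix_of_fix_comm p α hα
        (hTfix _ (Subgroup.subset_closure ⟨x, hx, rfl⟩)) hk
    -- `[Q, α] = Q`
    by_cases htriv : Nat.card Q = 1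
    · intro x hx
      have hsub : Subsingleton Q := (Nat.card_eq_one_iff_unique.mp htriv).1
      have : (⟨x, hx⟩ : Q) = 1 := Subsingleton.elim _ _
      have hx1 : x = 1 := congrArg Subtype.val this
      rw [hx1, map_one]
    haveI hnt : Nontrivial Q := by
      rw [← Finite.one_lt_card_iff_nontrivial]
      have : Nat.card Q ≠ 0 := Nat.card_pos.ne'
      omega
    obtain ⟨M, hMtop, hMpow, hMcomm⟩ := exists_proper_frattini_like p (hP.to_subgroup Q)
    -- the characteristic-like subgroup `N`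
    have hNle : Subgroup.closure ({y : P | ∃ x ∈ Q, y = x ^ p} ∪
        {y : P | ∃ a ∈ Q, ∃ b ∈ Q, y = a * b * a⁻¹ * b⁻¹}) ≤ M.map Q.subtype := by
      rw [Subgroup.closure_le]
      rintro y (⟨x, hx, rfl⟩ | ⟨a, ha, b, hb, rfl⟩)
      · exact ⟨⟨x, hx⟩ ^ p, hMpow ⟨x, hx⟩, rfl⟩
      · exact ⟨⟨a, ha⟩ * ⟨b, hb⟩ * ⟨a, ha⟩⁻¹ * ⟨b, hb⟩⁻¹, hMcomm ⟨a, ha⟩ ⟨b, hb⟩, rfl⟩
    have hMQ : M.map Q.subtype ≤ Q := by
      rintro _ ⟨y, -, rfl⟩
      exact y.2
    have hMcard : Nat.card ↥(M.map Q.subtype) < Nat.card Q := by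
      rw [Subgroup.card_map_of_injective (Subgroup.subtype_injective Q)]
      by_contra hge
      rw [not_lt] at hge
      exact hMtop (Subgroup.eq_top_of_le_card M hge)
    have hNα : ∀ z ∈ Subgroup.closure ({y : P | ∃ x ∈ Q, y = x ^ p} ∪
        {y : P | ∃ a ∈ Q, ∃ b ∈ Q, y = a * b * a⁻¹ * b⁻¹}),
        α z ∈ Subgroup.closure ({y : P | ∃ x ∈ Q, y = x ^ p} ∪
        {y : P | ∃ a ∈ Q, ∃ b ∈ Q, y = a * b * a⁻¹ * b⁻¹}) := by
      intro z hz
      induction hz using Subgroup.closure_induction with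
      | mem y hy =>
        apply Subgroup.subset_closure
        rcases hy with ⟨x, hx, rfl⟩ | ⟨a, ha, b, hb, rfl⟩
        · left
          exact ⟨α x, hQα x hx, by rw [map_pow]⟩
        · right
          exact ⟨α a, hQα a ha, α b, hQα b hb, by
            rw [map_mul, map_mul, map_mul, map_inv, map_inv]⟩
      | one => rw [map_one]; exact Subgroup.one_mem _
      | mul a b _ _ iha ihb => rw [map_mul]; exact Subgroup.mul_mem _ iha ihb
      | inv a _ iha => rw [map_inv]; exact Subgroup.inv_mem _ iha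
    have hNlt : Nat.card ↥(Subgroup.closure ({y : P | ∃ x ∈ Q, y = x ^ p} ∪
        {y : P | ∃ a ∈ Q, ∃ b ∈ Q, y = a * b * a⁻¹ * b⁻¹})) < n := by
      rw [← hQn]
      exact lt_of_le_of_lt (Subgroup.card_le_of_le hNle) hMcard
    have hNfix := ih _ hNlt _ rfl hNα
    -- `N` is normalized by `Q`
    have hNnorm : ∀ g ∈ Q, ∀ z ∈ Subgroup.closure ({y : P | ∃ x ∈ Q, y = x ^ p} ∪
        {y : P | ∃ a ∈ Q, ∃ b ∈ Q, y = a * b * a⁻¹ * b⁻¹}),
        g * z * g⁻¹ ∈ Subgroup.closure ({y : P | ∃ x ∈ Q, y = x ^ p} ∪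
        {y : P | ∃ a ∈ Q, ∃ b ∈ Q, y = a * b * a⁻¹ * b⁻¹}) := by
      intro g hg z hz
      induction hz using Subgroup.closure_induction with
      | mem y hy =>
        apply Subgroup.subset_closure
        rcases hy with ⟨x, hx, rfl⟩ | ⟨a, ha, b, hb, rfl⟩
        · left
          exact ⟨g * x * g⁻¹, Q.mul_mem (Q.mul_mem hg hx) (Q.inv_mem hg), by
            rw [conj_pow]⟩
        · right
          exact ⟨g * a * g⁻¹, Q.mul_mem (Q.mul_mem hg ha) (Q.inv_mem hg),
            g * b * g⁻¹, Q.mul_mem (Q.mul_mem hg hb) (Q.inv_mem hg), by group⟩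
      | one =>
        have : g * 1 * g⁻¹ = 1 := by group
        rw [this]; exact Subgroup.one_mem _
      | mul a b _ _ iha ihb =>
        have : g * (a * b) * g⁻¹ = (g * a * g⁻¹) * (g * b * g⁻¹) := by group
        rw [this]; exact Subgroup.mul_mem _ iha ihb
      | inv a _ iha =>
        have : g * a⁻¹ * g⁻¹ = (g * a * g⁻¹)⁻¹ := by group
        rw [this]; exact Subgroup.inv_mem _ iha
    -- `N` is central in `Q`
    have hNcent : ∀ z ∈ Subgroup.closure ({y : P | ∃ x ∈ Q, y = x ^ p} ∪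
        {y : P | ∃ a ∈ Q, ∃ b ∈ Q, y = a * b * a⁻¹ * b⁻¹}), ∀ g ∈ Q, g * z = z * g := by
      intro z hz g hg
      rw [← hTQ] at hg
      induction hg using Subgroup.closure_induction with
      | mem t ht =>
        obtain ⟨x, hx, rfl⟩ := ht
        have h1 := hNfix _ (hNnorm x hx z hz)
        rw [map_mul, map_mul, map_inv, hNfix z hz] at h1
        -- h1 : α x * z * (α x)⁻¹ = x * z * x⁻¹
        calc x⁻¹ * α x * z = x⁻¹ * (α x * z * (α x)⁻¹) * α x := by group
          _ = x⁻¹ * (x * z * x⁻¹) * α x := by rw [h1]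
          _ = z * (x⁻¹ * α x) := by group
      | one => rw [one_mul, mul_one]
      | mul a b _ _ iha ihb =>
        rw [mul_assoc, ihb, ← mul_assoc, iha, mul_assoc]
      | inv a _ iha =>
        calc a⁻¹ * z = a⁻¹ * (z * a) * a⁻¹ := by group
          _ = a⁻¹ * (a * z) * a⁻¹ := by rw [iha]
          _ = z * a⁻¹ := by group
    intro x hx
    -- the key computation
    have hxi : x⁻¹ ∈ Q := Q.inv_mem hx
    have hαx : α x ∈ Q := hQα x hx
    have hcN : α x * x⁻¹ * (α x)⁻¹ * x⁻¹⁻¹ ∈ Subgroup.closure ({y : P | ∃ x ∈ Q, y = x ^ p} ∪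
        {y : P | ∃ a ∈ Q, ∃ b ∈ Q, y = a * b * a⁻¹ * b⁻¹}) :=
      Subgroup.subset_closure (Or.inr ⟨α x, hαx, x⁻¹, hxi, rfl⟩)
    have hpowN : ∀ y ∈ Q, y ^ p ∈ Subgroup.closure ({y : P | ∃ x ∈ Q, y = x ^ p} ∪
        {y : P | ∃ a ∈ Q, ∃ b ∈ Q, y = a * b * a⁻¹ * b⁻¹}) :=
      fun y hy => Subgroup.subset_closure (Or.inl ⟨y, hy, rfl⟩)
    have hc : α x * x⁻¹ = (α x * x⁻¹ * (α x)⁻¹ * x⁻¹⁻¹) * x⁻¹ * α x := by group
    have hca : Commute (α x * x⁻¹ * (α x)⁻¹ * x⁻¹⁻¹) x⁻¹ := (hNcent _ hcN _ hxi).symm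
    have hcb : Commute (α x * x⁻¹ * (α x)⁻¹ * x⁻¹⁻¹) (α x) := (hNcent _ hcN _ hαx).symm
    -- `c ^ p = 1`
    have hcp : (α x * x⁻¹ * (α x)⁻¹ * x⁻¹⁻¹) ^ p = 1 := by
      have h1 := pow_mul_of_comm hc hcb p
      have h2 : (α x) ^ p * x⁻¹ = x⁻¹ * (α x) ^ p := (hNcent _ (hpowN _ hαx) _ hxi).symm
      rw [h2, mul_assoc] at h1
      have h4 : (1 : P) * (x⁻¹ * α x ^ p) =
          (α x * x⁻¹ * (α x)⁻¹ * x⁻¹⁻¹) ^ p * (x⁻¹ * α x ^ p) := by
        rw [one_mul]
        exact h1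
      exact (mul_right_cancel h4).symm
    have hab : ∀ m : ℕ, x ^ m ∈ Subgroup.closure ({y : P | ∃ x ∈ Q, y = x ^ p} ∪
        {y : P | ∃ a ∈ Q, ∃ b ∈ Q, y = a * b * a⁻¹ * b⁻¹}) → (x⁻¹) ^ m * (α x) ^ m = 1 := by
      intro m hm
      have h1 : α (x ^ m) = x ^ m := hNfix _ hm
      rw [← map_pow, h1, inv_pow, inv_mul_cancel]
    by_cases hp2 : p = 2
    · -- `p = 2`
      have ht4 : (x⁻¹ * α x) ^ 4 = 1 := by
        rw [mul_pow_of_comm hc hca hcb 4]
        have hx4 : x ^ 4 ∈ Subgroup.closure ({y : P | ∃ x ∈ Q, y = x ^ p} ∪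
            {y : P | ∃ a ∈ Q, ∃ b ∈ Q, y = a * b * a⁻¹ * b⁻¹}) := by
          have h1 := hpowN x hx
          rw [hp2] at h1
          have h2 := Subgroup.pow_mem _ h1 2
          rw [← pow_mul] at h2
          rw [hp2]
          exact h2
        rw [mul_assoc, hab 4 hx4, mul_one]
        have h6 : Nat.choose 4 2 = 2 * 3 := by decide
        rw [h6, pow_mul]
        rw [hp2] at hcp
        rw [hcp, one_pow]
      have hfx := hfix _ (Or.inr ⟨hp2, ht4⟩)
      have hk : (x⁻¹ * α x) ^ p ^ 2 = 1 := by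
        rw [hp2]
        exact ht4
      exact fix_of_fix_comm p α hα hfx hk
    · -- `p` odd
      have hp3 : 2 < p := lt_of_le_of_ne hp.out.two_le (Ne.symm hp2)
      have htp : (x⁻¹ * α x) ^ p = 1 := by
        rw [mul_pow_of_comm hc hca hcb p, mul_assoc, hab p (hpowN x hx), mul_one]
        obtain ⟨j, hj⟩ := Nat.Prime.dvd_choose_self hp.out (by norm_num : (2 : ℕ) ≠ 0) hp3
        rw [hj, pow_mul, hcp, one_pow]
      have hfx := hfix _ (Or.inl htp)
      have hk : (x⁻¹ * α x) ^ p ^ 1 = 1 := by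
        rw [pow_one]
        exact htp
      exact fix_of_fix_comm p α hα hfx hk

/-- **Gorenstein 5.3.10**: a `p'`-automorphism of a finite `p`-group fixing every element of
order `p` (and of order `4` when `p = 2`) is trivial. -/
theorem aut_eq_one_of_fix_small (p : ℕ) [hp : Fact p.Prime] (hP : IsPGroup p P) (α : MulAut P)
    (hα : (orderOf α).Coprime p)
    (hfix : ∀ x : P, (x ^ p = 1 ∨ (p = 2 ∧ x ^ 4 = 1)) → α x = x) : α = 1 := by
  ext x
  exact fix_of_invariant p hP α hα hfix _ ⊤ rfl (fun _ _ => Subgroup.mem_top _) x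
    (Subgroup.mem_top _)

end Main

end Cfsg.Agent.Lib.Helper9
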