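import Mathlib.GroupTheory.Sylow
import Mathlib.GroupTheory.PGroup

set_option autoImplicit false

namespace Cfsg.Agent.Lib.Helper9

variable {G : Type*} [Group G]

/-- A `p`-subgroup `R ≤ H` is a Sylow `p`-subgroup of `H` iff its order is the `p`-part of `|H|`. -/
theorem exists_sylow_eq_subgroupOf_iff [Finite G] (p : ℕ) [Fact p.Prime] {R H : Subgroup G}
    (hRH : R ≤ H) :
    (∃ R' : Sylow p H, (R' : Subgroup H) = R.subgroupOf H) ↔
      Nat.card R = p ^ (Nat.card H).factorization p := by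
  have hcard : Nat.card (R.subgroupOf H) = Nat.card R :=
    Nat.card_congr (Subgroup.subgroupOfEquivOfLe hRH).toEquiv
  constructor
  · rintro ⟨R', h⟩
    have h1 := R'.card_eq_multiplicity
    rw [h, hcard] at h1
    exact h1
  · intro h
    exact ⟨Sylow.ofCard (R.subgroupOf H) (by rw [hcard]; exact h), rfl⟩

theorem card_le_of_isPGroup_le [Finite G] (p : ℕ) [hp : Fact p.Prime] {R H : Subgroup G}
    (hR : IsPGroup p R) (hRH : R ≤ H) : Nat.card R ≤ p ^ (Nat.card H).factorization p := by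
  obtain ⟨k, hk⟩ := hR.exists_card_eq
  have hdvd : Nat.card R ∣ Nat.card H := Subgroup.card_dvd_of_le hRH
  rw [hk] at hdvd ⊢
  have : k ≤ (Nat.card H).factorization p :=
    (Nat.Prime.pow_dvd_iff_le_factorization hp.out (Nat.card_pos.ne')).mp hdvd
  exact Nat.pow_le_pow_right hp.out.pos this

/-- Every `p`-subgroup has a conjugate inside a given Sylow `p`-subgroup. -/
theorem exists_conj_le_sylow [Finite G] (p : ℕ) [Fact p.Prime] (S : Sylow p G) {T : Subgroup G}
    (hT : IsPGroup p T) : ∃ g : G, T.map (MulAut.conj g).toMonoidHom ≤ S := by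
  obtain ⟨S', hS'⟩ := hT.exists_le_sylow
  obtain ⟨g, hg⟩ := MulAction.exists_smul_eq G S' S
  refine ⟨g, ?_⟩
  rintro _ ⟨x, hx, rfl⟩
  have h1 : (MulAut.conj g) x ∈ ((g • S' : Sylow p G) : Subgroup G) := by
    rw [Sylow.coe_subgroup_smul]
    exact Subgroup.smul_mem_pointwise_smul _ _ _ (hS' hx)
  rw [hg] at h1
  exact h1

theorem card_map_conj (H : Subgroup G) (g : G) :
    Nat.card (H.map (MulAut.conj g).toMonoidHom) = Nat.card H :=
  Subgroup.card_map_of_injective (MulAut.conj g).injective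

theorem normalizer_map_conj (H : Subgroup G) (g : G) :
    Subgroup.normalizer ((H.map (MulAut.conj g).toMonoidHom : Subgroup G) : Set G) =
      (Subgroup.normalizer (H : Set G)).map (MulAut.conj g).toMonoidHom :=
  (Subgroup.map_equiv_normalizer_eq H (MulAut.conj g)).symm

theorem centralizer_map_conj (H : Subgroup G) (g : G) :
    Subgroup.centralizer ((H.map (MulAut.conj g).toMonoidHom : Subgroup G) : Set G) =
      (Subgroup.centralizer (H : Set G)).map (MulAut.conj g).toMonoidHom := by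
  ext x
  constructor
  · intro hx
    rw [Subgroup.mem_centralizer_iff] at hx
    refine ⟨g⁻¹ * x * g, Subgroup.mem_centralizer_iff.mpr ?_, by simp [mul_assoc]⟩
    intro y hy
    have h1 := hx (g * y * g⁻¹) ⟨y, hy, rfl⟩
    -- g y g⁻¹ x = x g y g⁻¹
    calc y * (g⁻¹ * x * g) = g⁻¹ * ((g * y * g⁻¹) * x) * g := by group
      _ = g⁻¹ * (x * (g * y * g⁻¹)) * g := by rw [h1]
      _ = g⁻¹ * x * g * y := by group
  · rintro ⟨z, hz, rfl⟩
    have hz := Subgroup.mem_centralizer_iff.mp hz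
    rw [Subgroup.mem_centralizer_iff]
    rintro _ ⟨y, hy, rfl⟩
    have h1 := hz y hy
    show g * y * g⁻¹ * (g * z * g⁻¹) = g * z * g⁻¹ * (g * y * g⁻¹)
    calc g * y * g⁻¹ * (g * z * g⁻¹) = g * (y * z) * g⁻¹ := by group
      _ = g * (z * y) * g⁻¹ := by rw [h1]
      _ = g * z * g⁻¹ * (g * y * g⁻¹) := by group

/-- If `H` normalizes `C` then every element of `H ⊔ C` is a product `h * c`. -/
theorem exists_mul_of_mem_sup_of_le_normalizer {H C : Subgroup G}
    (hHC : H ≤ Subgroup.normalizer (C : Set G)) {m : G} (hm : m ∈ H ⊔ C) :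
    ∃ h ∈ H, ∃ c ∈ C, m = h * c := by
  let X : Subgroup G :=
    { carrier := {m | ∃ h ∈ H, ∃ c ∈ C, m = h * c}
      one_mem' := ⟨1, H.one_mem, 1, C.one_mem, by simp⟩
      mul_mem' := by
        rintro _ _ ⟨h₁, hh₁, c₁, hc₁, rfl⟩ ⟨h₂, hh₂, c₂, hc₂, rfl⟩
        refine ⟨h₁ * h₂, H.mul_mem hh₁ hh₂, (h₂⁻¹ * c₁ * h₂) * c₂, C.mul_mem ?_ hc₂, by group⟩
        have := (Subgroup.mem_normalizer_iff.mp (hHC (H.inv_mem hh₂)) c₁).mp hc₁
        simpa using this
      inv_mem' := by
        rintro _ ⟨h, hh, c, hc, rfl⟩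
        refine ⟨h⁻¹, H.inv_mem hh, h * c⁻¹ * h⁻¹, ?_, by group⟩
        exact (Subgroup.mem_normalizer_iff.mp (hHC hh) c⁻¹).mp (C.inv_mem hc) }
  have hle : H ⊔ C ≤ X := by
    apply sup_le
    · intro h hh; exact ⟨h, hh, 1, C.one_mem, by simp⟩
    · intro c hc; exact ⟨1, H.one_mem, c, hc, by simp⟩
  exact hle hm

/-- If `R ≤ M ≤ H` and `R` has the order of a Sylow `p`-subgroup of `H`, it has the order of a
Sylow `p`-subgroup of `M`. -/
theorem sylow_card_of_le [Finite G] (p : ℕ) [hp : Fact p.Prime] {R M H : Subgroup G} (hRM : R ≤ M)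
    (hMH : M ≤ H) (hR : Nat.card R = p ^ (Nat.card H).factorization p) :
    Nat.card R = p ^ (Nat.card M).factorization p := by
  have h1 : Nat.card R ∣ Nat.card M := Subgroup.card_dvd_of_le hRM
  have h2 : Nat.card M ∣ Nat.card H := Subgroup.card_dvd_of_le hMH
  rw [hR] at h1
  have h3 : (Nat.card H).factorization p ≤ (Nat.card M).factorization p :=
    (Nat.Prime.pow_dvd_iff_le_factorization hp.out (Nat.card_pos.ne')).mp h1
  have h4 : (Nat.card M).factorization p ≤ (Nat.card H).factorization p :=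
    (Nat.factorization_le_iff_dvd (Nat.card_pos.ne') (Nat.card_pos.ne')).mpr h2 p
  rw [hR, le_antisymm h3 h4]

/-- Sylow conjugacy inside a subgroup `M`, for a subgroup `R ≤ M` of Sylow order. -/
theorem exists_conj_le_of_sylow_card [Finite G] (p : ℕ) [Fact p.Prime] {R K M : Subgroup G}
    (hRM : R ≤ M) (hKM : K ≤ M) (hK : IsPGroup p K)
    (hR : Nat.card R = p ^ (Nat.card M).factorization p) :
    ∃ m ∈ M, K.map (MulAut.conj m).toMonoidHom ≤ R := by
  have hcard : Nat.card (R.subgroupOf M) = Nat.card R :=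
    Nat.card_congr (Subgroup.subgroupOfEquivOfLe hRM).toEquiv
  let R' : Sylow p M := Sylow.ofCard (R.subgroupOf M) (by rw [hcard]; exact hR)
  have hK' : IsPGroup p (K.subgroupOf M) := hK.comap_subtype
  obtain ⟨m, hm⟩ := exists_conj_le_sylow p R' hK'
  refine ⟨m, m.2, ?_⟩
  rintro _ ⟨x, hx, rfl⟩
  have h1 : (MulAut.conj m).toMonoidHom ⟨x, hKM hx⟩ ∈ (R' : Subgroup M) :=
    hm ⟨⟨x, hKM hx⟩, Subgroup.mem_subgroupOf.mpr hx, rfl⟩
  exact Subgroup.mem_subgroupOf.mp h1

end Cfsg.Agent.Lib.Helper9
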