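import Cfsg.Prelude.Def_Solvable
import Mathlib.GroupTheory.Sylow

set_option autoImplicit false

namespace Cfsg.Agent.Lib.Helper9

open Cfsg

variable {G : Type*} [Group G]

theorem pCore_normal' (p : ℕ) : (pCore p G).Normal :=
  Subgroup.sSup_normal _ (fun _ h => h.1)

theorem pCore_isPGroup' {p : ℕ} : IsPGroup p (pCore p G) :=
  Sylow.sSup_of_normal _ (fun _ h => h.2) (fun _ h => h.1)

theorem pCore_le_sylow' {p : ℕ} (S : Sylow p G) : pCore p G ≤ S := by
  apply sSup_le
  rintro N ⟨hn, hp⟩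
  have := hn
  exact hp.le_sylow_of_normal S

/-- An element lying both in a subgroup of odd order and in a `2`-subgroup is trivial. -/
theorem eq_one_of_mem_odd_of_mem_two {K P : Subgroup G} (hK : Odd (Nat.card K)) (hP : IsPGroup 2 P)
    {x : G} (hxK : x ∈ K) (hxP : x ∈ P) : x = 1 := by
  obtain ⟨k, hk⟩ := hP ⟨x, hxP⟩
  have hk' : x ^ 2 ^ k = 1 := by
    have := congrArg Subtype.val hk
    simpa using this
  have h1 : orderOf x ∣ 2 ^ k := orderOf_dvd_of_pow_eq_one hk'
  have h2 : orderOf x ∣ Nat.card K := Subgroup.orderOf_dvd_natCard K hxK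
  have hcop : Nat.Coprime (2 ^ k) (Nat.card K) :=
    Nat.Coprime.pow_left _ (Nat.coprime_two_left.mpr hK)
  have : orderOf x ∣ 1 := by
    have := Nat.dvd_gcd h1 h2
    rwa [hcop] at this
  exact orderOf_eq_one_iff.mp (Nat.dvd_one.mp this)

end Cfsg.Agent.Lib.Helper9
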