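import Mathlib
import Cfsg.Prelude.Def_MonsterType
import Cfsg.Agent.Lib.Helper9.Basic
import Cfsg.Agent.Lib.Helper1.PGroupMax
import Cfsg.Agent.Lib.Helper5.Frattini

set_option autoImplicit false

namespace Cfsg.Agent.Lib.Helper9

open Cfsg
open scoped commutatorElement

section abstract
variable {H : Type*} [Group H] [Finite H]

theorem pow_mem_frattini_of_isPGroup (p : ℕ) [Fact p.Prime] (hH : IsPGroup p H) (x : H) :
    x ^ p ∈ frattini H := by
  show x ^ p ∈ ⨅ a ∈ {K : Subgroup H | IsCoatom K}, a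
  simp only [Subgroup.mem_iInf]
  intro M hM
  exact Cfsg.Agent.Lib.Helper1.pow_mem_coatom_of_isPGroup hH hM x

theorem commutator_le_frattini_of_isPGroup (p : ℕ) [Fact p.Prime] (hH : IsPGroup p H) :
    commutator H ≤ frattini H := by
  show commutator H ≤ ⨅ a ∈ {K : Subgroup H | IsCoatom K}, a
  apply le_iInf₂
  intro M hM
  exact Cfsg.Agent.Lib.Helper1.commutator_le_coatom_of_isPGroup hH hM

/-- A criterion for a finite `p`-group to be extraspecial. -/
theorem isExtraspecial_of_center (p : ℕ) [Fact p.Prime] (hH : IsPGroup p H)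
    (hcard : Nat.card (Subgroup.center H) = p)
    (hcomm : ∀ x y : H, ⁅x, y⁆ ∈ Subgroup.center H)
    (hpow : ∀ x : H, x ^ p ∈ Subgroup.center H)
    (hna : ∃ x y : H, x * y ≠ y * x) : IsExtraspecial p H := by
  have hp : p.Prime := Fact.out
  have h1 : commutator H ≤ Subgroup.center H := by
    rw [commutator_def, Subgroup.commutator_le]
    intro x _ y _
    exact hcomm x y
  have h2 : commutator H = Subgroup.center H := by
    have hdvd : Nat.card (commutator H) ∣ p := by
      rw [← hcard]; exact Subgroup.card_dvd_of_le h1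
    rcases (Nat.dvd_prime hp).mp hdvd with h | h
    · exfalso
      obtain ⟨x, y, hxy⟩ := hna
      have hbot : commutator H = ⊥ := Subgroup.card_eq_one.mp h
      have : ⁅x, y⁆ ∈ commutator H := by
        rw [commutator_def]
        exact Subgroup.commutator_mem_commutator (Subgroup.mem_top _) (Subgroup.mem_top _)
      rw [hbot, Subgroup.mem_bot, commutatorElement_eq_one_iff_mul_comm] at this
      exact hxy this
    · exact Subgroup.eq_of_le_of_card_ge h1 (by rw [h, hcard])
  have h3 : frattini H = Subgroup.center H := by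
    apply le_antisymm
    · have := Cfsg.Agent.Lib.Helper5.frattini_le_ker_of_elem_abelian hp
        (QuotientGroup.mk' (Subgroup.center H)) ?_ ?_
      · rwa [QuotientGroup.ker_mk'] at this
      · intro a b
        obtain ⟨x, rfl⟩ := QuotientGroup.mk_surjective a
        obtain ⟨y, rfl⟩ := QuotientGroup.mk_surjective b
        rw [← QuotientGroup.mk_mul, ← QuotientGroup.mk_mul, QuotientGroup.eq]
        have := hcomm y⁻¹ x⁻¹
        rw [commutatorElement_def, inv_inv, inv_inv] at this
        have e : (x * y)⁻¹ * (y * x) = y⁻¹ * x⁻¹ * y * x := by group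
        rw [e]; exact this
      · intro a
        obtain ⟨x, rfl⟩ := QuotientGroup.mk_surjective a
        rw [← QuotientGroup.mk_pow, QuotientGroup.eq_one_iff]
        exact hpow x
    · rw [← h2]
      exact commutator_le_frattini_of_isPGroup p hH
  exact ⟨⟨hH, h3, h2⟩, hcard⟩

end abstract

section ambient
variable {G : Type*} [Group G] [Finite G]

theorem extraspecial_comm_mem {Q : Subgroup G} (hQ : IsExtraspecial 2 ↥Q) {x y : G} (hx : x ∈ Q)
    (hy : y ∈ Q) : x * y * x⁻¹ * y⁻¹ ∈ (Subgroup.center ↥Q).map Q.subtype := by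
  have h : ⁅(⟨x, hx⟩ : ↥Q), ⟨y, hy⟩⁆ ∈ commutator ↥Q := by
    rw [commutator_def]
    exact Subgroup.commutator_mem_commutator (Subgroup.mem_top _) (Subgroup.mem_top _)
  rw [hQ.1.2.2] at h
  exact ⟨_, h, rfl⟩

theorem extraspecial_sq_mem {Q : Subgroup G} (hQ : IsExtraspecial 2 ↥Q) {x : G} (hx : x ∈ Q) :
    x ^ 2 ∈ (Subgroup.center ↥Q).map Q.subtype := by
  have h := pow_mem_frattini_of_isPGroup 2 hQ.1.1 (⟨x, hx⟩ : ↥Q)
  rw [hQ.1.2.1] at h
  exact ⟨_, h, rfl⟩

theorem extraspecial_center_comm {Q : Subgroup G} {z q : G}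
    (hz : z ∈ (Subgroup.center ↥Q).map Q.subtype) (hq : q ∈ Q) : z * q = q * z := by
  obtain ⟨c, hc, rfl⟩ := hz
  have := Subgroup.mem_center_iff.mp hc ⟨q, hq⟩
  have h' := congrArg Subtype.val this
  simpa using h'.symm

/-- A nonabelian subgroup `H` of an extraspecial `2`-group `Q` with `Z(Q) ≤ H` and `Z(H) ≤ Z(Q)`
is extraspecial. -/
theorem extraspecial_sub {Q : Subgroup G} (hQ : IsExtraspecial 2 ↥Q) {H : Subgroup G} (hHQ : H ≤ Q)
    (hZH : (Subgroup.center ↥Q).map Q.subtype ≤ H)
    (hcen : ∀ x ∈ H, (∀ y ∈ H, x * y = y * x) → x ∈ (Subgroup.center ↥Q).map Q.subtype)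
    (hna : ∃ x ∈ H, ∃ y ∈ H, x * y ≠ y * x) : IsExtraspecial 2 ↥H := by
  have hcenter : ∀ x : ↥H, x ∈ Subgroup.center ↥H ↔ (x : G) ∈ (Subgroup.center ↥Q).map Q.subtype := by
    intro x
    constructor
    · intro hx
      apply hcen _ x.2
      intro y hy
      have := Subgroup.mem_center_iff.mp hx ⟨y, hy⟩
      have h' := congrArg Subtype.val this
      simpa using h'.symm
    · intro hx
      rw [Subgroup.mem_center_iff]
      intro y
      apply Subtype.ext
      have := extraspecial_center_comm hx (hHQ y.2)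
      simpa using this.symm
  have hmap : (Subgroup.center ↥H).map H.subtype = (Subgroup.center ↥Q).map Q.subtype := by
    ext g
    constructor
    · rintro ⟨x, hx, rfl⟩
      exact (hcenter x).mp hx
    · intro hg
      exact ⟨⟨g, hZH hg⟩, (hcenter _).mpr hg, rfl⟩
  apply isExtraspecial_of_center 2 (hQ.1.1.to_le hHQ)
  · rw [← Subgroup.card_map_of_injective (Subgroup.subtype_injective H), hmap,
      Subgroup.card_map_of_injective (Subgroup.subtype_injective Q)]
    exact hQ.2
  · intro x y
    rw [hcenter]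
    have := extraspecial_comm_mem hQ (hHQ x.2) (hHQ y.2)
    simpa [commutatorElement_def] using this
  · intro x
    rw [hcenter]
    have := extraspecial_sq_mem hQ (hHQ x.2)
    simpa using this
  · obtain ⟨x, hx, y, hy, hxy⟩ := hna
    refine ⟨⟨x, hx⟩, ⟨y, hy⟩, ?_⟩
    intro h
    exact hxy (congrArg Subtype.val h)

end ambient

end Cfsg.Agent.Lib.Helper9
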