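import Mathlib
import Cfsg.Agent.Lib.Helper9.SylowConj

set_option autoImplicit false

namespace Cfsg.Agent.Lib.Helper9

section Wreath

variable (p : ℕ) [hp : Fact p.Prime]

/-- The base group of `C_p ≀ C_p` acting on `ZMod p × ZMod p`. -/
def wrBase : Multiplicative (ZMod p → ZMod p) →* Equiv.Perm (ZMod p × ZMod p) where
  toFun v :=
    { toFun := fun x => (x.1, x.2 + (Multiplicative.toAdd v) x.1)
      invFun := fun x => (x.1, x.2 - (Multiplicative.toAdd v) x.1)
      left_inv := fun x => by simp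
      right_inv := fun x => by simp }
  map_one' := by
    ext x <;> simp
  map_mul' := by
    intro v w
    ext x
    · simp
    · simp only [toAdd_mul, Pi.add_apply, Equiv.coe_fn_mk, Equiv.Perm.coe_mul, Function.comp_apply]
      ring

theorem wrBase_apply (v : Multiplicative (ZMod p → ZMod p)) (x : ZMod p × ZMod p) :
    wrBase p v x = (x.1, x.2 + (Multiplicative.toAdd v) x.1) := rfl

/-- The top generator of `C_p ≀ C_p`. -/
def wrTop : Equiv.Perm (ZMod p × ZMod p) where
  toFun x := (x.1 + 1, x.2)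
  invFun x := (x.1 - 1, x.2)
  left_inv := fun x => by simp
  right_inv := fun x => by simp

theorem wrTop_apply (x : ZMod p × ZMod p) : wrTop p x = (x.1 + 1, x.2) := rfl

theorem wrTop_inv_apply (x : ZMod p × ZMod p) : (wrTop p)⁻¹ x = (x.1 - 1, x.2) := rfl

theorem wrTop_symm_apply (x : ZMod p × ZMod p) : (Equiv.symm (wrTop p)) x = (x.1 - 1, x.2) := rfl

theorem wrTop_conj (v : Multiplicative (ZMod p → ZMod p)) :
    wrTop p * wrBase p v * (wrTop p)⁻¹ =
      wrBase p (Multiplicative.ofAdd fun i => (Multiplicative.toAdd v) (i - 1)) := by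
  ext x
  · simp [wrTop_apply, wrBase_apply, wrTop_symm_apply]
  · simp [wrTop_apply, wrBase_apply, wrTop_symm_apply]

theorem wrTop_pow (k : ℕ) (x : ZMod p × ZMod p) : ((wrTop p) ^ k) x = (x.1 + k, x.2) := by
  induction k generalizing x with
  | zero => simp
  | succ k ih =>
    rw [pow_succ, Equiv.Perm.mul_apply, ih, wrTop_apply]
    ext
    · simp; ring
    · rfl

theorem isPGroup_wr : IsPGroup p ↥((wrBase p).range ⊔ Subgroup.zpowers (wrTop p)) := by
  have h1 : IsPGroup p (wrBase p).range := by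
    rintro ⟨_, v, rfl⟩
    refine ⟨1, ?_⟩
    apply Subtype.ext
    show (wrBase p v) ^ p ^ 1 = 1
    rw [pow_one, ← map_pow]
    have : v ^ p = 1 := by
      apply Multiplicative.toAdd.injective
      rw [toAdd_pow, toAdd_one]
      ext i
      simp
    rw [this, map_one]
  have h2 : IsPGroup p (Subgroup.zpowers (wrTop p)) := by
    rintro ⟨_, k, rfl⟩
    refine ⟨1, ?_⟩
    apply Subtype.ext
    show ((wrTop p) ^ k) ^ p ^ 1 = 1
    rw [pow_one, ← zpow_natCast, ← zpow_mul, mul_comm, zpow_mul, zpow_natCast]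
    have : (wrTop p) ^ p = 1 := by
      ext x
      · rw [wrTop_pow]; simp
      · rw [wrTop_pow]; simp
    rw [this, one_zpow]
  rw [sup_comm]
  apply IsPGroup.to_sup_of_normal_right' h2 h1
  rw [Subgroup.zpowers_le]
  rw [Subgroup.mem_normalizer_iff]
  have key : ∀ g : Equiv.Perm (ZMod p × ZMod p), g ∈ (wrBase p).range →
      wrTop p * g * (wrTop p)⁻¹ ∈ (wrBase p).range := by
    rintro _ ⟨v, rfl⟩
    rw [wrTop_conj]
    exact ⟨_, rfl⟩
  have key' : ∀ g : Equiv.Perm (ZMod p × ZMod p), g ∈ (wrBase p).range →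
      (wrTop p)⁻¹ * g * (wrTop p) ∈ (wrBase p).range := by
    rintro _ ⟨v, rfl⟩
    refine ⟨Multiplicative.ofAdd fun i => (Multiplicative.toAdd v) (i + 1), ?_⟩
    ext x
    · simp [wrTop_apply, wrBase_apply, wrTop_symm_apply]
    · simp [wrTop_apply, wrBase_apply, wrTop_symm_apply]
  intro g
  constructor
  · exact key g
  · intro h
    have := key' _ h
    have e : (wrTop p)⁻¹ * (wrTop p * g * (wrTop p)⁻¹) * wrTop p = g := by group
    rw [e] at this
    exact this

theorem wr_not_comm : wrBase p (Multiplicative.ofAdd (Pi.single 0 1)) * wrTop p ≠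
    wrTop p * wrBase p (Multiplicative.ofAdd (Pi.single 0 1)) := by
  intro h
  have h1 := congrArg (fun g : Equiv.Perm (ZMod p × ZMod p) => (g (0, 0)).2) h
  simp only [Equiv.Perm.mul_apply, wrTop_apply, wrBase_apply, toAdd_ofAdd] at h1
  haveI : Fact (1 < p) := ⟨hp.out.one_lt⟩
  simp at h1

end Wreath

section Transfer

theorem not_comm_sylow_of_hom {G : Type*} [Group G] [Finite G] (p : ℕ) [Fact p.Prime]
    (S : Sylow p G) {Q : Type*} [Group Q] (hQ : IsPGroup p Q) (f : Q →* G)
    (hf : Function.Injective f) {x y : Q} (hxy : x * y ≠ y * x) : ¬ IsMulCommutative S := by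
  intro hcomm
  have hT : IsPGroup p f.range := hQ.of_surjective f.rangeRestrict f.rangeRestrict_surjective
  obtain ⟨g, hg⟩ := exists_conj_le_sylow p S hT
  have hx : MulAut.conj g (f x) ∈ (S : Subgroup G) := hg ⟨f x, ⟨x, rfl⟩, rfl⟩
  have hy : MulAut.conj g (f y) ∈ (S : Subgroup G) := hg ⟨f y, ⟨y, rfl⟩, rfl⟩
  have h1 := mul_comm' (⟨_, hx⟩ : S) ⟨_, hy⟩
  have h2 : MulAut.conj g (f x) * MulAut.conj g (f y) =
      MulAut.conj g (f y) * MulAut.conj g (f x) := congrArg Subtype.val h1
  rw [← map_mul, ← map_mul, ← map_mul, ← map_mul] at h2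
  exact hxy (hf ((MulAut.conj g).injective h2))

/-- A `p`-element of a symmetric group is even when `p` is odd. -/
theorem sign_eq_one_of_pow {α : Type*} [Fintype α] [DecidableEq α] (p : ℕ) (hp2 : Odd p)
    (g : Equiv.Perm α) {k : ℕ} (hg : g ^ p ^ k = 1) : Equiv.Perm.sign g = 1 := by
  rcases Int.units_eq_one_or (Equiv.Perm.sign g) with h | h
  · exact h
  · exfalso
    have h1 : Equiv.Perm.sign (g ^ p ^ k) = 1 := by rw [hg, map_one]
    rw [map_pow, h] at h1
    have hodd : Odd (p ^ k) := hp2.pow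
    rw [hodd.neg_one_pow] at h1
    exact absurd h1 (by decide)

/-- The sign-correcting map `ℤˣ → Perm (Fin 2)`. -/
def signFix : ℤˣ →* Equiv.Perm (Fin 2) where
  toFun u := if u = 1 then 1 else Equiv.swap 0 1
  map_one' := by simp
  map_mul' := by decide

theorem sign_signFix : ∀ u : ℤˣ, Equiv.Perm.sign (signFix u) = u := by decide

end Transfer

section Main

variable {n : ℕ}

theorem exists_hom_alt_odd (p : ℕ) [hp : Fact p.Prime] (hp2 : p ≠ 2) (hn : p ^ 2 ≤ n)
    {Q : Type*} [Group Q] (hQ : IsPGroup p Q) (φ : Q →* Equiv.Perm (ZMod p × ZMod p))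
    (hφ : Function.Injective φ) :
    ∃ f : Q →* alternatingGroup (Fin n), Function.Injective f := by
  have hcard : Fintype.card ((ZMod p × ZMod p) ⊕ Fin (n - p ^ 2)) = n := by
    rw [Fintype.card_sum, Fintype.card_prod, ZMod.card, Fintype.card_fin]
    have : p * p = p ^ 2 := by ring
    omega
  obtain ⟨e⟩ : Nonempty (((ZMod p × ZMod p) ⊕ Fin (n - p ^ 2)) ≃ Fin n) :=
    ⟨Fintype.equivFinOfCardEq hcard⟩
  have hodd : Odd p := hp.out.odd_of_ne_two hp2
  refine ⟨MonoidHom.codRestrict
    ((e.permCongrHom.toMonoidHom.comp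
      ((Equiv.Perm.sumCongrHom (ZMod p × ZMod p) (Fin (n - p ^ 2))).comp
        (MonoidHom.inl _ _))).comp φ) (alternatingGroup (Fin n)) ?_, ?_⟩
  · intro q
    rw [Equiv.Perm.mem_alternatingGroup]
    obtain ⟨k, hk⟩ := hQ q
    apply sign_eq_one_of_pow p hodd _ (k := k)
    rw [← map_pow, hk, map_one]
  · intro a b hab
    have h1 := congrArg Subtype.val hab
    simp only [MonoidHom.codRestrict_apply, MonoidHom.comp_apply] at h1
    have h2 := e.permCongrHom.injective h1
    have h3 := Equiv.Perm.sumCongrHom_injective h2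
    have h4 := congrArg Prod.fst h3
    simp only [MonoidHom.inl_apply] at h4
    exact hφ h4

theorem exists_hom_alt_two (hn : 6 ≤ n)
    {Q : Type*} [Group Q] (φ : Q →* Equiv.Perm (ZMod 2 × ZMod 2))
    (hφ : Function.Injective φ) :
    ∃ f : Q →* alternatingGroup (Fin n), Function.Injective f := by
  have hcard : Fintype.card (((ZMod 2 × ZMod 2) ⊕ Fin 2) ⊕ Fin (n - 6)) = n := by
    rw [Fintype.card_sum, Fintype.card_sum, Fintype.card_prod, ZMod.card, Fintype.card_fin,
      Fintype.card_fin]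
    omega
  obtain ⟨e⟩ : Nonempty ((((ZMod 2 × ZMod 2) ⊕ Fin 2) ⊕ Fin (n - 6)) ≃ Fin n) :=
    ⟨Fintype.equivFinOfCardEq hcard⟩
  refine ⟨MonoidHom.codRestrict
    ((e.permCongrHom.toMonoidHom.comp
      ((Equiv.Perm.sumCongrHom ((ZMod 2 × ZMod 2) ⊕ Fin 2) (Fin (n - 6))).comp
        ((MonoidHom.inl _ _).comp
          ((Equiv.Perm.sumCongrHom (ZMod 2 × ZMod 2) (Fin 2)).comp
            ((MonoidHom.id _).prod (signFix.comp Equiv.Perm.sign)))))).comp φ)
      (alternatingGroup (Fin n)) ?_, ?_⟩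
  · intro q
    rw [Equiv.Perm.mem_alternatingGroup]
    simp only [MonoidHom.comp_apply, MonoidHom.inl_apply, MonoidHom.prod_apply,
      MonoidHom.id_apply]
    show Equiv.Perm.sign (e.permCongr _) = 1
    rw [Equiv.Perm.sign_permCongr]
    show Equiv.Perm.sign (Equiv.sumCongr (Equiv.sumCongr (φ q) (signFix (Equiv.Perm.sign (φ q))))
      (1 : Equiv.Perm (Fin (n - 6)))) = 1
    rw [Equiv.Perm.sign_sumCongr, Equiv.Perm.sign_sumCongr, sign_signFix, map_one, mul_one]
    exact Int.units_mul_self _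
  · intro a b hab
    have h1 := congrArg Subtype.val hab
    simp only [MonoidHom.codRestrict_apply, MonoidHom.comp_apply] at h1
    have h2 := e.permCongrHom.injective h1
    have h3 := Equiv.Perm.sumCongrHom_injective h2
    have h4 := congrArg Prod.fst h3
    simp only [MonoidHom.inl_apply] at h4
    have h5 := Equiv.Perm.sumCongrHom_injective h4
    have h6 := congrArg Prod.fst h5
    simp only [MonoidHom.prod_apply, MonoidHom.id_apply] at h6
    exact hφ h6

/-- A Sylow `p`-subgroup of `A_n` is nonabelian for `n ≥ p ^ 2`, `n ≥ 6`. -/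
theorem not_comm_sylow_alt (p : ℕ) [hp : Fact p.Prime] (hn6 : 6 ≤ n) (hn : p ^ 2 ≤ n)
    (S : Sylow p (alternatingGroup (Fin n))) : ¬ IsMulCommutative S := by
  have hQ := isPGroup_wr p
  have hinj : Function.Injective
      ((wrBase p).range ⊔ Subgroup.zpowers (wrTop p)).subtype := Subtype.val_injective
  have ha : wrBase p (Multiplicative.ofAdd (Pi.single 0 1)) ∈
      (wrBase p).range ⊔ Subgroup.zpowers (wrTop p) :=
    (le_sup_left : (wrBase p).range ≤ _) ⟨_, rfl⟩
  have hb : wrTop p ∈ (wrBase p).range ⊔ Subgroup.zpowers (wrTop p) :=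
    (le_sup_right : Subgroup.zpowers (wrTop p) ≤ _) (Subgroup.mem_zpowers _)
  have hne : (⟨_, ha⟩ : ↥((wrBase p).range ⊔ Subgroup.zpowers (wrTop p))) * ⟨_, hb⟩ ≠
      ⟨_, hb⟩ * ⟨_, ha⟩ := by
    intro h
    exact wr_not_comm p (congrArg Subtype.val h)
  by_cases hp2 : p = 2
  · subst hp2
    obtain ⟨f, hf⟩ := exists_hom_alt_two hn6 _ hinj
    exact not_comm_sylow_of_hom 2 S hQ f hf hne
  · obtain ⟨f, hf⟩ := exists_hom_alt_odd p hp2 hn hQ _ hinj
    exact not_comm_sylow_of_hom p S hQ f hf hne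

end Main

section Small

/-- A `p`-group of permutations of fewer than `p ^ 2` points is abelian. -/
theorem comm_of_isPGroup_perm_of_card_lt {α : Type*} [Fintype α] [DecidableEq α] (p : ℕ)
    [hp : Fact p.Prime] (Q : Subgroup (Equiv.Perm α)) (hQ : IsPGroup p Q)
    (hα : Fintype.card α < p ^ 2) (g h : Equiv.Perm α) (hg : g ∈ Q) (hh : h ∈ Q) :
    g * h = h * g := by
  ext x
  -- the orbit of `x`
  obtain ⟨k, hk⟩ := hQ.card_orbit x
  have hk1 : k ≤ 1 := by
    by_contra hk2
    have h2 : p ^ 2 ≤ p ^ k := Nat.pow_le_pow_right hp.out.pos (by omega)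
    have h3 : Nat.card (MulAction.orbit Q x) ≤ Nat.card α := Nat.card_le_card_of_injective _
      Subtype.val_injective
    rw [Nat.card_eq_fintype_card (α := α)] at h3
    omega
  -- the action on the orbit
  have hR : IsPGroup p (MulAction.toPermHom Q (MulAction.orbit Q x)).range :=
    hQ.of_surjective (MulAction.toPermHom Q (MulAction.orbit Q x)).rangeRestrict
      (MonoidHom.rangeRestrict_surjective _)
  obtain ⟨j, hj⟩ := hR.exists_card_eq
  have hdvd : p ^ j ∣ (p ^ k).factorial := by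
    rw [← hj]
    have h1 := Subgroup.card_subgroup_dvd_card (MulAction.toPermHom Q (MulAction.orbit Q x)).range
    rw [Nat.card_perm] at h1
    rwa [hk] at h1
  have hj1 : j ≤ 1 := by
    by_contra hj2
    have h2 : p ^ 2 ∣ p ^ j := pow_dvd_pow p (by omega)
    have h3 := h2.trans hdvd
    interval_cases k
    · rw [pow_zero, Nat.factorial_one] at h3
      have := Nat.le_of_dvd one_pos h3
      have : 2 ≤ p := hp.out.two_le
      nlinarith
    · rw [pow_one] at h3
      obtain ⟨m, hm⟩ : ∃ m, p = m + 1 := ⟨p - 1, by have := hp.out.pos; omega⟩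
      rw [hm, Nat.factorial_succ, ← hm, pow_two] at h3
      have h4 : p ∣ m.factorial := Nat.dvd_of_mul_dvd_mul_left hp.out.pos h3
      have h5 := (hp.out.dvd_factorial).mp h4
      omega
  haveI : IsCyclic (MulAction.toPermHom Q (MulAction.orbit Q x)).range := by
    interval_cases j
    · rw [pow_zero] at hj
      haveI : Subsingleton (MulAction.toPermHom Q (MulAction.orbit Q x)).range :=
        (Nat.card_eq_one_iff_unique.mp hj).1
      exact isCyclic_of_subsingleton
    · rw [pow_one] at hj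
      exact isCyclic_of_prime_card hj
  have hc := mul_comm'
    (⟨_, ⟨⟨g, hg⟩, rfl⟩⟩ : (MulAction.toPermHom Q (MulAction.orbit Q x)).range)
    ⟨_, ⟨⟨h, hh⟩, rfl⟩⟩
  have hc' : MulAction.toPermHom Q (MulAction.orbit Q x) ⟨g, hg⟩ *
      MulAction.toPermHom Q (MulAction.orbit Q x) ⟨h, hh⟩ =
      MulAction.toPermHom Q (MulAction.orbit Q x) ⟨h, hh⟩ *
      MulAction.toPermHom Q (MulAction.orbit Q x) ⟨g, hg⟩ := congrArg Subtype.val hc
  have h5 := congrArg (fun σ : Equiv.Perm (MulAction.orbit Q x) =>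
    ((σ ⟨x, MulAction.mem_orbit_self x⟩ : MulAction.orbit Q x) : α)) hc'
  exact h5

end Small

end Cfsg.Agent.Lib.Helper9
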