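import Mathlib

set_option autoImplicit false

namespace Cfsg.Agent.Lib.Helper9.AutDihedral

theorem pow_aut_apply_pow {G : Type*} [Group G] (α : MulAut G) (c : G) (i : ℕ) (h : α c = c ^ i) :
    ∀ t : ℕ, (α ^ t) c = c ^ (i ^ t) := by
  intro t
  induction t with
  | zero => simp
  | succ t ih =>
    rw [pow_succ', MulAut.mul_apply, ih, map_pow, h, ← pow_mul, pow_succ']

theorem odd_pow_totient (k i : ℕ) (hi : Odd i) : i ^ Nat.totient (2 ^ k) ≡ 1 [MOD 2 ^ k] := by
  have hcop : Nat.Coprime i (2 ^ k) := by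
    apply Nat.Coprime.pow_right
    exact (Nat.coprime_two_right).2 hi
  exact Nat.ModEq.pow_totient hcop

/-- the automorphism group of a group with a cyclic 2-subgroup of index two generated by `c` of
order at least 8, whose other elements have order dividing 4, is a 2-group -/
theorem isPGroup_mulAut_of_gens {G : Type*} [Group G] (c x : G) (k : ℕ) (hk : 3 ≤ k)
    (hc : orderOf c = 2 ^ k) (H1 : ∀ g : G, (∃ i : ℕ, g = c ^ i) ∨ (∃ i : ℕ, g = x * c ^ i))
    (H2 : ∀ i : ℕ, (x * c ^ i) ^ 4 = 1) : IsPGroup 2 (MulAut G) := by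
  have hc4 : c ^ 4 ≠ 1 := by
    intro h
    have := orderOf_dvd_of_pow_eq_one h
    rw [hc] at this
    have h8 : 2 ^ 3 ∣ 2 ^ k := pow_dvd_pow 2 hk
    have : 2 ^ 3 ∣ 4 := h8.trans this
    norm_num at this
  intro α
  -- step 1: α c is a power of c
  obtain ⟨i, hi⟩ : ∃ i : ℕ, α c = c ^ i := by
    rcases H1 (α c) with h | ⟨i, h⟩
    · exact h
    · exfalso
      have h4 : (α c) ^ 4 = 1 := by rw [h]; exact H2 i
      rw [← map_pow] at h4
      have : c ^ 4 = 1 := by
        have := congrArg α.symm h4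
        simpa using this
      exact hc4 this
  -- i is odd
  have hiodd : Odd i := by
    by_contra hev
    rw [Nat.not_odd_iff_even] at hev
    obtain ⟨j, hj⟩ := hev
    have h1 : (α c) ^ (2 ^ (k - 1)) = 1 := by
      rw [hi, ← pow_mul, hj, ← two_mul, mul_assoc, mul_comm j, ← mul_assoc,
        mul_comm 2 (2 ^ (k - 1)), ← pow_succ, show k - 1 + 1 = k by omega, pow_mul, ← hc,
        pow_orderOf_eq_one, one_pow]
    rw [← map_pow] at h1
    have h2 : c ^ (2 ^ (k - 1)) = 1 := by
      have := congrArg α.symm h1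
      simpa using this
    have := orderOf_dvd_of_pow_eq_one h2
    rw [hc] at this
    have hlt : 2 ^ (k - 1) < 2 ^ k := Nat.pow_lt_pow_right (by norm_num) (by omega)
    exact absurd (Nat.le_of_dvd (by positivity) this) (by omega)
  set E := Nat.totient (2 ^ k) with hE
  have hEval : E = 2 ^ (k - 1) := by
    rw [hE, Nat.totient_prime_pow Nat.prime_two (by omega)]
    simp
  -- step 2: β = α ^ E fixes c
  have hβc : (α ^ E) c = c := by
    rw [pow_aut_apply_pow α c i hi E]
    have hmod : i ^ E ≡ 1 [MOD orderOf c] := by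
      rw [hc]
      exact odd_pow_totient k i hiodd
    have := (pow_eq_pow_iff_modEq (x := c)).2 hmod
    rw [this, pow_one]
  set β := α ^ E with hβ
  have hβpow : ∀ j : ℕ, β (c ^ j) = c ^ j := by
    intro j
    rw [map_pow, hβc]
  -- step 3: β x = x * c ^ j
  obtain ⟨j, hj⟩ : ∃ j : ℕ, β x = x * c ^ j := by
    rcases H1 (β x) with ⟨j, h⟩ | h
    · exfalso
      have hx : x = c ^ j := by
        have h1 : β x = β (c ^ j) := by rw [h, hβpow]
        exact β.injective h1
      have h4 := H2 ((2 ^ k - 1) * j + 1)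
      rw [hx, ← pow_add] at h4
      have e1 : j + ((2 ^ k - 1) * j + 1) = 2 ^ k * j + 1 := by
        have : 1 ≤ 2 ^ k := Nat.one_le_two_pow
        have h3 : (2 ^ k - 1) * j + j = 2 ^ k * j := by
          rw [← Nat.succ_mul, Nat.succ_eq_add_one, Nat.sub_add_cancel this]
        omega
      rw [e1, pow_add, pow_mul, ← hc, pow_orderOf_eq_one, one_pow, one_mul, pow_one] at h4
      exact hc4 h4
    · exact h
  have hβt : ∀ t : ℕ, (β ^ t) x = x * c ^ (t * j) := by
    intro t
    induction t with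
    | zero => simp
    | succ t ih =>
      rw [pow_succ', MulAut.mul_apply, ih, map_mul, hj, hβpow, mul_assoc, ← pow_add]
      congr 2
      ring
  have hβtc : ∀ t : ℕ, (β ^ t) c = c := by
    intro t
    induction t with
    | zero => simp
    | succ t ih => rw [pow_succ', MulAut.mul_apply, ih, hβc]
  -- step 4: γ = β ^ (2 ^ k) is trivial
  have hγx : (β ^ (2 ^ k)) x = x := by
    rw [hβt, pow_mul, ← hc, pow_orderOf_eq_one, one_pow, mul_one]
  have hγ : β ^ (2 ^ k) = 1 := by
    ext g
    rcases H1 g with ⟨i', rfl⟩ | ⟨i', rfl⟩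
    · rw [map_pow, hβtc]
      rfl
    · rw [map_mul, map_pow, hβtc, hγx]
      rfl
  refine ⟨k - 1 + k, ?_⟩
  rw [pow_add, pow_mul, ← hEval, ← hβ, hγ]

end Cfsg.Agent.Lib.Helper9.AutDihedral
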