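import Mathlib
import Cfsg.Agent.Lib.Helper9.AutDihedral

set_option autoImplicit false

namespace Cfsg.Agent.Lib.Helper9.AutDihedral

open DihedralGroup in
theorem isPGroup_mulAut_dihedral (k : ℕ) (hk : 3 ≤ k) :
    IsPGroup 2 (MulAut (DihedralGroup (2 ^ k))) := by
  have : NeZero (2 ^ k) := ⟨by positivity⟩
  apply isPGroup_mulAut_of_gens (r 1) (sr 0) k hk orderOf_r_one
  · intro g
    cases g with
    | r i =>
      left
      exact ⟨i.val, by rw [r_one_pow, ZMod.natCast_zmod_val]⟩
    | sr i =>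
      right
      exact ⟨i.val, by rw [r_one_pow, sr_mul_r, zero_add, ZMod.natCast_zmod_val]⟩
  · intro i
    rw [r_one_pow, sr_mul_r, show (4 : ℕ) = 2 * 2 by norm_num, pow_mul,
      pow_two (sr (0 + (i : ZMod (2 ^ k)))), sr_mul_self, one_pow]

open QuaternionGroup in
theorem isPGroup_mulAut_quaternion (j : ℕ) (hj : 2 ≤ j) :
    IsPGroup 2 (MulAut (QuaternionGroup (2 ^ j))) := by
  have : NeZero (2 ^ j) := ⟨by positivity⟩
  have : NeZero (2 * 2 ^ j) := ⟨by positivity⟩
  have hord : orderOf (a 1 : QuaternionGroup (2 ^ j)) = 2 ^ (j + 1) := by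
    rw [orderOf_a_one, pow_succ, mul_comm]
  apply isPGroup_mulAut_of_gens (a 1) (xa 0) (j + 1) (by omega) hord
  · intro g
    cases g with
    | a i =>
      left
      exact ⟨i.val, by rw [a_one_pow, ZMod.natCast_zmod_val]⟩
    | xa i =>
      right
      exact ⟨i.val, by rw [a_one_pow, xa_mul_a, zero_add, ZMod.natCast_zmod_val]⟩
  · intro i
    rw [a_one_pow, xa_mul_a, xa_pow_four]

theorem isPGroup_of_shape {S : Type*} [Group S] (n : ℕ) (hn : 4 ≤ n)
    (hshape : Nonempty (S ≃* DihedralGroup (2 ^ (n - 1))) ∨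
      Nonempty (S ≃* QuaternionGroup (2 ^ (n - 2)))) :
    IsPGroup 2 S ∧ IsPGroup 2 (MulAut S) := by
  haveI : Fact (Nat.Prime 2) := ⟨Nat.prime_two⟩
  rcases hshape with ⟨⟨e⟩⟩ | ⟨⟨e⟩⟩
  · constructor
    · have hD : IsPGroup 2 (DihedralGroup (2 ^ (n - 1))) := by
        apply IsPGroup.of_card (n := n)
        rw [DihedralGroup.nat_card, ← pow_succ']
        congr 1
        omega
      exact hD.of_equiv e.symm
    · exact (isPGroup_mulAut_dihedral (n - 1) (by omega)).of_equiv (MulAut.congr e.symm)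
  · constructor
    · have : NeZero (2 ^ (n - 2)) := ⟨by positivity⟩
      have hQ : IsPGroup 2 (QuaternionGroup (2 ^ (n - 2))) := by
        apply IsPGroup.of_card (n := n)
        rw [Nat.card_eq_fintype_card, QuaternionGroup.card, show (4 : ℕ) = 2 ^ 2 by norm_num,
          ← pow_add]
        congr 1
        omega
      exact hQ.of_equiv e.symm
    · exact (isPGroup_mulAut_quaternion (n - 2) (by omega)).of_equiv (MulAut.congr e.symm)

end Cfsg.Agent.Lib.Helper9.AutDihedral
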