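import Mathlib.GroupTheory.Commutator.Basic
import Mathlib.Order.Fin.Basic
import Mathlib.Data.Fin.Tuple.Basic

set_option autoImplicit false

namespace Cfsg.Agent.Lib.Helper9

variable {Ω : Type*} [Group Ω]

/-- There is a monotone chain of `Good` subgroups from `R` to `Top` with abelian quotients. -/
def ChainTo (Good : Subgroup Ω → Prop) (R Top : Subgroup Ω) : Prop :=
  ∃ (n : ℕ) (U : Fin (n + 1) → Subgroup Ω), U 0 = R ∧ U (Fin.last n) = Top ∧ Monotone U ∧
    (∀ i, Good (U i)) ∧ ∀ i : Fin n, ⁅U i.succ, U i.succ⁆ ≤ U (Fin.castSucc i)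

theorem chainTo_refl {Good : Subgroup Ω → Prop} {R : Subgroup Ω} (hR : Good R) :
    ChainTo Good R R :=
  ⟨0, fun _ => R, rfl, rfl, fun _ _ _ => le_rfl, fun _ => hR, fun i => i.elim0⟩

theorem chainTo_cons {Good : Subgroup Ω → Prop} {R R₁ Top : Subgroup Ω} (hR : Good R)
    (hle : R ≤ R₁) (hcomm : ⁅R₁, R₁⁆ ≤ R) (h : ChainTo Good R₁ Top) : ChainTo Good R Top := by
  obtain ⟨n, T, h0, hlast, hmono, hsc, hab⟩ := h
  refine ⟨n + 1, Fin.cons R T, rfl, ?_, ?_, ?_, ?_⟩
  · rw [← Fin.succ_last, Fin.cons_succ]; exact hlast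
  · rw [Fin.monotone_iff_le_succ]
    intro i
    refine Fin.cases ?_ (fun j => ?_) i
    · rw [Fin.cons_succ, h0]
      exact hle
    · rw [Fin.cons_succ, ← Fin.succ_castSucc, Fin.cons_succ]
      exact hmono (Fin.castSucc_le_succ j)
  · intro i
    refine Fin.cases ?_ (fun j => ?_) i
    · exact hR
    · rw [Fin.cons_succ]; exact hsc j
  · intro i
    refine Fin.cases ?_ (fun j => ?_) i
    · rw [Fin.cons_succ, h0]
      exact hcomm
    · rw [Fin.cons_succ, ← Fin.succ_castSucc, Fin.cons_succ]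
      exact hab j

theorem chainTo_trans {Good : Subgroup Ω → Prop} {R R₁ Top : Subgroup Ω}
    (h₁ : ChainTo Good R R₁) (h₂ : ChainTo Good R₁ Top) : ChainTo Good R Top := by
  obtain ⟨n, U, h0, hlast, hmono, hgood, hab⟩ := h₁
  have key : ∀ i : Fin (n + 1), ChainTo Good (U i) Top := by
    intro i
    induction i using Fin.reverseInduction with
    | last => rw [hlast]; exact h₂
    | cast i ih =>
      exact chainTo_cons (hgood _) (hmono (Fin.castSucc_le_succ i)) (hab i) ih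
  rw [← h0]
  exact key 0

theorem chainTo_image {Ω' : Type*} [Group Ω'] {Good : Subgroup Ω → Prop}
    {Good' : Subgroup Ω' → Prop} (g : Subgroup Ω → Subgroup Ω') (hmono : Monotone g)
    (hgood : ∀ Q, Good Q → Good' (g Q))
    (hcomm : ∀ A B : Subgroup Ω, ⁅A, A⁆ ≤ B → ⁅g A, g A⁆ ≤ g B) {R Top : Subgroup Ω}
    (h : ChainTo Good R Top) : ChainTo Good' (g R) (g Top) := by
  obtain ⟨n, U, h0, hlast, hm, hgd, hab⟩ := h
  refine ⟨n, fun i => g (U i), ?_, ?_, ?_, ?_, ?_⟩
  · show g (U 0) = g R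
    rw [h0]
  · show g (U (Fin.last n)) = g Top
    rw [hlast]
  · exact fun i j hij => hmono (hm hij)
  · exact fun i => hgood _ (hgd i)
  · exact fun i => hcomm _ _ (hab i)

/-- In a chain from `⊥` to a nontrivial `Top` some member is nontrivial and abelian. -/
theorem chainTo_exists_abelian {Good : Subgroup Ω → Prop} {Top : Subgroup Ω}
    (h : ChainTo Good ⊥ Top) (hTop : Top ≠ ⊥) :
    ∃ A : Subgroup Ω, Good A ∧ A ≠ ⊥ ∧ A ≤ Top ∧ ⁅A, A⁆ ≤ ⊥ := by
  obtain ⟨n, U, h0, hlast, hm, hgd, hab⟩ := h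
  have hex : ∃ i : Fin n, U (Fin.castSucc i) = ⊥ ∧ U i.succ ≠ ⊥ := by
    by_contra hcon
    push_neg at hcon
    have hall : ∀ j : Fin (n + 1), U j = ⊥ := by
      intro j
      induction j using Fin.induction with
      | zero => exact h0
      | succ i ih => exact hcon i ih
    exact hTop (by rw [← hlast]; exact hall _)
  obtain ⟨i, hi0, hi1⟩ := hex
  refine ⟨U i.succ, hgd _, hi1, ?_, ?_⟩
  · rw [← hlast]; exact hm (Fin.le_last _)
  · rw [← hi0]; exact hab i

end Cfsg.Agent.Lib.Helper9
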