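import Mathlib
import Cfsg.Agent.Lib.Helper1.Co0Center
import Cfsg.Agent.S0372

set_option autoImplicit false

namespace Cfsg.Agent.Lib.Helper9

open Cfsg Cfsg.Agent.Lib.Helper1

theorem squareDodecad_mem : support₂ (qrWord 0) ∈ supports (golayCode : Set (GolayPt → ZMod 2)) :=
  ⟨qrWord 0, Submodule.subset_span (Or.inl ⟨0, rfl⟩), rfl⟩

theorem projInv_swap (p : GolayPt) :
    (projInv p ∈ support₂ (qrWord 0)) ↔ ¬ (p ∈ support₂ (qrWord 0)) := by
  have h := Cfsg.Agent.S0372.pt_0 p
  have h' : qrWord 0 (projInv p) = qrWord 0 p + 1 := h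
  unfold support₂
  simp only [Finset.mem_filter, Finset.mem_univ, true_and, not_not]
  rw [h']
  generalize qrWord 0 p = a
  revert a
  decide

theorem projInv_projInv (p : GolayPt) : projInv (projInv p) = p := by
  revert p
  decide

/-- the element of `Co0` squaring to `-1` -/
noncomputable def gE : Equiv.Perm leechLattice :=
  signE (support₂ (qrWord 0)) squareDodecad_mem * permE projInv Cfsg.Agent.S0372.result

theorem gE_mem : gE ∈ Co0 :=
  Co0.mul_mem (signE_mem _ _) (permE_mem _ _)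

theorem gE_sq : gE * gE = negE := by
  ext v : 1
  apply Subtype.ext
  funext i
  show (((signE (support₂ (qrWord 0)) squareDodecad_mem)
    ((permE projInv Cfsg.Agent.S0372.result)
      ((signE (support₂ (qrWord 0)) squareDodecad_mem)
        ((permE projInv Cfsg.Agent.S0372.result) v))) : leechLattice) : GolayPt → ℤ) i = _
  rw [signE_apply]
  simp only [signFun]
  rw [permE_apply]
  simp only []
  rw [signE_apply]
  simp only [signFun]
  rw [permE_apply]
  simp only []
  rw [projInv_projInv, negE_apply]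
  simp only [AddSubgroup.coe_neg, Pi.neg_apply]
  have := projInv_swap i
  by_cases h : i ∈ support₂ (qrWord 0)
  · have h2 : ¬ projInv i ∈ support₂ (qrWord 0) := by
      rw [this]; exact not_not.mpr h
    rw [if_pos h, if_neg h2]
  · have h2 : projInv i ∈ support₂ (qrWord 0) := this.mpr h
    rw [if_neg h, if_pos h2]

theorem negE_ne_one : negE ≠ 1 := by
  intro h
  have h1 : negE (Evec none) = Evec none := by rw [h]; rfl
  rw [negE_apply] at h1
  have h2 := congrArg (fun v : leechLattice => (v : GolayPt → ℤ) none) h1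
  simp only [AddSubgroup.coe_neg, Pi.neg_apply] at h2
  have h3 : ((Evec none : leechLattice) : GolayPt → ℤ) none = 8 := by
    show Efun none none = 8
    simp [Efun]
  rw [h3] at h2
  omega

theorem negE_central {f : Equiv.Perm leechLattice} (hf : f ∈ Co0) : negE * f = f * negE := by
  ext v : 1
  show negE (f v) = f (negE v)
  rw [negE_apply, negE_apply, Co0_map_neg hf]

theorem negE_sq : negE * negE = 1 := by
  ext v : 1
  show negE (negE v) = v
  rw [negE_apply, negE_apply, neg_neg]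

theorem co0_nonsplit :
    ∃ n : ↥Co0, (∀ v : ↥leechLattice, ((n • v : ↥leechLattice) : GolayPt → ℤ) = -(v : GolayPt → ℤ)) ∧
    ∀ K : Subgroup ↥Co0, ¬ (Subgroup.zpowers n).IsComplement' K := by
  refine ⟨⟨negE, negE_mem⟩, ?_, ?_⟩
  · intro v
    show ((negE v : leechLattice) : GolayPt → ℤ) = _
    rw [negE_apply]; rfl
  · intro K hK
    have hcen : ∀ x : ↥Co0, (⟨negE, negE_mem⟩ : ↥Co0) * x = x * ⟨negE, negE_mem⟩ := by
      intro x
      apply Subtype.ext
      exact negE_central x.2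
    have hnn : (⟨negE, negE_mem⟩ : ↥Co0) * ⟨negE, negE_mem⟩ = 1 := by
      apply Subtype.ext
      exact negE_sq
    obtain ⟨⟨a, k⟩, hak, _⟩ := Subgroup.isComplement_iff_existsUnique.mp hK (⟨gE, gE_mem⟩ : ↥Co0)
    simp only at hak
    have ha : (a : ↥Co0) = 1 ∨ (a : ↥Co0) = ⟨negE, negE_mem⟩ := by
      obtain ⟨m, hm⟩ := Subgroup.mem_zpowers_iff.mp a.2
      rcases Int.even_or_odd m with ⟨j, hj⟩ | ⟨j, hj⟩
      · left
        rw [← hm, hj, ← two_mul, zpow_mul, zpow_two, hnn, one_zpow]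
      · right
        rw [← hm, hj, zpow_add, zpow_mul, zpow_two, hnn, one_zpow, one_mul, zpow_one]
    have haa : (a : ↥Co0) * (a : ↥Co0) = 1 := by
      rcases ha with h | h
      · rw [h, one_mul]
      · rw [h, hnn]
    have hac : ∀ x : ↥Co0, (a : ↥Co0) * x = x * (a : ↥Co0) := by
      intro x
      rcases ha with h | h
      · rw [h, one_mul, mul_one]
      · rw [h]; exact hcen x
    have hg2 : (⟨gE, gE_mem⟩ : ↥Co0) * ⟨gE, gE_mem⟩ = ⟨negE, negE_mem⟩ := by
      apply Subtype.ext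
      exact gE_sq
    have hk2 : (k : ↥Co0) * (k : ↥Co0) = ⟨negE, negE_mem⟩ := by
      rw [← hg2, ← hak]
      calc (k : ↥Co0) * (k : ↥Co0) = 1 * ((k : ↥Co0) * (k : ↥Co0)) := by rw [one_mul]
        _ = ((a : ↥Co0) * (a : ↥Co0)) * ((k : ↥Co0) * (k : ↥Co0)) := by rw [haa]
        _ = (a : ↥Co0) * ((a : ↥Co0) * (k : ↥Co0)) * (k : ↥Co0) := by simp only [mul_assoc]
        _ = (a : ↥Co0) * ((k : ↥Co0) * (a : ↥Co0)) * (k : ↥Co0) := by rw [hac (k : ↥Co0)]
        _ = (a : ↥Co0) * (k : ↥Co0) * ((a : ↥Co0) * (k : ↥Co0)) := by simp only [mul_assoc]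
    have hnK : (⟨negE, negE_mem⟩ : ↥Co0) ∈ K := by
      rw [← hk2]; exact K.mul_mem k.2 k.2
    have hnZ : (⟨negE, negE_mem⟩ : ↥Co0) ∈ Subgroup.zpowers (⟨negE, negE_mem⟩ : ↥Co0) :=
      Subgroup.mem_zpowers _
    have hdisj := hK.disjoint
    have : (⟨negE, negE_mem⟩ : ↥Co0) ∈ (⊥ : Subgroup ↥Co0) := by
      rw [← disjoint_iff.mp hdisj]
      exact ⟨hnZ, hnK⟩
    rw [Subgroup.mem_bot] at this
    exact negE_ne_one (congrArg Subtype.val this)

end Cfsg.Agent.Lib.Helper9
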