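import Cfsg.Agent.Lib.Helper9.Basic
import Mathlib.GroupTheory.Sylow
import Mathlib.GroupTheory.GroupAction.Quotient

set_option autoImplicit false

namespace Cfsg.Agent.Lib.Helper9

open Cfsg
open scoped IsMulCommutative

/-- An automorphism of a finite group `G` with `C_G(O_p(G)) ≤ O_p(G)` fixing a Sylow `p`-subgroup
`T` elementwise is conjugation by an element of `Z(T)`. -/
theorem aut_eq_conj_of_fix_sylow {G : Type*} [Group G] [Finite G] (p : ℕ) [Fact p.Prime]
    (T : Sylow p G)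
    (hG : Subgroup.centralizer ((pCore p G : Subgroup G) : Set G) ≤ pCore p G) (ψ : G ≃* G)
    (hψ : ∀ t ∈ (T : Subgroup G), ψ t = t) :
    ∃ w ∈ (T : Subgroup G), (∀ t ∈ (T : Subgroup G), w * t = t * w) ∧
      ∀ g : G, ψ g = w * g * w⁻¹ := by
  classical
  have hQn : (pCore p G).Normal := pCore_normal' p
  have hQT : pCore p G ≤ T := pCore_le_sylow' T
  have hψQ : ∀ x ∈ pCore p G, ψ x = x := fun x hx => hψ x (hQT hx)
  have h1 : ∀ g : G, ψ g * g⁻¹ ∈ Subgroup.centralizer ((pCore p G : Subgroup G) : Set G) := by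
    intro g
    rw [Subgroup.mem_centralizer_iff]
    intro x hx
    have hy : g⁻¹ * x * g ∈ pCore p G := by
      have := hQn.conj_mem x hx g⁻¹
      simpa using this
    have e1 : ψ (g * (g⁻¹ * x * g) * g⁻¹) = g * (g⁻¹ * x * g) * g⁻¹ :=
      hψQ _ (hQn.conj_mem _ hy g)
    rw [map_mul, map_mul, map_inv, hψQ _ hy] at e1
    have e2 : g * (g⁻¹ * x * g) * g⁻¹ = x := by group
    rw [e2] at e1
    calc x * (ψ g * g⁻¹) = (ψ g * (g⁻¹ * x * g) * (ψ g)⁻¹) * (ψ g * g⁻¹) := by rw [e1]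
      _ = ψ g * g⁻¹ * x := by group
  have hQmem : ∀ g, ψ g * g⁻¹ ∈ pCore p G := fun g => hG (h1 g)
  have hZmem : ∀ g, (⟨ψ g * g⁻¹, hQmem g⟩ : ↥(pCore p G)) ∈ Subgroup.center ↥(pCore p G) := by
    intro g
    rw [Subgroup.mem_center_iff]
    intro y
    apply Subtype.ext
    exact (Subgroup.mem_centralizer_iff.mp (h1 g)) y y.2
  -- conjugation on the centre of `O_p(G)`
  have hconjZ : ∀ (h : G) (a : ↥(Subgroup.center ↥(pCore p G))),
      (⟨h * ((a : ↥(pCore p G)) : G) * h⁻¹, hQn.conj_mem _ (a : ↥(pCore p G)).2 h⟩ :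
        ↥(pCore p G)) ∈ Subgroup.center ↥(pCore p G) := by
    intro h a
    rw [Subgroup.mem_center_iff]
    intro y
    apply Subtype.ext
    show (y : G) * (h * ((a : ↥(pCore p G)) : G) * h⁻¹) = h * ((a : ↥(pCore p G)) : G) * h⁻¹ * y
    have hy' : h⁻¹ * (y : G) * h ∈ pCore p G := by
      have := hQn.conj_mem _ y.2 h⁻¹
      simpa using this
    have hc := Subgroup.mem_center_iff.mp a.2 ⟨h⁻¹ * (y : G) * h, hy'⟩
    have hc' : h⁻¹ * (y : G) * h * ((a : ↥(pCore p G)) : G) =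
        ((a : ↥(pCore p G)) : G) * (h⁻¹ * (y : G) * h) := congrArg Subtype.val hc
    calc (y : G) * (h * ((a : ↥(pCore p G)) : G) * h⁻¹)
        = h * (h⁻¹ * (y : G) * h * ((a : ↥(pCore p G)) : G)) * h⁻¹ := by group
      _ = h * (((a : ↥(pCore p G)) : G) * (h⁻¹ * (y : G) * h)) * h⁻¹ := by rw [hc']
      _ = h * ((a : ↥(pCore p G)) : G) * h⁻¹ * y := by group
  let cZ : G → (↥(Subgroup.center ↥(pCore p G)) →* ↥(Subgroup.center ↥(pCore p G))) := fun h =>
    { toFun := fun a => ⟨⟨h * ((a : ↥(pCore p G)) : G) * h⁻¹, _⟩, hconjZ h a⟩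
      map_one' := by
        apply Subtype.ext
        apply Subtype.ext
        show h * (1 : G) * h⁻¹ = 1
        group
      map_mul' := by
        intro a b
        apply Subtype.ext
        apply Subtype.ext
        show h * (((a : ↥(pCore p G)) : G) * ((b : ↥(pCore p G)) : G)) * h⁻¹ =
          h * ((a : ↥(pCore p G)) : G) * h⁻¹ * (h * ((b : ↥(pCore p G)) : G) * h⁻¹)
        group }
  have hcZval : ∀ (h : G) (a : ↥(Subgroup.center ↥(pCore p G))),
      (((cZ h a : ↥(Subgroup.center ↥(pCore p G))) : ↥(pCore p G)) : G) =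
        h * ((a : ↥(pCore p G)) : G) * h⁻¹ := fun _ _ => rfl
  let v : G → ↥(Subgroup.center ↥(pCore p G)) := fun g => ⟨⟨ψ g * g⁻¹, hQmem g⟩, hZmem g⟩
  have hvval : ∀ g : G, (((v g : ↥(Subgroup.center ↥(pCore p G))) : ↥(pCore p G)) : G) =
      ψ g * g⁻¹ := fun _ => rfl
  have I1 : ∀ h g : G, v (h * g) = v h * cZ h (v g) := by
    intro h g
    apply Subtype.ext
    apply Subtype.ext
    show ψ (h * g) * (h * g)⁻¹ = ψ h * h⁻¹ * (h * (ψ g * g⁻¹) * h⁻¹)
    rw [map_mul]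
    group
  have I2 : ∀ (g t : G), t ∈ (T : Subgroup G) → v (g * t) = v g := by
    intro g t ht
    apply Subtype.ext
    apply Subtype.ext
    show ψ (g * t) * (g * t)⁻¹ = ψ g * g⁻¹
    rw [map_mul, hψ t ht]
    group
  let u : G ⧸ (T : Subgroup G) → ↥(Subgroup.center ↥(pCore p G)) :=
    Quotient.lift v (by
      intro a b hab
      have hab' : a⁻¹ * b ∈ (T : Subgroup G) := QuotientGroup.leftRel_apply.mp hab
      have : b = a * (a⁻¹ * b) := by group
      rw [this, I2 a _ hab'])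
  have hu : ∀ g : G, u (QuotientGroup.mk g) = v g := fun _ => rfl
  have I3 : ∀ (h : G) (c : G ⧸ (T : Subgroup G)), u (h • c) = v h * cZ h (u c) := by
    intro h c
    induction c using QuotientGroup.induction_on with
    | H g =>
      rw [MulAction.Quotient.smul_mk, hu, hu]
      exact I1 h g
  haveI : Fintype (G ⧸ (T : Subgroup G)) := Fintype.ofFinite _
  have I4 : ∀ h : G, (∏ c : G ⧸ (T : Subgroup G), u c) =
      (v h) ^ Fintype.card (G ⧸ (T : Subgroup G)) * cZ h (∏ c : G ⧸ (T : Subgroup G), u c) := by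
    intro h
    calc (∏ c : G ⧸ (T : Subgroup G), u c)
        = ∏ c : G ⧸ (T : Subgroup G), u (MulAction.toPerm h c) :=
          (Equiv.prod_comp (MulAction.toPerm h) u).symm
      _ = ∏ c : G ⧸ (T : Subgroup G), (v h * cZ h (u c)) :=
          Finset.prod_congr rfl (fun c _ => I3 h c)
      _ = (∏ _c : G ⧸ (T : Subgroup G), v h) * ∏ c : G ⧸ (T : Subgroup G), cZ h (u c) :=
          Finset.prod_mul_distrib
      _ = (v h) ^ Fintype.card (G ⧸ (T : Subgroup G)) *
            cZ h (∏ c : G ⧸ (T : Subgroup G), u c) := by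
          rw [Finset.prod_const, Finset.card_univ, map_prod]
  -- coprimality
  have hZp : IsPGroup p ↥(Subgroup.center ↥(pCore p G)) :=
    (pCore_isPGroup' (G := G) (p := p)).to_subgroup _
  obtain ⟨k, hk⟩ := hZp.exists_card_eq
  have hn : Fintype.card (G ⧸ (T : Subgroup G)) = (T : Subgroup G).index := by
    rw [Subgroup.index_eq_card, Nat.card_eq_fintype_card]
  have hcop : (Nat.card ↥(Subgroup.center ↥(pCore p G))).Coprime
      (Fintype.card (G ⧸ (T : Subgroup G))) := by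
    rw [hk, hn]
    apply Nat.Coprime.pow_left
    rw [(Fact.out : p.Prime).coprime_iff_not_dvd]
    exact T.not_dvd_index
  obtain ⟨w, hw⟩ : ∃ w : ↥(Subgroup.center ↥(pCore p G)),
      w ^ Fintype.card (G ⧸ (T : Subgroup G)) = ∏ c : G ⧸ (T : Subgroup G), u c :=
    ⟨(powCoprime hcop).symm _, (powCoprime hcop).apply_symm_apply _⟩
  have I5 : ∀ h : G, v h = w * (cZ h w)⁻¹ := by
    intro h
    apply (powCoprime hcop).injective
    show (v h) ^ Fintype.card (G ⧸ (T : Subgroup G)) =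
      (w * (cZ h w)⁻¹) ^ Fintype.card (G ⧸ (T : Subgroup G))
    rw [mul_pow, inv_pow, ← map_pow, hw]
    have := I4 h
    rw [eq_mul_inv_iff_mul_eq]
    exact this.symm
  have hwQ : (((w : ↥(pCore p G)) : G)) ∈ pCore p G := (w : ↥(pCore p G)).2
  have hconj : ∀ g : G, ψ g = ((w : ↥(pCore p G)) : G) * g * ((w : ↥(pCore p G)) : G)⁻¹ := by
    intro g
    have h2 := congrArg (fun a : ↥(Subgroup.center ↥(pCore p G)) => ((a : ↥(pCore p G)) : G)) (I5 g)
    have h3 : ψ g * g⁻¹ = ((w : ↥(pCore p G)) : G) *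
        (g * ((w : ↥(pCore p G)) : G) * g⁻¹)⁻¹ := h2
    calc ψ g = ψ g * g⁻¹ * g := by group
      _ = ((w : ↥(pCore p G)) : G) * (g * ((w : ↥(pCore p G)) : G) * g⁻¹)⁻¹ * g := by rw [h3]
      _ = ((w : ↥(pCore p G)) : G) * g * ((w : ↥(pCore p G)) : G)⁻¹ := by group
  refine ⟨((w : ↥(pCore p G)) : G), hQT hwQ, ?_, hconj⟩
  intro t ht
  have h4 := hconj t
  rw [hψ t ht] at h4
  calc ((w : ↥(pCore p G)) : G) * t
      = ((w : ↥(pCore p G)) : G) * t * ((w : ↥(pCore p G)) : G)⁻¹ * ((w : ↥(pCore p G)) : G) := by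
        group
    _ = t * ((w : ↥(pCore p G)) : G) := by rw [← h4]

end Cfsg.Agent.Lib.Helper9
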