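import Mathlib
import Cfsg.Prelude.Def_FischerSpaces
import Cfsg.Prelude.Def_CaseTheorems

set_option autoImplicit false

namespace Cfsg.Agent.Lib.Helper9.CommGraphLift

open Cfsg

variable {G : Type*} [Group G]

theorem mem_conjugatesOf_iff' {d b : G} : b ∈ conjugatesOf d ↔ ∃ c : G, c * d * c⁻¹ = b := by
  show IsConj d b ↔ _
  rw [isConj_iff]

/-- conjugation as a graph map of the commuting graph on a conjugacy class -/
def conjMap (d g : G) : commutingGraph (conjugatesOf d) →g commutingGraph (conjugatesOf d) where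
  toFun e := ⟨g * e.1 * g⁻¹, by
    have he := e.2
    rw [mem_conjugatesOf_iff'] at he ⊢
    obtain ⟨c, hc⟩ := he
    exact ⟨g * c, by rw [← hc]; group⟩⟩
  map_rel' := by
    intro a b hab
    unfold commutingGraph at hab ⊢
    rw [SimpleGraph.fromRel_adj] at hab ⊢
    obtain ⟨hne, hc⟩ := hab
    refine ⟨?_, ?_⟩
    · intro h
      apply hne
      have h1 := congrArg Subtype.val h
      simp only at h1
      apply Subtype.ext
      have : g⁻¹ * (g * a.1 * g⁻¹) * g = g⁻¹ * (g * b.1 * g⁻¹) * g := by rw [h1]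
      simpa [mul_assoc] using this
    · have hc' : Commute a.1 b.1 := by
        rcases hc with h | h
        · exact h
        · exact h.symm
      left
      show Commute (g * a.1 * g⁻¹) (g * b.1 * g⁻¹)
      unfold Commute SemiconjBy at hc' ⊢
      calc g * a.1 * g⁻¹ * (g * b.1 * g⁻¹) = g * (a.1 * b.1) * g⁻¹ := by group
        _ = g * (b.1 * a.1) * g⁻¹ := by rw [hc']
        _ = g * b.1 * g⁻¹ * (g * a.1 * g⁻¹) := by group

theorem mem_conj (d : G) (g : G) : g * d * g⁻¹ ∈ conjugatesOf d := by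
  rw [mem_conjugatesOf_iff']
  exact ⟨g, rfl⟩

theorem reachable_of_commute {d : G} (a b : conjugatesOf d) (h : Commute a.1 b.1) :
    (commutingGraph (conjugatesOf d)).Reachable a b := by
  by_cases hab : a = b
  · rw [hab]
  · apply SimpleGraph.Adj.reachable
    unfold commutingGraph
    rw [SimpleGraph.fromRel_adj]
    exact ⟨hab, Or.inl h⟩

/-- the stabilizer of the connected component of `d` -/
def compStab (d : G) : Subgroup G where
  carrier := {g | (commutingGraph (conjugatesOf d)).Reachable ⟨d, mem_conjugatesOf_self⟩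
    ⟨g * d * g⁻¹, mem_conj d g⟩}
  one_mem' := by
    show (commutingGraph (conjugatesOf d)).Reachable _ _
    have : (⟨1 * d * 1⁻¹, mem_conj d 1⟩ : conjugatesOf d) = ⟨d, mem_conjugatesOf_self⟩ :=
      Subtype.ext (by simp)
    rw [this]
  mul_mem' := by
    intro g h hg hh
    show (commutingGraph (conjugatesOf d)).Reachable _ _
    have h1 := SimpleGraph.Reachable.map (conjMap d g) hh
    have e1 : (conjMap d g) ⟨d, mem_conjugatesOf_self⟩ = ⟨g * d * g⁻¹, mem_conj d g⟩ := rfl
    have e2 : (conjMap d g) ⟨h * d * h⁻¹, mem_conj d h⟩ =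
        ⟨g * h * d * (g * h)⁻¹, mem_conj d (g * h)⟩ := Subtype.ext (by
      show g * (h * d * h⁻¹) * g⁻¹ = g * h * d * (g * h)⁻¹
      group)
    rw [e1, e2] at h1
    exact hg.trans h1
  inv_mem' := by
    intro g hg
    show (commutingGraph (conjugatesOf d)).Reachable _ _
    have h1 := SimpleGraph.Reachable.map (conjMap d g⁻¹) hg
    have e1 : (conjMap d g⁻¹) ⟨d, mem_conjugatesOf_self⟩ =
        ⟨g⁻¹ * d * g⁻¹⁻¹, mem_conj d g⁻¹⟩ := rfl
    have e2 : (conjMap d g⁻¹) ⟨g * d * g⁻¹, mem_conj d g⟩ = ⟨d, mem_conjugatesOf_self⟩ :=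
      Subtype.ext (by
        show g⁻¹ * (g * d * g⁻¹) * g⁻¹⁻¹ = d
        group)
    rw [e1, e2] at h1
    exact h1.symm

theorem mem_compStab {d g : G} : g ∈ compStab d ↔
    (commutingGraph (conjugatesOf d)).Reachable ⟨d, mem_conjugatesOf_self⟩
      ⟨g * d * g⁻¹, mem_conj d g⟩ := Iff.rfl

/-- square roots in a subgroup of odd order -/
theorem exists_sqrt [Finite G] (Z : Subgroup G) (hodd : Odd (Nat.card Z)) {x : G} (hx : x ∈ Z) :
    ∃ w ∈ Z, w ^ 2 = x := by
  have hord : orderOf x ∣ Nat.card Z := by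
    have := orderOf_dvd_natCard (⟨x, hx⟩ : Z)
    rwa [Subgroup.orderOf_mk] at this
  have hoddx : Odd (orderOf x) := Odd.of_dvd_nat hodd hord
  obtain ⟨m, hm⟩ := hoddx
  refine ⟨x ^ (m + 1), Z.pow_mem hx _, ?_⟩
  rw [← pow_mul, show (m + 1) * 2 = orderOf x + 1 by omega, pow_succ, pow_orderOf_eq_one, one_mul]

end Cfsg.Agent.Lib.Helper9.CommGraphLift
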