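import Mathlib
import Cfsg.Agent.Lib.Helper9.CommGraphLift

set_option autoImplicit false

namespace Cfsg.Agent.Lib.Helper9.CommGraphLift

open Cfsg

variable {G : Type*} [Group G]

/-- conjugates of an element inverting `Z` invert `Z` -/
theorem inverts_of_conj (Z : Subgroup G) [Z.Normal] {d : G}
    (hinv : ∀ c ∈ Z, d * c * d⁻¹ = c⁻¹) {e : G} (he : e ∈ conjugatesOf d) :
    ∀ c ∈ Z, e * c * e⁻¹ = c⁻¹ := by
  obtain ⟨g, rfl⟩ := mem_conjugatesOf_iff'.1 he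
  intro c hc
  have hc' : g⁻¹ * c * g ∈ Z := by
    have := ‹Z.Normal›.conj_mem c hc g⁻¹
    simpa using this
  have h1 := hinv _ hc'
  calc g * d * g⁻¹ * c * (g * d * g⁻¹)⁻¹ = g * (d * (g⁻¹ * c * g) * d⁻¹) * g⁻¹ := by group
    _ = g * (g⁻¹ * c * g)⁻¹ * g⁻¹ := by rw [h1]
    _ = c⁻¹ := by group

theorem inv_rel1 {e w : G} (he : e * w * e⁻¹ = w⁻¹) : e * w = w⁻¹ * e := by
  rw [← he]; group

theorem inv_rel2 {e w : G} (he : e * w * e⁻¹ = w⁻¹) : e * w⁻¹ = w * e := by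
  have h1 := inv_rel1 he
  calc e * w⁻¹ = w * (w⁻¹ * e) * w⁻¹ := by group
    _ = w * (e * w) * w⁻¹ := by rw [h1]
    _ = w * e := by group

/-- the key computation: if `w ^ 4 = e f e⁻¹ f⁻¹` with `w` inverted by `e` and `f`, then `e`
commutes with `w f w⁻¹` -/
theorem commute_conj_of_pow_four {e f w : G} (he : e * w * e⁻¹ = w⁻¹) (hf : f * w * f⁻¹ = w⁻¹)
    (h4 : w ^ 4 = e * f * e⁻¹ * f⁻¹) : Commute e (w * f * w⁻¹) := by
  have r1 : e * w = w⁻¹ * e := inv_rel1 he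
  have r1' : e * w⁻¹ = w * e := inv_rel2 he
  have r2 : f * w⁻¹ = w * f := inv_rel2 hf
  have r2' : f * w = w⁻¹ * f := inv_rel1 hf
  have r3 : e * f = w ^ 4 * (f * e) := by
    rw [h4]
    group
  unfold Commute SemiconjBy
  have hw4 : w ^ 4 = w * w * w * w := by
    rw [show (4 : ℕ) = 1 + 1 + 1 + 1 by norm_num, pow_add, pow_add, pow_add, pow_one]
  calc e * (w * f * w⁻¹) = (e * w) * f * w⁻¹ := by group
    _ = w⁻¹ * (e * f) * w⁻¹ := by rw [r1]; group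
    _ = w⁻¹ * (w ^ 4 * (f * e)) * w⁻¹ := by rw [r3]
    _ = w * w * w * f * (e * w⁻¹) := by rw [hw4]; group
    _ = w * w * w * f * (w * e) := by rw [r1']
    _ = w * w * w * (f * w) * e := by group
    _ = w * w * w * (w⁻¹ * f) * e := by rw [r2']
    _ = w * (w * f) * e := by group
    _ = w * (f * w⁻¹) * e := by rw [r2]
    _ = w * f * w⁻¹ * e := by group

/-- the simpler computation: if `w ^ 2 = e f⁻¹` with `w` inverted by `e` and `f`... then
`w f w⁻¹ = e`. -/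
theorem conj_eq_of_sq {e f w : G} (hf : f * w * f⁻¹ = w⁻¹)
    (h2 : w ^ 2 = e * f⁻¹) : w * f * w⁻¹ = e := by
  have r2 : f * w⁻¹ = w * f := inv_rel2 hf
  calc w * f * w⁻¹ = w * (f * w⁻¹) := by group
    _ = w * (w * f) := by rw [r2]
    _ = w ^ 2 * f := by rw [pow_two, mul_assoc]
    _ = e := by rw [h2]; group

end Cfsg.Agent.Lib.Helper9.CommGraphLift
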