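import Mathlib
import Cfsg.Agent.Lib.Helper9.CommGraphLift2

set_option autoImplicit false

namespace Cfsg.Agent.Lib.Helper9.CommGraphLift

open Cfsg
open scoped commutatorElement

variable {G : Type*} [Group G]

/-- lifting a commuting conjugate through the odd central quotient -/
theorem lift_commute [Finite G] (Z : Subgroup G) [Z.Normal] (hodd : Odd (Nat.card Z)) {d : G}
    (hinv : ∀ c ∈ Z, d * c * d⁻¹ = c⁻¹) {e : G} (he : e ∈ conjugatesOf d)
    {v : G ⧸ Z} (hv : v ∈ conjugatesOf (QuotientGroup.mk d : G ⧸ Z))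
    (hc : Commute (QuotientGroup.mk e : G ⧸ Z) v) :
    ∃ e' ∈ conjugatesOf d, (QuotientGroup.mk e' : G ⧸ Z) = v ∧ Commute e e' := by
  obtain ⟨cbar, hcb⟩ := mem_conjugatesOf_iff'.1 hv
  obtain ⟨c, rfl⟩ := QuotientGroup.mk_surjective cbar
  have hfD : c * d * c⁻¹ ∈ conjugatesOf d := mem_conj d c
  have hfv : (QuotientGroup.mk (c * d * c⁻¹) : G ⧸ Z) = v := by
    rw [← hcb]
    simp only [QuotientGroup.mk_mul, QuotientGroup.mk_inv]
  have hz : e * (c * d * c⁻¹) * e⁻¹ * (c * d * c⁻¹)⁻¹ ∈ Z := by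
    rw [← QuotientGroup.eq_one_iff]
    rw [QuotientGroup.mk_mul, QuotientGroup.mk_mul, QuotientGroup.mk_mul, QuotientGroup.mk_inv,
      QuotientGroup.mk_inv, hfv]
    have := hc.eq
    rw [this]
    group
  obtain ⟨w1, hw1, hw1sq⟩ := exists_sqrt Z hodd hz
  obtain ⟨w, hw, hwsq⟩ := exists_sqrt Z hodd hw1
  have hw4 : w ^ 4 = e * (c * d * c⁻¹) * e⁻¹ * (c * d * c⁻¹)⁻¹ := by
    rw [← hw1sq, ← hwsq, ← pow_mul]
  have hew := inverts_of_conj Z hinv he w hw
  have hfw := inverts_of_conj Z hinv hfD w hw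
  refine ⟨w * (c * d * c⁻¹) * w⁻¹, ?_, ?_, commute_conj_of_pow_four hew hfw hw4⟩
  · rw [mem_conjugatesOf_iff']
    exact ⟨w * c, by group⟩
  · rw [← hfv]
    have h1 : (QuotientGroup.mk w : G ⧸ Z) = 1 := (QuotientGroup.eq_one_iff w).2 hw
    rw [QuotientGroup.mk_mul, QuotientGroup.mk_mul, QuotientGroup.mk_inv, h1]
    simp

/-- lifting walks -/
theorem lift_reachable [Finite G] (Z : Subgroup G) [Z.Normal] (hodd : Odd (Nat.card Z)) {d : G}
    (hinv : ∀ c ∈ Z, d * c * d⁻¹ = c⁻¹)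
    {u v : conjugatesOf (QuotientGroup.mk d : G ⧸ Z)}
    (p : (commutingGraph (conjugatesOf (QuotientGroup.mk d : G ⧸ Z))).Walk u v) :
    (∃ e : conjugatesOf d, (QuotientGroup.mk e.1 : G ⧸ Z) = u.1 ∧
      (commutingGraph (conjugatesOf d)).Reachable ⟨d, mem_conjugatesOf_self⟩ e) →
    (∃ e : conjugatesOf d, (QuotientGroup.mk e.1 : G ⧸ Z) = v.1 ∧
      (commutingGraph (conjugatesOf d)).Reachable ⟨d, mem_conjugatesOf_self⟩ e) := by
  induction p with
  | nil => exact id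
  | @cons u0 v0 w0 h p ih =>
    intro hu
    apply ih
    obtain ⟨e, heu, hre⟩ := hu
    unfold commutingGraph at h
    rw [SimpleGraph.fromRel_adj] at h
    obtain ⟨_, hcomm⟩ := h
    have hcomm' : Commute (QuotientGroup.mk e.1 : G ⧸ Z) v0.1 := by
      rw [heu]
      rcases hcomm with h | h
      · exact h
      · exact h.symm
    obtain ⟨e', he'D, he'v, hee'⟩ := lift_commute Z hodd hinv e.2 v0.2 hcomm'
    exact ⟨⟨e', he'D⟩, he'v, hre.trans (reachable_of_commute e ⟨e', he'D⟩ hee')⟩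

theorem exists_mul_mem_compStab [Finite G] (Z : Subgroup G) [Z.Normal] (hodd : Odd (Nat.card Z))
    {d : G} (hinv : ∀ c ∈ Z, d * c * d⁻¹ = c⁻¹)
    (hconn : (commutingGraph (conjugatesOf (QuotientGroup.mk d : G ⧸ Z))).Connected) (g : G) :
    ∃ w ∈ Z, w * g ∈ compStab d := by
  have hfD : g * d * g⁻¹ ∈ conjugatesOf d := mem_conj d g
  have hfbar : (QuotientGroup.mk (g * d * g⁻¹) : G ⧸ Z) ∈
      conjugatesOf (QuotientGroup.mk d : G ⧸ Z) := by
    rw [mem_conjugatesOf_iff']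
    exact ⟨QuotientGroup.mk g, by simp only [QuotientGroup.mk_mul, QuotientGroup.mk_inv]⟩
  obtain ⟨p⟩ := hconn.preconnected ⟨QuotientGroup.mk d, mem_conjugatesOf_self⟩
    ⟨QuotientGroup.mk (g * d * g⁻¹), hfbar⟩
  obtain ⟨e, hef, hre⟩ := lift_reachable Z hodd hinv p
    ⟨⟨d, mem_conjugatesOf_self⟩, rfl, SimpleGraph.Reachable.refl _⟩
  have hz : e.1 * (g * d * g⁻¹)⁻¹ ∈ Z := by
    rw [← QuotientGroup.eq_one_iff, QuotientGroup.mk_mul, QuotientGroup.mk_inv, hef]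
    simp
  obtain ⟨w, hw, hwsq⟩ := exists_sqrt Z hodd hz
  have hfw := inverts_of_conj Z hinv hfD w hw
  have hconj := conj_eq_of_sq hfw hwsq
  refine ⟨w, hw, ?_⟩
  rw [mem_compStab]
  have : (⟨w * g * d * (w * g)⁻¹, mem_conj d (w * g)⟩ : conjugatesOf d) = e := Subtype.ext (by
    show w * g * d * (w * g)⁻¹ = e.1
    rw [← hconj]; group)
  rw [this]; exact hre

theorem comm_mul_left {w a b : G} (ha : Commute w a) (hb : Commute w b) :
    ⁅w * a, b⁆ = ⁅a, b⁆ := by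
  rw [commutatorElement_def, commutatorElement_def, mul_inv_rev]
  have hb' : w⁻¹ * b⁻¹ = b⁻¹ * w⁻¹ := (hb.inv_left.inv_right).eq
  have hc : Commute w (a * b * a⁻¹ * b⁻¹) :=
    ((ha.mul_right hb).mul_right ha.inv_right).mul_right hb.inv_right
  calc w * a * b * (a⁻¹ * w⁻¹) * b⁻¹ = w * a * b * a⁻¹ * (w⁻¹ * b⁻¹) := by group
    _ = w * a * b * a⁻¹ * (b⁻¹ * w⁻¹) := by rw [hb']
    _ = w * (a * b * a⁻¹ * b⁻¹) * w⁻¹ := by group
    _ = (a * b * a⁻¹ * b⁻¹) * w * w⁻¹ := by rw [hc.eq]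
    _ = a * b * a⁻¹ * b⁻¹ := by group

theorem comm_mul_right {w a b : G} (ha : Commute w a) (hb : Commute w b) :
    ⁅a, w * b⁆ = ⁅a, b⁆ := by
  rw [← commutatorElement_inv, comm_mul_left hb ha, commutatorElement_inv]

theorem compStab_eq_top {d : G} (Z L : Subgroup G) (hperf : ⁅L, L⁆ = L) (hZL : Z ≤ L)
    (hZc : ∀ c ∈ Z, ∀ y ∈ L, Commute c y) (hgen : L ⊔ Subgroup.zpowers d = ⊤)
    (hD : ∀ g : G, ∃ w ∈ Z, w * g ∈ compStab d) : compStab d = ⊤ := by
  have hL : L ≤ compStab d := by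
    have h1 : ⁅L, L⁆ ≤ compStab d := by
      rw [Subgroup.commutator_le]
      intro a ha b hb
      obtain ⟨w1, hw1, h1⟩ := hD a
      obtain ⟨w2, hw2, h2⟩ := hD b
      have e1 : ⁅w1 * a, w2 * b⁆ = ⁅a, b⁆ := by
        rw [comm_mul_left (hZc w1 hw1 a ha) (hZc w1 hw1 _ (L.mul_mem (hZL hw2) hb)),
          comm_mul_right (hZc w2 hw2 a ha) (hZc w2 hw2 b hb)]
      rw [← e1, commutatorElement_def]
      exact (compStab d).mul_mem ((compStab d).mul_mem ((compStab d).mul_mem h1 h2)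
        ((compStab d).inv_mem h1)) ((compStab d).inv_mem h2)
    rwa [hperf] at h1
  have hd : d ∈ compStab d := by
    rw [mem_compStab]
    have : (⟨d * d * d⁻¹, mem_conj d d⟩ : conjugatesOf d) = ⟨d, mem_conjugatesOf_self⟩ :=
      Subtype.ext (by simp)
    rw [this]
  rw [eq_top_iff, ← hgen]
  exact sup_le hL ((Subgroup.zpowers_le).2 hd)

theorem connected_of_compStab_eq_top {d : G} (h : compStab d = ⊤) :
    (commutingGraph (conjugatesOf d)).Connected := by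
  rw [SimpleGraph.connected_iff_exists_forall_reachable]
  refine ⟨⟨d, mem_conjugatesOf_self⟩, ?_⟩
  rintro ⟨x, hx⟩
  obtain ⟨g, rfl⟩ := mem_conjugatesOf_iff'.1 hx
  have hg : g ∈ compStab d := by rw [h]; exact Subgroup.mem_top g
  exact mem_compStab.1 hg

end Cfsg.Agent.Lib.Helper9.CommGraphLift
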