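import Cfsg.Agent.Lib.Helper9.Stab
import Mathlib.GroupTheory.Sylow

set_option autoImplicit false

namespace Cfsg.Agent.Lib.Helper9

variable {Ω : Type*} [Group Ω]

/-- Automorphisms in `A ≤ Aut(P)` acting trivially on `P/(P ∩ R)` and as conjugation by an element
of `R` on `P ∩ R`. -/
def conjStabSub {P : Subgroup Ω} (A : Subgroup (MulAut P)) (R : Subgroup Ω)
    (hinv : ∀ α ∈ A, ∀ x : P, (x : Ω) ∈ R → ((α x : P) : Ω) ∈ R) : Subgroup (MulAut P) where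
  carrier := {α | α ∈ A ∧ (∀ x : P, (x : Ω)⁻¹ * ((α x : P) : Ω) ∈ R) ∧
    ∃ r ∈ R, ∀ x : P, (x : Ω) ∈ R → ((α x : P) : Ω) = r * x * r⁻¹}
  one_mem' := ⟨A.one_mem, fun x => by simp, 1, R.one_mem, fun x _ => by simp⟩
  mul_mem' := by
    rintro α β ⟨hα, hαs, r, hr, hαr⟩ ⟨hβ, hβs, s, hs, hβs'⟩
    refine ⟨A.mul_mem hα hβ, fun x => ?_, r * s, R.mul_mem hr hs, fun x hx => ?_⟩
    · show (x : Ω)⁻¹ * ((α (β x) : P) : Ω) ∈ R
      have h1 : (x : Ω)⁻¹ * ((α (β x) : P) : Ω) =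
          ((x : Ω)⁻¹ * ((α x : P) : Ω)) * ((α (x⁻¹ * β x) : P) : Ω) := by
        rw [map_mul, map_inv]
        push_cast
        group
      rw [h1]
      exact R.mul_mem (hαs x) (hinv α hα _ (by push_cast; exact hβs x))
    · show ((α (β x) : P) : Ω) = r * s * x * (r * s)⁻¹
      rw [hαr _ (hinv β hβ x hx), hβs' x hx]
      group
  inv_mem' := by
    rintro α ⟨hα, hαs, r, hr, hαr⟩
    refine ⟨A.inv_mem hα, fun x => ?_, r⁻¹, R.inv_mem hr, fun x hx => ?_⟩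
    · have h1 := hαs (α⁻¹ x)
      have h2 : α (α⁻¹ x) = x := MulEquiv.apply_symm_apply α x
      rw [h2] at h1
      have h3 : (x : Ω)⁻¹ * ((α⁻¹ x : P) : Ω) = (((α⁻¹ x : P) : Ω)⁻¹ * (x : Ω))⁻¹ := by group
      rw [h3]
      exact R.inv_mem h1
    · have hy : ((α⁻¹ x : P) : Ω) ∈ R := hinv α⁻¹ (A.inv_mem hα) x hx
      have h1 := hαr _ hy
      have h2 : α (α⁻¹ x) = x := MulEquiv.apply_symm_apply α x
      rw [h2] at h1
      rw [h1]
      group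

theorem mem_conjStabSub {P : Subgroup Ω} {A : Subgroup (MulAut P)} {R : Subgroup Ω}
    {hinv : ∀ α ∈ A, ∀ x : P, (x : Ω) ∈ R → ((α x : P) : Ω) ∈ R} {α : MulAut P} :
    α ∈ conjStabSub A R hinv ↔ α ∈ A ∧ (∀ x : P, (x : Ω)⁻¹ * ((α x : P) : Ω) ∈ R) ∧
      ∃ r ∈ R, ∀ x : P, (x : Ω) ∈ R → ((α x : P) : Ω) = r * x * r⁻¹ := Iff.rfl

theorem conjStabSub_le {P : Subgroup Ω} (A : Subgroup (MulAut P)) (R : Subgroup Ω)
    (hinv : ∀ α ∈ A, ∀ x : P, (x : Ω) ∈ R → ((α x : P) : Ω) ∈ R) : conjStabSub A R hinv ≤ A :=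
  fun _ h => h.1

theorem conjStabSub_isPGroup {P : Subgroup Ω} [Finite P] (p : ℕ) [Fact p.Prime] (hP : IsPGroup p P)
    (A : Subgroup (MulAut P)) (R : Subgroup Ω) (hR : IsPGroup p R)
    (hinv : ∀ α ∈ A, ∀ x : P, (x : Ω) ∈ R → ((α x : P) : Ω) ∈ R) :
    IsPGroup p (conjStabSub A R hinv) := by
  rintro ⟨α, hα, hαs, r, hr, hαr⟩
  obtain ⟨Rc, hRc⟩ : ∃ Rc : ℕ → Subgroup P, Rc = fun j => if j = 0 then R.subgroupOf P else ⊤ :=
    ⟨_, rfl⟩
  have hR0 : Rc 0 = R.subgroupOf P := by rw [hRc]; simp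
  have hRge : ∀ j, 1 ≤ j → Rc j = ⊤ := by
    intro j hj
    have : j ≠ 0 := by omega
    rw [hRc]; simp [this]
  have hpow : ∀ n : ℕ, ∀ x : P, (x : Ω) ∈ R →
      (((α ^ n) x : P) : Ω) = r ^ n * x * (r ^ n)⁻¹ := by
    intro n
    induction n with
    | zero => intro x _; simp
    | succ n ih =>
      intro x hx
      rw [pow_succ]
      show (((α ^ n) (α x) : P) : Ω) = _
      rw [ih _ (hinv α hα x hx), hαr x hx, pow_succ]
      group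
  obtain ⟨k, hk⟩ := hR ⟨r, hr⟩
  have hk' : r ^ p ^ k = 1 := by
    have := congrArg Subtype.val hk
    simpa using this
  obtain ⟨k', hk'⟩ := aut_pow_eq_one_of_stabilizes p hP α Rc 1 (hRge 1 le_rfl)
    ⟨k, fun x hx => by
      rw [hR0] at hx
      apply Subtype.ext
      rw [hpow _ x (Subgroup.mem_subgroupOf.mp hx), hk']
      simp⟩
    (fun j x hx => by
      rcases Nat.eq_zero_or_pos j with rfl | hj
      · rw [hR0] at hx ⊢
        exact Subgroup.mem_subgroupOf.mpr (hinv α hα x (Subgroup.mem_subgroupOf.mp hx))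
      · rw [hRge j hj]; exact Subgroup.mem_top _)
    (fun j x _ => by
      rcases Nat.eq_zero_or_pos j with rfl | hj
      · rw [hR0, Subgroup.mem_subgroupOf]
        push_cast
        exact hαs x
      · rw [hRge j hj]; exact Subgroup.mem_top _)
  exact ⟨k', Subtype.ext hk'⟩

/-- If every element of `A` extends (from `P ∩ R`) to an endomorphism of `R`, then
`conjStabSub A R` is normal in `A`. -/
theorem conjStabSub_normal {P : Subgroup Ω} (A : Subgroup (MulAut P)) (R : Subgroup Ω)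
    (hinv : ∀ α ∈ A, ∀ x : P, (x : Ω) ∈ R → ((α x : P) : Ω) ∈ R)
    (hext : ∀ γ ∈ A, ∃ γ' : R →* R, ∀ (x : P) (hx : (x : Ω) ∈ R),
      ((γ' ⟨(x : Ω), hx⟩ : R) : Ω) = ((γ x : P) : Ω)) :
    ((conjStabSub A R hinv).subgroupOf A).Normal := by
  constructor
  intro α hα γ
  rw [Subgroup.mem_subgroupOf] at hα ⊢
  obtain ⟨hαA, hαs, r, hr, hαr⟩ := hα
  obtain ⟨γ', hγ'⟩ := hext γ γ.2
  refine ⟨(γ * α * γ⁻¹).2, fun x => ?_, ((γ' ⟨r, hr⟩ : R) : Ω), (γ' ⟨r, hr⟩).2, fun x hx => ?_⟩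
  · show (x : Ω)⁻¹ * (((γ : MulAut P) ((α : MulAut P) ((γ : MulAut P)⁻¹ x)) : P) : Ω) ∈ R
    have h1 := hαs ((γ : MulAut P)⁻¹ x)
    have h1' : (((((γ : MulAut P)⁻¹ x)⁻¹ * (α : MulAut P) ((γ : MulAut P)⁻¹ x) : P)) : Ω) ∈ R := by
      push_cast
      exact h1
    have h2 := hinv _ γ.2 _ h1'
    rw [map_mul, map_inv] at h2
    have h3 : (γ : MulAut P) ((γ : MulAut P)⁻¹ x) = x := MulEquiv.apply_symm_apply _ x
    rw [h3] at h2
    push_cast at h2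
    exact h2
  · show (((γ : MulAut P) ((α : MulAut P) ((γ : MulAut P)⁻¹ x)) : P) : Ω) = _
    have hy : ((((γ : MulAut P)⁻¹ x : P)) : Ω) ∈ R := hinv _ (A.inv_mem γ.2) x hx
    have h1 := hαr _ hy
    have hz : ((((α : MulAut P) ((γ : MulAut P)⁻¹ x) : P)) : Ω) ∈ R := hinv _ hαA _ hy
    rw [← hγ' _ hz]
    have h2 : (⟨((((α : MulAut P) ((γ : MulAut P)⁻¹ x) : P)) : Ω), hz⟩ : R) =
        ⟨r, hr⟩ * ⟨_, hy⟩ * (⟨r, hr⟩ : R)⁻¹ := Subtype.ext h1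
    rw [h2, map_mul, map_mul, map_inv]
    push_cast
    rw [hγ' _ hy]
    have h3 : (γ : MulAut P) ((γ : MulAut P)⁻¹ x) = x := MulEquiv.apply_symm_apply _ x
    rw [h3]

end Cfsg.Agent.Lib.Helper9
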