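import Mathlib.GroupTheory.OrderOfElement
import Mathlib.Algebra.Group.End
import Mathlib.Algebra.BigOperators.Group.Finset.Basic
import Mathlib.GroupTheory.PGroup

set_option autoImplicit false

namespace Cfsg.Agent.Lib.Helper9

open scoped BigOperators

/-- Coprime action on a finite abelian group: `G = C_G(A) × [G, A]`. -/
theorem coprime_abelian_decomp {G : Type*} [CommGroup G] [Finite G] (A : Subgroup (MulAut G))
    (hcop : (Nat.card G).Coprime (Nat.card A)) (C K : Subgroup G)
    (hC : ∀ x, x ∈ C ↔ ∀ α ∈ A, α x = x)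
    (hK : K = Subgroup.closure {y | ∃ (x : G) (α : MulAut G), α ∈ A ∧ y = x⁻¹ * α x}) :
    C ⊓ K = ⊥ ∧ C ⊔ K = ⊤ := by
  classical
  haveI : Finite (MulAut G) := inferInstance
  haveI : Fintype A := Fintype.ofFinite A
  -- the norm map
  let N : G →* G :=
    { toFun := fun x => ∏ α : A, (α : MulAut G) x
      map_one' := by simp
      map_mul' := fun x y => by
        simp only [map_mul]
        exact Finset.prod_mul_distrib }
  have hNdef : ∀ x, N x = ∏ α : A, (α : MulAut G) x := fun x => rfl
  have hcard : Fintype.card A = Nat.card A := (Nat.card_eq_fintype_card).symm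
  have hNC : ∀ x, N x ∈ C := by
    intro x
    rw [hC]
    intro β hβ
    rw [hNdef, map_prod]
    have := Equiv.prod_comp (Equiv.mulLeft (⟨β, hβ⟩ : A)) (fun α : A => (α : MulAut G) x)
    rw [← this]
    rfl
  have hNfix : ∀ y ∈ C, N y = y ^ Nat.card A := by
    intro y hy
    rw [hNdef]
    have : ∀ α : A, (α : MulAut G) y = y := fun α => (hC y).mp hy α α.2
    simp only [this, Finset.prod_const, Finset.card_univ, hcard]
  have hNK : ∀ y ∈ K, N y = 1 := by
    intro y hy
    rw [hK] at hy
    induction hy using Subgroup.closure_induction with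
    | mem y hy =>
      obtain ⟨x, β, hβ, rfl⟩ := hy
      rw [map_mul, map_inv]
      have : N (β x) = N x := by
        rw [hNdef, hNdef]
        have := Equiv.prod_comp (Equiv.mulRight (⟨β, hβ⟩ : A)) (fun α : A => (α : MulAut G) x)
        rw [← this]
        rfl
      rw [this, inv_mul_cancel]
    | one => exact map_one N
    | mul a b _ _ ha hb => rw [map_mul, ha, hb, one_mul]
    | inv a _ ha => rw [map_inv, ha, inv_one]
  have hpowinj : ∀ y : G, y ^ Nat.card A = 1 → y = 1 := by
    intro y hy
    have := (powCoprime hcop).injective (a₁ := y) (a₂ := 1)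
    apply this
    show y ^ Nat.card A = 1 ^ Nat.card A
    rw [hy, one_pow]
  constructor
  · rw [eq_bot_iff]
    intro y hy
    obtain ⟨hyC, hyK⟩ := Subgroup.mem_inf.mp hy
    rw [Subgroup.mem_bot]
    apply hpowinj
    rw [← hNfix y hyC, hNK y hyK]
  · rw [eq_top_iff]
    intro x _
    obtain ⟨y, hy⟩ := (powCoprime hcop).surjective x
    have hy' : y ^ Nat.card A = x := hy
    rw [← hy']
    have h1 : y ^ Nat.card A = N y * ∏ α : A, (((α : MulAut G) y)⁻¹ * y) := by
      rw [hNdef, ← Finset.prod_mul_distrib]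
      simp only [mul_inv_cancel_left, Finset.prod_const, Finset.card_univ, hcard]
    rw [h1]
    refine Subgroup.mul_mem _ ((le_sup_left : C ≤ C ⊔ K) (hNC y)) ((le_sup_right : K ≤ C ⊔ K) ?_)
    apply Subgroup.prod_mem
    intro α _
    have : ((α : MulAut G) y)⁻¹ * y = (y⁻¹ * (α : MulAut G) y)⁻¹ := by
      rw [mul_inv_rev, inv_inv]
    rw [this]
    apply Subgroup.inv_mem
    rw [hK]
    exact Subgroup.subset_closure ⟨y, α, α.2, rfl⟩

end Cfsg.Agent.Lib.Helper9

namespace Cfsg.Agent.Lib.Helper9

/-- Version of `coprime_abelian_decomp` for a group with a commutativity hypothesis. -/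
theorem coprime_abelian_decomp' {G : Type*} [Group G] [Finite G] (hcomm : ∀ x y : G, x * y = y * x)
    (A : Subgroup (MulAut G))
    (hcop : (Nat.card G).Coprime (Nat.card A)) (C K : Subgroup G)
    (hC : ∀ x, x ∈ C ↔ ∀ α ∈ A, α x = x)
    (hK : K = Subgroup.closure {y | ∃ (x : G) (α : MulAut G), α ∈ A ∧ y = x⁻¹ * α x}) :
    C ⊓ K = ⊥ ∧ C ⊔ K = ⊤ := by
  letI : CommGroup G := { ‹Group G› with mul_comm := hcomm }
  exact coprime_abelian_decomp A hcop C K hC hK

end Cfsg.Agent.Lib.Helper9
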