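import Mathlib

set_option autoImplicit false

namespace Cfsg.Agent.Lib.Helper9.CoxA3

open scoped Pointwise

variable {Γ : Type*} [Group Γ] [DecidableEq Γ]

/-- the relations of the Coxeter group of type `A₃` -/
structure Rel (x y z : Γ) : Prop where
  hx : x * x = 1
  hy : y * y = 1
  hz : z * z = 1
  hzx : z * x = x * z
  hxy : y * (x * y) = x * (y * x)
  hyz : z * (y * z) = y * (z * y)

variable (x y z : Γ)

def A1 : Finset Γ := {1, x}
def U : Finset Γ := {1, y, y * x}
def V : Finset Γ := {1, z, z * y, z * y * x}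
def A2 : Finset Γ := A1 x * U x y
def T : Finset Γ := A2 x y * V x y z

variable {x y z}

theorem one_mem_A1 : (1 : Γ) ∈ A1 x := by simp [A1]
theorem x_mem_A1 : x ∈ A1 x := by simp [A1]
theorem one_mem_U : (1 : Γ) ∈ U x y := by simp [U]
theorem y_mem_U : y ∈ U x y := by simp [U]
theorem yx_mem_U : y * x ∈ U x y := by simp [U]
theorem one_mem_V : (1 : Γ) ∈ V x y z := by simp [V]
theorem z_mem_V : z ∈ V x y z := by simp [V]
theorem zy_mem_V : z * y ∈ V x y z := by simp [V]
theorem zyx_mem_V : z * y * x ∈ V x y z := by simp [V]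

theorem L1 (h : Rel x y z) : ∀ k ∈ A1 x, k * x ∈ A1 x := by
  intro k hk
  simp only [A1, Finset.mem_insert, Finset.mem_singleton] at hk
  rcases hk with rfl | rfl
  · rw [one_mul]; exact x_mem_A1
  · rw [h.hx]; exact one_mem_A1

theorem L2 (h : Rel x y z) : ∀ m ∈ A2 x y, m * x ∈ A2 x y ∧ m * y ∈ A2 x y := by
  intro m hm
  obtain ⟨k, hk, u, hu, rfl⟩ := Finset.mem_mul.1 hm
  have hx' : ∀ t, x * (x * t) = t := fun t => by rw [← mul_assoc, h.hx, one_mul]
  have hy' : ∀ t, y * (y * t) = t := fun t => by rw [← mul_assoc, h.hy, one_mul]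
  simp only [U, Finset.mem_insert, Finset.mem_singleton] at hu
  rcases hu with hu | hu | hu <;> rw [hu]
  · constructor
    · have : k * 1 * x = (k * x) * 1 := by simp only [mul_one]
      rw [this]; exact Finset.mul_mem_mul (L1 h k hk) one_mem_U
    · have : k * 1 * y = k * y := by simp only [mul_one]
      rw [this]; exact Finset.mul_mem_mul hk y_mem_U
  · constructor
    · have : k * y * x = k * (y * x) := by simp only [mul_assoc]
      rw [this]; exact Finset.mul_mem_mul hk yx_mem_U
    · have : k * y * y = k * 1 := by simp only [mul_assoc, h.hy]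
      rw [this]; exact Finset.mul_mem_mul hk one_mem_U
  · constructor
    · have : k * (y * x) * x = k * y := by simp only [mul_assoc, h.hx, mul_one]
      rw [this]; exact Finset.mul_mem_mul hk y_mem_U
    · have : k * (y * x) * y = (k * x) * (y * x) := by simp only [mul_assoc, h.hxy]
      rw [this]; exact Finset.mul_mem_mul (L1 h k hk) yx_mem_U

theorem L3 (h : Rel x y z) : ∀ n ∈ T x y z, n * x ∈ T x y z ∧ n * y ∈ T x y z ∧ n * z ∈ T x y z := by
  intro n hn
  obtain ⟨m, hm, v, hv, rfl⟩ := Finset.mem_mul.1 hn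
  have hmx := (L2 h m hm).1
  have hmy := (L2 h m hm).2
  have hzx' : ∀ t, z * (x * t) = x * (z * t) := fun t => by rw [← mul_assoc, h.hzx, mul_assoc]
  have hxy' : ∀ t, y * (x * (y * t)) = x * (y * (x * t)) := fun t => by
    rw [← mul_assoc x, ← mul_assoc y, h.hxy]; simp only [mul_assoc]
  have hyz' : ∀ t, z * (y * (z * t)) = y * (z * (y * t)) := fun t => by
    rw [← mul_assoc y, ← mul_assoc z, h.hyz]; simp only [mul_assoc]
  simp only [V, Finset.mem_insert, Finset.mem_singleton] at hv
  rcases hv with hv | hv | hv | hv <;> rw [hv]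
  · refine ⟨?_, ?_, ?_⟩
    · have : m * 1 * x = (m * x) * 1 := by simp only [mul_one]
      rw [this]; exact Finset.mul_mem_mul hmx one_mem_V
    · have : m * 1 * y = (m * y) * 1 := by simp only [mul_one]
      rw [this]; exact Finset.mul_mem_mul hmy one_mem_V
    · have : m * 1 * z = m * z := by simp only [mul_one]
      rw [this]; exact Finset.mul_mem_mul hm z_mem_V
  · refine ⟨?_, ?_, ?_⟩
    · have : m * z * x = (m * x) * z := by simp only [mul_assoc, h.hzx]
      rw [this]; exact Finset.mul_mem_mul hmx z_mem_V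
    · have : m * z * y = m * (z * y) := by simp only [mul_assoc]
      rw [this]; exact Finset.mul_mem_mul hm zy_mem_V
    · have : m * z * z = m * 1 := by simp only [mul_assoc, h.hz]
      rw [this]; exact Finset.mul_mem_mul hm one_mem_V
  · refine ⟨?_, ?_, ?_⟩
    · have : m * (z * y) * x = m * (z * y * x) := by simp only [mul_assoc]
      rw [this]; exact Finset.mul_mem_mul hm zyx_mem_V
    · have : m * (z * y) * y = m * z := by simp only [mul_assoc, h.hy, mul_one]
      rw [this]; exact Finset.mul_mem_mul hm z_mem_V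
    · have : m * (z * y) * z = (m * y) * (z * y) := by simp only [mul_assoc, h.hyz]
      rw [this]; exact Finset.mul_mem_mul hmy zy_mem_V
  · refine ⟨?_, ?_, ?_⟩
    · have : m * (z * y * x) * x = m * (z * y) := by simp only [mul_assoc, h.hx, mul_one]
      rw [this]; exact Finset.mul_mem_mul hm zy_mem_V
    · have : m * (z * y * x) * y = (m * x) * (z * y * x) := by
        simp only [mul_assoc, h.hxy, hzx']
      rw [this]; exact Finset.mul_mem_mul hmx zyx_mem_V
    · have : m * (z * y * x) * z = (m * y) * (z * y * x) := by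
        have e1 : x * z = z * x := h.hzx.symm
        simp only [mul_assoc, e1, hyz']
      rw [this]; exact Finset.mul_mem_mul hmy zyx_mem_V

theorem one_mem_T : (1 : Γ) ∈ T x y z := by
  have : (1 : Γ) = (1 * 1) * 1 := by simp
  rw [this]
  exact Finset.mul_mem_mul (Finset.mul_mem_mul one_mem_A1 one_mem_U) one_mem_V

theorem card_T_le : (T x y z).card ≤ 24 := by
  have h1 : (A1 x).card ≤ 2 := Finset.card_le_two
  have h2 : (U x y).card ≤ 3 := Finset.card_le_three
  have h3 : (V x y z).card ≤ 4 := Finset.card_le_four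
  have h4 : (A2 x y).card ≤ 6 := by
    calc (A2 x y).card ≤ (A1 x).card * (U x y).card := Finset.card_mul_le
      _ ≤ 2 * 3 := Nat.mul_le_mul h1 h2
  calc (T x y z).card ≤ (A2 x y).card * (V x y z).card := Finset.card_mul_le
    _ ≤ 6 * 4 := Nat.mul_le_mul h4 h3

theorem closure_subset_T (h : Rel x y z) :
    ∀ g ∈ Subgroup.closure ({x, y, z} : Set Γ), g ∈ T x y z := by
  intro g hg
  have hxi : x⁻¹ = x := by rw [inv_eq_iff_mul_eq_one]; exact h.hx
  have hyi : y⁻¹ = y := by rw [inv_eq_iff_mul_eq_one]; exact h.hy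
  have hzi : z⁻¹ = z := by rw [inv_eq_iff_mul_eq_one]; exact h.hz
  induction hg using Subgroup.closure_induction_right with
  | one => exact one_mem_T
  | mul_right g hg s hs ih =>
    simp only [Set.mem_insert_iff, Set.mem_singleton_iff] at hs
    rcases hs with rfl | rfl | rfl
    · exact (L3 h g ih).1
    · exact (L3 h g ih).2.1
    · exact (L3 h g ih).2.2
  | mul_inv_cancel g hg s hs ih =>
    simp only [Set.mem_insert_iff, Set.mem_singleton_iff] at hs
    rcases hs with rfl | rfl | rfl
    · rw [hxi]; exact (L3 h g ih).1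
    · rw [hyi]; exact (L3 h g ih).2.1
    · rw [hzi]; exact (L3 h g ih).2.2

theorem card_closure_le (h : Rel x y z) :
    Nat.card (Subgroup.closure ({x, y, z} : Set Γ)) ≤ 24 := by
  have hsub : ((Subgroup.closure ({x, y, z} : Set Γ) : Subgroup Γ) : Set Γ) ⊆ ↑(T x y z) :=
    fun g hg => closure_subset_T h g hg
  calc Nat.card (Subgroup.closure ({x, y, z} : Set Γ))
      = ((Subgroup.closure ({x, y, z} : Set Γ) : Subgroup Γ) : Set Γ).ncard := rfl
    _ ≤ (↑(T x y z) : Set Γ).ncard := Set.ncard_le_ncard hsub (Finset.finite_toSet _)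
    _ = (T x y z).card := Set.ncard_coe_finset _
    _ ≤ 24 := card_T_le

theorem finite_closure (h : Rel x y z) :
    Finite (Subgroup.closure ({x, y, z} : Set Γ)) := by
  have hsub : ((Subgroup.closure ({x, y, z} : Set Γ) : Subgroup Γ) : Set Γ) ⊆ ↑(T x y z) :=
    fun g hg => closure_subset_T h g hg
  exact ((Finset.finite_toSet _).subset hsub).to_subtype

end Cfsg.Agent.Lib.Helper9.CoxA3
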