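import Mathlib
import Cfsg.Agent.Lib.Helper9.CoxA3

set_option autoImplicit false

namespace Cfsg.Agent.Lib.Helper9.CoxA3

open Equiv

variable {G : Type*} [Group G]

theorem perm_rel : Rel (swap 0 1 : Perm (Fin 4)) (swap 1 2) (swap 2 3) := by
  constructor <;> decide

theorem closure_swaps :
    Subgroup.closure ({swap 0 1, swap 1 2, swap 2 3} : Set (Perm (Fin 4))) = ⊤ := by
  apply Subgroup.closure_eq_top_of_mclosure_eq_top
  rw [eq_top_iff, ← Equiv.Perm.mclosure_swap_castSucc_succ 3]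
  apply Submonoid.closure_mono
  rintro _ ⟨i, rfl⟩
  fin_cases i
  · left; rfl
  · right; left; rfl
  · right; right; rfl

set_option maxRecDepth 100000 in
theorem normal_closure_fact : ∀ σ : Perm (Fin 4), σ ≠ 1 →
    ∃ g k : Perm (Fin 4), g * σ * g⁻¹ * (k * σ * k⁻¹) = swap 0 1 * swap 2 3 := by
  decide +kernel

theorem braid_of_pow_three {a b : G} (ha : a * a = 1) (hb : b * b = 1) (h : (a * b) ^ 3 = 1) :
    b * (a * b) = a * (b * a) := by
  have hai : a⁻¹ = a := by rw [inv_eq_iff_mul_eq_one]; exact ha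
  have hbi : b⁻¹ = b := by rw [inv_eq_iff_mul_eq_one]; exact hb
  have h3 : (a * b * a) * (b * a * b) = 1 := by
    rw [← h, pow_succ, pow_succ, pow_one]; simp only [mul_assoc]
  have h4 : b * a * b = (a * b * a)⁻¹ := eq_inv_of_mul_eq_one_right h3
  rw [mul_inv_rev, mul_inv_rev, hai, hbi] at h4
  rw [← mul_assoc, h4]

theorem commute_of_sq {a b : G} (ha : a * a = 1) (hb : b * b = 1) (h : (a * b) ^ 2 = 1) :
    Commute a b := by
  have hai : a⁻¹ = a := by rw [inv_eq_iff_mul_eq_one]; exact ha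
  have hbi : b⁻¹ = b := by rw [inv_eq_iff_mul_eq_one]; exact hb
  rw [pow_two] at h
  have h4 : a * b = (a * b)⁻¹ := eq_inv_of_mul_eq_one_right h
  rw [mul_inv_rev, hai, hbi] at h4
  exact h4

theorem exists_hom {a b c : G} (h : Rel a b c) (hac : a ≠ c) :
    ∃ φ : Perm (Fin 4) →* G, Function.Injective φ ∧ φ (swap 0 1) = a ∧
      φ (swap 1 2) = b ∧ φ (swap 2 3) = c := by
  classical
  have hp := perm_rel
  have hrel : Rel ((swap 0 1, a) : Perm (Fin 4) × G) (swap 1 2, b) (swap 2 3, c) := by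
    constructor
    · exact Prod.ext hp.hx h.hx
    · exact Prod.ext hp.hy h.hy
    · exact Prod.ext hp.hz h.hz
    · exact Prod.ext hp.hzx h.hzx
    · exact Prod.ext hp.hxy h.hxy
    · exact Prod.ext hp.hyz h.hyz
  let Γ : Subgroup (Perm (Fin 4) × G) := Subgroup.closure
    ({((swap 0 1, a) : Perm (Fin 4) × G), (swap 1 2, b), (swap 2 3, c)} : Set (Perm (Fin 4) × G))
  haveI : Finite Γ := finite_closure hrel
  have hcard : Nat.card Γ ≤ 24 := card_closure_le hrel
  have hX : ((swap 0 1, a) : Perm (Fin 4) × G) ∈ Γ := Subgroup.subset_closure (by simp)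
  have hY : ((swap 1 2, b) : Perm (Fin 4) × G) ∈ Γ := Subgroup.subset_closure (by simp)
  have hZ : ((swap 2 3, c) : Perm (Fin 4) × G) ∈ Γ := Subgroup.subset_closure (by simp)
  let π₁ : Γ →* Perm (Fin 4) := (MonoidHom.fst _ _).comp Γ.subtype
  let π₂ : Γ →* G := (MonoidHom.snd _ _).comp Γ.subtype
  have hsurj : Function.Surjective π₁ := by
    rw [← MonoidHom.range_eq_top, eq_top_iff, ← closure_swaps, Subgroup.closure_le]
    intro σ hσ
    simp only [Set.mem_insert_iff, Set.mem_singleton_iff] at hσ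
    rcases hσ with rfl | rfl | rfl
    · exact ⟨⟨_, hX⟩, rfl⟩
    · exact ⟨⟨_, hY⟩, rfl⟩
    · exact ⟨⟨_, hZ⟩, rfl⟩
  have hbij : Function.Bijective π₁ := by
    rw [Nat.bijective_iff_surjective_and_card]
    refine ⟨hsurj, le_antisymm ?_ (Nat.card_le_card_of_surjective π₁ hsurj)⟩
    have : Nat.card (Perm (Fin 4)) = 24 := by
      rw [Nat.card_perm, Nat.card_eq_fintype_card, Fintype.card_fin]; rfl
    rw [this]
    exact hcard
  let e : Γ ≃* Perm (Fin 4) := MulEquiv.ofBijective π₁ hbij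
  let φ : Perm (Fin 4) →* G := π₂.comp e.symm.toMonoidHom
  have hφ1 : φ (swap 0 1) = a := by
    have h1 : e.symm (swap 0 1) = ⟨_, hX⟩ := by
      rw [MulEquiv.symm_apply_eq]; rfl
    show π₂ (e.symm (swap 0 1)) = a
    rw [h1]; rfl
  have hφ2 : φ (swap 1 2) = b := by
    have h1 : e.symm (swap 1 2) = ⟨_, hY⟩ := by
      rw [MulEquiv.symm_apply_eq]; rfl
    show π₂ (e.symm (swap 1 2)) = b
    rw [h1]; rfl
  have hφ3 : φ (swap 2 3) = c := by
    have h1 : e.symm (swap 2 3) = ⟨_, hZ⟩ := by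
      rw [MulEquiv.symm_apply_eq]; rfl
    show π₂ (e.symm (swap 2 3)) = c
    rw [h1]; rfl
  refine ⟨φ, ?_, hφ1, hφ2, hφ3⟩
  rw [injective_iff_map_eq_one]
  intro σ hσ
  by_contra hne
  obtain ⟨g, k, hgk⟩ := normal_closure_fact σ hne
  have h1 : φ (swap 0 1 * swap 2 3) = 1 := by
    rw [← hgk]
    simp only [map_mul, map_inv, hσ, mul_one, mul_inv_cancel]
  rw [map_mul, hφ1, hφ3] at h1
  apply hac
  have hci : c⁻¹ = c := by rw [inv_eq_iff_mul_eq_one]; exact h.hz
  rw [← hci]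
  exact eq_inv_of_mul_eq_one_left h1

end Cfsg.Agent.Lib.Helper9.CoxA3
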