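import Mathlib

set_option autoImplicit false

namespace Cfsg.Agent.Lib.Helper9

/-- A power `g ^ k` of `p'`-order with `k ≡ 1` modulo a given number prime to `p`. -/
theorem exists_pow_coprime_modEq {G : Type*} [Group G] [Finite G] (p : ℕ) [hp : Fact p.Prime]
    (g : G) (n : ℕ) (hn : n.Coprime p) :
    ∃ k : ℕ, k ≡ 1 [MOD n] ∧ (orderOf (g ^ k)).Coprime p := by
  have hm0 : orderOf g ≠ 0 := (orderOf_pos g).ne'
  have hp1 : p ≠ 1 := hp.out.one_lt.ne'
  obtain ⟨a, j, hj, hm⟩ := Nat.exists_eq_pow_mul_and_not_dvd hm0 p hp1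
  have hjp : Nat.Coprime j p := ((Nat.Prime.coprime_iff_not_dvd hp.out).mpr hj).symm
  have hcop : Nat.Coprime (p ^ a) n := (Nat.Coprime.pow_right a hn).symm
  have hn0 : n ≠ 0 := by
    intro h0
    rw [h0] at hn
    exact hp1 ((Nat.coprime_zero_left p).mp hn)
  obtain ⟨c, -, hc⟩ := Nat.exists_mul_mod_eq_of_coprime 1 hcop hn0
  refine ⟨p ^ a * c, hc, ?_⟩
  have hk : (g ^ (p ^ a * c)) ^ j = 1 := by
    rw [← pow_mul]
    have : p ^ a * c * j = orderOf g * c := by rw [hm]; ring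
    rw [this, pow_mul, pow_orderOf_eq_one, one_pow]
  exact Nat.Coprime.coprime_dvd_left (orderOf_dvd_of_pow_eq_one hk) hjp

theorem pow_eq_self_of_modEq {H : Type*} [Group H] (ρ : H) {n k : ℕ} (hρ : ρ ^ n = 1)
    (hk : k ≡ 1 [MOD n]) : ρ ^ k = ρ := by
  have h1 : k ≡ 1 [MOD orderOf ρ] := Nat.ModEq.of_dvd (orderOf_dvd_of_pow_eq_one hρ) hk
  have := pow_eq_pow_iff_modEq.mpr h1
  rw [this, pow_one]

end Cfsg.Agent.Lib.Helper9
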