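import Mathlib
import Cfsg.Agent.Lib.Helper9.CoprimeAbelian
import Cfsg.Agent.Lib.Helper9.PowTrick

set_option autoImplicit false

namespace Cfsg.Agent.Lib.Helper9

/-- Variant of the chain-stabilizer lemma: pointwise fixing of each term of the chain. -/
theorem aut_pow_fix_of_stabilizes {P : Type*} [Group P] [Finite P] (p : ℕ) [hp : Fact p.Prime]
    (hP : IsPGroup p P) (α : MulAut P) (R : ℕ → Subgroup P)
    (h0 : ∃ k, ∀ x ∈ R 0, (α ^ p ^ k) x = x)
    (hinv : ∀ j, ∀ x ∈ R j, α x ∈ R j)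
    (hstab : ∀ j, ∀ x ∈ R (j + 1), x⁻¹ * α x ∈ R j) :
    ∀ j, ∃ k, ∀ x ∈ R j, (α ^ p ^ k) x = x := by
  have hpow_inv : ∀ n j, ∀ x ∈ R j, (α ^ n) x ∈ R j := by
    intro n
    induction n with
    | zero => intro j x hx; simpa using hx
    | succ n ih =>
      intro j x hx
      rw [pow_succ]
      show (α ^ n) (α x) ∈ R j
      exact ih j _ (hinv j x hx)
  have hpow_stab : ∀ n j, ∀ x ∈ R (j + 1), x⁻¹ * (α ^ n) x ∈ R j := by
    intro n
    induction n with
    | zero => intro j x _; simp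
    | succ n ih =>
      intro j x hx
      rw [pow_succ]
      show x⁻¹ * (α ^ n) (α x) ∈ R j
      have h1 : α x = x * (x⁻¹ * α x) := by group
      rw [h1, map_mul, ← mul_assoc]
      exact (R j).mul_mem (ih j x hx) (hpow_inv n j _ (hstab j x hx))
  obtain ⟨e, he⟩ := hP.exists_card_eq
  intro j
  induction j with
  | zero => exact h0
  | succ j ih =>
    obtain ⟨k, hk⟩ := ih
    refine ⟨k + e, ?_⟩
    intro x hx
    have hz := hpow_stab (p ^ k) j x hx
    have hβz := hk _ hz
    have hβx : (α ^ p ^ k) x = x * (x⁻¹ * (α ^ p ^ k) x) := by group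
    have hiter : ∀ n : ℕ, ((α ^ p ^ k) ^ n) x = x * (x⁻¹ * (α ^ p ^ k) x) ^ n := by
      intro n
      induction n with
      | zero => simp
      | succ n ihn =>
        rw [pow_succ]
        show ((α ^ p ^ k) ^ n) ((α ^ p ^ k) x) = _
        rw [hβx, map_mul, ihn]
        have hfix : ((α ^ p ^ k) ^ n) (x⁻¹ * (α ^ p ^ k) x) = x⁻¹ * (α ^ p ^ k) x := by
          clear ihn
          induction n with
          | zero => simp
          | succ n ihn' =>
            rw [pow_succ]
            show ((α ^ p ^ k) ^ n) ((α ^ p ^ k) (x⁻¹ * (α ^ p ^ k) x)) = _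
            rw [hβz, ihn']
        rw [hfix, pow_succ]
        group
    have h2 := hiter (p ^ e)
    rw [← pow_mul, ← pow_add] at h2
    rw [h2, ← he, pow_card_eq_one', mul_one]

theorem zmod_two_mul_eq_zero {a : ℕ} (ha : 1 ≤ a) (x : ZMod (2 ^ a)) (h : 2 * x = 0) :
    x = 0 ∨ x = 2 ^ (a - 1) := by
  haveI : NeZero (2 ^ a) := ⟨by positivity⟩
  have hv := ZMod.val_lt x
  have h1 : ((2 * x.val : ℕ) : ZMod (2 ^ a)) = 0 := by
    push_cast
    rw [ZMod.natCast_zmod_val]
    exact h
  rw [ZMod.natCast_eq_zero_iff] at h1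
  obtain ⟨c, hc⟩ := h1
  have h2 : 2 ^ a = 2 * 2 ^ (a - 1) := by
    rw [← pow_succ']
    congr 1
    omega
  have hv' : x.val < 2 * 2 ^ (a - 1) := lt_of_lt_of_eq hv h2
  have h3 : x.val = 2 ^ (a - 1) * c := by
    have : 2 * x.val = 2 * (2 ^ (a - 1) * c) := by rw [hc, h2]; ring
    exact Nat.eq_of_mul_eq_mul_left (by norm_num) this
  have hpos : 0 < 2 ^ (a - 1) := by positivity
  have hc2 : c < 2 := by
    by_contra hcc
    push_neg at hcc
    have : 2 ^ (a - 1) * 2 ≤ 2 ^ (a - 1) * c := Nat.mul_le_mul_left _ hcc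
    omega
  have hx : x = ((x.val : ℕ) : ZMod (2 ^ a)) := (ZMod.natCast_zmod_val x).symm
  interval_cases c
  · left
    rw [hx, h3]
    simp
  · right
    rw [hx, h3]
    simp

theorem zmod_two_pow_eq_zero {a k : ℕ} (h : a ≤ k) : (2 : ZMod (2 ^ a)) ^ k = 0 := by
  have h1 : k = a + (k - a) := by omega
  rw [h1, pow_add]
  have : (2 : ZMod (2 ^ a)) ^ a = ((2 ^ a : ℕ) : ZMod (2 ^ a)) := by push_cast; rfl
  rw [this, ZMod.natCast_self, zero_mul]

section

variable {n : ℕ} (a : Fin n → ℕ) {G : Type*} [Group G]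
  (e : G ≃* Multiplicative ((i : Fin n) → ZMod (2 ^ a i)))

/-- Coordinates of an element. -/
def coord (g : G) (i : Fin n) : ZMod (2 ^ a i) := Multiplicative.toAdd (e g) i

theorem coord_mul (g h : G) (i : Fin n) : coord a e (g * h) i = coord a e g i + coord a e h i := by
  simp [coord]

theorem coord_one (i : Fin n) : coord a e 1 i = 0 := by
  simp [coord]

theorem coord_inv (g : G) (i : Fin n) : coord a e g⁻¹ i = - coord a e g i := by
  simp [coord]

theorem coord_pow (g : G) (m : ℕ) (i : Fin n) :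
    coord a e (g ^ m) i = (m : ZMod (2 ^ a i)) * coord a e g i := by
  simp [coord]

theorem coord_ext {g h : G} (hc : ∀ i, coord a e g i = coord a e h i) : g = h := by
  apply e.injective
  apply Multiplicative.toAdd.injective
  funext i
  exact hc i

theorem coord_symm (y : (i : Fin n) → ZMod (2 ^ a i)) (i : Fin n) :
    coord a e (e.symm (Multiplicative.ofAdd y)) i = y i := by
  simp [coord]

include e in
theorem comm_of_equiv (g h : G) : g * h = h * g := by
  apply coord_ext a e
  intro i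
  rw [coord_mul, coord_mul, add_comm]

/-- The subgroup `Ω₁(G) ∩ G^(2^k)` in coordinates. -/
def flagSub (k : ℕ) : Subgroup G where
  carrier := {g | (∀ i, 2 * coord a e g i = 0) ∧ ∀ i, a i ≤ k → coord a e g i = 0}
  one_mem' := ⟨fun i => by rw [coord_one, mul_zero], fun i _ => coord_one a e i⟩
  mul_mem' := by
    rintro g h ⟨hg1, hg2⟩ ⟨hh1, hh2⟩
    refine ⟨fun i => ?_, fun i hi => ?_⟩
    · rw [coord_mul, mul_add, hg1, hh1, add_zero]
    · rw [coord_mul, hg2 i hi, hh2 i hi, add_zero]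
  inv_mem' := by
    rintro g ⟨hg1, hg2⟩
    refine ⟨fun i => ?_, fun i hi => ?_⟩
    · rw [coord_inv, mul_neg, hg1, neg_zero]
    · rw [coord_inv, hg2 i hi, neg_zero]

theorem mem_flagSub_iff (ha1 : ∀ i, 1 ≤ a i) (k : ℕ) (g : G) :
    g ∈ flagSub a e k ↔ g ^ 2 = 1 ∧ ∃ h : G, g = h ^ (2 ^ k) := by
  constructor
  · rintro ⟨hg1, hg2⟩
    constructor
    · apply coord_ext a e
      intro i
      rw [coord_pow, coord_one]
      exact_mod_cast hg1 i
    · classical
      refine ⟨e.symm (Multiplicative.ofAdd (fun i =>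
        if a i ≤ k then 0 else if coord a e g i = 0 then 0 else 2 ^ (a i - 1 - k))), ?_⟩
      apply coord_ext a e
      intro i
      rw [coord_pow, coord_symm]
      by_cases hi : a i ≤ k
      · rw [if_pos hi, mul_zero]
        exact hg2 i hi
      · rw [if_neg hi]
        by_cases h0 : coord a e g i = 0
        · rw [if_pos h0, mul_zero, h0]
        · rw [if_neg h0]
          rcases zmod_two_mul_eq_zero (ha1 i) _ (hg1 i) with h | h
          · exact absurd h h0
          · rw [h]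
            push_cast
            rw [← pow_add]
            congr 1
            omega
  · rintro ⟨hg2, h, rfl⟩
    refine ⟨fun i => ?_, fun i hi => ?_⟩
    · have := coord_pow a e (h ^ 2 ^ k) 2 i
      rw [hg2, coord_one] at this
      push_cast at this
      exact this.symm
    · rw [coord_pow]
      push_cast
      rw [zmod_two_pow_eq_zero hi, zero_mul]

theorem flagSub_aut (ha1 : ∀ i, 1 ≤ a i) (k : ℕ) (α : MulAut G) {g : G}
    (hg : g ∈ flagSub a e k) : α g ∈ flagSub a e k := by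
  rw [mem_flagSub_iff a e ha1] at hg ⊢
  obtain ⟨h2, h, rfl⟩ := hg
  refine ⟨?_, α h, map_pow α h _⟩
  rw [← map_pow, h2, map_one]

theorem flagSub_step (ha : StrictMono a) (ha1 : ∀ i, 1 ≤ a i) (k : ℕ) {x y : G}
    (hx : x ∈ flagSub a e k) (hy : y ∈ flagSub a e k) (hx' : x ∉ flagSub a e (k + 1))
    (hy' : y ∉ flagSub a e (k + 1)) : x⁻¹ * y ∈ flagSub a e (k + 1) := by
  have key : ∀ z : G, z ∈ flagSub a e k → z ∉ flagSub a e (k + 1) →
      ∃ i, a i = k + 1 ∧ coord a e z i = 2 ^ (a i - 1) := by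
    intro z hz hz'
    have : ¬ ∀ i, a i ≤ k + 1 → coord a e z i = 0 := fun h => hz' ⟨hz.1, h⟩
    push_neg at this
    obtain ⟨i, hi, hne⟩ := this
    have hik : ¬ a i ≤ k := fun h => hne (hz.2 i h)
    refine ⟨i, by omega, ?_⟩
    rcases zmod_two_mul_eq_zero (ha1 i) _ (hz.1 i) with h | h
    · exact absurd h hne
    · exact h
  obtain ⟨i₁, hi₁, hc₁⟩ := key x hx hx'
  obtain ⟨i₂, hi₂, hc₂⟩ := key y hy hy'
  have hii : i₁ = i₂ := ha.injective (hi₁.trans hi₂.symm)
  subst hii
  refine ⟨fun i => ?_, fun i hi => ?_⟩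
  · rw [coord_mul, coord_inv, mul_add, mul_neg, hx.1, hy.1, neg_zero, add_zero]
  · rw [coord_mul, coord_inv]
    by_cases hik : a i ≤ k
    · rw [hx.2 i hik, hy.2 i hik, neg_zero, add_zero]
    · have : a i = k + 1 := by omega
      have hii : i = i₁ := ha.injective (this.trans hi₁.symm)
      subst hii
      rw [hc₁, hc₂, neg_add_cancel]

end

theorem isPGroup_of_equiv {n : ℕ} (a : Fin n → ℕ) {G : Type*} [Group G]
    (e : G ≃* Multiplicative ((i : Fin n) → ZMod (2 ^ a i))) : IsPGroup 2 G := by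
  intro g
  refine ⟨Finset.univ.sup a, ?_⟩
  apply coord_ext a e
  intro i
  rw [coord_pow, coord_one]
  push_cast
  rw [zmod_two_pow_eq_zero (Finset.le_sup (Finset.mem_univ i)), zero_mul]

theorem pow_fix_of_fix {G : Type*} [Group G] (β : MulAut G) {x : G} (h : β x = x) (c : ℕ) :
    (β ^ c) x = x := by
  induction c with
  | zero => rfl
  | succ c ih =>
    rw [pow_succ]
    show (β ^ c) (β x) = x
    rw [h, ih]

/-- An odd-order automorphism of an abelian 2-group with pairwise distinct invariants is trivial. -/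
theorem odd_aut_eq_one {n : ℕ} (a : Fin n → ℕ) (ha : StrictMono a)
    (ha1 : ∀ i, 1 ≤ a i) {G : Type*} [Group G] [Finite G]
    (e : G ≃* Multiplicative ((i : Fin n) → ZMod (2 ^ a i))) (β : MulAut G)
    (hodd : Nat.Coprime (orderOf β) 2) : β = 1 := by
  have hcomm := comm_of_equiv a e
  have hG2 : IsPGroup 2 G := isPGroup_of_equiv a e
  have h0 : ∃ k, ∀ x ∈ flagSub a e (Finset.univ.sup a - 0), (β ^ 2 ^ k) x = x := by
    refine ⟨0, fun x hx => ?_⟩
    have : x = 1 := by
      apply coord_ext a e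
      intro i
      rw [coord_one]
      exact hx.2 i (by rw [Nat.sub_zero]; exact Finset.le_sup (Finset.mem_univ i))
    rw [this, map_one]
  have hinv : ∀ j, ∀ x ∈ flagSub a e (Finset.univ.sup a - j), β x ∈ flagSub a e (Finset.univ.sup a - j) :=
    fun j x hx => flagSub_aut a e ha1 _ β hx
  have hstab : ∀ j, ∀ x ∈ flagSub a e (Finset.univ.sup a - (j + 1)),
      x⁻¹ * β x ∈ flagSub a e (Finset.univ.sup a - j) := by
    intro j x hx
    by_cases hjm : j + 1 ≤ Finset.univ.sup a
    · have e1 : Finset.univ.sup a - j = (Finset.univ.sup a - (j + 1)) + 1 := by omega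
      rw [e1]
      by_cases hx1 : x ∈ flagSub a e (Finset.univ.sup a - (j + 1) + 1)
      · exact Subgroup.mul_mem _ (Subgroup.inv_mem _ hx1) (flagSub_aut a e ha1 _ β hx1)
      · have hβx1 : β x ∉ flagSub a e (Finset.univ.sup a - (j + 1) + 1) := by
          intro h
          have h2 := flagSub_aut a e ha1 _ β⁻¹ h
          have e0 : β⁻¹ (β x) = x := MulEquiv.symm_apply_apply _ _
          rw [e0] at h2
          exact hx1 h2
        exact flagSub_step a e ha ha1 _ hx (flagSub_aut a e ha1 _ β hx) hx1 hβx1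
    · have e1 : Finset.univ.sup a - (j + 1) = Finset.univ.sup a - j := by omega
      rw [e1] at hx
      exact Subgroup.mul_mem _ (Subgroup.inv_mem _ hx) (flagSub_aut a e ha1 _ β hx)
  obtain ⟨k, hk⟩ := aut_pow_fix_of_stabilizes 2 hG2 β
    (fun j => flagSub a e (Finset.univ.sup a - j)) h0 hinv hstab (Finset.univ.sup a)
  have hfix2 : ∀ x : G, x ^ 2 = 1 → β x = x := by
    intro x hx
    have hxR : x ∈ flagSub a e (Finset.univ.sup a - Finset.univ.sup a) := by
      rw [Nat.sub_self, mem_flagSub_iff a e ha1]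
      exact ⟨hx, x, by simp⟩
    have h1 := hk x hxR
    have hcop : Nat.Coprime (2 ^ k) (orderOf β) := Nat.Coprime.pow_left k hodd.symm
    obtain ⟨c, -, hc⟩ := Nat.exists_mul_mod_eq_of_coprime 1 hcop (orderOf_pos β).ne'
    have h2 : (β ^ 2 ^ k) ^ c = β := by
      rw [← pow_mul]
      exact pow_eq_self_of_modEq β (pow_orderOf_eq_one β) hc
    rw [← h2]
    exact pow_fix_of_fix _ h1 c
  have hcard : Nat.card (Subgroup.zpowers β) = orderOf β := Nat.card_zpowers β
  obtain ⟨N, hN⟩ := IsPGroup.iff_card.mp hG2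
  have hcop : (Nat.card G).Coprime (Nat.card (Subgroup.zpowers β)) := by
    rw [hN, hcard]
    exact Nat.Coprime.pow_left N hodd.symm
  obtain ⟨C, hCdef⟩ : ∃ C : Subgroup G, ∀ x, x ∈ C ↔ β x = x :=
    ⟨{ carrier := {x | β x = x}
       one_mem' := map_one β
       mul_mem' := by
         intro x y hx hy
         show β (x * y) = x * y
         rw [map_mul, hx, hy]
       inv_mem' := by
         intro x hx
         show β x⁻¹ = x⁻¹
         rw [map_inv, hx] }, fun x => Iff.rfl⟩
  have hC : ∀ x, x ∈ C ↔ ∀ γ ∈ Subgroup.zpowers β, γ x = x := by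
    intro x
    rw [hCdef]
    constructor
    · intro hx γ hγ
      have hle : Subgroup.zpowers β ≤ MulAction.stabilizer (MulAut G) x := by
        rw [Subgroup.zpowers_le, MulAction.mem_stabilizer_iff]
        exact hx
      exact MulAction.mem_stabilizer_iff.mp (hle hγ)
    · intro h
      exact h β (Subgroup.mem_zpowers β)
  obtain ⟨hCK, hCK'⟩ := coprime_abelian_decomp' hcomm (Subgroup.zpowers β) hcop C _ hC rfl
  have hK : Subgroup.closure {y | ∃ (x : G) (α : MulAut G), α ∈ Subgroup.zpowers β ∧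
      y = x⁻¹ * α x} = ⊥ := by
    by_contra hne
    rw [Subgroup.eq_bot_iff_forall] at hne
    push_neg at hne
    obtain ⟨y, hyK, hy1⟩ := hne
    obtain ⟨s, hs⟩ := (IsPGroup.iff_orderOf.mp hG2) y
    have hs1 : s ≠ 0 := by
      intro h0
      rw [h0, pow_zero, orderOf_eq_one_iff] at hs
      exact hy1 hs
    have hx2 : (y ^ 2 ^ (s - 1)) ^ 2 = 1 := by
      rw [← pow_mul, ← pow_succ]
      have : s - 1 + 1 = s := by omega
      rw [this, ← hs, pow_orderOf_eq_one]
    have hx1 : y ^ 2 ^ (s - 1) ≠ 1 := by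
      apply pow_ne_one_of_lt_orderOf (by positivity)
      rw [hs]
      exact Nat.pow_lt_pow_right (by norm_num) (by omega)
    have hxK := Subgroup.pow_mem _ hyK (2 ^ (s - 1))
    have hxC := hfix2 _ hx2
    have hmem : y ^ 2 ^ (s - 1) ∈ C ⊓ Subgroup.closure {y | ∃ (x : G) (α : MulAut G),
        α ∈ Subgroup.zpowers β ∧ y = x⁻¹ * α x} :=
      Subgroup.mem_inf.mpr ⟨(hCdef _).mpr hxC, hxK⟩
    rw [hCK] at hmem
    exact hx1 (Subgroup.mem_bot.mp hmem)
  rw [hK, sup_bot_eq] at hCK'
  ext x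
  have hx : x ∈ (⊤ : Subgroup G) := Subgroup.mem_top x
  rw [← hCK'] at hx
  exact (hCdef x).mp hx

/-- An abelian 2-group with pairwise distinct invariants has only 2-power order automorphisms. -/
theorem isPGroup_mulAut_of_distinct {n : ℕ} (a : Fin n → ℕ) (ha : StrictMono a)
    (ha1 : ∀ i, 1 ≤ a i) {G : Type*} [Group G] [Finite G]
    (e : G ≃* Multiplicative ((i : Fin n) → ZMod (2 ^ a i))) : IsPGroup 2 (MulAut G) := by
  intro α
  have hm0 : orderOf α ≠ 0 := (orderOf_pos α).ne'
  obtain ⟨s, t, ht, hst⟩ := Nat.exists_eq_pow_mul_and_not_dvd hm0 2 (by norm_num)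
  refine ⟨s, ?_⟩
  apply odd_aut_eq_one a ha ha1 e
  have h1 : (α ^ 2 ^ s) ^ t = 1 := by
    rw [← pow_mul, ← hst, pow_orderOf_eq_one]
  have h2 : Nat.Coprime t 2 :=
    ((Nat.Prime.coprime_iff_not_dvd Nat.prime_two).mpr ht).symm
  exact Nat.Coprime.coprime_dvd_left (orderOf_dvd_of_pow_eq_one h1) h2

end Cfsg.Agent.Lib.Helper9
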