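import Mathlib
import Cfsg.Agent.Lib.Helper1.M24Classes
import Cfsg.Agent.Lib.Helper1.M24Trios
import Cfsg.Agent.Lib.Helper1.M24Sextets
import Cfsg.Agent.Lib.Helper1.M24Pairs

set_option autoImplicit false

namespace Cfsg.Agent.Lib.Helper9.FixCount

open Cfsg Cfsg.Agent.Lib.Helper1
open Cfsg.Agent.S1550
open scoped Pointwise

section Generic
variable {X : Type*} [MulAction (Equiv.Perm GolayPt) X]

/-- conjugate elements fix the same number of members of an invariant family -/
theorem ncard_fixed_conj (Y : Set X) {k g r : Equiv.Perm GolayPt}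
    (hk : ∀ y ∈ Y, k • y ∈ Y) (hk' : ∀ y ∈ Y, k⁻¹ • y ∈ Y) (h : k * g * k⁻¹ = r) :
    {y | y ∈ Y ∧ g • y = y}.ncard = {y | y ∈ Y ∧ r • y = y}.ncard := by
  have : {y | y ∈ Y ∧ r • y = y} = (fun y => k • y) '' {y | y ∈ Y ∧ g • y = y} := by
    ext y
    constructor
    · rintro ⟨hy, hr⟩
      refine ⟨k⁻¹ • y, ⟨hk' y hy, ?_⟩, smul_inv_smul k y⟩
      rw [← h, mul_smul, mul_smul] at hr
      have h2 := congrArg (fun z => k⁻¹ • z) hr
      simpa [inv_smul_smul] using h2
    · rintro ⟨x, ⟨hx, hgx⟩, rfl⟩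
      refine ⟨hk x hx, ?_⟩
      show r • k • x = k • x
      rw [← h, mul_smul, mul_smul, inv_smul_smul, hgx]
  rw [this, Set.ncard_image_of_injective _ (MulAction.injective k)]

theorem ncard_fixed_inv (Y : Set X) (g : Equiv.Perm GolayPt) :
    {y | y ∈ Y ∧ g • y = y}.ncard = {y | y ∈ Y ∧ g⁻¹ • y = y}.ncard := by
  congr 1
  ext y
  constructor
  · rintro ⟨hy, h⟩
    exact ⟨hy, by rw [inv_smul_eq_iff, h]⟩
  · rintro ⟨hy, h⟩
    exact ⟨hy, by rw [inv_smul_eq_iff] at h; exact h.symm⟩

/-- counting the fixed members of a coded family -/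
theorem ncard_fixed_coded (obj : ℕ → X) (Y : Set X) (all : List ℕ) (hnd : all.Nodup)
    (hinj : ∀ m ∈ all, ∀ m' ∈ all, obj m = obj m' → m = m')
    (hcover : ∀ y ∈ Y, ∃ m ∈ all, obj m = y) (hmem : ∀ m ∈ all, obj m ∈ Y)
    (g : Equiv.Perm GolayPt) (fx : ℕ → Bool)
    (hfx : ∀ m ∈ all, (g • obj m = obj m ↔ fx m = true)) :
    {y | y ∈ Y ∧ g • y = y}.ncard = (all.filter fx).length := by
  classical
  have hset : {y | y ∈ Y ∧ g • y = y} = obj '' (((all.filter fx).toFinset : Finset ℕ) : Set ℕ) := by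
    ext y
    constructor
    · rintro ⟨hy, hgy⟩
      obtain ⟨m, hm, rfl⟩ := hcover y hy
      refine ⟨m, ?_, rfl⟩
      rw [Finset.mem_coe, List.mem_toFinset, List.mem_filter]
      exact ⟨hm, (hfx m hm).1 hgy⟩
    · rintro ⟨m, hm, rfl⟩
      rw [Finset.mem_coe, List.mem_toFinset, List.mem_filter] at hm
      exact ⟨hmem m hm.1, (hfx m hm.1).2 hm.2⟩
  rw [hset, Set.ncard_image_of_injOn, Set.ncard_coe_finset,
    List.toFinset_card_of_nodup (hnd.filter _)]
  intro m hm m' hm' h
  rw [Finset.mem_coe, List.mem_toFinset, List.mem_filter] at hm hm'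
  exact hinj m hm.1 m' hm'.1 h

end Generic

theorem support₂_eq_mset (w : GolayPt → ZMod 2) : support₂ w = mset (mask w) := by
  apply mset_ext
  intro i
  rw [gpt_mem_mset, mask_testBit]
  unfold support₂
  simp

theorem smul_fix_iff {g : Equiv.Perm GolayPt} {T : Fin 24 → Fin 24} (hT : HasTable g⁻¹ T)
    (w : GolayPt → ZMod 2) : g • support₂ w = support₂ w ↔ pullMask T (mask w) = mask w := by
  rw [support₂_eq_mset, smul_mset hT]
  constructor
  · intro h
    exact mset_injOn (pullMask_lt _ _) (mask_lt _) h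
  · intro h
    rw [h]

/-- number of fixed code members of weight `n` -/
theorem count_wow_fixed {g : Equiv.Perm GolayPt} {T : Fin 24 → Fin 24} (hT : HasTable g⁻¹ T)
    (n : ℕ) :
    {b : Finset GolayPt | b ∈ wordsOfWeight (golayCode : Set (GolayPt → ZMod 2)) n ∧
        g • b = b}.ncard =
      (Finset.univ.filter (fun m : Fin 4096 => popc (combo m.val) = n ∧
        pullMask T (combo m.val) = combo m.val)).card :=
  ncard_wow_pred n (fun b => g • b = b) (fun v => pullMask T v = v) (smul_fix_iff hT)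

theorem combo_lt (m : ℕ) : combo m < 2 ^ 24 := by
  rw [← mask_wordOf]
  exact mask_lt _

/-- fixed-trio check on codes -/
def fxT (T : Fin 24 → Fin 24) (n : ℕ) : Bool :=
  decide (({pullMask T (combo (n / 4096)), pullMask T (combo (n % 4096)),
      pullMask T (combo ((n / 4096) ^^^ (n % 4096) ^^^ 2048))} : Finset ℕ) =
    {combo (n / 4096), combo (n % 4096), combo ((n / 4096) ^^^ (n % 4096) ^^^ 2048)})

theorem image_mset_triple (x y z : ℕ) :
    ({x, y, z} : Finset ℕ).image mset = {mset x, mset y, mset z} := by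
  rw [Finset.image_insert, Finset.image_insert, Finset.image_singleton]

theorem eq_of_image_mset {S S' : Finset ℕ} (hS : ∀ m ∈ S, m < 2 ^ 24)
    (hS' : ∀ m ∈ S', m < 2 ^ 24) (h : S.image mset = S'.image mset) : S = S' := by
  ext m
  constructor
  · intro hm
    have h1 : mset m ∈ S'.image mset := by rw [← h]; exact Finset.mem_image_of_mem _ hm
    obtain ⟨m', hm', e⟩ := Finset.mem_image.1 h1
    rw [← mset_injOn (hS' m' hm') (hS m hm) e]
    exact hm'
  · intro hm
    have h1 : mset m ∈ S.image mset := by rw [h]; exact Finset.mem_image_of_mem _ hm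
    obtain ⟨m', hm', e⟩ := Finset.mem_image.1 h1
    rw [← mset_injOn (hS m' hm') (hS' m hm) e]
    exact hm'

theorem fxT_iff {g : Equiv.Perm GolayPt} {T : Fin 24 → Fin 24} (hT : HasTable g⁻¹ T) (n : ℕ) :
    g • objT n = objT n ↔ fxT T n = true := by
  unfold fxT objT
  rw [decide_eq_true_iff, Finset.smul_finset_insert, Finset.smul_finset_insert,
    Finset.smul_finset_singleton, supp_eq_mset, supp_eq_mset, supp_eq_mset, smul_mset hT,
    smul_mset hT, smul_mset hT, ← image_mset_triple, ← image_mset_triple]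
  constructor
  · intro h
    refine eq_of_image_mset ?_ ?_ h
    · intro m hm
      simp only [Finset.mem_insert, Finset.mem_singleton] at hm
      rcases hm with rfl | rfl | rfl <;> exact pullMask_lt _ _
    · intro m hm
      simp only [Finset.mem_insert, Finset.mem_singleton] at hm
      rcases hm with rfl | rfl | rfl <;> exact combo_lt _
  · intro h
    rw [h]

/-- decoding of a codeword mask from its first twelve coordinates -/
def dec (x : ℕ) : ℕ :=
  sel (x.testBit 0) 3753 ^^^ sel (x.testBit 1) 280 ^^^ sel (x.testBit 2) 3225 ^^^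
  sel (x.testBit 3) 1400 ^^^ sel (x.testBit 4) 3770 ^^^ sel (x.testBit 5) 3991 ^^^
  sel (x.testBit 6) 3533 ^^^ sel (x.testBit 7) 2000 ^^^ sel (x.testBit 8) 1347 ^^^
  sel (x.testBit 9) 101 ^^^ sel (x.testBit 10) 3683 ^^^ sel (x.testBit 11) 3621

theorem dec_combo' : ∀ a < 64, ∀ b < 64, dec (combo (64 * a + b)) = 64 * a + b := by
  decide +kernel

theorem dec_combo (w : ℕ) (hw : w < 4096) : dec (combo w) = w := by
  have h := dec_combo' (w / 64) (by omega) (w % 64) (Nat.mod_lt _ (by norm_num))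
  rw [Nat.div_add_mod] at h
  exact h

theorem dec_lt (x : ℕ) : dec x < 4096 := by
  unfold dec sel
  have h1 : ∀ a b : ℕ, a < 4096 → b < 4096 → a ^^^ b < 4096 := fun a b ha hb =>
    Nat.xor_lt_two_pow (n := 12) ha hb
  have h0 : ∀ (c : Bool) (v : ℕ), v < 4096 → (if c = true then v else 0) < 4096 := by
    intro c v hv
    cases c
    · simp
    · simpa using hv
  repeat' apply h1
  all_goals exact h0 _ _ (by norm_num)

/-- membership of a mask in the code -/
def inCodeB (x : ℕ) : Bool := decide (combo (dec x) = x)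

theorem inCodeB_iff (x : ℕ) : inCodeB x = true ↔ ∃ w < 4096, x = combo w := by
  unfold inCodeB
  rw [decide_eq_true_iff]
  constructor
  · intro h
    exact ⟨dec x, dec_lt x, h.symm⟩
  · rintro ⟨w, hw, rfl⟩
    rw [dec_combo w hw]

/-- fixed-sextet check on codes -/
def fxS (T : Fin 24 → Fin 24) (m : ℕ) : Bool := inCodeB (pullMask T m ^^^ m)

theorem fxS_iff {g : Equiv.Perm GolayPt} (hg : g ∈ M24) {T : Fin 24 → Fin 24}
    (hT : HasTable g⁻¹ T) {m : ℕ} (hm : m < 2 ^ 24) (h4 : popc m = 4) :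
    g • objS m = objS m ↔ fxS T m = true := by
  unfold fxS objS
  have c1 : (mset m).card = 4 := by rw [card_mset]; exact h4
  have c3 : (mset (pullMask T m)).card = 4 := by
    rw [← smul_mset hT, Finset.card_smul_finset]; exact c1
  rw [smul_sextetOf hg _ c1, smul_mset hT, inCodeB_iff]
  constructor
  · intro h
    have hmem : mset (pullMask T m) ∈ sextetOf (mset m) := by
      rw [← h]; exact self_mem_sextetOf _
    have hS := sextetOf_mem (mset m) c1
    by_cases he : mset (pullMask T m) = mset m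
    · refine ⟨0, by norm_num, ?_⟩
      rw [mset_injOn (pullMask_lt _ _) hm he, Nat.xor_self, combo_zero]
    · have hd := sextet_disjoint hS hmem (self_mem_sextetOf _) he
      have hoct := hS.2.2 _ hmem _ (self_mem_sextetOf _) he
      obtain ⟨w, hw, hb, _⟩ := exists_idx_of_mem_wow hoct
      refine ⟨w, hw, ?_⟩
      apply mset_injOn (Nat.xor_lt_two_pow (pullMask_lt _ _) hm) (combo_lt _)
      rw [mset_xor, ← supp_eq_mset]
      show symmDiff _ _ = support₂ (wordOf w)
      rw [← hb, hd.symmDiff_eq_sup]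
      rfl
  · rintro ⟨w, _, hw⟩
    apply sextetOf_eq_of_symmDiff c3 c1 (wordOf_mem w)
    rw [← mset_xor, hw, ← supp_eq_mset]
    rfl

end Cfsg.Agent.Lib.Helper9.FixCount
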