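import Mathlib
import Cfsg.Agent.Lib.Helper9.FixCount
import Cfsg.Agent.S1552
import Cfsg.Agent.S1559

set_option autoImplicit false

namespace Cfsg.Agent.Lib.Helper9.FixCount

open Cfsg Cfsg.Agent.Lib.Helper1
open scoped Pointwise

theorem count_trios_fixed {g : Equiv.Perm GolayPt} {T : Fin 24 → Fin 24}
    (hT : HasTable g⁻¹ T) :
    {y : Finset (Finset GolayPt) | y ∈ trios ∧ g • y = y}.ncard =
      (Cfsg.Agent.S1559.allL.filter (fxT T)).length :=
  ncard_fixed_coded objT trios Cfsg.Agent.S1559.allL Cfsg.Agent.S1559.all_nodup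
    Cfsg.Agent.S1559.hinj Cfsg.Agent.S1559.hcover Cfsg.Agent.S1559.hmem g (fxT T)
    (fun m _ => fxT_iff hT m)

theorem count_sextets_fixed {g : Equiv.Perm GolayPt} (hg : g ∈ M24) {T : Fin 24 → Fin 24}
    (hT : HasTable g⁻¹ T) :
    {y : Finset (Finset GolayPt) | y ∈ sextets ∧ g • y = y}.ncard =
      (Cfsg.Agent.S1552.allL.filter (fxS T)).length :=
  ncard_fixed_coded objS sextets Cfsg.Agent.S1552.allL Cfsg.Agent.S1552.all_nodup
    Cfsg.Agent.S1552.hinj Cfsg.Agent.S1552.hcover Cfsg.Agent.S1552.hmem g (fxS T)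
    (fun m hm => fxS_iff hg hT (Cfsg.Agent.S1552.all_ok m hm).1 (Cfsg.Agent.S1552.all_ok m hm).2.1)

theorem count_octads_fixed {g : Equiv.Perm GolayPt} {T : Fin 24 → Fin 24}
    (hT : HasTable g⁻¹ T) :
    {b : Finset GolayPt | b ∈ octads ∧ g • b = b}.ncard =
      (Finset.univ.filter (fun m : Fin 4096 => popc (combo m.val) = 8 ∧
        pullMask T (combo m.val) = combo m.val)).card :=
  count_wow_fixed hT 8

theorem count_dodecads_fixed {g : Equiv.Perm GolayPt} {T : Fin 24 → Fin 24}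
    (hT : HasTable g⁻¹ T) :
    {b : Finset GolayPt | b ∈ dodecads ∧ g • b = b}.ncard =
      (Finset.univ.filter (fun m : Fin 4096 => popc (combo m.val) = 12 ∧
        pullMask T (combo m.val) = combo m.val)).card :=
  count_wow_fixed hT 12

/-- invariance of the families, packaged -/
theorem conj_octads {k g r : Equiv.Perm GolayPt} (hk : k ∈ M24) (h : k * g * k⁻¹ = r) :
    {y : Finset GolayPt | y ∈ octads ∧ g • y = y}.ncard =
      {y : Finset GolayPt | y ∈ octads ∧ r • y = y}.ncard :=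
  ncard_fixed_conj octads (fun _ hy => smul_mem_octads hk hy)
    (fun _ hy => smul_mem_octads (inv_mem hk) hy) h

theorem conj_dodecads {k g r : Equiv.Perm GolayPt} (hk : k ∈ M24) (h : k * g * k⁻¹ = r) :
    {y : Finset GolayPt | y ∈ dodecads ∧ g • y = y}.ncard =
      {y : Finset GolayPt | y ∈ dodecads ∧ r • y = y}.ncard :=
  ncard_fixed_conj dodecads (fun _ hy => smul_mem_dodecads hk hy)
    (fun _ hy => smul_mem_dodecads (inv_mem hk) hy) h

theorem conj_trios {k g r : Equiv.Perm GolayPt} (hk : k ∈ M24) (h : k * g * k⁻¹ = r) :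
    {y : Finset (Finset GolayPt) | y ∈ trios ∧ g • y = y}.ncard =
      {y : Finset (Finset GolayPt) | y ∈ trios ∧ r • y = y}.ncard :=
  ncard_fixed_conj trios (fun _ hy => smul_mem_trios hk hy)
    (fun _ hy => smul_mem_trios (inv_mem hk) hy) h

theorem conj_sextets {k g r : Equiv.Perm GolayPt} (hk : k ∈ M24) (h : k * g * k⁻¹ = r) :
    {y : Finset (Finset GolayPt) | y ∈ sextets ∧ g • y = y}.ncard =
      {y : Finset (Finset GolayPt) | y ∈ sextets ∧ r • y = y}.ncard :=
  ncard_fixed_conj sextets (fun _ hy => smul_mem_sextets hk hy)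
    (fun _ hy => smul_mem_sextets (inv_mem hk) hy) h

end Cfsg.Agent.Lib.Helper9.FixCount
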