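import Mathlib
import Cfsg.Prelude.Def_Sporadic_a
import Cfsg.Prelude.Def_Spor_Mathieu
import Cfsg.Agent.Lib.Helper1.M11
import Cfsg.Agent.Lib.Helper9.Co0NonSplit

set_option autoImplicit false

namespace Cfsg.Agent.Lib.Helper9.M12Conj

open Cfsg Cfsg.Agent.Lib.Helper1
open scoped Pointwise

theorem wordOf_one : wordOf 1 = qrWord 0 := by
  apply mask_injective
  rw [mask_wordOf, mask_q0]
  decide +kernel

theorem dod0_eq : dod0 = Spor.squareDodecad := by
  unfold dod0 Spor.squareDodecad
  rw [wordOf_one]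

theorem M12_eq : Helper1.M12 = Spor.M12 := by
  unfold Helper1.M12 Spor.M12
  rw [dod0_eq]

theorem gpt0 : gpt 0 = some 0 := rfl

theorem M11_eq : Helper1.M11 = Spor.M11 := by
  ext g
  rw [mem_M11, M12_eq, gpt0]
  unfold Spor.M11
  rw [Subgroup.mem_inf]
  constructor
  · rintro ⟨h1, h2⟩
    exact ⟨h1, MulAction.mem_stabilizer_iff.mpr h2⟩
  · rintro ⟨h1, h2⟩
    exact ⟨h1, MulAction.mem_stabilizer_iff.mp h2⟩

theorem mem_SM12 {x : Equiv.Perm GolayPt} :
    x ∈ Spor.M12 ↔ x ∈ M24 ∧ x • Spor.squareDodecad = Spor.squareDodecad := by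
  unfold Spor.M12
  rw [Subgroup.mem_inf]
  constructor
  · rintro ⟨h1, h2⟩
    exact ⟨h1, MulAction.mem_stabilizer_iff.mp h2⟩
  · rintro ⟨h1, h2⟩
    exact ⟨h1, MulAction.mem_stabilizer_iff.mpr h2⟩

theorem mem_SM11 {x : Equiv.Perm GolayPt} :
    x ∈ Spor.M11 ↔ x ∈ Spor.M12 ∧ x (some 0) = some 0 := by
  unfold Spor.M11
  rw [Subgroup.mem_inf]
  constructor
  · rintro ⟨h1, h2⟩
    exact ⟨h1, MulAction.mem_stabilizer_iff.mp h2⟩
  · rintro ⟨h1, h2⟩
    exact ⟨h1, MulAction.mem_stabilizer_iff.mpr h2⟩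

theorem mem_stab_none {x : Equiv.Perm GolayPt} :
    x ∈ MulAction.stabilizer (Equiv.Perm GolayPt) (none : GolayPt) ↔ x none = none :=
  MulAction.mem_stabilizer_iff

theorem none_notMem : (none : GolayPt) ∉ Spor.squareDodecad := by
  unfold Spor.squareDodecad support₂
  simp [qrWord]

theorem projInv_none : projInv none = some 0 := by decide
theorem projInv_zero : projInv (some 0) = none := by decide

theorem projInv_inv' : projInv⁻¹ = projInv := by
  apply Equiv.ext
  intro x
  rw [Equiv.Perm.inv_eq_iff_eq, Helper9.projInv_projInv]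

theorem projInv_smul : projInv • Spor.squareDodecad = Finset.univ \ Spor.squareDodecad := by
  ext x
  rw [Finset.mem_sdiff, ← Finset.inv_smul_mem_iff, projInv_inv', Equiv.Perm.smul_def]
  unfold Spor.squareDodecad
  rw [Helper9.projInv_swap]
  simp

theorem smul_compl_iff (x : Equiv.Perm GolayPt) (d : Finset GolayPt) :
    x • (Finset.univ \ d) = Finset.univ \ d ↔ x • d = d := by
  rw [Finset.smul_finset_sdiff, Finset.smul_finset_univ]
  constructor
  · intro h
    have h1 : Finset.univ \ (Finset.univ \ (x • d)) = Finset.univ \ (Finset.univ \ d) := by rw [h]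
    rwa [Finset.sdiff_sdiff_eq_self (Finset.subset_univ _),
      Finset.sdiff_sdiff_eq_self (Finset.subset_univ _)] at h1
  · intro h
    rw [h]

theorem conj_M11 :
    MulAut.conj projInv • Spor.M11 =
      Spor.M12 ⊓ MulAction.stabilizer (Equiv.Perm GolayPt) (none : GolayPt) := by
  have hgM : projInv ∈ M24 := Cfsg.Agent.S0372.result
  ext x
  rw [Subgroup.mem_pointwise_smul_iff_inv_smul_mem, MulAut.smul_def, MulAut.conj_inv_apply,
    projInv_inv', mem_SM11, mem_SM12, Subgroup.mem_inf, mem_SM12, mem_stab_none]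
  constructor
  · rintro ⟨⟨hM, hd⟩, h0⟩
    refine ⟨⟨?_, ?_⟩, ?_⟩
    · have : x = projInv * (projInv * x * projInv) * projInv := by
        apply Equiv.ext
        intro p
        simp only [Equiv.Perm.mul_apply, Helper9.projInv_projInv]
      rw [this]
      exact mul_mem (mul_mem hgM hM) hgM
    · rw [← smul_compl_iff, ← projInv_smul]
      rw [mul_smul, mul_smul] at hd
      have h1 : projInv • (projInv • x • projInv • Spor.squareDodecad) =
          projInv • Spor.squareDodecad := by rw [hd]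
      rw [← mul_smul projInv projInv] at h1
      have h2 : projInv * projInv = 1 := by
        apply Equiv.ext
        intro p
        exact Helper9.projInv_projInv p
      rw [h2, one_smul] at h1
      exact h1
    · simp only [Equiv.Perm.mul_apply] at h0
      rw [projInv_zero] at h0
      have h1 := congrArg projInv h0
      rw [Helper9.projInv_projInv, projInv_zero] at h1
      exact h1
  · rintro ⟨⟨hM, hd⟩, h0⟩
    refine ⟨⟨mul_mem (mul_mem hgM hM) hgM, ?_⟩, ?_⟩
    · rw [mul_smul, mul_smul, projInv_smul, (smul_compl_iff x _).mpr hd, ← projInv_smul,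
        ← mul_smul]
      have h2 : projInv * projInv = 1 := by
        apply Equiv.ext
        intro p
        exact Helper9.projInv_projInv p
      rw [h2, one_smul]
    · simp only [Equiv.Perm.mul_apply]
      rw [projInv_zero, h0, projInv_none]

theorem part3 : ∃ g ∈ M24, g • Spor.squareDodecad = Finset.univ \ Spor.squareDodecad ∧
    MulAut.conj g • Spor.M11 =
      Spor.M12 ⊓ MulAction.stabilizer (Equiv.Perm GolayPt) (none : GolayPt) :=
  ⟨projInv, Cfsg.Agent.S0372.result, projInv_smul, conj_M11⟩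

theorem part1 : Nonempty (↥(Spor.M12 ⊓ MulAction.stabilizer (Equiv.Perm GolayPt)
    (none : GolayPt)) ≃* ↥Spor.M11) :=
  ⟨((Subgroup.equivSMul (MulAut.conj projInv) Spor.M11).trans
    (MulEquiv.subgroupCongr conj_M11)).symm⟩

theorem outside_bit {y : GolayPt} (hy : y ∉ Spor.squareDodecad) :
    ∃ i : Fin 24, gpt i = y ∧ (combo 1).testBit i = false := by
  obtain ⟨i, rfl⟩ := gpt_bij.surjective y
  refine ⟨i, rfl, ?_⟩
  rw [← dod0_eq, gpt_mem_dod0] at hy
  simpa using hy

theorem bits_outside : (combo 1).testBit (5 : Fin 24) = false ∧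
    (combo 1).testBit (7 : Fin 24) = false := by decide +kernel

theorem part2 : ¬ ∃ k ∈ Spor.M12, MulAut.conj k • Spor.M11 =
    Spor.M12 ⊓ MulAction.stabilizer (Equiv.Perm GolayPt) (none : GolayPt) := by
  rintro ⟨k, hk, hconj⟩
  have hkd : k⁻¹ • Spor.squareDodecad = Spor.squareDodecad := (mem_SM12.mp (inv_mem hk)).2
  have hy : k⁻¹ none ∉ Spor.squareDodecad := by
    intro h
    apply none_notMem
    rw [← hkd] at h
    rw [← Equiv.Perm.smul_def, Finset.smul_mem_smul_finset_iff] at h
    exact h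
  have hfix : ∀ h ∈ Spor.M11, h (k⁻¹ none) = k⁻¹ none := by
    intro h hh
    have h1 : MulAut.conj k • h ∈ MulAut.conj k • Spor.M11 :=
      Subgroup.smul_mem_pointwise_smul _ _ _ hh
    rw [hconj, Subgroup.mem_inf, mem_stab_none, MulAut.smul_def,
      MulAut.conj_apply] at h1
    have h2 := h1.2
    simp only [Equiv.Perm.mul_apply] at h2
    rw [Equiv.Perm.eq_inv_iff_eq.symm] at h2
    exact h2
  obtain ⟨i, hi, hbit⟩ := outside_bit hy
  -- two elements of M11 mapping gpt 5 to gpt i and to another outside point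
  obtain ⟨j, hj, hji⟩ : ∃ j : Fin 24, (combo 1).testBit j = false ∧ j ≠ i := by
    by_cases h5 : i = 5
    · exact ⟨7, bits_outside.2, by rw [h5]; decide⟩
    · exact ⟨5, bits_outside.1, fun h => h5 h.symm⟩
  obtain ⟨a, ha, -, hai⟩ := M11_reach3 0 i hbit (fun j hj => absurd hj (by simp))
  obtain ⟨b, hb, -, hbj⟩ := M11_reach3 0 j hj (fun j hj => absurd hj (by simp))
  rw [M11_eq] at ha hb
  have hab := hfix (b * a⁻¹) (mul_mem hb (inv_mem ha))
  rw [← hi, Equiv.Perm.mul_apply] at hab
  have h3 : a⁻¹ (gpt i) = gpt (base11 0) := by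
    rw [Equiv.Perm.inv_eq_iff_eq, hai]
  rw [h3, hbj] at hab
  exact hji (gpt_bij.injective hab)

end Cfsg.Agent.Lib.Helper9.M12Conj
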