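import Mathlib
import Cfsg.Prelude.Def_Sporadic_a
import Cfsg.Prelude.Def_Spor_Mathieu
import Cfsg.Agent.Lib.Helper1.M24Order
import Cfsg.Agent.Lib.Helper1.M24Trans

set_option autoImplicit false

namespace Cfsg.Agent.Lib.Helper9.M24Tools

open Cfsg Cfsg.Agent.Lib.Helper1
open scoped Pointwise

theorem M24_map5 (x y : Fin 5 ↪ GolayPt) : ∃ g ∈ M24, ∀ j, g (x j) = y j := by
  obtain ⟨gx, hgx, hx⟩ := M24_to_base5 x
  obtain ⟨gy, hgy, hy⟩ := M24_to_base5 y
  refine ⟨gy⁻¹ * gx, mul_mem (inv_mem hgy) hgx, fun j => ?_⟩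
  rw [Equiv.Perm.mul_apply, Equiv.Perm.inv_eq_iff_eq, hx j, hy j]

theorem inj5 {α : Type*} {a b c d e : α} (hab : a ≠ b) (hac : a ≠ c) (had : a ≠ d) (hae : a ≠ e)
    (hbc : b ≠ c) (hbd : b ≠ d) (hbe : b ≠ e) (hcd : c ≠ d) (hce : c ≠ e) (hde : d ≠ e) :
    Function.Injective ![a, b, c, d, e] := by
  intro i j hij
  fin_cases i <;> fin_cases j <;> first | rfl | (exfalso; simp at hij; first
    | exact hab hij | exact hac hij | exact had hij | exact hae hij | exact hbc hij
    | exact hbd hij | exact hbe hij | exact hcd hij | exact hce hij | exact hde hij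
    | exact hab hij.symm | exact hac hij.symm | exact had hij.symm | exact hae hij.symm
    | exact hbc hij.symm | exact hbd hij.symm | exact hbe hij.symm | exact hcd hij.symm
    | exact hce hij.symm | exact hde hij.symm)

/-- embedding from five distinct points -/
def emb5 {α : Type*} (a b c d e : α) (hab : a ≠ b) (hac : a ≠ c) (had : a ≠ d) (hae : a ≠ e)
    (hbc : b ≠ c) (hbd : b ≠ d) (hbe : b ≠ e) (hcd : c ≠ d) (hce : c ≠ e) (hde : d ≠ e) :
    Fin 5 ↪ α := ⟨![a, b, c, d, e], inj5 hab hac had hae hbc hbd hbe hcd hce hde⟩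

theorem mem_M22 {x : Equiv.Perm GolayPt} :
    x ∈ Spor.M22 ↔ x ∈ M24 ∧ x none = none ∧ x (some 0) = some 0 := by
  unfold Spor.M22 Spor.M23
  simp only [Subgroup.mem_inf, MulAction.mem_stabilizer_iff, Equiv.Perm.smul_def]
  tauto

theorem pair_cases {b : Equiv.Perm GolayPt}
    (hb : b • ({none, some 0} : Finset GolayPt) = {none, some 0}) :
    (b none = none ∧ b (some 0) = some 0) ∨ (b none = some 0 ∧ b (some 0) = none) := by
  have h1 : b none ∈ ({none, some 0} : Finset GolayPt) := by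
    rw [← hb, ← Equiv.Perm.smul_def]
    exact Finset.smul_mem_smul_finset (by simp)
  have h2 : b (some 0) ∈ ({none, some 0} : Finset GolayPt) := by
    rw [← hb, ← Equiv.Perm.smul_def]
    exact Finset.smul_mem_smul_finset (by simp)
  simp only [Finset.mem_insert, Finset.mem_singleton] at h1 h2
  have hne : b none ≠ b (some 0) := fun h => by simpa using b.injective h
  rcases h1 with h1 | h1 <;> rcases h2 with h2 | h2
  · exact absurd (h1.trans h2.symm) hne
  · left; exact ⟨h1, h2⟩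
  · right; exact ⟨h1, h2⟩
  · exact absurd (h1.trans h2.symm) hne

theorem smul_pair {b : Equiv.Perm GolayPt}
    (h : (b none = none ∧ b (some 0) = some 0) ∨ (b none = some 0 ∧ b (some 0) = none)) :
    b • ({none, some 0} : Finset GolayPt) = {none, some 0} := by
  rw [Finset.smul_finset_insert, Finset.smul_finset_singleton, Equiv.Perm.smul_def,
    Equiv.Perm.smul_def]
  rcases h with ⟨h1, h2⟩ | ⟨h1, h2⟩
  · rw [h1, h2]
  · rw [h1, h2, Finset.pair_comm]

/-- an element of `M24` fixing every point other than `gpt 6`, `gpt 7` is trivial -/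
theorem eq_one_of_fix_base {c : Equiv.Perm GolayPt} (hc : c ∈ M24)
    (hfix : ∀ i ∈ ([23, 0, 1, 2, 3, 4, 5] : List (Fin 24)), c (gpt i) = gpt i) : c = 1 := by
  have : c ∈ fixL M24 [23, 0, 1, 2, 3, 4, 5] := mem_fixL.mpr ⟨hc, hfix⟩
  rw [fixL_M24_base_eq_bot] at this
  exact Subgroup.mem_bot.mp this

end Cfsg.Agent.Lib.Helper9.M24Tools
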