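import Mathlib
import Cfsg.Prelude.Def_Sporadic_a
import Cfsg.Agent.Lib.Helper9.M12Conj
import Cfsg.Agent.Lib.Helper9.M24Tools
import Cfsg.Agent.Lib.Helper1.M11Simple

set_option autoImplicit false

namespace Cfsg.Agent.Lib.Helper9.M11Elusive

open Cfsg Cfsg.Agent.Lib.Helper1
open scoped Pointwise

def cands3 : List (List ℕ) := [[4, 1, 1, 3, 3, 2, 1, 1, 1, 2, 3, 3, 0, 4, 4, 1, 1, 2, 0, 4, 4, 0, 3, 0, 0, 4, 1, 3, 2, 1, 4, 1, 4, 1, 2, 4, 1, 4, 1, 1, 3, 3, 2, 1, 1, 1, 2, 3, 3, 0, 4, 0, 2, 1, 4, 1, 4, 1, 2, 4, 1],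
    [4, 1, 1, 2, 0, 4, 4, 0, 3, 0, 0, 4, 1, 3, 1, 4, 1, 1, 3, 3, 2, 1, 1, 1, 2, 3, 3, 0, 2, 0, 4, 0, 0, 3, 1, 4, 1, 2, 3, 2, 0, 4, 0, 0, 3, 1, 4, 1, 2],
    [4, 1, 1, 2, 0, 4, 4, 0, 3, 0, 0, 4, 1, 3, 2, 1, 4, 1, 4, 1, 2, 4, 1, 3, 2, 0, 4, 0, 0, 3, 1, 4, 1, 2, 3, 2, 0, 4, 0, 0, 3, 1, 4, 1, 2],
    [3, 2, 0, 4, 0, 0, 3, 1, 4, 1, 2, 3, 2, 0, 4, 0, 0, 3, 1, 4, 1, 2, 3, 3, 1, 4, 1, 1, 1, 3, 0, 3, 3, 0, 3, 2, 0, 4, 0, 0, 3, 1, 4, 1, 2, 3, 2, 0, 4, 0, 0, 3, 1, 4, 1, 2],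
    [4, 1, 1, 3, 3, 2, 1, 1, 1, 2, 3, 3, 0, 4, 0, 2, 1, 4, 1, 4, 1, 2, 4, 1, 3, 3, 1, 4, 1, 1, 1, 3, 0, 3, 3, 0, 0, 2, 1, 4, 1, 4, 1, 2, 4, 1],
    [4, 1, 1, 3, 3, 2, 1, 1, 1, 2, 3, 3, 0, 3, 1, 4, 1, 1, 1, 3, 0, 3, 3, 0, 0, 2, 1, 4, 1, 4, 1, 2, 4, 1],
    [3, 2, 0, 4, 0, 0, 3, 1, 4, 1, 2, 3, 2, 0, 4, 0, 0, 3, 1, 4, 1, 2, 4, 1, 1, 2, 0, 4, 4, 0, 3, 0, 0, 4, 1, 3, 2, 1, 4, 1, 4, 1, 2, 4, 1]]

def cands2 : List (List ℕ) := [[4, 1, 1, 2, 0, 4, 4, 0, 3, 0, 0, 4, 1, 3, 2, 1, 4, 1, 4, 1, 2, 4, 1, 4, 1, 1, 3, 3, 2, 1, 1, 1, 2, 3, 3, 0, 2, 0, 4, 0, 0, 3, 1, 4, 1, 2, 4, 1, 1, 2, 0, 4, 4, 0, 3, 0, 0, 4, 1, 3, 1, 3, 2, 0, 4, 0, 0, 3, 1, 4, 1, 2],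
    [0, 2, 1, 4, 1, 4, 1, 2, 4, 1, 4, 1, 1, 3, 3, 2, 1, 1, 1, 2, 3, 3, 0, 2, 0, 4, 0, 0, 3, 1, 4, 1, 2, 4, 1, 1, 2, 0, 4, 4, 0, 3, 0, 0, 4, 1, 3, 1, 3, 2, 0, 4, 0, 0, 3, 1, 4, 1, 2],
    [4, 1, 1, 3, 3, 2, 1, 1, 1, 2, 3, 3, 0, 4, 0, 2, 1, 4, 1, 4, 1, 2, 4, 1, 3, 2, 0, 4, 0, 0, 3, 1, 4, 1, 2, 4, 1, 1, 3, 3, 2, 1, 1, 1, 2, 3, 3, 0, 4, 0, 2, 1, 4, 1, 4, 1, 2, 4, 1, 3, 2, 0, 4, 0, 0, 3, 1, 4, 1, 2],
    [0, 2, 1, 4, 1, 4, 1, 2, 4, 1, 3, 2, 0, 4, 0, 0, 3, 1, 4, 1, 2, 4, 1, 1, 3, 3, 2, 1, 1, 1, 2, 3, 3, 0, 4, 0, 2, 1, 4, 1, 4, 1, 2, 4, 1, 3, 2, 0, 4, 0, 0, 3, 1, 4, 1, 2],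
    [4, 1, 1, 2, 0, 4, 4, 0, 3, 0, 0, 4, 1, 3, 2, 1, 4, 1, 4, 1, 2, 4, 1, 3, 2, 0, 4, 0, 0, 3, 1, 4, 1, 2, 4, 1, 1, 3, 3, 2, 1, 1, 1, 2, 3, 3, 0, 4, 0, 2, 1, 4, 1, 4, 1, 2, 4, 1, 3, 2, 0, 4, 0, 0, 3, 1, 4, 1, 2],
    [3, 3, 1, 4, 1, 1, 1, 3, 0, 3, 3, 0, 0, 2, 1, 4, 1, 4, 1, 2, 4, 1, 4, 1, 1, 3, 3, 2, 1, 1, 1, 2, 3, 3, 0, 2, 0, 4, 0, 0, 3, 1, 4, 1, 2, 4, 1, 1, 2, 0, 4, 4, 0, 3, 0, 0, 4, 1, 3, 1, 3, 2, 0, 4, 0, 0, 3, 1, 4, 1, 2],
    [0, 2, 1, 4, 1, 4, 1, 2, 4, 1, 3, 2, 0, 4, 0, 0, 3, 1, 4, 1, 2, 4, 1, 1, 3, 3, 2, 1, 1, 1, 2, 3, 3, 0, 2, 0, 4, 0, 0, 3, 1, 4, 1, 2, 4, 1, 1, 2, 0, 4, 4, 0, 3, 0, 0, 4, 1, 3, 1, 3, 2, 0, 4, 0, 0, 3, 1, 4, 1, 2, 3, 2, 0, 4, 0, 0, 3, 1, 4, 1, 2]]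

theorem cert3 : ∀ w ∈ cands3, (∀ i : Fin 24, (combo 1).testBit i = true →
      (combo 1).testBit (evalT w i) = true) ∧ evalT w 0 = 0 ∧ evalT w 1 = 1 ∧ evalT w 2 = 2 ∧
      evalT w 3 = 4 ∧ ((∃ i : Fin 24, (combo 1).testBit i = false ∧ evalT w i = i) ∨
        (∃ i : Fin 24, evalT w (evalT w (evalT w i)) ≠ i)) := by
  decide +kernel

theorem cover3 : ∀ q : Fin 24, (combo 1).testBit q = true →
    q ∉ ([0, 1, 2, 3, 4] : List (Fin 24)) → ∃ w ∈ cands3, evalT w 4 = q := by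
  decide +kernel

theorem cert2 : ∀ w ∈ cands2, (∀ i : Fin 24, (combo 1).testBit i = true →
      (combo 1).testBit (evalT w i) = true) ∧ evalT w 0 = 0 ∧ evalT w 1 = 1 ∧ evalT w 2 = 3 ∧
      evalT w 3 = 2 ∧ ((∃ i : Fin 24, (combo 1).testBit i = false ∧ evalT w i = i) ∨
        (∃ i : Fin 24, evalT w (evalT w i) ≠ i)) := by
  decide +kernel

theorem cover2 : ∀ q : Fin 24, (combo 1).testBit q = true →
    q ∉ ([0, 1, 2, 3, 4] : List (Fin 24)) → ∃ w ∈ cands2, evalT w 4 = q := by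
  decide +kernel

/-- fixed points of an element of prime power order on an invariant set -/
theorem fix_mod {g : Equiv.Perm GolayPt} {s : Finset GolayPt} (hs : ∀ x, g x ∈ s ↔ x ∈ s)
    {p : ℕ} [hp : Fact p.Prime] (hg : g ^ p = 1) :
    s.card ≡ (s.filter (fun x => g x = x)).card [MOD p] := by
  classical
  let f : Function.End s := fun x => ⟨g x, (hs x).2 x.2⟩
  have hpow : ∀ (n : ℕ) (x : s), (((f ^ n) x : s) : GolayPt) = (g ^ n) x := by
    intro n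
    induction n with
    | zero => intro x; rfl
    | succ n ih =>
      intro x
      rw [pow_succ, pow_succ]
      show (((f ^ n) (f x) : s) : GolayPt) = (g ^ n) (g x)
      rw [ih (f x)]
  have hf : f ^ p ^ 1 = 1 := by
    rw [pow_one]
    funext x
    apply Subtype.ext
    rw [hpow p x, hg]
    rfl
  have h0 := Equiv.Perm.card_fixedPoints_modEq (f := f) (p := p) (n := 1) hf
  rw [Fintype.card_coe] at h0
  have h1 : Fintype.card (Function.fixedPoints f) = (s.filter (fun x => g x = x)).card := by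
    rw [← Fintype.card_coe (s.filter _)]
    apply Fintype.card_congr
    exact
      { toFun := fun x => ⟨x.1.1, Finset.mem_filter.2 ⟨x.1.2, congrArg Subtype.val x.2⟩⟩
        invFun := fun y => ⟨⟨y.1, (Finset.mem_filter.1 y.2).1⟩,
          Subtype.ext (Finset.mem_filter.1 y.2).2⟩
        left_inv := fun x => rfl
        right_inv := fun y => rfl }
  rw [h1] at h0
  exact h0

theorem conj_apply (h g : Equiv.Perm GolayPt) (y : GolayPt) :
    (h * g * h⁻¹) (h y) = h (g y) := by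
  rw [Equiv.Perm.mul_apply, Equiv.Perm.mul_apply, perm_inv_apply_self]

theorem uniq {g' e : Equiv.Perm GolayPt} (hg' : g' ∈ M12) (he : e ∈ M12)
    (h : ∀ j : Fin 5, g' (gpt (base12 j)) = e (gpt (base12 j))) : g' = e := by
  have := M12_fix5_eq_one (g := e⁻¹ * g') (mul_mem (inv_mem he) hg') emb5 emb5_mem (fun j => by
    show (e⁻¹ * g') (gpt (base12 j)) = gpt (base12 j)
    rw [Equiv.Perm.mul_apply, h j, perm_inv_apply_self])
  exact (inv_mul_eq_one.mp this).symm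

theorem M12_mem_iff {g : Equiv.Perm GolayPt} (hg : g ∈ M12) (x : GolayPt) :
    g x ∈ dod0 ↔ x ∈ dod0 := by
  constructor
  · intro h
    have := M12_preserves (inv_mem hg) _ h
    rw [perm_inv_apply_self] at this
    exact this
  · exact M12_preserves hg x

theorem card_dod0 : dod0.card = 12 := dod0_mem.2

/-- finishing step: a conjugate given by a table with a fixed point outside the dodecad -/
theorem finish {g h : Equiv.Perm GolayPt} (hh : h ∈ M12) {w : List ℕ}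
    (hconj : h * g * h⁻¹ = evalW w) {i : Fin 24} (hi : (combo 1).testBit i = false)
    (hfix : evalT w i = i) : ∃ x : GolayPt, x ∉ dod0 ∧ g x = x := by
  refine ⟨h⁻¹ (gpt i), ?_, ?_⟩
  · intro hmem
    have := M12_preserves hh _ hmem
    rw [perm_apply_inv_self, gpt_mem_dod0, hi] at this
    exact absurd this (by simp)
  · have h1 : (h * g * h⁻¹) (gpt i) = gpt i := by
      rw [hconj, evalW_table w i, hfix]
    rw [Equiv.Perm.mul_apply, Equiv.Perm.mul_apply] at h1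
    apply h.injective
    rw [h1, perm_apply_inv_self]

theorem elusive (g : Equiv.Perm GolayPt) (hg : g ∈ Helper1.M11) (hord : (orderOf g).Prime) :
    ∃ x : GolayPt, x ∉ dod0 ∧ g x = x := by
  classical
  haveI : Fact (orderOf g).Prime := ⟨hord⟩
  have hg12 : g ∈ M12 := (mem_M11.1 hg).1
  have hg0 : g (gpt 0) = gpt 0 := (mem_M11.1 hg).2
  have h0mem : gpt 0 ∈ dod0 := (gpt_mem_dod0 0).2 (by decide +kernel)
  have hgp : g ^ orderOf g = 1 := pow_orderOf_eq_one g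
  have hne1 : g ≠ 1 := fun h => hord.ne_one (orderOf_eq_one_iff.mpr h)
  by_contra hcon
  push Not at hcon
  -- no fixed point outside: the order divides 12
  have hΩ : ∀ x, g x ∈ Finset.univ \ dod0 ↔ x ∈ Finset.univ \ dod0 := by
    intro x
    rw [Finset.mem_sdiff, Finset.mem_sdiff, M12_mem_iff hg12]
    simp
  have hmodΩ := fix_mod hΩ hgp
  have hΩcard : (Finset.univ \ dod0).card = 12 := by
    rw [Finset.card_sdiff_of_subset (Finset.subset_univ _), Finset.card_univ, card_dod0,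
      Fintype.card_option, ZMod.card]
  have hfil : (Finset.univ \ dod0).filter (fun x => g x = x) = ∅ := by
    rw [Finset.filter_eq_empty_iff]
    intro x hx
    exact hcon x (Finset.mem_sdiff.mp hx).2
  rw [hfil, hΩcard, Finset.card_empty] at hmodΩ
  have hdvd : orderOf g ∣ 12 := (Nat.modEq_zero_iff_dvd).mp hmodΩ
  have hp23 : orderOf g = 2 ∨ orderOf g = 3 := by
    have hle : orderOf g ≤ 12 := Nat.le_of_dvd (by norm_num) hdvd
    generalize orderOf g = p at hord hdvd hle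
    interval_cases p <;>
      first
        | (left; rfl)
        | (right; rfl)
        | (exfalso; revert hdvd; decide)
        | (exfalso; revert hord; decide)
  -- fixed points inside the dodecad
  have hD : ∀ x, g x ∈ dod0 ↔ x ∈ dod0 := M12_mem_iff hg12
  have hmodD := fix_mod hD hgp
  rw [card_dod0] at hmodD
  have hmoved : ∃ a ∈ dod0, g a ≠ a := by
    by_contra hall
    push Not at hall
    exact hne1 (M12_fix5_eq_one hg12 emb5 emb5_mem (fun j => hall _ (emb5_mem j)))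
  obtain ⟨a, haD, hga⟩ := hmoved
  have h0fil : gpt 0 ∈ dod0.filter (fun x => g x = x) := Finset.mem_filter.2 ⟨h0mem, hg0⟩
  have hpos : 0 < (dod0.filter (fun x => g x = x)).card := Finset.card_pos.mpr ⟨_, h0fil⟩
  have ha0 : a ≠ gpt 0 := fun h => hga (h ▸ hg0)
  have hinj : ∀ {u v : GolayPt}, g u = g v → u = v := fun h => g.injective h
  -- common normalisation
  have key : ∀ (x1 x2 x3 x4 : GolayPt) (y : GolayPt), x1 ∈ dod0 → x2 ∈ dod0 → x3 ∈ dod0 →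
      x4 ∈ dod0 → y ∈ dod0 → gpt 0 ≠ x1 → gpt 0 ≠ x2 → gpt 0 ≠ x3 → gpt 0 ≠ x4 → x1 ≠ x2 →
      x1 ≠ x3 → x1 ≠ x4 → x2 ≠ x3 → x2 ≠ x4 → x3 ≠ x4 →
      y ≠ gpt 0 → y ≠ x1 → y ≠ x2 → y ≠ x3 → y ≠ x4 → g x4 = y →
      ∃ h ∈ M12, ∃ q : Fin 24, (combo 1).testBit q = true ∧
        q ∉ ([0, 1, 2, 3, 4] : List (Fin 24)) ∧
        (h * g * h⁻¹) (gpt 0) = gpt 0 ∧ (h * g * h⁻¹) (gpt 1) = h (g x1) ∧
        (h * g * h⁻¹) (gpt 2) = h (g x2) ∧ (h * g * h⁻¹) (gpt 3) = h (g x3) ∧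
        (h * g * h⁻¹) (gpt 4) = gpt q ∧ h x1 = gpt 1 ∧ h x2 = gpt 2 ∧ h x3 = gpt 3 ∧
        h x4 = gpt 4 := by
    intro x1 x2 x3 x4 y hx1 hx2 hx3 hx4 hy h01 h02 h03 h04 h12 h13 h14 h23 h24 h34
      hy0 hy1 hy2 hy3 hy4 hgy
    obtain ⟨h, hh, hmap⟩ := M12_to_base (M24Tools.emb5 (gpt 0) x1 x2 x3 x4 h01 h02 h03 h04 h12
      h13 h14 h23 h24 h34) (by
        intro j
        fin_cases j
        · exact h0mem
        · exact hx1
        · exact hx2
        · exact hx3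
        · exact hx4)
    have e0 : h (gpt 0) = gpt 0 := hmap 0
    have e1 : h x1 = gpt 1 := hmap 1
    have e2 : h x2 = gpt 2 := hmap 2
    have e3 : h x3 = gpt 3 := hmap 3
    have e4 : h x4 = gpt 4 := hmap 4
    obtain ⟨q, hq⟩ := gpt_bij.surjective (h y)
    have hqD : (combo 1).testBit q = true := by
      rw [← gpt_mem_dod0, hq]
      exact M12_preserves hh _ hy
    have hqn : q ∉ ([0, 1, 2, 3, 4] : List (Fin 24)) := by
      intro hmem
      have hcases : q = 0 ∨ q = 1 ∨ q = 2 ∨ q = 3 ∨ q = 4 := by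
        have hgen : ∀ r : Fin 24, r ∈ ([0, 1, 2, 3, 4] : List (Fin 24)) →
            r = 0 ∨ r = 1 ∨ r = 2 ∨ r = 3 ∨ r = 4 := by decide
        exact hgen q hmem
      rcases hcases with rfl | rfl | rfl | rfl | rfl
      · exact hy0 (h.injective (hq.symm.trans e0.symm))
      · exact hy1 (h.injective (hq.symm.trans e1.symm))
      · exact hy2 (h.injective (hq.symm.trans e2.symm))
      · exact hy3 (h.injective (hq.symm.trans e3.symm))
      · exact hy4 (h.injective (hq.symm.trans e4.symm))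
    refine ⟨h, hh, q, hqD, hqn, ?_, ?_, ?_, ?_, ?_, e1, e2, e3, e4⟩
    · have := conj_apply h g (gpt 0)
      rw [e0, hg0, e0] at this
      exact this
    · have := conj_apply h g x1
      rw [e1] at this
      exact this
    · have := conj_apply h g x2
      rw [e2] at this
      exact this
    · have := conj_apply h g x3
      rw [e3] at this
      exact this
    · have := conj_apply h g x4
      rw [e4, hgy, ← hq] at this
      exact this
  rcases hp23 with h2 | h3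
  · -- involution
    rw [h2] at hmodD hgp
    have hgg : ∀ x, g (g x) = x := by
      intro x
      have := congrArg (fun f : Equiv.Perm GolayPt => f x) hgp
      simpa [pow_succ, Equiv.Perm.mul_apply] using this
    have hcard2 : 2 ≤ (dod0.filter (fun x => g x = x)).card := by
      have := hmodD.symm
      unfold Nat.ModEq at this
      omega
    have h1 : 0 < ((dod0.filter (fun x => g x = x)).erase (gpt 0)).card := by
      rw [Finset.card_erase_of_mem h0fil]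
      omega
    obtain ⟨x1, hx1⟩ := Finset.card_pos.mp h1
    rw [Finset.mem_erase, Finset.mem_filter] at hx1
    obtain ⟨hx10, hx1D, hgx1⟩ := hx1
    -- another moved point b outside {a, g a}
    have hb : ∃ b ∈ dod0, g b ≠ b ∧ b ≠ a ∧ b ≠ g a := by
      by_contra hall
      push Not at hall
      -- the fixed points then include everything except a, g a
      have hsub : (dod0.erase a).erase (g a) ⊆ dod0.filter (fun x => g x = x) := by
        intro z hz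
        rw [Finset.mem_erase, Finset.mem_erase] at hz
        rw [Finset.mem_filter]
        refine ⟨hz.2.2, ?_⟩
        by_contra hne
        exact hz.1 (hall z hz.2.2 hne hz.2.1)
      have hc1 : ((dod0.erase a).erase (g a)).card = 10 := by
        rw [Finset.card_erase_of_mem, Finset.card_erase_of_mem haD, card_dod0]
        rw [Finset.mem_erase]
        exact ⟨hga, (hD a).2 haD⟩
      obtain ⟨t, hts, ht5⟩ := Finset.exists_subset_card_eq
        (show 5 ≤ ((dod0.erase a).erase (g a)).card by omega)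
      let e : Fin 5 ≃ t := (Finset.equivFinOfCardEq ht5).symm
      apply hne1
      apply M12_fix5_eq_one hg12 ⟨fun j => ((e j : t) : GolayPt), fun i j hij =>
        e.injective (Subtype.ext hij)⟩
      · intro j
        exact (Finset.mem_filter.mp (hsub (hts (e j).2))).1
      · intro j
        exact (Finset.mem_filter.mp (hsub (hts (e j).2))).2
    obtain ⟨b, hbD, hgb, hba, hbga⟩ := hb
    have hb0 : b ≠ gpt 0 := fun h => hgb (h ▸ hg0)
    have hga0 : g a ≠ gpt 0 := fun h => ha0 (hinj (h.trans hg0.symm))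
    have hgb0 : g b ≠ gpt 0 := fun h => hb0 (hinj (h.trans hg0.symm))
    have hx1a : x1 ≠ a := fun h => hga (h ▸ hgx1)
    have hx1b : x1 ≠ b := fun h => hgb (h ▸ hgx1)
    have hx1ga : x1 ≠ g a := fun h => hx1a (hinj (hgx1.trans h))
    have hx1gb : x1 ≠ g b := fun h => hx1b (hinj (hgx1.trans h))
    obtain ⟨h, hh, q, hqD, hqn, c0, c1, c2, c3, c4, e1, e2, e3, e4⟩ :=
      key x1 a (g a) b (g b) hx1D haD ((hD a).2 haD) hbD ((hD b).2 hbD) (Ne.symm hx10)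
        (Ne.symm ha0) (Ne.symm hga0) (Ne.symm hb0) hx1a hx1ga hx1b (Ne.symm hga)
        (Ne.symm hba) (Ne.symm hbga) hgb0 (Ne.symm hx1gb)
        (fun h => hbga (by rw [← h, hgg])) (fun h => hba (hinj h)) hgb rfl
    obtain ⟨w, hw, hwq⟩ := cover2 q hqD hqn
    obtain ⟨hwD, t0, t1, t2, t3, hcert⟩ := cert2 w hw
    have he12 : evalW w ∈ M12 := evalW_mem_M12 w hwD
    have hconj12 : h * g * h⁻¹ ∈ M12 := mul_mem (mul_mem hh hg12) (inv_mem hh)
    have hconj : h * g * h⁻¹ = evalW w := by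
      apply uniq hconj12 he12
      intro j
      fin_cases j
      · show (h * g * h⁻¹) (gpt 0) = evalW w (gpt 0)
        rw [c0, evalW_table w 0, t0]
      · show (h * g * h⁻¹) (gpt 1) = evalW w (gpt 1)
        rw [c1, hgx1, e1, evalW_table w 1, t1]
      · show (h * g * h⁻¹) (gpt 2) = evalW w (gpt 2)
        rw [c2, e3, evalW_table w 2, t2]
      · show (h * g * h⁻¹) (gpt 3) = evalW w (gpt 3)
        rw [c3, hgg, e2, evalW_table w 3, t3]
      · show (h * g * h⁻¹) (gpt 4) = evalW w (gpt 4)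
        rw [c4, evalW_table w 4, hwq]
    rcases hcert with ⟨i, hi, hfix⟩ | ⟨i, hi⟩
    · obtain ⟨x, hx, hgx⟩ := finish hh hconj hi hfix
      exact hcon x hx hgx
    · apply hi
      have h1 : (h * g * h⁻¹) ((h * g * h⁻¹) (gpt i)) = gpt i := by
        rw [Equiv.Perm.mul_apply, Equiv.Perm.mul_apply, Equiv.Perm.mul_apply,
          Equiv.Perm.mul_apply, perm_inv_apply_self, hgg, perm_apply_inv_self]
      rw [hconj, evalW_table w i, evalW_table w] at h1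
      exact gpt_bij.injective h1
  · -- order three
    rw [h3] at hmodD hgp
    have hggg : ∀ x, g (g (g x)) = x := by
      intro x
      have := congrArg (fun f : Equiv.Perm GolayPt => f x) hgp
      simpa [pow_succ, Equiv.Perm.mul_apply] using this
    have hcard3 : 3 ≤ (dod0.filter (fun x => g x = x)).card := by
      have := hmodD.symm
      unfold Nat.ModEq at this
      omega
    have h1 : 1 < ((dod0.filter (fun x => g x = x)).erase (gpt 0)).card := by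
      rw [Finset.card_erase_of_mem h0fil]
      omega
    obtain ⟨x1, hx1, x2, hx2, hx12⟩ := Finset.one_lt_card.mp h1
    rw [Finset.mem_erase, Finset.mem_filter] at hx1 hx2
    obtain ⟨hx10, hx1D, hgx1⟩ := hx1
    obtain ⟨hx20, hx2D, hgx2⟩ := hx2
    have hga0 : g a ≠ gpt 0 := fun h => ha0 (hinj (h.trans hg0.symm))
    have hgga0 : g (g a) ≠ gpt 0 := fun h => hga0 (hinj (h.trans hg0.symm))
    have hx1a : x1 ≠ a := fun h => hga (h ▸ hgx1)
    have hx2a : x2 ≠ a := fun h => hga (h ▸ hgx2)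
    have hx1ga : x1 ≠ g a := fun h => hx1a (hinj (hgx1.trans h))
    have hx2ga : x2 ≠ g a := fun h => hx2a (hinj (hgx2.trans h))
    have hx1gga : x1 ≠ g (g a) := fun h => hx1ga (hinj (hgx1.trans h))
    have hx2gga : x2 ≠ g (g a) := fun h => hx2ga (hinj (hgx2.trans h))
    have hgga_a : g (g a) ≠ a := by
      intro h
      apply hga
      have := hggg a
      rw [h] at this
      exact this
    have hgga_ga : g (g a) ≠ g a := fun h => hga (hinj h)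
    obtain ⟨h, hh, q, hqD, hqn, c0, c1, c2, c3, c4, e1, e2, e3, e4⟩ :=
      key x1 x2 a (g a) (g (g a)) hx1D hx2D haD ((hD a).2 haD) ((hD _).2 ((hD a).2 haD))
        (Ne.symm hx10) (Ne.symm hx20) (Ne.symm ha0) (Ne.symm hga0) hx12 hx1a hx1ga hx2a hx2ga
        (Ne.symm hga) hgga0 (Ne.symm hx1gga) (Ne.symm hx2gga) hgga_a hgga_ga rfl
    obtain ⟨w, hw, hwq⟩ := cover3 q hqD hqn
    obtain ⟨hwD, t0, t1, t2, t3, hcert⟩ := cert3 w hw
    have he12 : evalW w ∈ M12 := evalW_mem_M12 w hwD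
    have hconj12 : h * g * h⁻¹ ∈ M12 := mul_mem (mul_mem hh hg12) (inv_mem hh)
    have hconj : h * g * h⁻¹ = evalW w := by
      apply uniq hconj12 he12
      intro j
      fin_cases j
      · show (h * g * h⁻¹) (gpt 0) = evalW w (gpt 0)
        rw [c0, evalW_table w 0, t0]
      · show (h * g * h⁻¹) (gpt 1) = evalW w (gpt 1)
        rw [c1, hgx1, e1, evalW_table w 1, t1]
      · show (h * g * h⁻¹) (gpt 2) = evalW w (gpt 2)
        rw [c2, hgx2, e2, evalW_table w 2, t2]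
      · show (h * g * h⁻¹) (gpt 3) = evalW w (gpt 3)
        rw [c3, e4, evalW_table w 3, t3]
      · show (h * g * h⁻¹) (gpt 4) = evalW w (gpt 4)
        rw [c4, evalW_table w 4, hwq]
    rcases hcert with ⟨i, hi, hfix⟩ | ⟨i, hi⟩
    · obtain ⟨x, hx, hgx⟩ := finish hh hconj hi hfix
      exact hcon x hx hgx
    · apply hi
      have h1 : (h * g * h⁻¹) ((h * g * h⁻¹) ((h * g * h⁻¹) (gpt i))) = gpt i := by
        simp only [Equiv.Perm.mul_apply, perm_inv_apply_self]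
        rw [hggg, perm_apply_inv_self]
      rw [hconj, evalW_table w i, evalW_table w, evalW_table w] at h1
      exact gpt_bij.injective h1

end Cfsg.Agent.Lib.Helper9.M11Elusive
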