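import Mathlib
import Cfsg.Agent.Lib.Helper9.GolayAbs

set_option autoImplicit false

namespace Cfsg.Agent.Lib.Helper9.GolayAbsG

open Finset Cfsg Cfsg.Agent.Lib.Helper9.GolayAbs

variable {α : Type*} [Fintype α] [DecidableEq α]
variable {C : Submodule (ZMod 2) (α → ZMod 2)}

theorem card_quot (hα : Fintype.card α = 24) (hcard : Nat.card C = 4096) :
    Nat.card ((α → ZMod 2) ⧸ C) = 4096 := by
  have h1 := Submodule.card_eq_card_quotient_mul_card C
  have h2 : Nat.card (α → ZMod 2) = 2 ^ 24 := by
    rw [Nat.card_fun, Nat.card_eq_fintype_card (α := α), hα]; simp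
  rw [h2, hcard] at h1
  have : (2:ℕ)^24 = 4096 * 4096 := by norm_num
  rw [this] at h1
  exact (Nat.eq_of_mul_eq_mul_left (by norm_num) h1).symm

theorem card_le3 (hα : Fintype.card α = 24) :
    (univ.filter fun u : α → ZMod 2 => hammingNorm u ≤ 3).card = 2325 := by
  have h := Finset.card_eq_sum_card_fiberwise
    (s := univ.filter fun u : α → ZMod 2 => hammingNorm u ≤ 3) (t := range 4)
    (f := fun u => hammingNorm u)
    (fun u hu => by
      rw [Finset.mem_coe, mem_filter] at hu
      rw [Finset.mem_coe, mem_range]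
      show hammingNorm u < 4
      omega)
  rw [h]
  have : ∀ k ∈ range 4, ((univ.filter fun u : α → ZMod 2 => hammingNorm u ≤ 3).filter
      (fun u => hammingNorm u = k)).card = (24).choose k := by
    intro k hk
    rw [mem_range] at hk
    have h24 := card_wt_eq (α := α) k
    rw [hα] at h24
    rw [← h24, Finset.filter_filter]
    refine congrArg Finset.card (Finset.filter_congr ?_)
    intro u _
    constructor
    · intro h; exact h.2
    · intro h; exact ⟨by omega, h⟩
  rw [Finset.sum_congr rfl this]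
  simp only [Finset.sum_range_succ, Finset.sum_range_zero]
  norm_num [Nat.choose]

theorem card_eq4 (hα : Fintype.card α = 24) :
    (univ.filter fun u : α → ZMod 2 => hammingNorm u = 4).card = 10626 := by
  rw [card_wt_eq 4, hα]
  norm_num [Nat.choose]

section
variable (hmin : ∀ w ∈ C, w ≠ 0 → 8 ≤ hammingNorm w)
include hmin

theorem eq_of_small {u u' : α → ZMod 2} (h : u - u' ∈ C)
    (hw : hammingNorm u + hammingNorm u' < 8) : u = u' := by
  by_contra hne
  have h0 : u - u' ≠ 0 := sub_ne_zero.mpr hne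
  have h8 := hmin _ h h0
  rw [sub_eq_add2] at h8
  have := wt_add_le u u'
  omega

theorem disjoint_of_four {u u' : α → ZMod 2} (h : u - u' ∈ C) (hu : hammingNorm u = 4)
    (hu' : hammingNorm u' = 4) (hne : u ≠ u') : Disjoint (support₂ u) (support₂ u') := by
  have h0 : u - u' ≠ 0 := sub_ne_zero.mpr hne
  have h8 := hmin _ h h0
  rw [sub_eq_add2] at h8
  have := wt_add u u'
  rw [Finset.disjoint_iff_inter_eq_empty, ← Finset.card_eq_zero]
  omega

theorem fiber_card (F : Finset (α → ZMod 2)) (hF4 : ∀ u ∈ F, hammingNorm u = 4)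
    (hFC : ∀ u ∈ F, ∀ u' ∈ F, u - u' ∈ C) :
    (F.biUnion support₂).card = 4 * F.card := by
  have hdis : ∀ u ∈ F, ∀ u' ∈ F, u ≠ u' → Disjoint (support₂ u) (support₂ u') :=
    fun u hu u' hu' hne => disjoint_of_four hmin (hFC u hu u' hu') (hF4 u hu) (hF4 u' hu') hne
  rw [Finset.card_biUnion hdis,
    Finset.sum_congr rfl (fun u hu => by rw [← wt_eq, hF4 u hu]), Finset.sum_const, smul_eq_mul,
    mul_comm]

theorem fiber_le (hα : Fintype.card α = 24) (F : Finset (α → ZMod 2))
    (hF4 : ∀ u ∈ F, hammingNorm u = 4)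
    (hFC : ∀ u ∈ F, ∀ u' ∈ F, u - u' ∈ C) : F.card ≤ 6 := by
  have h1 := fiber_card hmin F hF4 hFC
  have h3 : (F.biUnion support₂).card ≤ 24 := by
    calc _ ≤ (univ : Finset α).card := card_le_univ _
    _ = 24 := by rw [Finset.card_univ, hα]
  omega

theorem coset_leader (hα : Fintype.card α = 24) (hcard : Nat.card C = 4096) (w : α → ZMod 2) :
    ∃ u : α → ZMod 2, hammingNorm u ≤ 4 ∧ u - w ∈ C := by
  have key := counting (card_quot hα hcard)
    (fun u : α → ZMod 2 => (Submodule.Quotient.mk u : (α → ZMod 2) ⧸ C))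
    (univ.filter fun u : α → ZMod 2 => hammingNorm u ≤ 3)
    (univ.filter fun u : α → ZMod 2 => hammingNorm u = 4) (card_le3 hα) (card_eq4 hα)
    (by
      intro u hu u' hu' h
      rw [mem_filter] at hu hu'
      exact eq_of_small hmin ((Submodule.Quotient.eq C).mp h) (by omega))
    (by
      intro q F hF hq
      apply fiber_le hmin hα F
      · intro u hu
        exact (mem_filter.mp (hF hu)).2
      · intro u hu u' hu'
        exact (Submodule.Quotient.eq C).mp ((hq u hu).trans (hq u' hu').symm))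
    (by
      intro u hu u' hu' h
      rw [mem_filter] at hu hu'
      have := eq_of_small hmin ((Submodule.Quotient.eq C).mp h) (by omega)
      rw [this] at hu
      omega)
    (Submodule.Quotient.mk w)
  rcases key with ⟨u, hu, h⟩ | ⟨F, hF, hF6, hFq, hFall⟩
  · exact ⟨u, by have := (mem_filter.mp hu).2; omega, (Submodule.Quotient.eq C).mp h⟩
  · have hne : F.Nonempty := by rw [← Finset.card_pos, hF6]; norm_num
    obtain ⟨u, hu⟩ := hne
    exact ⟨u, by rw [(mem_filter.mp (hF hu)).2], (Submodule.Quotient.eq C).mp (hFq u hu)⟩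

end

end Cfsg.Agent.Lib.Helper9.GolayAbsG
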