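import Mathlib
import Cfsg.Prelude.Def_Sporadic_a
import Cfsg.Agent.Lib.Helper1.M24Orbit
import Cfsg.Agent.Lib.Helper1.M24Basic
import Cfsg.Agent.Lib.Helper1.LeechIndex
import Cfsg.Agent.Lib.Helper9.GolayAbs
import Cfsg.Agent.S0359
import Cfsg.Agent.S0367

set_option autoImplicit false

namespace Cfsg.Agent.Lib.Helper9.GolayIrr

open Cfsg Cfsg.Agent.Lib.Helper1
open scoped Pointwise

theorem wordOf_xor (m n : ℕ) : wordOf (m ^^^ n) = wordOf m + wordOf n := by
  apply mask_injective
  rw [mask_add, mask_wordOf, mask_wordOf, mask_wordOf, combo_xor]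

theorem idx_facts : popc (combo 15) = 8 ∧ popc (combo 1) = 12 ∧ popc (combo 14) = 12 ∧
    (15 : ℕ) = 1 ^^^ 14 := by decide +kernel

variable {W : Submodule (ZMod 2) (GolayPt → ZMod 2)}

/-- if `W` is invariant and contains one octad word, it contains the whole code (given `1`) -/
theorem code_le_of_octad (h1 : (1 : GolayPt → ZMod 2) ∈ W)
    (hinv : ∀ σ ∈ M24, ∀ w ∈ W, (fun p => w (σ.symm p)) ∈ W)
    {w : GolayPt → ZMod 2} (hw : w ∈ W) (hwc : w ∈ golayCode) (h8 : (support₂ w).card = 8) :
    golayCode ≤ W := by
  have hoct : ∀ m : ℕ, popc (combo m) = 8 → wordOf m ∈ W := by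
    intro m hm
    obtain ⟨g, hg⟩ := Cfsg.Agent.S0367.result (support₂ w) (support₂ (wordOf m))
      ⟨⟨w, hwc, rfl⟩, h8⟩ (wordOf_mem_octads hm)
    have hg' : (g : Equiv.Perm GolayPt) • support₂ w = support₂ (wordOf m) := hg
    rw [← support₂_permWord] at hg'
    rw [← support₂_injective hg']
    exact hinv g g.2 w hw
  unfold golayCode
  rw [Submodule.span_le]
  rintro x (⟨t, rfl⟩ | hx)
  · rw [qrWord_eq_add]
    exact W.add_mem (hoct _ (qIdx_split t).2.1) (hoct _ (qIdx_split t).2.2)
  · rw [Set.mem_singleton_iff] at hx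
    rw [hx]
    exact h1

theorem irr (h1 : (1 : GolayPt → ZMod 2) ∈ W) (hle : W ≤ golayCode)
    (hinv : ∀ σ ∈ M24, ∀ w ∈ W, (fun p => w (σ.symm p)) ∈ W) :
    W = Submodule.span (ZMod 2) {(1 : GolayPt → ZMod 2)} ∨ W = golayCode := by
  by_cases hall : ∀ w ∈ W, w = 0 ∨ w = 1
  · left
    apply le_antisymm
    · intro w hw
      rcases hall w hw with rfl | rfl
      · exact Submodule.zero_mem _
      · exact Submodule.subset_span rfl
    · rw [Submodule.span_le]
      intro x hx
      rw [Set.mem_singleton_iff] at hx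
      rw [hx]
      exact h1
  · right
    push Not at hall
    obtain ⟨w, hw, hw0, hw1⟩ := hall
    have hwc := hle hw
    apply le_antisymm hle
    have hwt := Cfsg.Agent.S0359.result w hwc
    rw [GolayAbs.wt_eq] at hwt
    rcases hwt with h | h | h | h | h
    · exfalso
      apply hw0
      rw [Finset.card_eq_zero] at h
      exact GolayAbs.supp_eq_empty.mp h
    · exact code_le_of_octad h1 hinv hw hwc h
    · -- dodecad
      have hdod : ∀ m : ℕ, popc (combo m) = 12 → wordOf m ∈ W := by
        intro m hm
        have hmd : support₂ (wordOf m) ∈ dodecads := by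
          refine ⟨⟨wordOf m, wordOf_mem m, rfl⟩, ?_⟩
          show (support₂ (wordOf m)).card = 12
          rw [card_support₂, mask_wordOf]
          exact hm
        obtain ⟨g, hg⟩ := M24_dodecad_transitive (d := support₂ w) (d' := support₂ (wordOf m))
          ⟨⟨w, hwc, rfl⟩, h⟩ hmd
        have hg' : (g : Equiv.Perm GolayPt) • support₂ w = support₂ (wordOf m) := hg
        rw [← support₂_permWord] at hg'
        rw [← support₂_injective hg']
        exact hinv g g.2 w hw
      have h15 : wordOf 15 ∈ W := by
        rw [idx_facts.2.2.2, wordOf_xor]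
        exact W.add_mem (hdod 1 idx_facts.2.1) (hdod 14 idx_facts.2.2.1)
      apply code_le_of_octad h1 hinv h15 (wordOf_mem 15)
      rw [card_support₂, mask_wordOf]
      exact idx_facts.1
    · -- weight 16: complement is an octad
      have hw' : w + 1 ∈ W := W.add_mem hw h1
      apply code_le_of_octad h1 hinv hw' (golayCode.add_mem hwc one_mem_golayCode)
      have hc := GolayAbs.card_supp_add w 1
      rw [support₂_one, Finset.inter_univ, h, Finset.card_univ, Fintype.card_option,
        ZMod.card] at hc
      omega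
    · exfalso
      apply hw1
      apply support₂_injective
      rw [support₂_one]
      apply Finset.eq_univ_of_card
      rw [h, Fintype.card_option, ZMod.card]

end Cfsg.Agent.Lib.Helper9.GolayIrr
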