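import Mathlib
import Cfsg.Prelude.Def_Sporadic_a
import Cfsg.Agent.Lib.Helper9.GolayIrr
import Cfsg.Agent.Lib.Helper9.GolayAbsG
import Cfsg.Agent.Lib.Helper9.M24Tools

set_option autoImplicit false

namespace Cfsg.Agent.Lib.Helper9.GolayInv

open Cfsg Cfsg.Agent.Lib.Helper1 Cfsg.Agent.Lib.Helper9.GolayAbs
open scoped Pointwise

theorem card_golay : Nat.card golayCode = 4096 := by
  rw [← Nat.card_congr codeEquiv, Nat.card_eq_fintype_card, Fintype.card_fin]

theorem golay_min : ∀ w ∈ golayCode, w ≠ 0 → 8 ≤ hammingNorm w := by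
  intro w hw h0
  have h := Cfsg.Agent.S0359.result w hw
  have hne : hammingNorm w ≠ 0 := fun h' => h0 (wt_eq_zero.mp h')
  omega

theorem card_pt : Fintype.card GolayPt = 24 := by
  rw [Fintype.card_option, ZMod.card]

theorem golay_leader (w : GolayPt → ZMod 2) :
    ∃ a : GolayPt → ZMod 2, hammingNorm a ≤ 4 ∧ a - w ∈ golayCode :=
  GolayAbsG.coset_leader golay_min card_pt card_golay w

/-- stabilizer of at most four points is transitive on the rest -/
theorem fix_move (A : Finset GolayPt) (hA : A.card ≤ 4) (x y : GolayPt) (hx : x ∉ A)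
    (hy : y ∉ A) : ∃ σ ∈ M24, (∀ p ∈ A, σ p = p) ∧ σ x = y := by
  classical
  have hsub : A ⊆ Finset.univ \ {x, y} := by
    intro p hp
    rw [Finset.mem_sdiff, Finset.mem_insert, Finset.mem_singleton]
    refine ⟨Finset.mem_univ _, ?_⟩
    rintro (rfl | rfl)
    · exact hx hp
    · exact hy hp
  have hcard : 4 ≤ (Finset.univ \ ({x, y} : Finset GolayPt)).card := by
    have h1 := Finset.card_sdiff_add_card_inter Finset.univ ({x, y} : Finset GolayPt)
    have h2 : (Finset.univ ∩ ({x, y} : Finset GolayPt)).card ≤ 2 := by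
      rw [Finset.univ_inter]
      exact Finset.card_le_two
    rw [Finset.card_univ, card_pt] at h1
    omega
  obtain ⟨B, hAB, hB, hB4⟩ := Finset.exists_subsuperset_card_eq hsub hA hcard
  let e : Fin 4 ≃ B := (Finset.equivFinOfCardEq hB4).symm
  have hxB : x ∉ B := fun h => by
    have := hB h
    simp at this
  have hyB : y ∉ B := fun h => by
    have := hB h
    simp at this
  have hinj : Function.Injective (fun j : Fin 4 => (e j : GolayPt)) := fun a b hab =>
    e.injective (Subtype.ext hab)
  have hf : Function.Injective (Fin.cons x (fun j : Fin 4 => (e j : GolayPt)) : Fin 5 → GolayPt) := by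
    rw [Fin.cons_injective_iff]
    refine ⟨?_, hinj⟩
    rintro ⟨j, hj⟩
    exact hxB (hj ▸ (e j).2)
  have hf' : Function.Injective (Fin.cons y (fun j : Fin 4 => (e j : GolayPt)) : Fin 5 → GolayPt) := by
    rw [Fin.cons_injective_iff]
    refine ⟨?_, hinj⟩
    rintro ⟨j, hj⟩
    exact hyB (hj ▸ (e j).2)
  obtain ⟨σ, hσ, hmap⟩ := M24Tools.M24_map5 ⟨_, hf⟩ ⟨_, hf'⟩
  refine ⟨σ, hσ, ?_, ?_⟩
  · intro p hp
    obtain ⟨j, hj⟩ := e.surjective ⟨p, hAB hp⟩
    have := hmap j.succ
    simp only [Function.Embedding.coeFn_mk, Fin.cons_succ] at this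
    rw [hj] at this
    exact this
  · have := hmap 0
    simpa using this

/-- the permutation action on words -/
def act (σ : Equiv.Perm GolayPt) (w : GolayPt → ZMod 2) : GolayPt → ZMod 2 := fun p => w (σ.symm p)

theorem act_add (σ : Equiv.Perm GolayPt) (u v : GolayPt → ZMod 2) :
    act σ (u + v) = act σ u + act σ v := rfl

theorem act_one (σ : Equiv.Perm GolayPt) : act σ 1 = 1 := rfl

theorem act_eq_permWord (σ : Equiv.Perm GolayPt) (w : GolayPt → ZMod 2) :
    act σ w = permWord σ w := rfl

/-- unit vector -/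
def ev (p : GolayPt) : GolayPt → ZMod 2 := Pi.single p 1

theorem act_ev (σ : Equiv.Perm GolayPt) (p : GolayPt) : act σ (ev p) = ev (σ p) := by
  funext q
  unfold act ev
  by_cases h : q = σ p
  · subst h
    simp
  · rw [Pi.single_eq_of_ne h, Pi.single_eq_of_ne]
    intro h'
    apply h
    rw [← h', Equiv.apply_symm_apply]

variable {W : Submodule (ZMod 2) (GolayPt → ZMod 2)}

theorem pairs_of_pair (hinv : ∀ σ ∈ M24, ∀ w ∈ W, act σ w ∈ W) {x y : GolayPt} (hxy : x ≠ y)
    (h : ev x + ev y ∈ W) : ∀ p q : GolayPt, p ≠ q → ev p + ev q ∈ W := by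
  intro p q hpq
  obtain ⟨σ1, h1M, -, h1x⟩ := fix_move ∅ (by simp) x p (by simp) (by simp)
  have hy' : σ1 y ≠ p := fun h' => hxy (σ1.injective (h1x.trans h'.symm))
  obtain ⟨σ2, h2M, h2p, h2y⟩ := fix_move {p} (by simp) (σ1 y) q (by simpa using hy')
    (by simpa using hpq.symm)
  have := hinv σ2 h2M _ (hinv σ1 h1M _ h)
  rw [act_add, act_ev, act_ev, act_add, act_ev, act_ev, h1x, h2y, h2p p (by simp)] at this
  exact this

theorem sum_eq_card (v : GolayPt → ZMod 2) : ∑ p, v p = ((support₂ v).card : ZMod 2) := by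
  have := dot_eq v 1
  simp only [Pi.one_apply, mul_one] at this
  rw [this, support₂_one, Finset.inter_univ]

theorem support₂_ev (p : GolayPt) : support₂ (ev p) = {p} := by
  ext q
  rw [mem_supp, Finset.mem_singleton]
  unfold ev
  by_cases h : q = p
  · subst h; simp
  · rw [Pi.single_eq_of_ne h]
    simp [h]

theorem even_le (hpairs : ∀ p q : GolayPt, p ≠ q → ev p + ev q ∈ W) :
    ∀ n : ℕ, ∀ v : GolayPt → ZMod 2, (support₂ v).card = n → ∑ p, v p = 0 → v ∈ W := by
  intro n
  induction n using Nat.strong_induction_on with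
  | _ n ih =>
    intro v hn hsum
    by_cases h0 : v = 0
    · rw [h0]; exact W.zero_mem
    · have hne : (support₂ v).Nonempty := by
        rw [Finset.nonempty_iff_ne_empty]
        intro h
        exact h0 (supp_eq_empty.mp h)
      have heven : 2 ∣ (support₂ v).card := by
        rw [sum_eq_card] at hsum
        exact (ZMod.natCast_eq_zero_iff _ 2).mp hsum
      have h2 : 2 ≤ (support₂ v).card := by
        have := Finset.card_pos.mpr hne
        omega
      obtain ⟨p, hp⟩ := hne
      have hne' : ((support₂ v).erase p).Nonempty := by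
        rw [← Finset.card_pos, Finset.card_erase_of_mem hp]
        omega
      obtain ⟨q, hq⟩ := hne'
      have hqp : q ≠ p := (Finset.mem_erase.mp hq).1
      have hqv : q ∈ support₂ v := (Finset.mem_erase.mp hq).2
      -- v' = v + (ev p + ev q)
      have hsupp : support₂ (ev p + ev q) = {p, q} := by
        rw [supp_add, support₂_ev, support₂_ev]
        ext r
        simp only [Finset.mem_union, Finset.mem_sdiff, Finset.mem_singleton, Finset.mem_insert]
        constructor
        · rintro (⟨h, _⟩ | ⟨h, _⟩)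
          · exact Or.inl h
          · exact Or.inr h
        · rintro (h | h)
          · left; exact ⟨h, fun h' => hqp (h'.symm.trans h)⟩
          · right; exact ⟨h, fun h' => hqp (h.symm.trans h')⟩
      have hc := card_supp_add v (ev p + ev q)
      have hinter : support₂ v ∩ support₂ (ev p + ev q) = {p, q} := by
        rw [hsupp]
        apply Finset.inter_eq_right.mpr
        intro r hr
        rw [Finset.mem_insert, Finset.mem_singleton] at hr
        rcases hr with rfl | rfl
        · exact hp
        · exact hqv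
      rw [hinter, hsupp, Finset.card_pair hqp.symm] at hc
      have hlt : (support₂ (v + (ev p + ev q))).card < n := by omega
      have hsum' : ∑ r, (v + (ev p + ev q)) r = 0 := by
        rw [sum_eq_card]
        apply (ZMod.natCast_eq_zero_iff _ 2).mpr
        omega
      have hmem := ih _ hlt (v + (ev p + ev q)) rfl hsum'
      have : v = (v + (ev p + ev q)) + (ev p + ev q) := by
        rw [add_assoc, add_self2, add_zero]
      rw [this]
      exact W.add_mem hmem (hpairs p q hqp.symm)

end Cfsg.Agent.Lib.Helper9.GolayInv
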