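import Mathlib
import Cfsg.Prelude.Def_Sporadic_a
import Cfsg.Agent.Lib.Helper1.M24Order
import Cfsg.Agent.Lib.Helper1.M24Trans
import Cfsg.Agent.Lib.Helper1.M24OctFix
import Cfsg.Agent.Lib.Helper9.M24Tools
import Cfsg.Agent.S0363

set_option autoImplicit false

namespace Cfsg.Agent.Lib.Helper9.M24Six

open Cfsg Cfsg.Agent.Lib.Helper1 Cfsg.Agent.Lib.Helper9.M24Tools
open scoped Pointwise

theorem card_fix7 : Nat.card (fixL M24 [23, 0, 1, 2, 3, 4, 5]) = 1 := by
  rw [fixL_M24_base_eq_bot]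
  exact Subgroup.card_bot

theorem card_fix6out : Nat.card (fixL M24 [23, 0, 1, 2, 3, 4]) = 3 := by
  have h6 := upper6
  rw [card_cond6] at h6
  have h7 : Nat.card (fixL M24 ([23, 0, 1, 2, 3, 4] ++ [5])) = 1 := card_fix7
  rw [h7] at h6
  have l6 := lower_step ws6 [23, 0, 1, 2, 3, 4] 5 _ cond6 lvl6
  rw [card_cond6, H0_eq_M24] at l6
  have : Nat.card (fixL M24 ([23, 0, 1, 2, 3, 4] ++ [5])) = 1 := card_fix7
  rw [this] at l6
  omega

theorem card_fix5 : Nat.card (fixL M24 [23, 0, 1, 2, 3]) = 48 := by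
  have h5 := upper5
  rw [card_cond5] at h5
  have h6 : Nat.card (fixL M24 ([23, 0, 1, 2, 3] ++ [4])) = 3 := card_fix6out
  rw [h6] at h5
  have l5 := lower_step ws5 [23, 0, 1, 2, 3] 4 _ cond5 lvl5
  rw [card_cond5, H0_eq_M24, h6] at l5
  omega

theorem lvl6' : (∀ w ∈ ws6, ∀ i ∈ ([23, 0, 1, 2, 3] : List (Fin 24)), evalT w i = i) ∧
    ∀ i, cond6 i = true → i ∈ bfs (ws6.map evalT) 2 [5] := by
  decide +kernel

theorem key6 : ∀ j : Fin 24, (combo 2503).testBit j = true →
    j ∉ ([23, 0, 1, 2, 3] : List (Fin 24)) → cond6 j = true := by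
  decide +kernel

theorem card_fix6in : Nat.card (fixL M24 [23, 0, 1, 2, 3, 5]) = 16 := by
  have hu : Nat.card (fixL M24 [23, 0, 1, 2, 3]) ≤
      (Aset cond6).card * Nat.card (fixL M24 ([23, 0, 1, 2, 3] ++ [5])) := by
    apply upper_step
    intro g hg j hj
    have h := base_octad_inv hg 5 j hj
    have hbit : (combo 2503).testBit j = true := by
      rw [h]
      decide +kernel
    have hnot : j ∉ ([23, 0, 1, 2, 3] : List (Fin 24)) := by
      intro hjL
      have h1 := (mem_fixL.1 hg).2 j hjL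
      have h2 : j = 5 := gpt_bij.injective (g.injective (h1.trans hj.symm))
      rw [h2] at hjL
      revert hjL
      decide
    exact key6 j hbit hnot
  have hl := lower_step ws6 [23, 0, 1, 2, 3] 5 _ cond6 lvl6'
  rw [card_cond6, card_fix5] at hu
  rw [card_cond6, H0_eq_M24, card_fix5] at hl
  have : Nat.card (fixL M24 [23, 0, 1, 2, 3, 5]) =
    Nat.card (fixL M24 ([23, 0, 1, 2, 3] ++ [5])) := rfl
  omega

theorem base5_bits : ∀ i ∈ ([23, 0, 1, 2, 3] : List (Fin 24)), (combo 2503).testBit i = true := by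
  decide +kernel

theorem reach_out (i : Fin 24) (hi : (combo 2503).testBit i = false) :
    ∃ s ∈ fixL M24 [23, 0, 1, 2, 3], s (gpt i) = gpt 4 := by
  obtain ⟨w, hw, hwi⟩ := fixWords_ok.2 i hi
  obtain ⟨hfix, hinv⟩ := fixWords_ok.1 w hw
  refine ⟨evalW w, mem_fixL.mpr ⟨H0_le_M24 (evalW_mem w), fun k hk => ?_⟩, ?_⟩
  · rw [evalW_table w k, hfix k (base5_bits k hk)]
  · rw [evalW_table w i, ← hwi, hinv 4]

/-- the order-3 word -/
def w6 : List ℕ := [3, 0, 3, 0, 3, 1, 4, 0, 4, 4, 0, 0, 3, 0, 3]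

theorem reach_in_cert : ∀ i : Fin 24, (combo 2503).testBit i = true →
    i ∉ ([23, 0, 1, 2, 3] : List (Fin 24)) →
    ∃ w ∈ ([[], w6, w6 ++ w6] : List (List ℕ)),
      (∀ k ∈ ([23, 0, 1, 2, 3] : List (Fin 24)), evalT w k = k) ∧ evalT w i = 5 := by
  decide +kernel

theorem reach_in (i : Fin 24) (hi : (combo 2503).testBit i = true)
    (hi' : i ∉ ([23, 0, 1, 2, 3] : List (Fin 24))) :
    ∃ s ∈ fixL M24 [23, 0, 1, 2, 3], s (gpt i) = gpt 5 := by
  obtain ⟨w, _, hfix, hwi⟩ := reach_in_cert i hi hi'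
  refine ⟨evalW w, mem_fixL.mpr ⟨H0_le_M24 (evalW_mem w), fun k hk => ?_⟩, ?_⟩
  · rw [evalW_table w k, hfix k hk]
  · rw [evalW_table w i, hwi]

/-- target index lists -/
def tgt (b : Bool) : Fin 6 → Fin 24 := if b then ![23, 0, 1, 2, 3, 5] else ![23, 0, 1, 2, 3, 4]

theorem tgt_castSucc (b : Bool) (k : Fin 5) : tgt b k.castSucc = base5 k := by
  revert k b
  decide

theorem tgt_last_true : tgt true (Fin.last 5) = 5 := by decide
theorem tgt_last_false : tgt false (Fin.last 5) = 4 := by decide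

theorem base5_of_mem : ∀ i : Fin 24, i ∈ ([23, 0, 1, 2, 3] : List (Fin 24)) →
    ∃ k : Fin 5, base5 k = i := by decide

theorem base5_mem : ∀ j : Fin 5, base5 j ∈ ([23, 0, 1, 2, 3] : List (Fin 24)) := by decide

theorem base5_inj : Function.Injective base5 := by decide

theorem normalize (e : Fin 6 → GolayPt) (he : Function.Injective e) :
    ∃ b : Bool, ∃ t ∈ M24, ∀ k : Fin 6, t (e k) = gpt (tgt b k) := by
  obtain ⟨h, hhM, hh⟩ := M24_to_base5
    ⟨fun k => e k.castSucc, fun a b hab => Fin.castSucc_injective _ (he hab)⟩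
  obtain ⟨i, hi⟩ := gpt_bij.surjective (h (e (Fin.last 5)))
  have hnot : i ∉ ([23, 0, 1, 2, 3] : List (Fin 24)) := by
    intro hiL
    obtain ⟨k, hk⟩ := base5_of_mem i hiL
    have h1 : h (e k.castSucc) = h (e (Fin.last 5)) := by
      rw [← hi, ← hk]
      exact hh k
    have h2 := he (h.injective h1)
    exact absurd h2 (Fin.castSucc_lt_last k).ne
  by_cases hbit : (combo 2503).testBit i = true
  · obtain ⟨s, hs, hsi⟩ := reach_in i hbit hnot
    obtain ⟨hsM, hsfix⟩ := mem_fixL.mp hs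
    refine ⟨true, s * h, mul_mem hsM hhM, fun k => ?_⟩
    rw [Equiv.Perm.mul_apply]
    rcases Fin.eq_castSucc_or_eq_last k with ⟨j, rfl⟩ | rfl
    · have hj : h (e j.castSucc) = gpt (base5 j) := hh j
      rw [hj, tgt_castSucc]
      exact hsfix _ (base5_mem j)
    · rw [← hi, hsi, tgt_last_true]
  · have hbit' : (combo 2503).testBit i = false := by
      simpa using hbit
    obtain ⟨s, hs, hsi⟩ := reach_out i hbit'
    obtain ⟨hsM, hsfix⟩ := mem_fixL.mp hs
    refine ⟨false, s * h, mul_mem hsM hhM, fun k => ?_⟩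
    rw [Equiv.Perm.mul_apply]
    rcases Fin.eq_castSucc_or_eq_last k with ⟨j, rfl⟩ | rfl
    · have hj : h (e j.castSucc) = gpt (base5 j) := hh j
      rw [hj, tgt_castSucc]
      exact hsfix _ (base5_mem j)
    · rw [← hi, hsi, tgt_last_false]

theorem tgt_true_mem : ∀ k : Fin 6, (combo 2503).testBit (tgt true k) = true := by
  decide +kernel

theorem bit4 : (combo 2503).testBit (4 : Fin 24) = false := by decide +kernel

theorem in_octad_iff (e : Fin 6 → GolayPt) (b : Bool) (t : Equiv.Perm GolayPt) (ht : t ∈ M24)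
    (hte : ∀ k : Fin 6, t (e k) = gpt (tgt b k)) :
    (∃ o ∈ octads, ∀ k, e k ∈ o) ↔ b = true := by
  constructor
  · rintro ⟨o, ho, hoe⟩
    by_contra hb
    have hb' : b = false := by simpa using hb
    subst hb'
    have hto : t • o ∈ octads := smul_mem_octads ht ho
    have hmem : ∀ k : Fin 6, gpt (tgt false k) ∈ t • o := by
      intro k
      rw [← hte k, ← Equiv.Perm.smul_def]
      exact Finset.smul_mem_smul_finset (hoe k)
    -- the five base points
    let s5 : Finset GolayPt := Finset.univ.image (fun k : Fin 5 => gpt (base5 k))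
    have hs5 : s5.card = 5 := by
      show (Finset.univ.image (fun k : Fin 5 => gpt (base5 k))).card = 5
      rw [Finset.card_image_of_injective _
        (fun a b hab => base5_inj (gpt_bij.injective hab))]
      simp
    obtain ⟨u, _, huniq⟩ := (Cfsg.Agent.S0363.result).2 s5 hs5
    have h1 : t • o = u := by
      apply huniq
      refine ⟨hto, fun x hx => ?_⟩
      obtain ⟨k, _, rfl⟩ := Finset.mem_image.mp hx
      have := hmem k.castSucc
      rwa [tgt_castSucc] at this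
    have h2 : oct0 = u := by
      apply huniq
      refine ⟨oct0_mem, fun x hx => ?_⟩
      obtain ⟨k, _, rfl⟩ := Finset.mem_image.mp hx
      rw [gpt_mem_oct0]
      exact base5_bits _ (base5_mem k)
    have h3 := hmem (Fin.last 5)
    rw [h1, ← h2, tgt_last_false, gpt_mem_oct0, bit4] at h3
    exact absurd h3 (by simp)
  · rintro rfl
    refine ⟨t⁻¹ • oct0, smul_mem_octads (inv_mem ht) oct0_mem, fun k => ?_⟩
    rw [Finset.mem_inv_smul_finset_iff, Equiv.Perm.smul_def, hte k, gpt_mem_oct0]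
    exact tgt_true_mem k

/-- conjugating pointwise stabilizers -/
theorem card_pointwise (E : Finset GolayPt) (L : List (Fin 24)) (t : Equiv.Perm GolayPt)
    (ht : t ∈ M24) (h1 : ∀ p ∈ E, ∃ i ∈ L, t p = gpt i) (h2 : ∀ i ∈ L, ∃ p ∈ E, t p = gpt i) :
    Nat.card {g : Equiv.Perm GolayPt // g ∈ M24 ∧ ∀ p ∈ E, g p = p} = Nat.card (fixL M24 L) := by
  apply Nat.card_congr
  refine ⟨fun g => ⟨t * g.1 * t⁻¹, mem_fixL.mpr ⟨mul_mem (mul_mem ht g.2.1) (inv_mem ht), ?_⟩⟩,
    fun s => ⟨t⁻¹ * s.1 * t, mul_mem (mul_mem (inv_mem ht) (mem_fixL.mp s.2).1) ht, ?_⟩, ?_, ?_⟩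
  · intro i hi
    obtain ⟨p, hp, hpi⟩ := h2 i hi
    simp only [Equiv.Perm.mul_apply]
    rw [← hpi]
    have : t⁻¹ (t p) = p := t.symm_apply_apply p
    rw [this, g.2.2 p hp]
  · intro p hp
    obtain ⟨i, hi, hpi⟩ := h1 p hp
    simp only [Equiv.Perm.mul_apply]
    rw [hpi, (mem_fixL.mp s.2).2 i hi, ← hpi]
    exact t.symm_apply_apply p
  · intro g
    apply Subtype.ext
    show t⁻¹ * (t * g.1 * t⁻¹) * t = g.1
    group
  · intro s
    apply Subtype.ext
    show t * (t⁻¹ * s.1 * t) * t⁻¹ = s.1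
    group

end Cfsg.Agent.Lib.Helper9.M24Six
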