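import Mathlib
import Cfsg.Prelude.Def_Sporadic_a
import Cfsg.Agent.Lib.Helper9.M24Six
import Cfsg.Agent.Lib.Helper9.M24Tools
import Cfsg.Agent.Lib.Helper9.GolayInv
import Cfsg.Agent.Lib.Helper1.M12Trans

set_option autoImplicit false

namespace Cfsg.Agent.Lib.Helper9.M24Enum

open Cfsg Cfsg.Agent.Lib.Helper1
open scoped Pointwise

theorem evalW_append (u v : List ℕ) : evalW (u ++ v) = evalW u * evalW v := by
  unfold evalW
  rw [List.map_append, List.prod_append]

theorem eq_of_hasTable {g g' : Equiv.Perm GolayPt} {T : Fin 24 → Fin 24} (h : HasTable g T)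
    (h' : HasTable g' T) : g = g' := by
  apply Equiv.ext
  intro q
  obtain ⟨i, rfl⟩ := gpt_bij.surjective q
  rw [h i, h' i]

theorem evalW_mem_M24 (w : List ℕ) : evalW w ∈ M24 := H0_le_M24 (evalW_mem w)

def vWords : List (List ℕ) := [[], M24Six.w6, M24Six.w6 ++ M24Six.w6]

theorem v_cert : ∀ k : Fin 24, cond6 k = true → ∃ v ∈ vWords,
    (∀ i ∈ ([23, 0, 1, 2, 3, 4] : List (Fin 24)), evalT v i = i) ∧ evalT v 5 = k := by
  decide +kernel

theorem list6 : ∀ i ∈ ([23, 0, 1, 2, 3, 4] : List (Fin 24)),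
    i ∈ ([23, 0, 1, 2, 3] : List (Fin 24)) ∨ i = 4 := by decide

theorem list7 : ∀ i ∈ ([23, 0, 1, 2, 3, 4, 5] : List (Fin 24)),
    i ∈ ([23, 0, 1, 2, 3, 4] : List (Fin 24)) ∨ i = 5 := by decide

theorem list56 : ∀ i ∈ ([23, 0, 1, 2, 3] : List (Fin 24)),
    i ∈ ([23, 0, 1, 2, 3, 4] : List (Fin 24)) := by decide

theorem not5 : (5 : Fin 24) ∉ ([23, 0, 1, 2, 3] : List (Fin 24)) := by decide

/-- enumeration of the pointwise stabilizer of the five base points -/
theorem stab5_enum {s : Equiv.Perm GolayPt} (hs : s ∈ fixL M24 [23, 0, 1, 2, 3]) :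
    ∃ u ∈ fixWords, ∃ v ∈ vWords, s = evalW (u ++ v) := by
  obtain ⟨j, hj⟩ := gpt_bij.surjective (s (gpt 4))
  have hbit : (combo 2503).testBit j = false := by
    rw [base_octad_inv hs 4 j hj.symm]
    decide +kernel
  obtain ⟨u, hu, huj⟩ := fixWords_ok.2 j hbit
  have hfu := mem_octFix.1 (evalW_mem_octFix hu)
  have hf5 : ∀ i ∈ ([23, 0, 1, 2, 3] : List (Fin 24)), evalW u (gpt i) = gpt i := fun i hi =>
    hfu.2 _ ((gpt_mem_oct0 i).2 (M24Six.base5_bits i hi))
  have hsM := (mem_fixL.1 hs).1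
  have hs5 := (mem_fixL.1 hs).2
  have hs1 : (evalW u)⁻¹ * s ∈ fixL M24 [23, 0, 1, 2, 3, 4] := by
    rw [mem_fixL]
    refine ⟨mul_mem (inv_mem hfu.1) hsM, ?_⟩
    intro i hi
    rw [Equiv.Perm.mul_apply, Equiv.Perm.inv_eq_iff_eq]
    rcases list6 i hi with h | rfl
    · rw [hs5 i h, hf5 i h]
    · rw [← hj, evalW_table u 4, huj]
  have hs1' : (evalW u)⁻¹ * s ∈ fixL M24 [23, 0, 1, 2, 3] := by
    rw [mem_fixL] at hs1 ⊢
    exact ⟨hs1.1, fun i hi => hs1.2 i (list56 i hi)⟩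
  obtain ⟨k, hk⟩ := gpt_bij.surjective (((evalW u)⁻¹ * s) (gpt 5))
  have hkbit : (combo 2503).testBit k = true := by
    rw [base_octad_inv hs1' 5 k hk.symm]
    decide +kernel
  have hknot : k ∉ ([23, 0, 1, 2, 3] : List (Fin 24)) := by
    intro hkL
    have h1 := (mem_fixL.1 hs1').2 k hkL
    have h2 : k = 5 := gpt_bij.injective (((evalW u)⁻¹ * s).injective (h1.trans hk))
    rw [h2] at hkL
    exact not5 hkL
  obtain ⟨v, hv, hvfix, hvk⟩ := v_cert k (M24Six.key6 k hkbit hknot)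
  refine ⟨u, hu, v, hv, ?_⟩
  have hone : (evalW v)⁻¹ * ((evalW u)⁻¹ * s) = 1 := by
    apply M24Tools.eq_one_of_fix_base (mul_mem (inv_mem (evalW_mem_M24 v)) (mem_fixL.1 hs1).1)
    intro i hi
    rw [Equiv.Perm.mul_apply, Equiv.Perm.inv_eq_iff_eq]
    rcases list7 i hi with h | rfl
    · rw [(mem_fixL.1 hs1).2 i h, evalW_table v i, hvfix i h]
    · rw [← hk, evalW_table v 5, hvk]
  rw [evalW_append]
  have h2 : (evalW u)⁻¹ * s = evalW v := (inv_mul_eq_one.mp hone).symm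
  rw [← h2]
  group

/-- enumeration of the elements with prescribed images of the five base points -/
theorem coset_enum {g : Equiv.Perm GolayPt} (hg : g ∈ M24) (t : List ℕ)
    (h : ∀ i ∈ ([23, 0, 1, 2, 3] : List (Fin 24)), g (gpt i) = gpt (evalT t i)) :
    ∃ u ∈ fixWords, ∃ v ∈ vWords, g = evalW (t ++ (u ++ v)) := by
  have hs : (evalW t)⁻¹ * g ∈ fixL M24 [23, 0, 1, 2, 3] := by
    rw [mem_fixL]
    refine ⟨mul_mem (inv_mem (evalW_mem_M24 t)) hg, fun i hi => ?_⟩
    rw [Equiv.Perm.mul_apply, h i hi, Equiv.Perm.inv_eq_iff_eq, evalW_table t i]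
  obtain ⟨u, hu, v, hv, huv⟩ := stab5_enum hs
  refine ⟨u, hu, v, hv, ?_⟩
  rw [evalW_append, ← huv]
  group

/-- an element of `M24` moving at most two points is trivial -/
theorem eq_one_of_moves_two {g : Equiv.Perm GolayPt} (hg : g ∈ M24) {a b : GolayPt}
    (hab : a ≠ b) (hfix : ∀ x, x ≠ a → x ≠ b → g x = x) : g = 1 := by
  obtain ⟨σ1, h1M, -, h1a⟩ := GolayInv.fix_move ∅ (by simp) a (gpt 6) (by simp) (by simp)
  have hb6 : σ1 b ≠ gpt 6 := fun h => hab (σ1.injective (h1a.trans h.symm))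
  have h67 : gpt 7 ≠ gpt 6 := fun h => by
    have := gpt_bij.injective h
    revert this
    decide
  obtain ⟨σ2, h2M, h2fix, h2b⟩ := GolayInv.fix_move {gpt 6} (by simp) (σ1 b) (gpt 7)
    (by simpa using hb6) (by simpa using h67)
  set h := σ2 * σ1 with hh
  have hha : h a = gpt 6 := by
    rw [hh, Equiv.Perm.mul_apply, h1a, h2fix _ (by simp)]
  have hhb : h b = gpt 7 := by
    rw [hh, Equiv.Perm.mul_apply, h2b]
  have hhM : h ∈ M24 := mul_mem h2M h1M
  have hone : h * g * h⁻¹ = 1 := by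
    apply M24Tools.eq_one_of_fix_base (mul_mem (mul_mem hhM hg) (inv_mem hhM))
    intro i hi
    have hi6 : i ≠ 6 := by
      intro h'; rw [h'] at hi; revert hi; decide
    have hi7 : i ≠ 7 := by
      intro h'; rw [h'] at hi; revert hi; decide
    rw [Equiv.Perm.mul_apply, Equiv.Perm.mul_apply]
    have hx : g (h⁻¹ (gpt i)) = h⁻¹ (gpt i) := by
      apply hfix
      · intro h'
        apply hi6
        apply gpt_bij.injective
        rw [← hha, ← h', perm_apply_inv_self]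
      · intro h'
        apply hi7
        apply gpt_bij.injective
        rw [← hhb, ← h', perm_apply_inv_self]
    rw [hx, perm_apply_inv_self]
  have : g = h⁻¹ * (h * g * h⁻¹) * h := by group
  rw [this, hone]
  group

end Cfsg.Agent.Lib.Helper9.M24Enum
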