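import Mathlib
import Cfsg.Prelude.Def_Sporadic_a
import Cfsg.Agent.Lib.Helper9.M24Enum
import Cfsg.Agent.Lib.Helper9.M11Elusive

set_option autoImplicit false

namespace Cfsg.Agent.Lib.Helper9.M24Ord3

open Cfsg Cfsg.Agent.Lib.Helper1 Cfsg.Agent.Lib.Helper9.M24Enum
open scoped Pointwise

def tq5 : List ℕ := [2, 0, 0, 4, 0, 4, 0, 0, 3, 1, 1, 1]
def tq4 : List ℕ := [2, 0, 3, 0, 4, 0, 0, 4, 4]
def s0w : List ℕ := [3, 0, 3, 0, 3, 1, 4, 0, 4, 4, 0, 0, 3, 0, 3]
def r0w : List ℕ := [0, 2]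
def ksw : List ℕ := [0, 3, 0, 3, 0, 3]
def krw : List ℕ := [0, 0, 3, 0, 0, 3, 3, 1, 3, 3]

def conjS : List (List ℕ) := [[1, 2, 3, 3, 0, 4, 1, 1, 4, 4],
    [1, 1, 2, 0, 0, 3, 1],
    [0, 2, 3, 1, 2, 4, 0, 3, 1, 1],
    [3, 0, 3, 0, 2, 3, 0, 4]]

def conjR : List (List ℕ) := [[1, 2, 4, 0, 2, 1, 3, 3, 1, 4, 0],
    [0, 3, 1, 1, 3, 0, 0, 0, 0],
    [1, 1, 1, 1, 3, 1, 1, 2, 4, 0, 0, 3]]

theorem tq_cert : (∀ tq ∈ [tq5, tq4], evalT tq 23 = 0 ∧ evalT tq 0 = 1 ∧ evalT tq 1 = 23 ∧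
    evalT tq 2 = 3) ∧ evalT tq5 3 = 5 ∧ evalT tq4 3 = 4 := by
  decide +kernel

theorem ord3_cert : ∀ tq ∈ [tq5, tq4], ∀ u ∈ fixWords, ∀ v ∈ vWords,
    (∀ i : Fin 24, evalT (tq ++ (u ++ v)) (evalT (tq ++ (u ++ v))
      (evalT (tq ++ (u ++ v)) i)) = i) →
    (∃ k ∈ conjS, ∀ i : Fin 24,
      evalT k (evalT (tq ++ (u ++ v)) i) = evalT s0w (evalT k i)) ∨
    (∃ k ∈ conjR, ∀ i : Fin 24,
      evalT k (evalT (tq ++ (u ++ v)) i) = evalT r0w (evalT k i)) := by
  decide +kernel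

theorem s0_cert : (∀ i : Fin 24, evalT s0w i = i ↔ i ∈ ([23, 0, 1, 2, 3, 4] : List (Fin 24))) ∧
    (∀ i : Fin 24, evalT s0w (evalT s0w (evalT s0w i)) = i) ∧
    (∀ i : Fin 24, evalT r0w i ≠ i) ∧
    (∀ i : Fin 24, evalT r0w (evalT r0w (evalT r0w i)) = i) ∧
    (∀ i : Fin 24, evalT ksw (evalT s0w (evalT s0w i)) = evalT s0w (evalT ksw i)) ∧
    (∀ i : Fin 24, evalT krw (evalT r0w (evalT r0w i)) = evalT r0w (evalT krw i)) := by
  decide +kernel

/-- the standard element of order three with six fixed points -/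
noncomputable def s0 : Equiv.Perm GolayPt := evalW s0w

/-- the standard fixed point free element of order three -/
noncomputable def r0 : Equiv.Perm GolayPt := evalW r0w

theorem s0_mem : s0 ∈ M24 := evalW_mem_M24 s0w
theorem r0_mem : r0 ∈ M24 := evalW_mem_M24 r0w

/-- the six fixed points of `s0` -/
def fix6 : Finset GolayPt := Finset.univ.image (fun j : Fin 6 => gpt (M24Six.tgt false j))

theorem tgt_mem : ∀ j : Fin 6, M24Six.tgt false j ∈ ([23, 0, 1, 2, 3, 4] : List (Fin 24)) := by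
  decide

theorem mem_fix6 (i : Fin 24) : gpt i ∈ fix6 ↔ i ∈ ([23, 0, 1, 2, 3, 4] : List (Fin 24)) := by
  unfold fix6
  rw [Finset.mem_image]
  constructor
  · rintro ⟨j, -, hj⟩
    have := gpt_bij.injective hj
    rw [← this]
    exact tgt_mem j
  · intro hi
    have : ∀ r : Fin 24, r ∈ ([23, 0, 1, 2, 3, 4] : List (Fin 24)) →
        ∃ j : Fin 6, M24Six.tgt false j = r := by decide
    obtain ⟨j, hj⟩ := this i hi
    exact ⟨j, Finset.mem_univ _, by rw [hj]⟩

theorem card_fix6 : fix6.card = 6 := by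
  unfold fix6
  rw [Finset.card_image_of_injective]
  · simp
  · intro a b hab
    have := gpt_bij.injective hab
    revert this
    revert a b
    decide

theorem s0_fix (p : GolayPt) : s0 p = p ↔ p ∈ fix6 := by
  obtain ⟨i, rfl⟩ := gpt_bij.surjective p
  unfold s0
  rw [evalW_table s0w i, mem_fix6, ← s0_cert.1 i]
  exact ⟨fun h => gpt_bij.injective h, fun h => by rw [h]⟩

theorem r0_fpf (p : GolayPt) : r0 p ≠ p := by
  obtain ⟨i, rfl⟩ := gpt_bij.surjective p
  unfold r0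
  rw [evalW_table r0w i]
  exact fun h => s0_cert.2.2.1 i (gpt_bij.injective h)

theorem cube_of_table {w : List ℕ} (h : ∀ i : Fin 24, evalT w (evalT w (evalT w i)) = i) :
    evalW w * evalW w * evalW w = 1 := by
  have hT : HasTable (evalW w * evalW w * evalW w) ((evalT w ∘ evalT w) ∘ evalT w) :=
    ((evalW_table w).mul (evalW_table w)).mul (evalW_table w)
  exact eq_one_of_hasTable_id hT (fun i => h i)

theorem s0_cube : s0 * s0 * s0 = 1 := cube_of_table s0_cert.2.1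
theorem r0_cube : r0 * r0 * r0 = 1 := cube_of_table s0_cert.2.2.2.1

theorem conj_of_table {k sw : List ℕ} {g2 : Equiv.Perm GolayPt} {T : Fin 24 → Fin 24}
    (hT : HasTable g2 T) (hk : ∀ i : Fin 24, evalT k (T i) = evalT sw (evalT k i)) :
    evalW k * g2 * (evalW k)⁻¹ = evalW sw := by
  have h1 : evalW k * g2 = evalW sw * evalW k := by
    apply eq_of_hasTable ((evalW_table k).mul hT)
    have h2 := (evalW_table sw).mul (evalW_table k)
    have h3 : evalT k ∘ T = evalT sw ∘ evalT k := funext hk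
    rw [h3]
    exact h2
  rw [h1]
  group

/-- `s0` is conjugate to its inverse -/
theorem sq_table (w : List ℕ) :
    HasTable (evalW w * evalW w) (fun i => evalT w (evalT w i)) :=
  (evalW_table w).mul (evalW_table w)

theorem s0_inv_conj : ∃ k ∈ M24, k * (s0 * s0) * k⁻¹ = s0 :=
  ⟨evalW ksw, evalW_mem_M24 ksw, conj_of_table (sq_table s0w) s0_cert.2.2.2.2.1⟩

theorem r0_inv_conj : ∃ k ∈ M24, k * (r0 * r0) * k⁻¹ = r0 :=
  ⟨evalW krw, evalW_mem_M24 krw, conj_of_table (sq_table r0w) s0_cert.2.2.2.2.2⟩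

theorem finish3 {g2 : Equiv.Perm GolayPt} (hg2 : g2 ∈ M24) (hinv : ∀ x, g2 (g2 (g2 x)) = x)
    {tq : List ℕ} (htq : tq ∈ [tq5, tq4])
    (hbase : ∀ i ∈ ([23, 0, 1, 2, 3] : List (Fin 24)), g2 (gpt i) = gpt (evalT tq i)) :
    (∃ k ∈ M24, k * g2 * k⁻¹ = s0) ∨ (∃ k ∈ M24, k * g2 * k⁻¹ = r0) := by
  obtain ⟨u, hu, v, hv, hguv⟩ := coset_enum hg2 tq hbase
  have hT := evalW_table (tq ++ (u ++ v))
  rw [← hguv] at hT
  have hTT : ∀ i : Fin 24, evalT (tq ++ (u ++ v)) (evalT (tq ++ (u ++ v))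
      (evalT (tq ++ (u ++ v)) i)) = i := by
    intro i
    apply gpt_bij.injective
    rw [← hT, ← hT, ← hT, hinv]
  rcases ord3_cert tq htq u hu v hv hTT with ⟨k, _, hk⟩ | ⟨k, _, hk⟩
  · exact Or.inl ⟨evalW k, evalW_mem_M24 k, conj_of_table hT hk⟩
  · exact Or.inr ⟨evalW k, evalW_mem_M24 k, conj_of_table hT hk⟩

/-- an element of `M24` moving at most three points is trivial -/
theorem eq_one_of_moves_three {g : Equiv.Perm GolayPt} (hg : g ∈ M24) {a b c : GolayPt}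
    (hab : a ≠ b) (hac : a ≠ c) (hbc : b ≠ c)
    (hfix : ∀ x, x ≠ a → x ≠ b → x ≠ c → g x = x) : g = 1 := by
  have hne : ∀ {i j : Fin 24}, i ≠ j → gpt i ≠ gpt j := fun h h' => h (gpt_bij.injective h')
  obtain ⟨σ1, h1M, -, h1a⟩ := GolayInv.fix_move ∅ (by simp) a (gpt 6) (by simp) (by simp)
  have hb6 : σ1 b ≠ gpt 6 := fun h => hab (σ1.injective (h1a.trans h.symm))
  obtain ⟨σ2, h2M, h2fix, h2b⟩ := GolayInv.fix_move {gpt 6} (by simp) (σ1 b) (gpt 7)
    (by simpa using hb6) (by simpa using hne (show (7 : Fin 24) ≠ 6 by decide))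
  have h26 : σ2 (gpt 6) = gpt 6 := h2fix _ (by simp)
  have hc6 : σ2 (σ1 c) ≠ gpt 6 := by
    intro h
    apply hac
    apply σ1.injective
    apply σ2.injective
    rw [h1a, h26, h]
  have hc7 : σ2 (σ1 c) ≠ gpt 7 := by
    intro h
    apply hbc
    apply σ1.injective
    apply σ2.injective
    rw [h2b, h]
  obtain ⟨σ3, h3M, h3fix, h3c⟩ := GolayInv.fix_move {gpt 6, gpt 7}
    (le_trans Finset.card_le_two (by norm_num)) (σ2 (σ1 c)) (gpt 8)
    (by simp only [Finset.mem_insert, Finset.mem_singleton, not_or]; exact ⟨hc6, hc7⟩)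
    (by
      simp only [Finset.mem_insert, Finset.mem_singleton, not_or]
      exact ⟨hne (by decide), hne (by decide)⟩)
  set h := σ3 * (σ2 * σ1) with hh
  have hha : h a = gpt 6 := by
    rw [hh, Equiv.Perm.mul_apply, Equiv.Perm.mul_apply, h1a, h26, h3fix _ (by simp)]
  have hhb : h b = gpt 7 := by
    rw [hh, Equiv.Perm.mul_apply, Equiv.Perm.mul_apply, h2b, h3fix _ (by simp)]
  have hhc : h c = gpt 8 := by
    rw [hh, Equiv.Perm.mul_apply, Equiv.Perm.mul_apply, h3c]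
  have hhM : h ∈ M24 := mul_mem h3M (mul_mem h2M h1M)
  have hone : h * g * h⁻¹ = 1 := by
    apply M24Tools.eq_one_of_fix_base (mul_mem (mul_mem hhM hg) (inv_mem hhM))
    intro i hi
    have hi6 : i ≠ 6 := by
      intro h'; rw [h'] at hi; revert hi; decide
    have hi7 : i ≠ 7 := by
      intro h'; rw [h'] at hi; revert hi; decide
    have hi8 : i ≠ 8 := by
      intro h'; rw [h'] at hi; revert hi; decide
    rw [Equiv.Perm.mul_apply, Equiv.Perm.mul_apply]
    have hx : g (h⁻¹ (gpt i)) = h⁻¹ (gpt i) := by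
      apply hfix
      · intro h'
        apply hi6
        apply gpt_bij.injective
        rw [← hha, ← h', perm_apply_inv_self]
      · intro h'
        apply hi7
        apply gpt_bij.injective
        rw [← hhb, ← h', perm_apply_inv_self]
      · intro h'
        apply hi8
        apply gpt_bij.injective
        rw [← hhc, ← h', perm_apply_inv_self]
    rw [hx, perm_apply_inv_self]
  have : g = h⁻¹ * (h * g * h⁻¹) * h := by group
  rw [this, hone]
  group

/-- every element of order three of `M24` is conjugate to one of the two standard ones -/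
theorem ord3_class {g : Equiv.Perm GolayPt} (hg : g ∈ M24) (hggg : ∀ x, g (g (g x)) = x)
    (hne : g ≠ 1) :
    (∃ k ∈ M24, k * g * k⁻¹ = s0) ∨ (∃ k ∈ M24, k * g * k⁻¹ = r0) := by
  classical
  have hinj : ∀ {u v : GolayPt}, g u = g v → u = v := fun h => g.injective h
  obtain ⟨a, hga⟩ : ∃ a, g a ≠ a := by
    by_contra hall
    push Not at hall
    exact hne (Equiv.ext hall)
  have hcb : g (g a) ≠ g a := fun h => hga (hinj h)
  have hca : g (g a) ≠ a := by
    intro h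
    apply hga
    have := hggg a
    rw [h] at this
    exact this
  obtain ⟨d, hda, hdb, hdc, hgd⟩ : ∃ d, d ≠ a ∧ d ≠ g a ∧ d ≠ g (g a) ∧ g d ≠ d := by
    by_contra hall
    push Not at hall
    exact hne (eq_one_of_moves_three hg (Ne.symm hga) (Ne.symm hca) (Ne.symm hcb)
      (fun x h1 h2 h3 => hall x h1 h2 h3))
  have hea : g d ≠ a := by
    intro h
    apply hdc
    apply hinj
    rw [h, hggg]
  have heb : g d ≠ g a := fun h => hda (hinj h)
  have hec : g d ≠ g (g a) := fun h => hdb (hinj h)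
  obtain ⟨h, hh, hmap⟩ := M24_to_base5 (M24Tools.emb5 a (g a) (g (g a)) d (g d) (Ne.symm hga)
    (Ne.symm hca) (Ne.symm hda) (Ne.symm hea) (Ne.symm hcb) (Ne.symm hdb) (Ne.symm heb)
    (Ne.symm hdc) (Ne.symm hec) (Ne.symm hgd))
  have e0 : h a = gpt 23 := hmap 0
  have e1 : h (g a) = gpt 0 := hmap 1
  have e2 : h (g (g a)) = gpt 1 := hmap 2
  have e3 : h d = gpt 2 := hmap 3
  have e4 : h (g d) = gpt 3 := hmap 4
  set g1 := h * g * h⁻¹ with hg1
  have hg1M : g1 ∈ M24 := mul_mem (mul_mem hh hg) (inv_mem hh)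
  have hconj : ∀ y, g1 (h y) = h (g y) := fun y => M11Elusive.conj_apply h g y
  have c0 : g1 (gpt 23) = gpt 0 := by rw [← e0, hconj, e1]
  have c1 : g1 (gpt 0) = gpt 1 := by rw [← e1, hconj, e2]
  have c2 : g1 (gpt 1) = gpt 23 := by rw [← e2, hconj, hggg, e0]
  have c3 : g1 (gpt 2) = gpt 3 := by rw [← e3, hconj, e4]
  have hg1inv : ∀ x, g1 (g1 (g1 x)) = x := by
    intro x
    rw [hg1]
    simp only [Equiv.Perm.mul_apply, perm_inv_apply_self]
    rw [hggg, perm_apply_inv_self]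
  obtain ⟨q, hq⟩ := gpt_bij.surjective (g1 (gpt 3))
  have tqc := tq_cert
  have hreduce : ∀ (tq : List ℕ), tq ∈ [tq5, tq4] → ∀ s ∈ fixL M24 [23, 0, 1, 2, 3],
      s (gpt q) = gpt (evalT tq 3) →
      (∃ k ∈ M24, k * g * k⁻¹ = s0) ∨ (∃ k ∈ M24, k * g * k⁻¹ = r0) := by
    intro tq htq s hs hsq
    have hsM := (mem_fixL.1 hs).1
    have hsfix := (mem_fixL.1 hs).2
    obtain ⟨t23, t0', t1, t2⟩ := tqc.1 tq htq
    have hsinv : ∀ i ∈ ([23, 0, 1, 2, 3] : List (Fin 24)), s⁻¹ (gpt i) = gpt i := by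
      intro i hi
      rw [Equiv.Perm.inv_eq_iff_eq, hsfix i hi]
    have hg2M : s * g1 * s⁻¹ ∈ M24 := mul_mem (mul_mem hsM hg1M) (inv_mem hsM)
    have hg2inv : ∀ x, (s * g1 * s⁻¹) ((s * g1 * s⁻¹) ((s * g1 * s⁻¹) x)) = x := by
      intro x
      simp only [Equiv.Perm.mul_apply, perm_inv_apply_self]
      rw [hg1inv, perm_apply_inv_self]
    have hbase : ∀ i ∈ ([23, 0, 1, 2, 3] : List (Fin 24)),
        (s * g1 * s⁻¹) (gpt i) = gpt (evalT tq i) := by
      intro i hi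
      rw [Equiv.Perm.mul_apply, Equiv.Perm.mul_apply, hsinv i hi]
      have hcases : i = 23 ∨ i = 0 ∨ i = 1 ∨ i = 2 ∨ i = 3 := by
        have hgen : ∀ r : Fin 24, r ∈ ([23, 0, 1, 2, 3] : List (Fin 24)) →
            r = 23 ∨ r = 0 ∨ r = 1 ∨ r = 2 ∨ r = 3 := by decide
        exact hgen i hi
      rcases hcases with rfl | rfl | rfl | rfl | rfl
      · rw [c0, t23, hsfix 0 (by simp)]
      · rw [c1, t0', hsfix 1 (by simp)]
      · rw [c2, t1, hsfix 23 (by simp)]
      · rw [c3, t2, hsfix 3 (by simp)]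
      · rw [← hq, hsq]
    rcases finish3 hg2M hg2inv htq hbase with ⟨k, hk, hkc⟩ | ⟨k, hk, hkc⟩
    · left
      refine ⟨k * (s * h), mul_mem hk (mul_mem hsM hh), ?_⟩
      rw [← hkc, hg1]
      group
    · right
      refine ⟨k * (s * h), mul_mem hk (mul_mem hsM hh), ?_⟩
      rw [← hkc, hg1]
      group
  have hqn : q ∉ ([23, 0, 1, 2, 3] : List (Fin 24)) := by
    intro hmem
    have hcases : q = 23 ∨ q = 0 ∨ q = 1 ∨ q = 2 ∨ q = 3 := by
      have hgen : ∀ r : Fin 24, r ∈ ([23, 0, 1, 2, 3] : List (Fin 24)) →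
          r = 23 ∨ r = 0 ∨ r = 1 ∨ r = 2 ∨ r = 3 := by decide
      exact hgen q hmem
    have hinj1 : ∀ {j : Fin 24}, g1 (gpt j) = gpt q → j = 3 := by
      intro j hj
      exact gpt_bij.injective (g1.injective (hj.trans hq))
    rcases hcases with rfl | rfl | rfl | rfl | rfl
    · have := hinj1 c2; revert this; decide
    · have := hinj1 c0; revert this; decide
    · have := hinj1 c1; revert this; decide
    · -- g1 (gpt 3) = gpt 2 contradicts order three
      have h1 := hg1inv (gpt 2)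
      rw [c3, ← hq, c3] at h1
      have := gpt_bij.injective h1
      revert this
      decide
    · have := hinj1 c3; revert this; decide
  by_cases hbit : (combo 2503).testBit q = true
  · obtain ⟨s, hs, hsq⟩ := M24Six.reach_in q hbit hqn
    apply hreduce tq5 (by simp) s hs
    rw [hsq, tqc.2.1]
  · rw [Bool.not_eq_true] at hbit
    obtain ⟨s, hs, hsq⟩ := M24Six.reach_out q hbit
    apply hreduce tq4 (by simp) s hs
    rw [hsq, tqc.2.2]

end Cfsg.Agent.Lib.Helper9.M24Ord3
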