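import Mathlib
import Cfsg.Prelude.Def_Sporadic_a
import Cfsg.Agent.Lib.Helper9.M24Ord3

set_option autoImplicit false

namespace Cfsg.Agent.Lib.Helper9.M24Ord3

open Cfsg Cfsg.Agent.Lib.Helper1 Cfsg.Agent.Lib.Helper9.M24Enum
open scoped Pointwise

/-- the set of common fixed points of a subgroup -/
def fixSet (X : Subgroup ↥M24) : Set GolayPt :=
  {p | ∀ x ∈ X, ((x : ↥M24) : Equiv.Perm GolayPt) p = p}

theorem gen_of_card3 (X : Subgroup ↥M24) (hX : Nat.card X = 3) :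
    ∃ x : ↥M24, x ≠ 1 ∧ x ^ 3 = 1 ∧ X = Subgroup.zpowers x := by
  haveI : Finite X := Nat.finite_of_card_ne_zero (by rw [hX]; norm_num)
  have hne : X ≠ ⊥ := by
    intro h
    rw [h, Subgroup.card_bot] at hX
    omega
  obtain ⟨a, ha⟩ := (Subgroup.ne_bot_iff_exists_ne_one).mp hne
  have ha3 : a ^ 3 = 1 := by
    rw [← hX]
    exact pow_card_eq_one'
  have hx1 : (a : ↥M24) ≠ 1 := fun h => ha (Subtype.ext h)
  have hx3 : (a : ↥M24) ^ 3 = 1 := by
    have := congrArg (fun z : ↥X => (z : ↥M24)) ha3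
    simpa using this
  refine ⟨a, hx1, hx3, ?_⟩
  symm
  haveI : Fact (Nat.Prime 3) := ⟨Nat.prime_three⟩
  apply Subgroup.eq_of_le_of_card_ge
  · rw [Subgroup.zpowers_le]
    exact a.2
  · rw [hX, Nat.card_zpowers, orderOf_eq_prime hx3 hx1]

theorem fixSet_zpowers (x : ↥M24) :
    fixSet (Subgroup.zpowers x) = {p | (x : Equiv.Perm GolayPt) p = p} := by
  ext p
  unfold fixSet
  simp only [Set.mem_setOf_eq]
  constructor
  · intro h
    exact h x (Subgroup.mem_zpowers x)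
  · intro h y hy
    obtain ⟨k, rfl⟩ := Subgroup.mem_zpowers_iff.mp hy
    rw [Subgroup.coe_zpow]
    exact Equiv.Perm.zpow_apply_eq_self_of_apply_eq_self h k

theorem cube_apply {x : ↥M24} (h3 : x ^ 3 = 1) (p : GolayPt) :
    (x : Equiv.Perm GolayPt) ((x : Equiv.Perm GolayPt) ((x : Equiv.Perm GolayPt) p)) = p := by
  have h := congrArg (fun z : ↥M24 => (z : Equiv.Perm GolayPt)) h3
  simp only [Subgroup.coe_pow, Subgroup.coe_one] at h
  have := congrArg (fun f : Equiv.Perm GolayPt => f p) h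
  simpa [pow_succ, Equiv.Perm.mul_apply] using this

theorem ncard_of_conj_s0 {g k : Equiv.Perm GolayPt} (h : k * g * k⁻¹ = s0) :
    {p | g p = p}.ncard = 6 := by
  have : {p | g p = p} = ((k⁻¹ • fix6 : Finset GolayPt) : Set GolayPt) := by
    ext p
    rw [Set.mem_setOf_eq, Finset.mem_coe, Finset.mem_inv_smul_finset_iff, Equiv.Perm.smul_def,
      ← s0_fix, ← h, M11Elusive.conj_apply]
    simp
  rw [this, Set.ncard_coe_finset, Finset.card_smul_finset, card_fix6]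

theorem ncard_of_conj_r0 {g k : Equiv.Perm GolayPt} (h : k * g * k⁻¹ = r0) :
    {p | g p = p}.ncard = 0 := by
  have : {p | g p = p} = ∅ := by
    ext p
    simp only [Set.mem_setOf_eq, Set.mem_empty_iff_false, iff_false]
    intro hp
    apply r0_fpf (k p)
    rw [← h, M11Elusive.conj_apply, hp]
  rw [this, Set.ncard_empty]

theorem conj_zpowers (k x : ↥M24) :
    MulAut.conj k • Subgroup.zpowers x = Subgroup.zpowers (k * x * k⁻¹) := by
  have h := MonoidHom.map_zpowers ((MulAut.conj k).toMonoidHom) x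
  have h2 : k * x * k⁻¹ = (MulAut.conj k).toMonoidHom x := rfl
  rw [h2, ← h]
  rfl

theorem ne_one_coe {x : ↥M24} (h : x ≠ 1) : (x : Equiv.Perm GolayPt) ≠ 1 :=
  fun h' => h (Subtype.ext h')

theorem card_zpowers3 {g : Equiv.Perm GolayPt} (hg : g ∈ M24) (h3 : g * g * g = 1)
    (hne : g ≠ 1) : Nat.card (Subgroup.zpowers (⟨g, hg⟩ : ↥M24)) = 3 := by
  haveI : Fact (Nat.Prime 3) := ⟨Nat.prime_three⟩
  rw [Nat.card_zpowers]
  apply orderOf_eq_prime
  · apply Subtype.ext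
    simp only [Subgroup.coe_pow, Subgroup.coe_one]
    rw [pow_succ, pow_two, h3]
  · intro h
    exact hne (congrArg Subtype.val h)

theorem main3 :
    (∀ X : Subgroup ↥M24, Nat.card X = 3 → (fixSet X).ncard = 6 ∨ (fixSet X).ncard = 0) ∧
    (∃ X : Subgroup ↥M24, Nat.card X = 3 ∧ (fixSet X).ncard = 6) ∧
    (∃ X : Subgroup ↥M24, Nat.card X = 3 ∧ (fixSet X).ncard = 0) ∧
    ∀ X Y : Subgroup ↥M24, Nat.card X = 3 → Nat.card Y = 3 →
      (fixSet X).ncard = (fixSet Y).ncard → ∃ k : ↥M24, MulAut.conj k • X = Y := by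
  have hs0ne : s0 ≠ 1 := by
    intro h
    have h1 : s0 (gpt 5) = gpt 5 := by rw [h]; rfl
    rw [s0_fix, mem_fix6] at h1
    revert h1
    decide
  have hr0ne : r0 ≠ 1 := by
    intro h
    apply r0_fpf (gpt 0)
    rw [h]; rfl
  refine ⟨?_, ?_, ?_, ?_⟩
  · intro X hX
    obtain ⟨x, hx1, hx3, rfl⟩ := gen_of_card3 X hX
    rw [fixSet_zpowers]
    rcases ord3_class x.2 (cube_apply hx3) (ne_one_coe hx1) with ⟨k, _, hk⟩ | ⟨k, _, hk⟩
    · exact Or.inl (ncard_of_conj_s0 hk)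
    · exact Or.inr (ncard_of_conj_r0 hk)
  · refine ⟨Subgroup.zpowers ⟨s0, s0_mem⟩, card_zpowers3 s0_mem s0_cube hs0ne, ?_⟩
    rw [fixSet_zpowers]
    exact ncard_of_conj_s0 (k := 1) (by group)
  · refine ⟨Subgroup.zpowers ⟨r0, r0_mem⟩, card_zpowers3 r0_mem r0_cube hr0ne, ?_⟩
    rw [fixSet_zpowers]
    exact ncard_of_conj_r0 (k := 1) (by group)
  · intro X Y hX hY hXY
    obtain ⟨x, hx1, hx3, rfl⟩ := gen_of_card3 X hX
    obtain ⟨y, hy1, hy3, rfl⟩ := gen_of_card3 Y hY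
    rw [fixSet_zpowers, fixSet_zpowers] at hXY
    have hconj : ∀ {k1 k2 s : Equiv.Perm GolayPt}, k1 ∈ M24 → k2 ∈ M24 →
        k1 * (x : Equiv.Perm GolayPt) * k1⁻¹ = s → k2 * (y : Equiv.Perm GolayPt) * k2⁻¹ = s →
        ∃ k : ↥M24, MulAut.conj k • Subgroup.zpowers x = Subgroup.zpowers y := by
      intro k1 k2 s hk1 hk2 h1 h2
      refine ⟨⟨k2⁻¹ * k1, mul_mem (inv_mem hk2) hk1⟩, ?_⟩
      rw [conj_zpowers]
      congr 1
      apply Subtype.ext
      show (k2⁻¹ * k1) * (x : Equiv.Perm GolayPt) * (k2⁻¹ * k1)⁻¹ = y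
      have : (y : Equiv.Perm GolayPt) = k2⁻¹ * s * k2 := by rw [← h2]; group
      rw [this, ← h1]
      group
    rcases ord3_class x.2 (cube_apply hx3) (ne_one_coe hx1) with ⟨k1, hk1, hkc1⟩ | ⟨k1, hk1, hkc1⟩
    · rcases ord3_class y.2 (cube_apply hy3) (ne_one_coe hy1) with
        ⟨k2, hk2, hkc2⟩ | ⟨k2, hk2, hkc2⟩
      · exact hconj hk1 hk2 hkc1 hkc2
      · rw [ncard_of_conj_s0 hkc1, ncard_of_conj_r0 hkc2] at hXY
        omega
    · rcases ord3_class y.2 (cube_apply hy3) (ne_one_coe hy1) with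
        ⟨k2, hk2, hkc2⟩ | ⟨k2, hk2, hkc2⟩
      · rw [ncard_of_conj_r0 hkc1, ncard_of_conj_s0 hkc2] at hXY
        omega
      · exact hconj hk1 hk2 hkc1 hkc2

end Cfsg.Agent.Lib.Helper9.M24Ord3
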