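import Mathlib
import Cfsg.Prelude.Def_Sporadic_a

set_option autoImplicit false

namespace Cfsg.Agent.Lib.Helper9.FixReps

open Cfsg

theorem of_order3 {g : Equiv.Perm GolayPt} (h3 : orderOf g = 3) :
    (∀ x, g (g (g x)) = x) ∧ g ≠ 1 := by
  have h := pow_orderOf_eq_one g
  rw [h3] at h
  refine ⟨?_, ?_⟩
  · intro x
    have := congrArg (fun f : Equiv.Perm GolayPt => f x) h
    simpa [pow_succ, Equiv.Perm.mul_apply] using this
  · intro h'
    rw [h', orderOf_one] at h3
    omega

end Cfsg.Agent.Lib.Helper9.FixReps
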