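import Mathlib
import Cfsg.Agent.Lib.Helper9.FixR0
import Cfsg.Agent.Lib.Helper9.M24Ord3b
import Cfsg.Agent.Lib.Helper9.Ord3Basic

set_option autoImplicit false

namespace Cfsg.Agent.Lib.Helper9.FixReps

open Cfsg Cfsg.Agent.Lib.Helper1 Cfsg.Agent.Lib.Helper9.FixCount
open Cfsg.Agent.Lib.Helper9.M24Ord3
open scoped Pointwise

theorem r0_tab : HasTable (r0⁻¹)⁻¹ FixR0.tab := by
  rw [inv_inv]; exact FixR0.hasTable

theorem r0_trios : {T : Finset (Finset GolayPt) | T ∈ trios ∧ r0 • T = T}.ncard = 15 := by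
  rw [ncard_fixed_inv, count_trios_fixed r0_tab]; exact FixR0.cnt_trio

theorem r0_sextets : {S : Finset (Finset GolayPt) | S ∈ sextets ∧ r0 • S = S}.ncard = 7 := by
  rw [ncard_fixed_inv, count_sextets_fixed (inv_mem r0_mem) r0_tab]; exact FixR0.cnt_sext

end Cfsg.Agent.Lib.Helper9.FixReps
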