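import Mathlib
import Cfsg.Agent.Lib.Helper9.FixCount2
import Cfsg.Agent.Lib.Helper9.M24Ord3

set_option autoImplicit false

namespace Cfsg.Agent.Lib.Helper9.FixS0

open Cfsg Cfsg.Agent.Lib.Helper1 Cfsg.Agent.Lib.Helper9.FixCount
open scoped Pointwise

def tab : Fin 24 → Fin 24 := ![0, 1, 2, 3, 4, 17, 18, 12, 9, 21, 7, 20, 10, 16, 5, 6, 22, 14, 15, 11, 19, 8, 13, 23]

theorem tab_eq : ∀ i : Fin 24, evalT M24Ord3.s0w i = tab i := by decide +kernel

theorem hasTable : HasTable M24Ord3.s0 tab := by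
  intro i
  show evalW M24Ord3.s0w (gpt i) = _
  rw [evalW_table M24Ord3.s0w i, tab_eq i]

theorem cnt_oct : (Finset.univ.filter (fun m : Fin 4096 => popc (combo m.val) = 8 ∧
    pullMask tab (combo m.val) = combo m.val)).card = 21 := by decide +kernel

theorem cnt_dod : (Finset.univ.filter (fun m : Fin 4096 => popc (combo m.val) = 12 ∧
    pullMask tab (combo m.val) = combo m.val)).card = 20 := by decide +kernel

theorem cnt_trio : (Cfsg.Agent.S1559.allL.filter (fxT tab)).length = 15 := by
  decide +kernel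

theorem cnt_sext : (Cfsg.Agent.S1552.allL.filter (fxS tab)).length = 16 := by
  decide +kernel

end Cfsg.Agent.Lib.Helper9.FixS0
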