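import Mathlib
import Cfsg.Prelude.Def_Sporadic_a
import Cfsg.Agent.Lib.Helper9.M24Enum
import Cfsg.Agent.Lib.Helper9.M11Elusive

set_option autoImplicit false

namespace Cfsg.Agent.Lib.Helper9.M24Invol

open Cfsg Cfsg.Agent.Lib.Helper1 Cfsg.Agent.Lib.Helper9.M24Enum
open scoped Pointwise

def tq3 : List ℕ := [4, 1, 3, 1, 1, 4, 1, 3, 3, 1, 3, 3, 2]
def tq5 : List ℕ := [1, 4, 0, 4, 4, 1, 4, 1, 4, 4, 1, 2]
def tq4 : List ℕ := [2, 1, 3, 3, 0, 3, 0, 4, 1, 1, 3]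
def z0w : List ℕ := [3, 3, 1, 4, 1, 1, 1, 3, 0, 3, 3, 0]
def t0w : List ℕ := [2]

def conjZ : List (List ℕ) := [[1, 2, 3, 1, 4, 0, 4],
    [2, 3, 1, 1, 2, 0, 4],
    [1, 3, 3, 1, 1, 2, 0, 4],
    [1, 1, 2, 3, 3, 0, 2, 1, 1],
    [0, 2, 1, 3, 1, 2, 4, 0],
    [3, 0, 0, 2, 0, 0]]

def conjT : List (List ℕ) := [[1, 3, 0, 0, 4, 0, 0, 2],
    [1, 1, 1, 2, 1, 4, 0, 0, 0, 3],
    [1, 2, 0, 3, 1, 1, 1],
    [1, 1, 2, 4, 4, 0, 0, 2, 4],
    [1, 1, 1, 1, 1, 2, 4, 0, 2],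
    [1, 4, 0, 3, 1, 1, 1, 3, 3, 1],
    [1, 1, 1, 1, 1, 4, 1, 1],
    [1, 4, 4, 1, 1, 3, 0, 0],
    [1, 4, 4, 0, 3, 3, 0, 0, 0]]

theorem tq_cert : (∀ tq ∈ [tq3, tq5, tq4], evalT tq 23 = 0 ∧ evalT tq 0 = 23 ∧ evalT tq 1 = 2 ∧
    evalT tq 2 = 1) ∧ evalT tq3 3 = 3 ∧ evalT tq5 3 = 5 ∧ evalT tq4 3 = 4 := by
  decide +kernel

theorem inv_cert : ∀ tq ∈ [tq3, tq5, tq4], ∀ u ∈ fixWords, ∀ v ∈ vWords,
    (∀ i : Fin 24, evalT (tq ++ (u ++ v)) (evalT (tq ++ (u ++ v)) i) = i) →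
    (∃ k ∈ conjZ, ∀ i : Fin 24,
      evalT k (evalT (tq ++ (u ++ v)) i) = evalT z0w (evalT k i)) ∨
    (∃ k ∈ conjT, ∀ i : Fin 24,
      evalT k (evalT (tq ++ (u ++ v)) i) = evalT t0w (evalT k i)) := by
  decide +kernel

theorem z0_cert : (∀ i : Fin 24, evalT z0w i = i ↔ (combo 2503).testBit i = true) ∧
    (∀ i : Fin 24, evalT z0w (evalT z0w i) = i) ∧
    (∀ i : Fin 24, evalT t0w i ≠ i) ∧ (∀ i : Fin 24, evalT t0w (evalT t0w i) = i) := by
  decide +kernel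

/-- the standard involution fixing the base octad pointwise -/
noncomputable def z0 : Equiv.Perm GolayPt := evalW z0w

/-- the standard fixed point free involution -/
noncomputable def t0 : Equiv.Perm GolayPt := evalW t0w

theorem z0_mem : z0 ∈ M24 := evalW_mem_M24 z0w
theorem t0_mem : t0 ∈ M24 := evalW_mem_M24 t0w

theorem z0_fix (p : GolayPt) : z0 p = p ↔ p ∈ oct0 := by
  obtain ⟨i, rfl⟩ := gpt_bij.surjective p
  unfold z0
  rw [evalW_table z0w i, gpt_mem_oct0, ← z0_cert.1 i]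
  exact ⟨fun h => gpt_bij.injective h, fun h => by rw [h]⟩

theorem t0_fpf (p : GolayPt) : t0 p ≠ p := by
  obtain ⟨i, rfl⟩ := gpt_bij.surjective p
  unfold t0
  rw [evalW_table t0w i]
  exact fun h => z0_cert.2.2.1 i (gpt_bij.injective h)

theorem sq_of_table {w : List ℕ} (h : ∀ i : Fin 24, evalT w (evalT w i) = i) :
    evalW w * evalW w = 1 := by
  have hT : HasTable (evalW w * evalW w) (evalT w ∘ evalT w) :=
    (evalW_table w).mul (evalW_table w)
  exact eq_one_of_hasTable_id hT (fun i => h i)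

theorem z0_sq : z0 * z0 = 1 := sq_of_table z0_cert.2.1

theorem t0_sq : t0 * t0 = 1 := sq_of_table z0_cert.2.2.2

theorem finish_inv {g2 : Equiv.Perm GolayPt} (hg2 : g2 ∈ M24) (hinv : ∀ x, g2 (g2 x) = x)
    {tq : List ℕ} (htq : tq ∈ [tq3, tq5, tq4])
    (hbase : ∀ i ∈ ([23, 0, 1, 2, 3] : List (Fin 24)), g2 (gpt i) = gpt (evalT tq i)) :
    (∃ k ∈ M24, k * g2 * k⁻¹ = z0) ∨ (∃ k ∈ M24, k * g2 * k⁻¹ = t0) := by
  obtain ⟨u, hu, v, hv, hguv⟩ := coset_enum hg2 tq hbase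
  have hT := evalW_table (tq ++ (u ++ v))
  rw [← hguv] at hT
  have hTT : ∀ i : Fin 24, evalT (tq ++ (u ++ v)) (evalT (tq ++ (u ++ v)) i) = i := by
    intro i
    apply gpt_bij.injective
    rw [← hT, ← hT, hinv]
  have key : ∀ (k sw : List ℕ), (∀ i : Fin 24,
      evalT k (evalT (tq ++ (u ++ v)) i) = evalT sw (evalT k i)) →
      evalW k * g2 * (evalW k)⁻¹ = evalW sw := by
    intro k sw hk
    have h1 : evalW k * g2 = evalW sw * evalW k := by
      apply eq_of_hasTable ((evalW_table k).mul hT)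
      have h2 := (evalW_table sw).mul (evalW_table k)
      have h3 : evalT k ∘ evalT (tq ++ (u ++ v)) = evalT sw ∘ evalT k := funext hk
      rw [h3]
      exact h2
    rw [h1]
    group
  rcases inv_cert tq htq u hu v hv hTT with ⟨k, _, hk⟩ | ⟨k, _, hk⟩
  · exact Or.inl ⟨evalW k, evalW_mem_M24 k, key k z0w hk⟩
  · exact Or.inr ⟨evalW k, evalW_mem_M24 k, key k t0w hk⟩

theorem conj_conj (k' k g : Equiv.Perm GolayPt) :
    k' * (k * g * k⁻¹) * k'⁻¹ = (k' * k) * g * (k' * k)⁻¹ := by group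

/-- every involution of `M24` is conjugate to one of the two standard ones -/
theorem inv_class {g : Equiv.Perm GolayPt} (hg : g ∈ M24) (hgg : ∀ x, g (g x) = x)
    (hne : g ≠ 1) :
    (∃ k ∈ M24, k * g * k⁻¹ = z0) ∨ (∃ k ∈ M24, k * g * k⁻¹ = t0) := by
  classical
  have hinj : ∀ {u v : GolayPt}, g u = g v → u = v := fun h => g.injective h
  obtain ⟨a, hga⟩ : ∃ a, g a ≠ a := by
    by_contra hall
    push Not at hall
    exact hne (Equiv.ext hall)
  obtain ⟨c, hca, hcb, hgc⟩ : ∃ c, c ≠ a ∧ c ≠ g a ∧ g c ≠ c := by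
    by_contra hall
    push Not at hall
    exact hne (eq_one_of_moves_two hg (Ne.symm hga) (fun x hxa hxb => hall x hxa hxb))
  have hda : g c ≠ a := fun h => hcb (by rw [← h, hgg])
  have hdb : g c ≠ g a := fun h => hca (hinj h)
  obtain ⟨e, -, he⟩ := Finset.exists_mem_notMem_of_card_lt_card
    (s := ({a, g a, c, g c} : Finset GolayPt)) (t := Finset.univ) (by
      rw [Finset.card_univ, GolayInv.card_pt]
      exact lt_of_le_of_lt (Finset.card_le_four) (by norm_num))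
  simp only [Finset.mem_insert, Finset.mem_singleton, not_or] at he
  obtain ⟨hea, heb, hec, hed⟩ := he
  obtain ⟨h, hh, hmap⟩ := M24_to_base5 (M24Tools.emb5 a (g a) c (g c) e (Ne.symm hga)
    (Ne.symm hca) (Ne.symm hda) (Ne.symm hea) (Ne.symm hcb) (Ne.symm hdb) (Ne.symm heb)
    (Ne.symm hgc) (Ne.symm hec) (Ne.symm hed))
  have e0 : h a = gpt 23 := hmap 0
  have e1 : h (g a) = gpt 0 := hmap 1
  have e2 : h c = gpt 1 := hmap 2
  have e3 : h (g c) = gpt 2 := hmap 3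
  have e4 : h e = gpt 3 := hmap 4
  set g1 := h * g * h⁻¹ with hg1
  have hg1M : g1 ∈ M24 := mul_mem (mul_mem hh hg) (inv_mem hh)
  have hconj : ∀ y, g1 (h y) = h (g y) := fun y => M11Elusive.conj_apply h g y
  have c0 : g1 (gpt 23) = gpt 0 := by rw [← e0, hconj, e1]
  have c1 : g1 (gpt 0) = gpt 23 := by rw [← e1, hconj, hgg, e0]
  have c2 : g1 (gpt 1) = gpt 2 := by rw [← e2, hconj, e3]
  have c3 : g1 (gpt 2) = gpt 1 := by rw [← e3, hconj, hgg, e2]
  have hg1inv : ∀ x, g1 (g1 x) = x := by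
    intro x
    rw [hg1]
    simp only [Equiv.Perm.mul_apply, perm_inv_apply_self]
    rw [hgg, perm_apply_inv_self]
  obtain ⟨q, hq⟩ := gpt_bij.surjective (g1 (gpt 3))
  have tqc := tq_cert
  -- reduce to the normal forms
  have hreduce : ∀ (tq : List ℕ), tq ∈ [tq3, tq5, tq4] → ∀ s ∈ fixL M24 [23, 0, 1, 2, 3],
      s (gpt q) = gpt (evalT tq 3) →
      (∃ k ∈ M24, k * g * k⁻¹ = z0) ∨ (∃ k ∈ M24, k * g * k⁻¹ = t0) := by
    intro tq htq s hs hsq
    have hsM := (mem_fixL.1 hs).1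
    have hsfix := (mem_fixL.1 hs).2
    obtain ⟨t23, t0', t1, t2⟩ := tqc.1 tq htq
    have hsinv : ∀ i ∈ ([23, 0, 1, 2, 3] : List (Fin 24)), s⁻¹ (gpt i) = gpt i := by
      intro i hi
      rw [Equiv.Perm.inv_eq_iff_eq, hsfix i hi]
    have hg2M : s * g1 * s⁻¹ ∈ M24 := mul_mem (mul_mem hsM hg1M) (inv_mem hsM)
    have hg2inv : ∀ x, (s * g1 * s⁻¹) ((s * g1 * s⁻¹) x) = x := by
      intro x
      simp only [Equiv.Perm.mul_apply, perm_inv_apply_self]
      rw [hg1inv, perm_apply_inv_self]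
    have hbase : ∀ i ∈ ([23, 0, 1, 2, 3] : List (Fin 24)),
        (s * g1 * s⁻¹) (gpt i) = gpt (evalT tq i) := by
      intro i hi
      rw [Equiv.Perm.mul_apply, Equiv.Perm.mul_apply, hsinv i hi]
      have hcases : i = 23 ∨ i = 0 ∨ i = 1 ∨ i = 2 ∨ i = 3 := by
        have hgen : ∀ r : Fin 24, r ∈ ([23, 0, 1, 2, 3] : List (Fin 24)) →
            r = 23 ∨ r = 0 ∨ r = 1 ∨ r = 2 ∨ r = 3 := by decide
        exact hgen i hi
      rcases hcases with rfl | rfl | rfl | rfl | rfl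
      · rw [c0, t23, hsfix 0 (by simp)]
      · rw [c1, t0', hsfix 23 (by simp)]
      · rw [c2, t1, hsfix 2 (by simp)]
      · rw [c3, t2, hsfix 1 (by simp)]
      · rw [← hq, hsq]
    rcases finish_inv hg2M hg2inv htq hbase with ⟨k, hk, hkc⟩ | ⟨k, hk, hkc⟩
    · left
      refine ⟨k * (s * h), mul_mem hk (mul_mem hsM hh), ?_⟩
      rw [← hkc, hg1]
      group
    · right
      refine ⟨k * (s * h), mul_mem hk (mul_mem hsM hh), ?_⟩
      rw [← hkc, hg1]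
      group
  by_cases hq3 : q = 3
  · apply hreduce tq3 (by simp) 1 (one_mem _)
    rw [hq3, tqc.2.1]
    rfl
  · have hqn : q ∉ ([23, 0, 1, 2, 3] : List (Fin 24)) := by
      intro hmem
      have hcases : q = 23 ∨ q = 0 ∨ q = 1 ∨ q = 2 ∨ q = 3 := by
        have hgen : ∀ r : Fin 24, r ∈ ([23, 0, 1, 2, 3] : List (Fin 24)) →
            r = 23 ∨ r = 0 ∨ r = 1 ∨ r = 2 ∨ r = 3 := by decide
        exact hgen q hmem
      have hinj1 : ∀ {j : Fin 24}, g1 (gpt j) = gpt q → j = 3 := by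
        intro j hj
        exact gpt_bij.injective (g1.injective (hj.trans hq))
      rcases hcases with rfl | rfl | rfl | rfl | rfl
      · have := hinj1 c1; revert this; decide
      · have := hinj1 c0; revert this; decide
      · have := hinj1 c3; revert this; decide
      · have := hinj1 c2; revert this; decide
      · exact hq3 rfl
    by_cases hbit : (combo 2503).testBit q = true
    · obtain ⟨s, hs, hsq⟩ := M24Six.reach_in q hbit hqn
      apply hreduce tq5 (by simp) s hs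
      rw [hsq, tqc.2.2.1]
    · rw [Bool.not_eq_true] at hbit
      obtain ⟨s, hs, hsq⟩ := M24Six.reach_out q hbit
      apply hreduce tq4 (by simp) s hs
      rw [hsq, tqc.2.2.2]

end Cfsg.Agent.Lib.Helper9.M24Invol
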