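import Mathlib
import Cfsg.Agent.Lib.Helper9.FixCount2
import Cfsg.Agent.Lib.Helper9.M24Invol

set_option autoImplicit false

namespace Cfsg.Agent.Lib.Helper9.FixT0

open Cfsg Cfsg.Agent.Lib.Helper1 Cfsg.Agent.Lib.Helper9.FixCount
open scoped Pointwise

def tab : Fin 24 → Fin 24 := ![23, 22, 11, 15, 17, 9, 19, 13, 20, 5, 16, 2, 21, 7, 18, 3, 10, 4, 14, 6, 8, 12, 1, 0]

theorem tab_eq : ∀ i : Fin 24, evalT M24Invol.t0w i = tab i := by decide +kernel

theorem hasTable : HasTable M24Invol.t0 tab := by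
  intro i
  show evalW M24Invol.t0w (gpt i) = _
  rw [evalW_table M24Invol.t0w i, tab_eq i]

theorem cnt_oct : (Finset.univ.filter (fun m : Fin 4096 => popc (combo m.val) = 8 ∧
    pullMask tab (combo m.val) = combo m.val)).card = 15 := by decide +kernel

theorem cnt_trio : (Cfsg.Agent.S1559.allL.filter (fxT tab)).length = 75 := by
  decide +kernel

theorem cnt_sext : (Cfsg.Agent.S1552.allL.filter (fxS tab)).length = 51 := by
  decide +kernel

end Cfsg.Agent.Lib.Helper9.FixT0
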