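import Mathlib
import Cfsg.Prelude.Def_Sporadic_a
import Cfsg.Agent.Lib.Helper9.M24Invol

set_option autoImplicit false

namespace Cfsg.Agent.Lib.Helper9.M24Invol

open Cfsg Cfsg.Agent.Lib.Helper1 Cfsg.Agent.Lib.Helper9.M24Enum
open scoped Pointwise

theorem of_order2 {g : Equiv.Perm GolayPt} (h2 : orderOf g = 2) :
    (∀ x, g (g x) = x) ∧ g ≠ 1 := by
  constructor
  · intro x
    have h := pow_orderOf_eq_one g
    rw [h2] at h
    have := congrArg (fun f : Equiv.Perm GolayPt => f x) h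
    simpa [pow_succ, Equiv.Perm.mul_apply] using this
  · intro h
    rw [h, orderOf_one] at h2
    omega

theorem order2_of {g : Equiv.Perm GolayPt} (hsq : g * g = 1) (hne : g ≠ 1) : orderOf g = 2 := by
  haveI : Fact (Nat.Prime 2) := ⟨Nat.prime_two⟩
  apply orderOf_eq_prime _ hne
  rw [pow_two, hsq]

theorem fix_of_conj_z0 {g k : Equiv.Perm GolayPt} (h : k * g * k⁻¹ = z0) :
    Finset.univ.filter (fun p => g p = p) = k⁻¹ • oct0 := by
  ext p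
  rw [Finset.mem_filter, Finset.mem_inv_smul_finset_iff, Equiv.Perm.smul_def, ← z0_fix, ← h,
    M11Elusive.conj_apply]
  simp

theorem fpf_of_conj_t0 {g k : Equiv.Perm GolayPt} (h : k * g * k⁻¹ = t0) (p : GolayPt) :
    g p ≠ p := by
  intro hp
  apply t0_fpf (k p)
  rw [← h, M11Elusive.conj_apply, hp]

theorem not_fpf_of_conj_z0 {g k : Equiv.Perm GolayPt} (h : k * g * k⁻¹ = z0) :
    ¬ ∀ p, g p ≠ p := by
  intro hall
  apply hall (k⁻¹ (gpt 23))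
  have h1 : z0 (gpt 23) = gpt 23 := (z0_fix _).2 ((gpt_mem_oct0 23).2 (by decide +kernel))
  rw [← h, Equiv.Perm.mul_apply, Equiv.Perm.mul_apply] at h1
  apply k.injective
  rw [h1, perm_apply_inv_self]

theorem z0_ne_one : z0 ≠ 1 := by
  intro h
  have h1 : z0 (gpt 4) = gpt 4 := by rw [h]; rfl
  rw [z0_fix, gpt_mem_oct0] at h1
  revert h1
  decide +kernel

theorem t0_ne_one : t0 ≠ 1 := by
  intro h
  apply t0_fpf (gpt 0)
  rw [h]; rfl

theorem conj_of_both {g h s k1 k2 : Equiv.Perm GolayPt} (h1 : k1 * g * k1⁻¹ = s)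
    (h2 : k2 * h * k2⁻¹ = s) : (k2⁻¹ * k1) * g * (k2⁻¹ * k1)⁻¹ = h := by
  have : h = k2⁻¹ * s * k2 := by rw [← h2]; group
  rw [this, ← h1]
  group

theorem main :
    (∀ g ∈ M24, orderOf g = 2 →
      (Finset.univ.filter fun p => g p = p) ∈ octads ∨ ∀ p, g p ≠ p) ∧
    (∃ g ∈ M24, orderOf g = 2 ∧ (Finset.univ.filter fun p => g p = p) ∈ octads) ∧
    (∃ g ∈ M24, orderOf g = 2 ∧ ∀ p, g p ≠ p) ∧
    ∀ g ∈ M24, ∀ h ∈ M24, orderOf g = 2 → orderOf h = 2 →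
      ((∀ p, g p ≠ p) ↔ (∀ p, h p ≠ p)) → ∃ k ∈ M24, k * g * k⁻¹ = h := by
  refine ⟨?_, ?_, ?_, ?_⟩
  · intro g hg h2
    obtain ⟨hgg, hne⟩ := of_order2 h2
    rcases inv_class hg hgg hne with ⟨k, hk, hkc⟩ | ⟨k, hk, hkc⟩
    · left
      rw [fix_of_conj_z0 hkc]
      exact smul_mem_octads (inv_mem hk) oct0_mem
    · right
      exact fpf_of_conj_t0 hkc
  · refine ⟨z0, z0_mem, order2_of z0_sq z0_ne_one, ?_⟩
    have : Finset.univ.filter (fun p => z0 p = p) = oct0 := by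
      ext p
      rw [Finset.mem_filter, z0_fix]
      simp
    rw [this]
    exact oct0_mem
  · exact ⟨t0, t0_mem, order2_of t0_sq t0_ne_one, t0_fpf⟩
  · intro g hg h hh hg2 hh2 hiff
    obtain ⟨hgg, hgne⟩ := of_order2 hg2
    obtain ⟨hhh, hhne⟩ := of_order2 hh2
    rcases inv_class hg hgg hgne with ⟨k1, hk1, hkc1⟩ | ⟨k1, hk1, hkc1⟩
    · rcases inv_class hh hhh hhne with ⟨k2, hk2, hkc2⟩ | ⟨k2, hk2, hkc2⟩
      · exact ⟨k2⁻¹ * k1, mul_mem (inv_mem hk2) hk1, conj_of_both hkc1 hkc2⟩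
      · exact absurd (hiff.2 (fpf_of_conj_t0 hkc2)) (not_fpf_of_conj_z0 hkc1)
    · rcases inv_class hh hhh hhne with ⟨k2, hk2, hkc2⟩ | ⟨k2, hk2, hkc2⟩
      · exact absurd (hiff.1 (fpf_of_conj_t0 hkc1)) (not_fpf_of_conj_z0 hkc2)
      · exact ⟨k2⁻¹ * k1, mul_mem (inv_mem hk2) hk1, conj_of_both hkc1 hkc2⟩

end Cfsg.Agent.Lib.Helper9.M24Invol
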