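import Mathlib
import Cfsg.Agent.Lib.Helper9.FixT0
import Cfsg.Agent.Lib.Helper9.M24Invol2

set_option autoImplicit false

namespace Cfsg.Agent.Lib.Helper9.FixReps

open Cfsg Cfsg.Agent.Lib.Helper1 Cfsg.Agent.Lib.Helper9.FixCount
open Cfsg.Agent.Lib.Helper9.M24Invol
open scoped Pointwise

theorem t0_tab : HasTable t0⁻¹ FixT0.tab := by
  rw [inv_eq_of_mul_eq_one_right t0_sq]; exact FixT0.hasTable

theorem t0_octads : {o : Finset GolayPt | o ∈ octads ∧ t0 • o = o}.ncard = 15 := by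
  rw [count_octads_fixed t0_tab]; exact FixT0.cnt_oct

theorem t0_trios : {T : Finset (Finset GolayPt) | T ∈ trios ∧ t0 • T = T}.ncard = 75 := by
  rw [count_trios_fixed t0_tab]; exact FixT0.cnt_trio

theorem t0_sextets : {S : Finset (Finset GolayPt) | S ∈ sextets ∧ t0 • S = S}.ncard = 51 := by
  rw [count_sextets_fixed t0_mem t0_tab]; exact FixT0.cnt_sext

end Cfsg.Agent.Lib.Helper9.FixReps
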