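import Mathlib
import Cfsg.Agent.Lib.Helper9.FixZ0
import Cfsg.Agent.Lib.Helper9.M24Invol2

set_option autoImplicit false

namespace Cfsg.Agent.Lib.Helper9.FixReps

open Cfsg Cfsg.Agent.Lib.Helper1 Cfsg.Agent.Lib.Helper9.FixCount
open Cfsg.Agent.Lib.Helper9.M24Invol
open scoped Pointwise

theorem z0_tab : HasTable z0⁻¹ FixZ0.tab := by
  rw [inv_eq_of_mul_eq_one_right z0_sq]; exact FixZ0.hasTable

theorem z0_octads : {o : Finset GolayPt | o ∈ octads ∧ z0 • o = o}.ncard = 71 := by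
  rw [count_octads_fixed z0_tab]; exact FixZ0.cnt_oct

theorem z0_trios : {T : Finset (Finset GolayPt) | T ∈ trios ∧ z0 • T = T}.ncard = 99 := by
  rw [count_trios_fixed z0_tab]; exact FixZ0.cnt_trio

theorem z0_sextets : {S : Finset (Finset GolayPt) | S ∈ sextets ∧ z0 • S = S}.ncard = 91 := by
  rw [count_sextets_fixed z0_mem z0_tab]; exact FixZ0.cnt_sext

end Cfsg.Agent.Lib.Helper9.FixReps
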