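import Cfsg.Prelude.Def_FusionSystem

set_option autoImplicit false

namespace Cfsg.Agent.Lib.Helper9

open Cfsg Cfsg.FusionSystem

variable {Ω : Type*} [Group Ω] {S : Subgroup Ω}

/-- The inclusion of a subgroup of `S` is a map of the system. -/
theorem subtype_mem (F : FusionSystem S) {P : Subgroup Ω} (hP : P ≤ S) : P.subtype ∈ F.Hom P := by
  have h := F.conj_mem (P := P) (g := 1) hP S.one_mem
  have : conjHom P 1 = P.subtype := by
    ext x
    simp [conjHom]
  rw [this] at h
  exact h

/-- Restriction of a map of the system to a smaller subgroup. -/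
theorem restrict_mem (F : FusionSystem S) {P R : Subgroup Ω} {φ : P →* Ω} (hφ : φ ∈ F.Hom P)
    (hRP : R ≤ P) : φ.comp (Subgroup.inclusion hRP) ∈ F.Hom R := by
  have hPS := (F.le_of_mem hφ).1
  have h1 := subtype_mem F (hRP.trans hPS)
  have h2 := F.comp_mem h1 hφ (fun x => hRP x.2)
  have : φ.comp (R.subtype.codRestrict P (fun x => hRP x.2)) = φ.comp (Subgroup.inclusion hRP) := by
    ext x
    rfl
  rw [this] at h2
  exact h2

/-- Composition of maps of the system, in a convenient form. -/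
theorem comp_mem' (F : FusionSystem S) {P Q : Subgroup Ω} {φ : P →* Ω} {ψ : Q →* Ω} (hφ : φ ∈ F.Hom P)
    (hψ : ψ ∈ F.Hom Q) (h : ∀ x : P, φ x ∈ Q) : ψ.comp (φ.codRestrict Q h) ∈ F.Hom P :=
  F.comp_mem hφ hψ h

end Cfsg.Agent.Lib.Helper9
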