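import Cfsg.Agent.Lib.Helper9.Fusion

set_option autoImplicit false

namespace Cfsg.Agent.Lib.Helper9

open Cfsg Cfsg.FusionSystem

variable {Ω : Type*} [Group Ω] {S : Subgroup Ω}

theorem finite_of_le {Q S : Subgroup Ω} [Finite S] (h : Q ≤ S) : Finite Q :=
  Finite.of_injective (Subgroup.inclusion h) (Subgroup.inclusion_injective h)

/-- A family of subgroups of a finite subgroup `S` containing `⊥` and closed under binary joins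
contains its supremum. -/
theorem sSup_mem_of_sup_closed [Finite S] (𝒜 : Set (Subgroup Ω)) (hbot : ⊥ ∈ 𝒜)
    (hS : ∀ Q ∈ 𝒜, Q ≤ S) (hsup : ∀ Q₁ ∈ 𝒜, ∀ Q₂ ∈ 𝒜, Q₁ ⊔ Q₂ ∈ 𝒜) : sSup 𝒜 ∈ 𝒜 := by
  classical
  let A : Set ℕ := {n | ∃ Q ∈ 𝒜, Nat.card Q = n}
  have hAne : A.Nonempty := ⟨_, ⊥, hbot, rfl⟩
  have hAbdd : BddAbove A := by
    refine ⟨Nat.card S, ?_⟩
    rintro n ⟨Q, hQ, rfl⟩
    exact Nat.card_le_card_of_injective _ (Subgroup.inclusion_injective (hS Q hQ))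
  obtain ⟨Q₀, hQ₀, hQ₀card⟩ := Nat.sSup_mem hAne hAbdd
  have hmax : ∀ Q ∈ 𝒜, Q ≤ Q₀ := by
    intro Q hQ
    have h1 : Q ⊔ Q₀ ∈ 𝒜 := hsup Q hQ Q₀ hQ₀
    have h2 : Nat.card ↥(Q ⊔ Q₀) ≤ Nat.card Q₀ := by
      rw [hQ₀card]
      exact le_csSup hAbdd ⟨_, h1, rfl⟩
    have hfin : Finite ↥(Q ⊔ Q₀) := finite_of_le (hS _ h1)
    have h3 : Q₀ = Q ⊔ Q₀ := Subgroup.eq_of_le_of_card_ge le_sup_right h2
    rw [h3]
    exact le_sup_left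
  have : sSup 𝒜 = Q₀ := le_antisymm (sSup_le hmax) (le_sSup hQ₀)
  rw [this]
  exact hQ₀

/-- The trivial subgroup is normal in any fusion system. -/
theorem isNormal_bot (F : FusionSystem S) : F.IsNormal ⊥ := by
  refine ⟨bot_le, ?_⟩
  intro P φ hφ
  have hle : P ⊔ ⊥ ≤ P := by rw [sup_bot_eq]
  refine ⟨φ.comp (Subgroup.inclusion hle), ?_, ?_, ?_⟩
  · have hP := (F.le_of_mem hφ).1
    have h1 := subtype_mem F (P := P ⊔ ⊥) (by rw [sup_bot_eq]; exact hP)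
    have h2 := F.comp_mem h1 hφ (fun x => hle x.2)
    have : φ.comp ((P ⊔ ⊥).subtype.codRestrict P (fun x => hle x.2)) = φ.comp (Subgroup.inclusion hle) := by
      ext x; rfl
    rw [this] at h2
    exact h2
  · intro x; rfl
  · ext y
    constructor
    · rintro ⟨x, hx, rfl⟩
      have hx' : (x : Ω) ∈ (⊥ : Subgroup Ω) := Subgroup.mem_subgroupOf.mp hx
      have hx1 : (x : Ω) = 1 := Subgroup.mem_bot.mp hx'
      have : x = 1 := Subtype.ext hx1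
      rw [this, map_one]
      exact Subgroup.one_mem _
    · intro hy
      rw [Subgroup.mem_bot.mp hy]
      exact Subgroup.one_mem _

/-- The join of two subgroups normal in a fusion system is normal in it. -/
theorem isNormal_sup (F : FusionSystem S) {Q₁ Q₂ : Subgroup Ω} (h₁ : F.IsNormal Q₁) (h₂ : F.IsNormal Q₂) :
    F.IsNormal (Q₁ ⊔ Q₂) := by
  refine ⟨sup_le h₁.1 h₂.1, ?_⟩
  intro P φ hφ
  obtain ⟨ψ₁, hψ₁, hψ₁P, hψ₁Q⟩ := h₁.2 P φ hφ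
  obtain ⟨ψ₂, hψ₂, hψ₂P, hψ₂Q⟩ := h₂.2 (P ⊔ Q₁) ψ₁ hψ₁
  have hle : P ⊔ (Q₁ ⊔ Q₂) ≤ (P ⊔ Q₁) ⊔ Q₂ := by rw [sup_assoc]
  refine ⟨ψ₂.comp (Subgroup.inclusion hle), restrict_mem F hψ₂ hle, ?_, ?_⟩
  · intro x
    rw [← hψ₁P x, ← hψ₂P]
    rfl
  · apply le_antisymm
    · -- image of Q₁ ⊔ Q₂ lies in Q₁ ⊔ Q₂
      have hT : Q₁ ⊔ Q₂ ≤ ((Q₁ ⊔ Q₂).comap ψ₂).map ((P ⊔ Q₁) ⊔ Q₂).subtype := by
        apply sup_le
        · intro q hq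
          have hq' : q ∈ P ⊔ Q₁ := (le_sup_right : Q₁ ≤ P ⊔ Q₁) hq
          refine ⟨Subgroup.inclusion le_sup_left ⟨q, hq'⟩, ?_, rfl⟩
          show ψ₂ (Subgroup.inclusion le_sup_left ⟨q, hq'⟩) ∈ Q₁ ⊔ Q₂
          rw [hψ₂P]
          apply (le_sup_left : Q₁ ≤ Q₁ ⊔ Q₂)
          have hmem : ψ₁ ⟨q, hq'⟩ ∈ (Q₁.subgroupOf (P ⊔ Q₁)).map ψ₁ :=
            ⟨⟨q, hq'⟩, Subgroup.mem_subgroupOf.mpr hq, rfl⟩
          rw [hψ₁Q] at hmem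
          exact hmem
        · intro q hq
          have hq' : q ∈ (P ⊔ Q₁) ⊔ Q₂ := (le_sup_right : Q₂ ≤ (P ⊔ Q₁) ⊔ Q₂) hq
          refine ⟨⟨q, hq'⟩, ?_, rfl⟩
          show ψ₂ ⟨q, hq'⟩ ∈ Q₁ ⊔ Q₂
          apply (le_sup_right : Q₂ ≤ Q₁ ⊔ Q₂)
          have hmem : ψ₂ ⟨q, hq'⟩ ∈ (Q₂.subgroupOf ((P ⊔ Q₁) ⊔ Q₂)).map ψ₂ :=
            ⟨⟨q, hq'⟩, Subgroup.mem_subgroupOf.mpr hq, rfl⟩
          rw [hψ₂Q] at hmem
          exact hmem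
      rintro _ ⟨x, hx, rfl⟩
      have hx' : (x : Ω) ∈ Q₁ ⊔ Q₂ := Subgroup.mem_subgroupOf.mp hx
      obtain ⟨y, hy, hyx⟩ := hT hx'
      have : Subgroup.inclusion hle x = y := Subtype.ext hyx.symm
      show ψ₂ (Subgroup.inclusion hle x) ∈ Q₁ ⊔ Q₂
      rw [this]
      exact hy
    · apply sup_le
      · intro q hq
        rw [← hψ₁Q] at hq
        obtain ⟨x, hx, rfl⟩ := hq
        have hxQ : (x : Ω) ∈ Q₁ := Subgroup.mem_subgroupOf.mp hx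
        have hxK : (x : Ω) ∈ P ⊔ (Q₁ ⊔ Q₂) :=
          (le_sup_right : Q₁ ⊔ Q₂ ≤ P ⊔ (Q₁ ⊔ Q₂)) ((le_sup_left : Q₁ ≤ Q₁ ⊔ Q₂) hxQ)
        refine ⟨⟨x, hxK⟩, Subgroup.mem_subgroupOf.mpr ((le_sup_left : Q₁ ≤ Q₁ ⊔ Q₂) hxQ), ?_⟩
        rw [← hψ₂P x]
        rfl
      · intro q hq
        rw [← hψ₂Q] at hq
        obtain ⟨x, hx, rfl⟩ := hq
        have hxQ : (x : Ω) ∈ Q₂ := Subgroup.mem_subgroupOf.mp hx
        have hxK : (x : Ω) ∈ P ⊔ (Q₁ ⊔ Q₂) :=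
          (le_sup_right : Q₁ ⊔ Q₂ ≤ P ⊔ (Q₁ ⊔ Q₂)) ((le_sup_right : Q₂ ≤ Q₁ ⊔ Q₂) hxQ)
        exact ⟨⟨x, hxK⟩, Subgroup.mem_subgroupOf.mpr ((le_sup_right : Q₂ ≤ Q₁ ⊔ Q₂) hxQ), rfl⟩

/-- The largest normal subgroup of a fusion system over a finite group is normal in it. -/
theorem isNormal_core [Finite S] (F : FusionSystem S) : F.IsNormal F.core :=
  sSup_mem_of_sup_closed (S := S) {Q | F.IsNormal Q} (isNormal_bot F) (fun _ h => h.1)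
    (fun _ h₁ _ h₂ => isNormal_sup F h₁ h₂)

/-- The trivial subgroup is central in any fusion system. -/
theorem isCentral_bot (F : FusionSystem S) : F.IsCentral ⊥ := by
  refine ⟨bot_le, ?_⟩
  intro P φ hφ
  have hle : P ⊔ ⊥ ≤ P := by rw [sup_bot_eq]
  refine ⟨φ.comp (Subgroup.inclusion hle), ?_, ?_, ?_⟩
  · have hP := (F.le_of_mem hφ).1
    have h1 := subtype_mem F (P := P ⊔ ⊥) (by rw [sup_bot_eq]; exact hP)
    have h2 := F.comp_mem h1 hφ (fun x => hle x.2)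
    have : φ.comp ((P ⊔ ⊥).subtype.codRestrict P (fun x => hle x.2)) = φ.comp (Subgroup.inclusion hle) := by
      ext x; rfl
    rw [this] at h2
    exact h2
  · intro x; rfl
  · intro x
    have hx1 : (x : Ω) = 1 := Subgroup.mem_bot.mp x.2
    have : Subgroup.inclusion (le_sup_right : (⊥ : Subgroup Ω) ≤ P ⊔ ⊥) x = 1 := Subtype.ext hx1
    rw [this, map_one]
    exact hx1.symm

/-- The join of two subgroups central in a fusion system is central in it. -/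
theorem isCentral_sup (F : FusionSystem S) {Q₁ Q₂ : Subgroup Ω} (h₁ : F.IsCentral Q₁) (h₂ : F.IsCentral Q₂) :
    F.IsCentral (Q₁ ⊔ Q₂) := by
  refine ⟨sup_le h₁.1 h₂.1, ?_⟩
  intro P φ hφ
  obtain ⟨ψ₁, hψ₁, hψ₁P, hψ₁Q⟩ := h₁.2 P φ hφ
  obtain ⟨ψ₂, hψ₂, hψ₂P, hψ₂Q⟩ := h₂.2 (P ⊔ Q₁) ψ₁ hψ₁
  have hle : P ⊔ (Q₁ ⊔ Q₂) ≤ (P ⊔ Q₁) ⊔ Q₂ := by rw [sup_assoc]
  refine ⟨ψ₂.comp (Subgroup.inclusion hle), restrict_mem F hψ₂ hle, ?_, ?_⟩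
  · intro x
    rw [← hψ₁P x, ← hψ₂P]
    rfl
  · -- the set of elements of `(P ⊔ Q₁) ⊔ Q₂` fixed by `ψ₂` is a subgroup containing `Q₁` and `Q₂`
    have hT : Q₁ ⊔ Q₂ ≤ ((ψ₂.eqLocus ((P ⊔ Q₁) ⊔ Q₂).subtype)).map ((P ⊔ Q₁) ⊔ Q₂).subtype := by
      apply sup_le
      · intro q hq
        have hq' : q ∈ P ⊔ Q₁ := (le_sup_right : Q₁ ≤ P ⊔ Q₁) hq
        refine ⟨Subgroup.inclusion le_sup_left ⟨q, hq'⟩, ?_, rfl⟩
        show ψ₂ (Subgroup.inclusion le_sup_left ⟨q, hq'⟩) = q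
        rw [hψ₂P]
        exact hψ₁Q ⟨q, hq⟩
      · intro q hq
        have hq' : q ∈ (P ⊔ Q₁) ⊔ Q₂ := (le_sup_right : Q₂ ≤ (P ⊔ Q₁) ⊔ Q₂) hq
        refine ⟨⟨q, hq'⟩, ?_, rfl⟩
        show ψ₂ ⟨q, hq'⟩ = q
        exact hψ₂Q ⟨q, hq⟩
    intro x
    obtain ⟨y, hy, hyx⟩ := hT x.2
    have : Subgroup.inclusion hle (Subgroup.inclusion le_sup_right x) = y := Subtype.ext hyx.symm
    show ψ₂ (Subgroup.inclusion hle (Subgroup.inclusion le_sup_right x)) = x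
    rw [this, ← hyx]
    exact hy

/-- The centre of a fusion system over a finite group is central in it. -/
theorem isCentral_center [Finite S] (F : FusionSystem S) : F.IsCentral F.center :=
  sSup_mem_of_sup_closed (S := S) {Q | F.IsCentral Q} (isCentral_bot F) (fun _ h => h.1)
    (fun _ h₁ _ h₂ => isCentral_sup F h₁ h₂)

end Cfsg.Agent.Lib.Helper9
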