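import Cfsg.Agent.Lib.Helper9.Fusion

set_option autoImplicit false

namespace Cfsg.Agent.Lib.Helper9

open Cfsg Cfsg.FusionSystem

variable {Ω : Type*} [Group Ω] {S : Subgroup Ω}

theorem finite_of_le' {Q S : Subgroup Ω} [Finite S] (h : Q ≤ S) : Finite Q :=
  Finite.of_injective (Subgroup.inclusion h) (Subgroup.inclusion_injective h)

theorem centralizerIn_le_left (S P : Subgroup Ω) : centralizerIn S P ≤ S := inf_le_left

theorem normalizerIn_le_left (S P : Subgroup Ω) : normalizerIn S P ≤ S := inf_le_left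

theorem mem_centralizerIn {S P : Subgroup Ω} {g : Ω} :
    g ∈ centralizerIn S P ↔ g ∈ S ∧ ∀ x ∈ P, x * g = g * x := by
  unfold centralizerIn
  rw [Subgroup.mem_inf, Subgroup.mem_centralizer_iff]
  rfl

theorem centralizer_le_normalizer' (P : Subgroup Ω) :
    Subgroup.centralizer (P : Set Ω) ≤ Subgroup.normalizer (P : Set Ω) := by
  intro g hg
  rw [Subgroup.mem_centralizer_iff] at hg
  rw [Subgroup.mem_normalizer_iff]
  intro x
  constructor
  · intro hx
    have : g * x * g⁻¹ = x := by rw [← hg x hx, mul_assoc, mul_inv_cancel, mul_one]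
    rw [this]; exact hx
  · intro hx
    have h1 := hg _ hx
    -- g x g⁻¹ * g = g * (g x g⁻¹)  ⇒ x = g x g⁻¹
    have : g * x * g⁻¹ = x := by
      have h2 : g * x = g * (g * x * g⁻¹) := by
        rw [← h1]; group
      exact (mul_left_cancel h2).symm
    rw [this] at hx; exact hx

/-- `C_S(P)` lies in the extender of any homomorphism on `P`. -/
theorem centralizerIn_le_extender (S P : Subgroup Ω) (φ : P →* Ω) :
    centralizerIn S P ≤ extender S P φ := by
  intro g hg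
  apply Subgroup.subset_closure
  obtain ⟨hgS, hgC⟩ := Subgroup.mem_inf.mp hg
  refine ⟨hgS, centralizer_le_normalizer' P hgC, 1, S.one_mem, ?_⟩
  intro x hx
  rw [Subgroup.mem_centralizer_iff] at hgC
  have : g * (x : Ω) * g⁻¹ = x := by rw [← hgC x x.2, mul_assoc, mul_inv_cancel, mul_one]
  have h2 : (⟨g * (x : Ω) * g⁻¹, hx⟩ : P) = x := Subtype.ext this
  rw [h2]; simp

/-- `P` lies in the extender of any homomorphism on `P ≤ S` with values in `S`. -/
theorem le_extender {S P : Subgroup Ω} (hP : P ≤ S) (φ : P →* Ω) (hφ : ∀ x : P, φ x ∈ S) :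
    P ≤ extender S P φ := by
  intro g hg
  apply Subgroup.subset_closure
  refine ⟨hP hg, Subgroup.le_normalizer hg, φ ⟨g, hg⟩, hφ _, ?_⟩
  intro x hx
  have : (⟨g * (x : Ω) * g⁻¹, hx⟩ : P) = ⟨g, hg⟩ * x * ⟨g, hg⟩⁻¹ := Subtype.ext rfl
  rw [this, map_mul, map_mul, map_inv]

theorem extender_le (S P : Subgroup Ω) (φ : P →* Ω) : extender S P φ ≤ normalizerIn S P := by
  unfold extender
  rw [Subgroup.closure_le]
  intro g hg
  exact Subgroup.mem_inf.mpr ⟨hg.1, hg.2.1⟩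

/-- The inverse of a map of the system, as a map out of a subgroup `Q` equal to the range. -/
theorem exists_inv_hom (F : FusionSystem S) {P Q : Subgroup Ω} {φ : P →* Ω} (hφ : φ ∈ F.Hom P)
    (hQ : φ.range = Q) :
    ∃ ψ ∈ F.Hom Q, (∀ (x : P) (hx : φ x ∈ Q), ψ ⟨φ x, hx⟩ = (x : Ω)) ∧ ψ.range = P := by
  subst hQ
  obtain ⟨ψ, hψ, hψφ⟩ := F.inv_mem hφ
  refine ⟨ψ, hψ, fun x hx => hψφ x, ?_⟩
  ext y
  constructor
  · rintro ⟨⟨_, x, rfl⟩, rfl⟩
    rw [hψφ x]
    exact x.2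
  · intro hy
    exact ⟨⟨φ ⟨y, hy⟩, ⟨y, hy⟩, rfl⟩, hψφ ⟨y, hy⟩⟩

theorem isConj_symm (F : FusionSystem S) {P Q : Subgroup Ω} (h : F.IsConj P Q) : F.IsConj Q P := by
  obtain ⟨φ, hφ, hQ⟩ := h
  obtain ⟨ψ, hψ, _, hr⟩ := exists_inv_hom F hφ hQ
  exact ⟨ψ, hψ, hr⟩

theorem isConj_refl (F : FusionSystem S) {P : Subgroup Ω} (hP : P ≤ S) : F.IsConj P P :=
  ⟨P.subtype, subtype_mem F hP, Subgroup.range_subtype P⟩

end Cfsg.Agent.Lib.Helper9
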