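import Mathlib.GroupTheory.PGroup
import Mathlib.Algebra.Group.End

set_option autoImplicit false

namespace Cfsg.Agent.Lib.Helper9

/-- An automorphism of a finite `p`-group stabilizing a chain (acting with `p`-power order on the
bottom term and trivially on the successive quotients) has `p`-power order. -/
theorem aut_pow_eq_one_of_stabilizes {P : Type*} [Group P] [Finite P] (p : ℕ) [hp : Fact p.Prime]
    (hP : IsPGroup p P) (α : MulAut P) (R : ℕ → Subgroup P) (m : ℕ) (hm : R m = ⊤)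
    (h0 : ∃ k, ∀ x ∈ R 0, (α ^ p ^ k) x = x)
    (hinv : ∀ j, ∀ x ∈ R j, α x ∈ R j)
    (hstab : ∀ j, ∀ x ∈ R (j + 1), x⁻¹ * α x ∈ R j) : ∃ k, α ^ p ^ k = 1 := by
  have hpow_inv : ∀ n j, ∀ x ∈ R j, (α ^ n) x ∈ R j := by
    intro n
    induction n with
    | zero => intro j x hx; simpa using hx
    | succ n ih =>
      intro j x hx
      rw [pow_succ]
      show (α ^ n) (α x) ∈ R j
      exact ih j _ (hinv j x hx)
  have hpow_stab : ∀ n j, ∀ x ∈ R (j + 1), x⁻¹ * (α ^ n) x ∈ R j := by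
    intro n
    induction n with
    | zero => intro j x _; simp
    | succ n ih =>
      intro j x hx
      rw [pow_succ]
      show x⁻¹ * (α ^ n) (α x) ∈ R j
      have h1 : α x = x * (x⁻¹ * α x) := by group
      rw [h1, map_mul, ← mul_assoc]
      exact (R j).mul_mem (ih j x hx) (hpow_inv n j _ (hstab j x hx))
  obtain ⟨e, he⟩ := hP.exists_card_eq
  have claim : ∀ j, ∃ k, ∀ x ∈ R j, (α ^ p ^ k) x = x := by
    intro j
    induction j with
    | zero => exact h0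
    | succ j ih =>
      obtain ⟨k, hk⟩ := ih
      refine ⟨k + e, ?_⟩
      intro x hx
      have hz := hpow_stab (p ^ k) j x hx
      have hβz := hk _ hz
      have hβx : (α ^ p ^ k) x = x * (x⁻¹ * (α ^ p ^ k) x) := by group
      have hiter : ∀ n : ℕ, ((α ^ p ^ k) ^ n) x = x * (x⁻¹ * (α ^ p ^ k) x) ^ n := by
        intro n
        induction n with
        | zero => simp
        | succ n ihn =>
          rw [pow_succ]
          show ((α ^ p ^ k) ^ n) ((α ^ p ^ k) x) = _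
          rw [hβx, map_mul, ihn]
          have hfix : ((α ^ p ^ k) ^ n) (x⁻¹ * (α ^ p ^ k) x) = x⁻¹ * (α ^ p ^ k) x := by
            clear ihn
            induction n with
            | zero => simp
            | succ n ihn' =>
              rw [pow_succ]
              show ((α ^ p ^ k) ^ n) ((α ^ p ^ k) (x⁻¹ * (α ^ p ^ k) x)) = _
              rw [hβz, ihn']
          rw [hfix, pow_succ]
          group
      have h2 := hiter (p ^ e)
      rw [← pow_mul, ← pow_add] at h2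
      rw [h2, ← he, pow_card_eq_one', mul_one]
  obtain ⟨k, hk⟩ := claim m
  refine ⟨k, ?_⟩
  ext x
  exact hk x (by rw [hm]; exact Subgroup.mem_top x)

/-- The subgroup of `A ≤ Aut(P)` of automorphisms acting trivially on the quotients of an
`A`-invariant chain. -/
def stabSub {P : Type*} [Group P] (A : Subgroup (MulAut P)) (R : ℕ → Subgroup P)
    (hRinv : ∀ α ∈ A, ∀ j, ∀ x ∈ R j, α x ∈ R j) : Subgroup (MulAut P) where
  carrier := {α | α ∈ A ∧ ∀ j, ∀ x ∈ R (j + 1), x⁻¹ * α x ∈ R j}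
  one_mem' := ⟨A.one_mem, fun j x _ => by simp⟩
  mul_mem' := by
    rintro α β ⟨hα, hαs⟩ ⟨hβ, hβs⟩
    refine ⟨A.mul_mem hα hβ, fun j x hx => ?_⟩
    show x⁻¹ * α (β x) ∈ R j
    have h1 : x⁻¹ * α (β x) = (x⁻¹ * α x) * α (x⁻¹ * β x) := by
      rw [map_mul, map_inv]; group
    rw [h1]
    exact (R j).mul_mem (hαs j x hx) (hRinv α hα j _ (hβs j x hx))
  inv_mem' := by
    rintro α ⟨hα, hαs⟩
    refine ⟨A.inv_mem hα, fun j x hx => ?_⟩
    have hy : α⁻¹ x ∈ R (j + 1) := hRinv α⁻¹ (A.inv_mem hα) (j + 1) x hx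
    have h1 := hαs j _ hy
    have h2 : α (α⁻¹ x) = x := MulEquiv.apply_symm_apply α x
    rw [h2] at h1
    have h3 : x⁻¹ * α⁻¹ x = ((α⁻¹ x)⁻¹ * x)⁻¹ := by group
    rw [h3]
    exact (R j).inv_mem h1

theorem mem_stabSub {P : Type*} [Group P] {A : Subgroup (MulAut P)} {R : ℕ → Subgroup P}
    {hRinv : ∀ α ∈ A, ∀ j, ∀ x ∈ R j, α x ∈ R j} {α : MulAut P} :
    α ∈ stabSub A R hRinv ↔ α ∈ A ∧ ∀ j, ∀ x ∈ R (j + 1), x⁻¹ * α x ∈ R j := Iff.rfl

theorem stabSub_le {P : Type*} [Group P] (A : Subgroup (MulAut P)) (R : ℕ → Subgroup P)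
    (hRinv : ∀ α ∈ A, ∀ j, ∀ x ∈ R j, α x ∈ R j) : stabSub A R hRinv ≤ A := fun _ h => h.1

theorem stabSub_normal {P : Type*} [Group P] (A : Subgroup (MulAut P)) (R : ℕ → Subgroup P)
    (hRinv : ∀ α ∈ A, ∀ j, ∀ x ∈ R j, α x ∈ R j) : ((stabSub A R hRinv).subgroupOf A).Normal := by
  constructor
  intro α hα γ
  rw [Subgroup.mem_subgroupOf] at hα ⊢
  obtain ⟨hαA, hαs⟩ := hα
  refine ⟨(γ * α * γ⁻¹).2, fun j x hx => ?_⟩
  show x⁻¹ * (γ : MulAut P) ((α : MulAut P) ((γ : MulAut P)⁻¹ x)) ∈ R j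
  have hy : (γ : MulAut P)⁻¹ x ∈ R (j + 1) := hRinv _ (A.inv_mem γ.2) (j + 1) x hx
  have h1 := hαs j _ hy
  have h2 := hRinv _ γ.2 j _ h1
  rw [map_mul, map_inv] at h2
  have h3 : (γ : MulAut P) ((γ : MulAut P)⁻¹ x) = x := MulEquiv.apply_symm_apply _ x
  rw [h3] at h2
  exact h2

theorem stabSub_isPGroup {P : Type*} [Group P] [Finite P] (p : ℕ) [Fact p.Prime] (hP : IsPGroup p P)
    (A : Subgroup (MulAut P)) (R : ℕ → Subgroup P)
    (hRinv : ∀ α ∈ A, ∀ j, ∀ x ∈ R j, α x ∈ R j) (m : ℕ) (hm : R m = ⊤)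
    (h0 : ∀ α ∈ stabSub A R hRinv, ∃ k, ∀ x ∈ R 0, (α ^ p ^ k) x = x) :
    IsPGroup p (stabSub A R hRinv) := by
  intro α
  obtain ⟨k, hk⟩ := aut_pow_eq_one_of_stabilizes p hP (α : MulAut P) R m hm (h0 α α.2)
    (hRinv α α.2.1) α.2.2
  exact ⟨k, Subtype.ext hk⟩

end Cfsg.Agent.Lib.Helper9
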