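import Cfsg.Agent.Lib.Helper9.FusionAlp4
import Cfsg.Agent.Lib.Helper9.Stab

set_option autoImplicit false

namespace Cfsg.Agent.Lib.Helper9

open Cfsg Cfsg.FusionSystem
open scoped commutatorElement

variable {Ω : Type*} [Group Ω] {S : Subgroup Ω}

/-- Centric radical subgroups absorb elements inducing automorphisms in a normal `p`-subgroup of
`Aut_F(P)`. -/
theorem mem_of_centric_radical_of_normal_pgroup [Finite S] (p : ℕ) [Fact p.Prime]
    (F : FusionSystem S) {P : Subgroup Ω} (hcen : F.IsCentric P) (hrad : F.IsRadical p P)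
    (X : Subgroup (MulAut P)) (hXA : X ≤ F.autGroup P)
    (hXn : (X.subgroupOf (F.autGroup P)).Normal) (hXp : IsPGroup p X) {g : Ω} (hgS : g ∈ S)
    (hgN : g ∈ Subgroup.normalizer (P : Set Ω)) (hg : normConj P ⟨g, hgN⟩ ∈ X) : g ∈ P := by
  have hPS := hcen.1
  have hC : centralizerIn S P ≤ P := hcen.2 P (isConj_refl F hPS)
  have hcore : X.subgroupOf (F.autGroup P) ≤ pCore p ↥(F.autGroup P) :=
    le_sSup ⟨hXn, hXp.comap_subtype⟩
  have hXInn : X ≤ Inn P := by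
    rw [← hrad.2, ← Subgroup.map_subgroupOf_eq_of_le hXA]
    exact Subgroup.map_mono hcore
  exact mem_of_normConj_mem_inn hPS hC hgS hgN (hXInn hg)

theorem conj_mem_of_stronglyClosed (F : FusionSystem S) {B : Subgroup Ω} (hB : F.StronglyClosed B)
    {s b : Ω} (hs : s ∈ S) (hb : b ∈ B) : s * b * s⁻¹ ∈ B :=
  hB.2 B le_rfl _ (F.conj_mem hB.1 hs) ⟨b, hb⟩

theorem stronglyClosed_bot (F : FusionSystem S) : F.StronglyClosed ⊥ := by
  refine ⟨bot_le, ?_⟩
  intro R hR φ _ x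
  have : x = 1 := Subtype.ext (Subgroup.mem_bot.mp (hR x.2))
  rw [this, map_one]
  exact Subgroup.one_mem _

theorem aut_mem_of_stronglyClosed (F : FusionSystem S) {P B : Subgroup Ω} (hPS : P ≤ S)
    (hB : F.StronglyClosed B) {α : MulAut P} (hα : α ∈ F.autGroup P) (x : P) (hx : (x : Ω) ∈ B) :
    ((α x : P) : Ω) ∈ B := by
  have hφ := (mem_autGroup_iff F hPS α).mp hα
  have hle : P ⊓ B ≤ P := inf_le_left
  exact hB.2 (P ⊓ B) inf_le_right _ (restrict_mem F hφ hle) ⟨x, Subgroup.mem_inf.mpr ⟨x.2, hx⟩⟩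

/-- A subgroup `Q` with a chain `1 = Q₀ ≤ ⋯ ≤ Qₙ = Q` of strongly closed subgroups with
`[Q, Qᵢ₊₁] ≤ Qᵢ` lies in every centric radical subgroup. -/
theorem le_centric_radical_of_chain [Finite S] (p : ℕ) [Fact p.Prime] (hS : IsPGroup p S)
    (F : FusionSystem S) (Q : Subgroup Ω) (n : ℕ) (Qs : Fin (n + 1) → Subgroup Ω) (h0 : Qs 0 = ⊥)
    (hlast : Qs (Fin.last n) = Q)
    (hstep : ∀ i : Fin n, F.StronglyClosed (Qs i.succ) ∧ ⁅Q, Qs i.succ⁆ ≤ Qs (Fin.castSucc i))
    {P : Subgroup Ω} (hcen : F.IsCentric P) (hrad : F.IsRadical p P) : Q ≤ P := by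
  have hPS := hcen.1
  have hfinP : Finite P := finite_of_le' hPS
  have hPp : IsPGroup p P := hS.to_le hPS
  have hsc : ∀ j : Fin (n + 1), F.StronglyClosed (Qs j) := by
    intro j
    rcases Fin.eq_zero_or_eq_succ j with rfl | ⟨i, rfl⟩
    · rw [h0]; exact stronglyClosed_bot F
    · exact (hstep i).1
  have hQsc : F.StronglyClosed Q := hlast ▸ hsc (Fin.last n)
  have hQS : Q ≤ S := hQsc.1
  -- the chain in P
  obtain ⟨R, hRdef⟩ : ∃ R : ℕ → Subgroup P,
      R = fun j => if h : j < n + 1 then (Qs ⟨j, h⟩).subgroupOf P else ⊤ := ⟨_, rfl⟩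
  have hRlt : ∀ j (h : j < n + 1), R j = (Qs ⟨j, h⟩).subgroupOf P := by
    intro j h; rw [hRdef]; simp [h]
  have hRge : ∀ j, ¬ j < n + 1 → R j = ⊤ := by
    intro j h; rw [hRdef]; simp [h]
  have hRinv : ∀ α ∈ F.autGroup P, ∀ j, ∀ x ∈ R j, α x ∈ R j := by
    intro α hα j x hx
    by_cases h : j < n + 1
    · rw [hRlt j h] at hx ⊢
      exact Subgroup.mem_subgroupOf.mpr
        (aut_mem_of_stronglyClosed F hPS (hsc _) hα x (Subgroup.mem_subgroupOf.mp hx))
    · rw [hRge j h]; exact Subgroup.mem_top _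
  have hXp : IsPGroup p (stabSub (F.autGroup P) R hRinv) := by
    apply stabSub_isPGroup p hPp (F.autGroup P) R hRinv (n + 1) (hRge (n + 1) (lt_irrefl _))
    intro α _
    refine ⟨0, ?_⟩
    intro x hx
    rw [hRlt 0 (Nat.succ_pos n)] at hx
    have hx' : (x : Ω) ∈ Qs 0 := Subgroup.mem_subgroupOf.mp hx
    rw [h0] at hx'
    have : x = 1 := Subtype.ext (Subgroup.mem_bot.mp hx')
    rw [this, map_one]
  have hXn := stabSub_normal (F.autGroup P) R hRinv
  have hXA := stabSub_le (F.autGroup P) R hRinv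
  -- elements of N_Q(P) stabilize the chain
  have hNQP : ∀ b ∈ Q, ∀ hbN : b ∈ Subgroup.normalizer (P : Set Ω), b ∈ P := by
    intro b hbQ hbN
    apply mem_of_centric_radical_of_normal_pgroup p F hcen hrad _ hXA hXn hXp (hQS hbQ) hbN
    rw [mem_stabSub]
    refine ⟨autInducedBy_le_autGroup F hPS (Subgroup.subset_closure ⟨b, hQS hbQ, fun x => rfl⟩), ?_⟩
    intro j x hx
    by_cases hj : j < n + 1
    · rw [hRlt j hj]
      rw [Subgroup.mem_subgroupOf]
      show (x : Ω)⁻¹ * (b * (x : Ω) * b⁻¹) ∈ Qs ⟨j, hj⟩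
      by_cases hj' : j + 1 < n + 1
      · rw [hRlt (j + 1) hj'] at hx
        have hx' : (x : Ω) ∈ Qs ⟨j + 1, hj'⟩ := Subgroup.mem_subgroupOf.mp hx
        have hjn : j < n := by omega
        have h1 := (hstep ⟨j, hjn⟩).2
        have h2 : ⁅b, (x : Ω)⁻¹⁆ ∈ ⁅Q, Qs (Fin.succ ⟨j, hjn⟩)⁆ :=
          Subgroup.commutator_mem_commutator hbQ (Subgroup.inv_mem _ hx')
        have h3 := h1 h2
        have h4 : (x : Ω)⁻¹ * (b * (x : Ω) * b⁻¹) = (⁅b, (x : Ω)⁻¹⁆)⁻¹ := by
          rw [commutatorElement_def]; group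
        rw [h4]
        exact Subgroup.inv_mem _ h3
      · have hjn : j = n := by omega
        subst hjn
        have hQl : Qs ⟨j, hj⟩ = Q := hlast
        rw [hQl]
        have h5 := conj_mem_of_stronglyClosed F hQsc (hPS (Subgroup.inv_mem _ x.2)) hbQ
        have h6 : (x : Ω)⁻¹ * (b * (x : Ω) * b⁻¹) = ((x : Ω)⁻¹ * b * ((x : Ω)⁻¹)⁻¹) * b⁻¹ := by group
        rw [h6]
        exact Q.mul_mem h5 (Q.inv_mem hbQ)
    · rw [hRge j hj]; exact Subgroup.mem_top _
  -- conclude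
  have hTS : P ⊔ Q ≤ S := sup_le hPS hQS
  have hfinT : Finite ↥(P ⊔ Q) := finite_of_le' hTS
  have hTp : IsPGroup p ↥(P ⊔ Q) := hS.to_le hTS
  have hPT : P = P ⊔ Q := by
    by_contra hne
    have hlt := lt_normalizerIn (S := P ⊔ Q) p hTp le_sup_left hne
    obtain ⟨g, hgN, hgP⟩ := SetLike.exists_of_lt hlt
    have hfinQ : Finite Q := finite_of_le' hQS
    have hPNQ' : P ≤ Subgroup.normalizer (Q : Set Ω) := by
      intro y hy
      exact mem_normalizer_of_conj_mem_of_finite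
        (fun q hq => conj_mem_of_stronglyClosed F hQsc (hPS hy) hq)
    obtain ⟨y, hy, b, hb, rfl⟩ := exists_mul_of_mem_sup_of_le_normalizer hPNQ' (Subgroup.mem_inf.mp hgN).1
    have hbN : b ∈ Subgroup.normalizer (P : Set Ω) := by
      have h1 : y * b ∈ Subgroup.normalizer (P : Set Ω) := (Subgroup.mem_inf.mp hgN).2
      have h2 : b = y⁻¹ * (y * b) := by group
      rw [h2]
      exact Subgroup.mul_mem _ (Subgroup.inv_mem _ (Subgroup.le_normalizer hy)) h1
    exact hgP (P.mul_mem hy (hNQP b hb hbN))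
  rw [hPT]
  exact le_sup_right

end Cfsg.Agent.Lib.Helper9
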