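import Cfsg.Agent.Lib.Helper9.FusionAlp3

set_option autoImplicit false

namespace Cfsg.Agent.Lib.Helper9

open Cfsg Cfsg.FusionSystem

variable {Ω : Type*} [Group Ω] {S : Subgroup Ω}

/-- If conjugation by `g ∈ N_S(P)` is an inner automorphism of `P` and `C_S(P) ≤ P` then `g ∈ P`. -/
theorem mem_of_normConj_mem_inn {P : Subgroup Ω} (hPS : P ≤ S) (hC : centralizerIn S P ≤ P) {g : Ω}
    (hgS : g ∈ S) (hgN : g ∈ Subgroup.normalizer (P : Set Ω)) (h : normConj P ⟨g, hgN⟩ ∈ Inn P) :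
    g ∈ P := by
  obtain ⟨x, hx⟩ := h
  have hc : (x : Ω)⁻¹ * g ∈ centralizerIn S P := by
    rw [mem_centralizerIn]
    refine ⟨S.mul_mem (S.inv_mem (hPS x.2)) hgS, ?_⟩
    intro y hy
    have h1 : ((MulAut.conj x ⟨y, hy⟩ : P) : Ω) = ((normConj P ⟨g, hgN⟩ ⟨y, hy⟩ : P) : Ω) := by
      rw [hx]
    rw [normConj_apply] at h1
    have h2 : (x : Ω) * y * (x : Ω)⁻¹ = g * y * g⁻¹ := h1
    calc y * ((x : Ω)⁻¹ * g) = (x : Ω)⁻¹ * ((x : Ω) * y * (x : Ω)⁻¹) * g := by group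
      _ = (x : Ω)⁻¹ * (g * y * g⁻¹) * g := by rw [h2]
      _ = (x : Ω)⁻¹ * g * y := by group
  have h3 := hC hc
  have h4 : g = (x : Ω) * ((x : Ω)⁻¹ * g) := by group
  rw [h4]
  exact P.mul_mem x.2 h3

theorem autInducedBy_mono {K₁ K₂ : Subgroup Ω} (h : K₁ ≤ K₂) (P : Subgroup Ω) :
    autInducedBy K₁ P ≤ autInducedBy K₂ P := by
  unfold autInducedBy
  apply Subgroup.closure_mono
  rintro α ⟨g, hg, hα⟩
  exact ⟨g, h hg, hα⟩

/-- A subgroup normal in a saturated fusion system lies in every centric radical subgroup. -/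
theorem le_of_isNormal_of_centric_radical [Finite S] (p : ℕ) [Fact p.Prime] (hS : IsPGroup p S)
    (F : FusionSystem S) {P Q : Subgroup Ω} (hQ : F.IsNormal Q) (hcen : F.IsCentric P)
    (hrad : F.IsRadical p P) : Q ≤ P := by
  have hPS := hcen.1
  have hQS := hQ.1
  have hTS : P ⊔ Q ≤ S := sup_le hPS hQS
  have hfinT : Finite ↥(P ⊔ Q) := finite_of_le' hTS
  have hfinP : Finite P := finite_of_le' hPS
  have hTp : IsPGroup p ↥(P ⊔ Q) := hS.to_le hTS
  have hC : centralizerIn S P ≤ P := hcen.2 P (isConj_refl F hPS)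
  have hMS : normalizerIn (P ⊔ Q) P ≤ S := (normalizerIn_le_left _ _).trans hTS
  have hDA : autInducedBy (normalizerIn (P ⊔ Q) P) P ≤ F.autGroup P :=
    (autInducedBy_mono hMS P).trans (autInducedBy_le_autGroup F hPS)
  have hDp : IsPGroup p (autInducedBy (normalizerIn (P ⊔ Q) P) P) := by
    rw [autInducedBy_eq_map]
    have h1 : IsPGroup p ((normalizerIn (P ⊔ Q) P).subgroupOf (Subgroup.normalizer (P : Set Ω))) :=
      (hS.to_le hMS).comap_subtype
    exact h1.map _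
  have hDnormal : ((autInducedBy (normalizerIn (P ⊔ Q) P) P).subgroupOf (F.autGroup P)).Normal := by
    constructor
    intro d hd a
    rw [Subgroup.mem_subgroupOf] at hd ⊢
    rw [autInducedBy_eq_map] at hd
    obtain ⟨n, hnM, hn⟩ := hd
    have hnM' : (n : Ω) ∈ normalizerIn (P ⊔ Q) P := Subgroup.mem_subgroupOf.mp hnM
    have hnT : (n : Ω) ∈ P ⊔ Q := normalizerIn_le_left _ _ hnM'
    have hφ := (mem_autGroup_iff F hPS (a : MulAut P)).mp a.2
    obtain ⟨ψ, hψ, hψP, hψQ⟩ := hQ.2 P _ hφ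
    rw [map_subgroupOf_eq_iff] at hψQ
    have hψP' : ∀ x : P, ψ (Subgroup.inclusion le_sup_left x) = (((a : MulAut P) x : P) : Ω) := hψP
    have hψT : ∀ z : ↥(P ⊔ Q), ψ z ∈ P ⊔ Q := by
      apply sup_map_mem
      · intro x
        rw [hψP']
        exact (le_sup_left : P ≤ P ⊔ Q) ((a : MulAut P) x).2
      · intro x
        exact (le_sup_right : Q ≤ P ⊔ Q) (hψQ.1 x)
    have hconj : ∀ x : P, ψ ⟨n, hnT⟩ * (((a : MulAut P) x : P) : Ω) * (ψ ⟨n, hnT⟩)⁻¹ =
        (((a : MulAut P) (normConj P n x) : P) : Ω) := by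
      intro x
      rw [← hψP' x, ← hψP' (normConj P n x), ← map_inv, ← map_mul, ← map_mul]
      congr 1
    have hg'N : ψ ⟨n, hnT⟩ ∈ Subgroup.normalizer (P : Set Ω) := by
      apply mem_normalizer_of_conj_mem_of_finite
      intro y hy
      have hy' : y = (((a : MulAut P) ((a : MulAut P).symm ⟨y, hy⟩) : P) : Ω) := by
        rw [MulEquiv.apply_symm_apply]
      rw [hy', hconj]
      exact ((a : MulAut P) _).2
    have hg'M : ψ ⟨n, hnT⟩ ∈ normalizerIn (P ⊔ Q) P := Subgroup.mem_inf.mpr ⟨hψT _, hg'N⟩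
    have heq : ((a * d * a⁻¹ : ↥(F.autGroup P)) : MulAut P) = normConj P ⟨ψ ⟨n, hnT⟩, hg'N⟩ := by
      ext y
      rw [normConj_apply]
      show (((a : MulAut P) ((d : MulAut P) ((a : MulAut P).symm y)) : P) : Ω) = _
      have hy' : y = (a : MulAut P) ((a : MulAut P).symm y) := by
        rw [MulEquiv.apply_symm_apply]
      rw [← hn]
      conv_rhs => rw [hy']
      rw [hconj]
    rw [heq]
    exact Subgroup.subset_closure ⟨_, hg'M, fun x => rfl⟩
  have hDcore : (autInducedBy (normalizerIn (P ⊔ Q) P) P).subgroupOf (F.autGroup P) ≤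
      pCore p ↥(F.autGroup P) := le_sSup ⟨hDnormal, hDp.comap_subtype⟩
  have hDInn : autInducedBy (normalizerIn (P ⊔ Q) P) P ≤ Inn P := by
    rw [← hrad.2, ← Subgroup.map_subgroupOf_eq_of_le hDA]
    exact Subgroup.map_mono hDcore
  have hMP : normalizerIn (P ⊔ Q) P ≤ P := by
    intro g hg
    have hgN : g ∈ Subgroup.normalizer (P : Set Ω) := (Subgroup.mem_inf.mp hg).2
    have h1 : normConj P ⟨g, hgN⟩ ∈ autInducedBy (normalizerIn (P ⊔ Q) P) P :=
      Subgroup.subset_closure ⟨g, hg, fun x => rfl⟩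
    exact mem_of_normConj_mem_inn hPS hC (hMS hg) hgN (hDInn h1)
  have hPT : P = P ⊔ Q := by
    by_contra hne
    have hlt := lt_normalizerIn (S := P ⊔ Q) p hTp le_sup_left hne
    exact absurd (le_antisymm hMP hlt.le) hlt.ne'
  rw [hPT]
  exact le_sup_right

end Cfsg.Agent.Lib.Helper9
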