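import Cfsg.Agent.S5290
import Cfsg.Agent.S5088

set_option autoImplicit false

namespace Cfsg.Agent.Lib.Helper9

open Cfsg Cfsg.FusionSystem

variable {Ω : Type*} [Group Ω] {S : Subgroup Ω}

/-- An abelian strongly closed subgroup is normal in a saturated fusion system. -/
theorem isNormal_of_abelian_stronglyClosed [Finite S] (p : ℕ) [Fact p.Prime] (hS : IsPGroup p S)
    (F : FusionSystem S) (hF : F.IsSaturated p) {T : Subgroup Ω} (hT : F.StronglyClosed T)
    (hab : ∀ x ∈ T, ∀ y ∈ T, x * y = y * x) : F.IsNormal T := by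
  rw [Cfsg.Agent.S5088.result p hS F hF T]
  refine ⟨1, ![⊥, T], rfl, rfl, ?_, ?_⟩
  · intro i j hij
    fin_cases i <;> fin_cases j
    · exact le_rfl
    · exact bot_le
    · exfalso; revert hij; decide
    · exact le_rfl
  · intro i
    fin_cases i
    refine ⟨hT, ?_⟩
    show ⁅T, T⁆ ≤ ⊥
    rw [Subgroup.commutator_le]
    intro a ha b hb
    rw [Subgroup.mem_bot, commutatorElement_eq_one_iff_mul_comm]
    exact hab a ha b hb

/-- The inner fusion system of an abelian strongly closed subgroup is a normal subsystem. -/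
theorem inner_isNormalIn_of_abelian_stronglyClosed [Finite S] (p : ℕ) [Fact p.Prime]
    (hS : IsPGroup p S) (F : FusionSystem S) (hF : F.IsSaturated p) {T : Subgroup Ω}
    (hT : F.StronglyClosed T) (hab : ∀ x ∈ T, ∀ y ∈ T, x * y = y * x) :
    (innerFusionSystem T).IsNormalIn F p := by
  have hnormal := isNormal_of_abelian_stronglyClosed p hS F hF hT hab
  refine ⟨(Cfsg.Agent.S5290.result p hS F hF T hT.1).mp hnormal, ?_⟩
  intro α hα
  rw [mem_autGroup_iff (innerFusionSystem T) le_rfl] at hα
  obtain ⟨-, g, hg, hgx⟩ := hα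
  have hα1 : ∀ x : T, α x = x := by
    intro x
    apply Subtype.ext
    have := hgx x
    rw [hab g hg x x.2, mul_assoc, mul_inv_cancel, mul_one] at this
    exact this
  refine ⟨1, Subgroup.one_mem _, fun x => ?_, fun c _ => ?_⟩
  · rw [hα1 x]; rfl
  · have : (c : Ω)⁻¹ * (((1 : MulAut ↥(T ⊔ centralizerIn S T)) c : ↥(T ⊔ centralizerIn S T)) : Ω) = 1 := by
      show (c : Ω)⁻¹ * (c : Ω) = 1
      group
    rw [this]
    exact Subgroup.one_mem _

end Cfsg.Agent.Lib.Helper9
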