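import Cfsg.Prelude.Def_EvenType
import Cfsg.Agent.Lib.Helper9.Basic
import Mathlib.GroupTheory.Perm.Cycle.Type

set_option autoImplicit false

namespace Cfsg.Agent.Lib.Helper9

open Cfsg

/-- A nontrivial finite `p`-group does not have `p`-rank `≤ 0`. -/
theorem not_pRankLE_zero {X : Type*} [Group X] [Finite X] (p : ℕ) [hp : Fact p.Prime]
    (hX : IsPGroup p X) (hne : Nat.card X ≠ 1) : ¬ PRankLE p 0 X := by
  intro h
  have hdvd : p ∣ Nat.card X := hX.card_eq_or_dvd.resolve_left hne
  obtain ⟨x, hx⟩ := exists_prime_orderOf_dvd_card' p hdvd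
  have h1 := h (Subgroup.zpowers x) (Subgroup.zpowers_isMulCommutative x) (by
    rintro a ⟨k, rfl⟩
    rw [← zpow_natCast, ← zpow_mul, mul_comm, zpow_mul, zpow_natCast, ← hx, pow_orderOf_eq_one, one_zpow])
  rw [Nat.card_zpowers, hx, pow_zero] at h1
  exact absurd h1 (by have := hp.out.two_le; omega)

/-- A finite group with a strongly `p`-embedded subgroup has trivial `p`-core. -/
theorem pCore_eq_bot_of_isStronglyPEmbedded {X : Type*} [Group X] [Finite X] (p : ℕ)
    [hp : Fact p.Prime] (Y : Subgroup X) (hY : IsStronglyPEmbedded p Y) : pCore p X = ⊥ := by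
  obtain ⟨-, hYtop, P, hP⟩ := hY
  by_contra hne
  apply hYtop
  have hR : pCore p X ≤ P := pCore_le_sylow' P
  have hRp : IsPGroup p (pCore p X) := pCore_isPGroup'
  have hcard : Nat.card (pCore p X) ≠ 1 := by
    intro h
    exact hne (Subgroup.card_eq_one.mp h)
  have hrank := not_pRankLE_zero p hRp hcard
  have hnorm : Subgroup.normalizer ((pCore p X : Subgroup X) : Set X) = ⊤ :=
    @Subgroup.normalizer_eq_top _ _ _ (pCore_normal' p)
  have hle : Subgroup.normalizer ((pCore p X : Subgroup X) : Set X) ≤ kGeneratedCore p 1 (P : Subgroup X) := by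
    unfold kGeneratedCore
    exact le_iSup (fun Q : {Q : Subgroup X // Q ≤ (P : Subgroup X) ∧ ¬ PRankLE p (1 - 1) Q} =>
      Subgroup.normalizer ((Q : Subgroup X) : Set X)) ⟨pCore p X, hR, by simpa using hrank⟩
  rw [hnorm] at hle
  exact top_le_iff.mp (hle.trans hP)

end Cfsg.Agent.Lib.Helper9
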