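import Cfsg.Agent.Lib.Helper9.FusionSat6
import Cfsg.Agent.Lib.Helper9.StrongEmb
import Cfsg.Agent.S5104

set_option autoImplicit false

namespace Cfsg.Agent.Lib.Helper9

open Cfsg Cfsg.FusionSystem

variable {Ω : Type*} [Group Ω] {S : Subgroup Ω}

/-- The automorphisms of `P` that extend to maps of the system on strictly larger subgroups. -/
def extGens (F : FusionSystem S) (P : Subgroup Ω) : Set (MulAut P) :=
  {α | ∃ (Q : Subgroup Ω) (hPQ : P < Q) (φ : Q →* Ω), φ ∈ F.Hom Q ∧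
    ∀ x : P, φ (Subgroup.inclusion hPQ.le x) = α x}

theorem aut_hom_mem (F : FusionSystem S) {P : Subgroup Ω} (hPS : P ≤ S) {α : MulAut P}
    (hα : α ∈ F.autGroup P) :
    P.subtype.comp α.toMonoidHom ∈ F.Hom P ∧ (P.subtype.comp α.toMonoidHom).range = P := by
  refine ⟨(mem_autGroup_iff F hPS α).mp hα, ?_⟩
  ext y
  constructor
  · rintro ⟨x, rfl⟩; exact (α x).2
  · intro hy
    refine ⟨α.symm ⟨y, hy⟩, ?_⟩
    show ((α (α.symm ⟨y, hy⟩) : P) : Ω) = y
    rw [MulEquiv.apply_symm_apply]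

/-- If `P` is receptive and the extender of `α ∈ Aut_F(P)` contains an element outside `P`, then `α`
extends to a strictly larger subgroup. -/
theorem mem_extGens_of_extender (F : FusionSystem S) {P : Subgroup Ω} (hPS : P ≤ S)
    (hrec : F.IsReceptive P) {α : MulAut P} (hα : α ∈ F.autGroup P) {g₀ : Ω}
    (hg₀ : g₀ ∈ extender S P (P.subtype.comp α.toMonoidHom)) (hg₀P : g₀ ∉ P) :
    α ∈ extGens F P := by
  obtain ⟨hα₁, hα₁r⟩ := aut_hom_mem F hPS hα
  obtain ⟨χ, hχ, hχα⟩ := hrec.2 P _ hα₁ hα₁r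
  have hle : P ≤ extender S P (P.subtype.comp α.toMonoidHom) :=
    le_extender hPS _ (fun x => hPS (α x).2)
  have hlt : P < extender S P (P.subtype.comp α.toMonoidHom) :=
    lt_of_le_of_ne hle (fun h => hg₀P (h ▸ hg₀))
  exact ⟨_, hlt, χ, hχ, fun x => hχα x x.2 (hle x.2)⟩

/-- Inner automorphisms of a proper subgroup `P < S` extend to `N_S(P) > P`. -/
theorem inn_mem_extGens [Finite S] (p : ℕ) [Fact p.Prime] (hS : IsPGroup p S) (F : FusionSystem S)
    {P : Subgroup Ω} (hPS : P ≤ S) (hne : P ≠ S) (x : P) : MulAut.conj x ∈ extGens F P := by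
  have hlt := lt_normalizerIn p hS hPS hne
  refine ⟨normalizerIn S P, hlt, conjHom _ (x : Ω),
    F.conj_mem (normalizerIn_le_left S P) (hPS x.2), fun y => rfl⟩

/-- A generator of the extender, in terms of `Aut_S(P)`. -/
theorem mem_extender_of_conj_mem (F : FusionSystem S) {P : Subgroup Ω} (α : MulAut P) {g : Ω}
    (hgS : g ∈ S) (hgN : g ∈ Subgroup.normalizer (P : Set Ω))
    (h : α * normConj P ⟨g, hgN⟩ * α⁻¹ ∈ autInducedBy S P) :
    g ∈ extender S P (P.subtype.comp α.toMonoidHom) := by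
  apply Subgroup.subset_closure
  rw [autInducedBy_eq_map] at h
  obtain ⟨n, hnS, hn⟩ := h
  refine ⟨hgS, hgN, (n : Ω), Subgroup.mem_subgroupOf.mp hnS, ?_⟩
  intro x hx
  have h2 : ((normConj P n (α x) : P) : Ω) = (((α * normConj P ⟨g, hgN⟩ * α⁻¹) (α x) : P) : Ω) := by
    rw [hn]
  rw [normConj_apply] at h2
  have h3 : (α * normConj P ⟨g, hgN⟩ * α⁻¹) (α x) = α (normConj P ⟨g, hgN⟩ x) := by
    show α (normConj P ⟨g, hgN⟩ (α.symm (α x))) = _
    rw [MulEquiv.symm_apply_apply]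
  rw [h3] at h2
  show ((α ⟨g * x * g⁻¹, hx⟩ : P) : Ω) = (n : Ω) * ((α x : P) : Ω) * (n : Ω)⁻¹
  rw [h2]
  congr 2

/-- A fully normalized subgroup of a saturated system that is not centric: every automorphism
extends to a strictly larger subgroup. -/
theorem autGroup_le_extGens_of_not_centric [Finite S] (p : ℕ) [Fact p.Prime] (hS : IsPGroup p S)
    (F : FusionSystem S) (hF : F.IsSaturated p) {P : Subgroup Ω} (hPfn : F.IsFullyNormalized P)
    (hnc : ¬ F.IsCentric P) : ∀ α ∈ F.autGroup P, α ∈ extGens F P := by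
  intro α hα
  have hPS := hPfn.1
  obtain ⟨hfc, -⟩ := sat_fullyNormalized p hS F hF hPfn
  have hrec := sat_fullyCentralized_receptive p hS F hF hfc
  have hC : ¬ centralizerIn S P ≤ P := fun h => hnc (Cfsg.Agent.S5104.result p hS F hF P hfc h)
  obtain ⟨c, hc, hcP⟩ := SetLike.not_le_iff_exists.mp hC
  exact mem_extGens_of_extender F hPS hrec hα (centralizerIn_le_extender S P _ hc) hcP

end Cfsg.Agent.Lib.Helper9
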