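import Cfsg.Agent.Lib.Helper9.FusionAlp1

set_option autoImplicit false

namespace Cfsg.Agent.Lib.Helper9

open Cfsg Cfsg.FusionSystem

variable {Ω : Type*} [Group Ω] {S : Subgroup Ω}

theorem inn_le_autInducedBy {P : Subgroup Ω} (hPS : P ≤ S) : Inn P ≤ autInducedBy S P := by
  rintro _ ⟨x, rfl⟩
  exact Subgroup.subset_closure ⟨(x : Ω), hPS x.2, fun y => rfl⟩

theorem pRankLE_zero_of_bot {X : Type*} [Group X] (p : ℕ) : PRankLE p 0 (⊥ : Subgroup X) := by
  intro A _ _
  rw [pow_zero]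
  have : Subsingleton (⊥ : Subgroup X) := inferInstance
  have : Subsingleton A := inferInstance
  exact (Nat.card_of_subsingleton (1 : A)).le

/-- Centric fully normalized proper non-essential subgroup of a saturated fusion system: `Aut_F(P)` is
generated by the automorphisms that extend to strictly larger subgroups. -/
theorem autGroup_le_closure_extGens_of_centric [Finite S] (p : ℕ) [hp : Fact p.Prime]
    (hS : IsPGroup p S) (F : FusionSystem S) (hF : F.IsSaturated p) {P : Subgroup Ω}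
    (hPfn : F.IsFullyNormalized P) (hPne : P ≠ S) (hcen : F.IsCentric P)
    (hness : ¬ F.IsEssential p P) : F.autGroup P ≤ Subgroup.closure (extGens F P) := by
  have hPS := hPfn.1
  obtain ⟨hfc, hfa⟩ := sat_fullyNormalized p hS F hF hPfn
  have hrec := sat_fullyCentralized_receptive p hS F hF hfc
  obtain ⟨-, R, hR⟩ := hfa
  have hfinP : Finite P := finite_of_le' hPS
  have hfinAut : Finite (MulAut P) := inferInstance
  have hfinA : Finite ↥(F.autGroup P) := inferInstance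
  have hIn : ((Inn P).subgroupOf (F.autGroup P)).Normal := inferInstance
  -- no strongly p-embedded subgroup in Out_F(P)
  have hnse : ∀ Y : Subgroup (↥(F.autGroup P) ⧸ (Inn P).subgroupOf (F.autGroup P)),
      ¬ IsStronglyPEmbedded p Y := by
    intro Y hY
    exact hness ⟨hcen, hPfn, hIn, Y, hY⟩
  have hfinO : Finite (↥(F.autGroup P) ⧸ (Inn P).subgroupOf (F.autGroup P)) := inferInstance
  obtain ⟨T', hT'⟩ : ∃ T' : Sylow p (↥(F.autGroup P) ⧸ (Inn P).subgroupOf (F.autGroup P)),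
      T'.toSubgroup = (R : Subgroup ↥(F.autGroup P)).map
        (QuotientGroup.mk' ((Inn P).subgroupOf (F.autGroup P))) :=
    ⟨R.mapSurjective (QuotientGroup.mk'_surjective _), rfl⟩
  have hNN : normalizerIn S P ≤ Subgroup.normalizer (P : Set Ω) := normalizerIn_le_normalizer S P
  have hBA := autInducedBy_le_autGroup F hPS
  -- elements of `R` are conjugations by elements of `N_S(P)`
  have hRelem : ∀ r : ↥(F.autGroup P), r ∈ (R : Subgroup ↥(F.autGroup P)) →
      ∃ (n : Ω) (hnS : n ∈ S) (hnN : n ∈ Subgroup.normalizer (P : Set Ω)),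
        (r : MulAut P) = normConj P ⟨n, hnN⟩ := by
    intro r hr
    rw [hR, Subgroup.mem_subgroupOf, autInducedBy_eq_map] at hr
    obtain ⟨n, hnS, hn⟩ := hr
    exact ⟨n, Subgroup.mem_subgroupOf.mp hnS, n.2, hn.symm⟩
  have hconjR : ∀ (g : Ω) (hgS : g ∈ S) (hgN : g ∈ Subgroup.normalizer (P : Set Ω)),
      normConj P ⟨g, hgN⟩ ∈ autInducedBy S P := fun g hgS hgN =>
    Subgroup.subset_closure ⟨g, hgS, fun x => rfl⟩
  -- conjugation by an element outside `P` is not inner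
  have hnotinn : ∀ (g : Ω) (hgS : g ∈ S) (hgN : g ∈ Subgroup.normalizer (P : Set Ω)),
      normConj P ⟨g, hgN⟩ ∈ Inn P → g ∈ P := by
    rintro g hgS hgN ⟨x, hx⟩
    have hc : (x : Ω)⁻¹ * g ∈ centralizerIn S P := by
      rw [mem_centralizerIn]
      refine ⟨S.mul_mem (S.inv_mem (hPS x.2)) hgS, ?_⟩
      intro y hy
      have h1 : ((MulAut.conj x ⟨y, hy⟩ : P) : Ω) = ((normConj P ⟨g, hgN⟩ ⟨y, hy⟩ : P) : Ω) := by
        rw [hx]
      rw [normConj_apply] at h1
      have h2 : (x : Ω) * y * (x : Ω)⁻¹ = g * y * g⁻¹ := h1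
      calc y * ((x : Ω)⁻¹ * g) = (x : Ω)⁻¹ * ((x : Ω) * y * (x : Ω)⁻¹) * g := by group
        _ = (x : Ω)⁻¹ * (g * y * g⁻¹) * g := by rw [h2]
        _ = (x : Ω)⁻¹ * g * y := by group
    have h3 := hcen.2 P (isConj_refl F hPS) hc
    have h4 : g = (x : Ω) * ((x : Ω)⁻¹ * g) := by group
    rw [h4]
    exact P.mul_mem x.2 h3
  obtain ⟨g₁, hg₁N, hg₁P⟩ := SetLike.exists_of_lt (lt_normalizerIn p hS hPS hPne)
  -- `p` divides the order of `Out_F(P)`
  have hpdvd : p ∣ Nat.card (↥(F.autGroup P) ⧸ (Inn P).subgroupOf (F.autGroup P)) := by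
    have hT'ne : T'.toSubgroup ≠ ⊥ := by
      intro hbot
      have hmem : QuotientGroup.mk' ((Inn P).subgroupOf (F.autGroup P))
          ⟨normConj P ⟨g₁, hNN hg₁N⟩, hBA (hconjR g₁ (normalizerIn_le_left S P hg₁N) (hNN hg₁N))⟩ ∈
          T'.toSubgroup := by
        rw [hT']
        refine ⟨_, ?_, rfl⟩
        rw [SetLike.mem_coe, hR]
        exact Subgroup.mem_subgroupOf.mpr (hconjR g₁ (normalizerIn_le_left S P hg₁N) (hNN hg₁N))
      rw [hbot, Subgroup.mem_bot, QuotientGroup.mk'_apply, QuotientGroup.eq_one_iff,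
        Subgroup.mem_subgroupOf] at hmem
      exact hg₁P (hnotinn g₁ (normalizerIn_le_left S P hg₁N) (hNN hg₁N) hmem)
    have hcard : Nat.card T'.toSubgroup ≠ 1 := fun h => hT'ne (Subgroup.card_eq_one.mp h)
    have h1 : p ∣ Nat.card T'.toSubgroup := T'.isPGroup'.card_eq_or_dvd.resolve_left hcard
    exact h1.trans (Subgroup.card_subgroup_dvd_card _)
  -- hence the 1-generated core is everything
  have hcore : kGeneratedCore p 1 T'.toSubgroup = ⊤ := by
    by_contra hne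
    exact hnse _ ⟨hpdvd, hne, T', le_rfl⟩
  -- `H` and its image
  obtain ⟨H, hHdef⟩ : ∃ H : Subgroup (MulAut P), H = Subgroup.closure (extGens F P) := ⟨_, rfl⟩
  rw [← hHdef]
  have hInnH : Inn P ≤ H := by
    rintro _ ⟨x, rfl⟩
    rw [hHdef]
    exact Subgroup.subset_closure (inn_mem_extGens p hS F hPS hPne x)
  have hcoreH : kGeneratedCore p 1 T'.toSubgroup ≤
      (H.subgroupOf (F.autGroup P)).map (QuotientGroup.mk' ((Inn P).subgroupOf (F.autGroup P))) := by
    unfold kGeneratedCore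
    apply iSup_le
    rintro ⟨Qb, hQbT, hQbr⟩
    intro ab hab
    have hQbne : Qb ≠ ⊥ := by
      rintro rfl
      exact hQbr (pRankLE_zero_of_bot p)
    obtain ⟨qb, hqb, hqb1⟩ := (Subgroup.bot_or_exists_ne_one Qb).resolve_left hQbne
    obtain ⟨α, rfl⟩ := QuotientGroup.mk'_surjective _ ab
    refine ⟨α, ?_, rfl⟩
    rw [SetLike.mem_coe, Subgroup.mem_subgroupOf, hHdef]
    apply Subgroup.subset_closure
    -- an element g₀ of N_S(P) outside P with c_{g₀} mapping into Qb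
    have hqbT : qb ∈ T'.toSubgroup := hQbT hqb
    rw [hT'] at hqbT
    obtain ⟨r, hr, hrq⟩ := hqbT
    obtain ⟨g₀, hg₀S, hg₀N, hrg₀⟩ := hRelem r hr
    have hg₀P : g₀ ∉ P := by
      intro h
      apply hqb1
      rw [← hrq, QuotientGroup.mk'_apply, QuotientGroup.eq_one_iff, Subgroup.mem_subgroupOf, hrg₀]
      exact ⟨⟨g₀, h⟩, by ext y; rfl⟩
    refine mem_extGens_of_extender F hPS hrec α.2 ?_ hg₀P
    apply mem_extender_of_conj_mem F (α : MulAut P) hg₀S hg₀N
    -- α c_{g₀} α⁻¹ lies in R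
    have h1 : QuotientGroup.mk' ((Inn P).subgroupOf (F.autGroup P)) (α * r * α⁻¹) ∈ Qb := by
      rw [map_mul, map_mul, map_inv, hrq]
      exact (Subgroup.mem_normalizer_iff.mp hab qb).mp hqb
    have h2 := hQbT h1
    rw [hT'] at h2
    obtain ⟨r', hr', hr'q⟩ := h2
    have h3 : r'⁻¹ * (α * r * α⁻¹) ∈ (Inn P).subgroupOf (F.autGroup P) := by
      rw [← QuotientGroup.eq_one_iff, ← QuotientGroup.mk'_apply, map_mul, map_inv, hr'q, inv_mul_cancel]
    have hIR : (Inn P).subgroupOf (F.autGroup P) ≤ (R : Subgroup ↥(F.autGroup P)) := by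
      rw [hR]
      intro x hx
      exact Subgroup.mem_subgroupOf.mpr (inn_le_autInducedBy hPS (Subgroup.mem_subgroupOf.mp hx))
    have h4 : α * r * α⁻¹ ∈ (R : Subgroup ↥(F.autGroup P)) := by
      have : α * r * α⁻¹ = r' * (r'⁻¹ * (α * r * α⁻¹)) := by group
      rw [this]
      exact Subgroup.mul_mem _ hr' (hIR h3)
    rw [hR, Subgroup.mem_subgroupOf] at h4
    have h5 : ((α * r * α⁻¹ : ↥(F.autGroup P)) : MulAut P) =
        (α : MulAut P) * normConj P ⟨g₀, hg₀N⟩ * (α : MulAut P)⁻¹ := by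
      rw [← hrg₀]; rfl
    rw [h5] at h4
    exact h4
  rw [hcore, top_le_iff] at hcoreH
  intro α hα
  have h1 : QuotientGroup.mk' ((Inn P).subgroupOf (F.autGroup P)) ⟨α, hα⟩ ∈
      (H.subgroupOf (F.autGroup P)).map (QuotientGroup.mk' ((Inn P).subgroupOf (F.autGroup P))) := by
    rw [hcoreH]; exact Subgroup.mem_top _
  obtain ⟨h, hh, hhα⟩ := h1
  have h3 : h⁻¹ * ⟨α, hα⟩ ∈ (Inn P).subgroupOf (F.autGroup P) := by
    rw [← QuotientGroup.eq_one_iff, ← QuotientGroup.mk'_apply, map_mul, map_inv, hhα, inv_mul_cancel]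
  have h4 : α = (h : MulAut P) * ((h⁻¹ * ⟨α, hα⟩ : ↥(F.autGroup P)) : MulAut P) := by
    show α = (h : MulAut P) * ((h : MulAut P)⁻¹ * α)
    group
  rw [h4]
  exact H.mul_mem (Subgroup.mem_subgroupOf.mp hh) (hInnH (Subgroup.mem_subgroupOf.mp h3))

end Cfsg.Agent.Lib.Helper9
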