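import Cfsg.Agent.Lib.Helper9.FusionCent

set_option autoImplicit false

namespace Cfsg.Agent.Lib.Helper9

open Cfsg Cfsg.FusionSystem

variable {Ω : Type*} [Group Ω] {S : Subgroup Ω}

theorem map_subgroupOf_eq_iff {P Q : Subgroup Ω} (ψ : ↥(P ⊔ Q) →* Ω) :
    (Q.subgroupOf (P ⊔ Q)).map ψ = Q ↔
      (∀ q : Q, ψ (Subgroup.inclusion le_sup_right q) ∈ Q) ∧
      (∀ y ∈ Q, ∃ q : Q, ψ (Subgroup.inclusion le_sup_right q) = y) := by
  constructor
  · intro h
    constructor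
    · intro q
      have : ψ (Subgroup.inclusion le_sup_right q) ∈ (Q.subgroupOf (P ⊔ Q)).map ψ :=
        ⟨_, Subgroup.mem_subgroupOf.mpr q.2, rfl⟩
      rw [h] at this; exact this
    · intro y hy
      rw [← h] at hy
      obtain ⟨x, hx, rfl⟩ := hy
      exact ⟨⟨x, Subgroup.mem_subgroupOf.mp hx⟩, rfl⟩
  · rintro ⟨h1, h2⟩
    ext y
    constructor
    · rintro ⟨x, hx, rfl⟩
      exact h1 ⟨x, Subgroup.mem_subgroupOf.mp hx⟩
    · intro hy
      obtain ⟨q, rfl⟩ := h2 y hy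
      exact ⟨_, Subgroup.mem_subgroupOf.mpr q.2, rfl⟩

/-- The normalizer fusion system `N_F(Q)`. -/
def normalizerSystem (F : FusionSystem S) (Q : Subgroup Ω) (hQ : Q ≤ S) :
    FusionSystem (normalizerIn S Q) where
  Hom P := F.normalizerHom Q P
  le_of_mem h := ⟨h.2.1, h.2.2.1⟩
  injective_of_mem h := F.injective_of_mem h.1
  conj_mem := by
    intro P g hP hg
    have hPS : P ≤ S := hP.trans (normalizerIn_le_left S Q)
    have hgS : g ∈ S := normalizerIn_le_left S Q hg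
    have hgN : g ∈ Subgroup.normalizer (Q : Set Ω) := (Subgroup.mem_inf.mp hg).2
    refine ⟨F.conj_mem hPS hgS, hP, ?_, conjHom (P ⊔ Q) g, F.conj_mem (sup_le hPS hQ) hgS, fun x => rfl, ?_⟩
    · intro x
      show g * (x : Ω) * g⁻¹ ∈ normalizerIn S Q
      exact Subgroup.mul_mem _ (Subgroup.mul_mem _ hg (hP x.2)) (Subgroup.inv_mem _ hg)
    · rw [map_subgroupOf_eq_iff]
      constructor
      · intro q
        show g * (q : Ω) * g⁻¹ ∈ Q
        exact (Subgroup.mem_normalizer_iff.mp hgN q).mp q.2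
      · intro y hy
        have hy' : g⁻¹ * y * g ∈ Q := by
          have := (Subgroup.mem_normalizer_iff.mp (Subgroup.inv_mem _ hgN) y).mp hy
          simpa using this
        refine ⟨⟨g⁻¹ * y * g, hy'⟩, ?_⟩
        show g * (g⁻¹ * y * g) * g⁻¹ = y
        group
  comp_mem := by
    rintro P P₂ φ ψ ⟨hφ, hP, hφC, φ', hφ', hφ'P, hφ'Q⟩ ⟨hψ, hP₂, hψC, ψ', hψ', hψ'P, hψ'Q⟩ h
    rw [map_subgroupOf_eq_iff] at hφ'Q hψ'Q
    refine ⟨F.comp_mem hφ hψ h, hP, fun x => hψC _, ?_⟩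
    have hval : ∀ z : ↥(P ⊔ Q), φ' z ∈ P₂ ⊔ Q := by
      apply sup_map_mem
      · intro x
        rw [hφ'P]
        exact (le_sup_left : P₂ ≤ P₂ ⊔ Q) (h x)
      · intro x
        exact (le_sup_right : Q ≤ P₂ ⊔ Q) (hφ'Q.1 x)
    refine ⟨ψ'.comp (φ'.codRestrict (P₂ ⊔ Q) hval), F.comp_mem hφ' hψ' hval, ?_, ?_⟩
    · intro x
      show ψ' ⟨φ' (Subgroup.inclusion le_sup_left x), _⟩ = ψ ⟨φ x, h x⟩
      rw [← hψ'P ⟨φ x, h x⟩]
      congr 1
      apply Subtype.ext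
      exact hφ'P x
    · rw [map_subgroupOf_eq_iff]
      constructor
      · intro q
        show ψ' ⟨φ' (Subgroup.inclusion le_sup_right q), _⟩ ∈ Q
        have h1 := hψ'Q.1 ⟨φ' (Subgroup.inclusion le_sup_right q), hφ'Q.1 q⟩
        have h2 : (⟨φ' (Subgroup.inclusion le_sup_right q), hval _⟩ : ↥(P₂ ⊔ Q)) =
            Subgroup.inclusion le_sup_right ⟨φ' (Subgroup.inclusion le_sup_right q), hφ'Q.1 q⟩ :=
          Subtype.ext rfl
        rw [h2]
        exact h1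
      · intro y hy
        obtain ⟨q₂, hq₂⟩ := hψ'Q.2 y hy
        obtain ⟨q₁, hq₁⟩ := hφ'Q.2 q₂ q₂.2
        refine ⟨q₁, ?_⟩
        show ψ' ⟨φ' (Subgroup.inclusion le_sup_right q₁), _⟩ = y
        rw [← hq₂]
        congr 1
        apply Subtype.ext
        exact hq₁
  inv_mem := by
    rintro P φ ⟨hφ, hP, hφC, φ', hφ', hφ'P, hφ'Q⟩
    rw [map_subgroupOf_eq_iff] at hφ'Q
    obtain ⟨ψ₀, hψ₀, hψ₀φ⟩ := F.inv_mem hφ
    obtain ⟨χ, hχ, hχφ'⟩ := F.inv_mem hφ'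
    have hle : φ.range ⊔ Q ≤ φ'.range := by
      apply sup_le
      · rintro _ ⟨x, rfl⟩
        exact ⟨Subgroup.inclusion le_sup_left x, hφ'P x⟩
      · intro q hq
        obtain ⟨q₁, hq₁⟩ := hφ'Q.2 q hq
        exact ⟨Subgroup.inclusion le_sup_right q₁, hq₁⟩
    refine ⟨ψ₀, ⟨hψ₀, ?_, ?_, χ.comp (Subgroup.inclusion hle), restrict_mem F hχ hle, ?_, ?_⟩, hψ₀φ⟩
    · rintro _ ⟨x, rfl⟩
      exact hφC x
    · rintro ⟨_, x, rfl⟩
      rw [hψ₀φ x]
      exact hP x.2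
    · rintro ⟨_, x, rfl⟩
      rw [hψ₀φ x]
      have h1 := hχφ' (Subgroup.inclusion le_sup_left x)
      show χ (Subgroup.inclusion hle (Subgroup.inclusion le_sup_left ⟨φ x, ⟨x, rfl⟩⟩)) = x
      have h2 : Subgroup.inclusion hle (Subgroup.inclusion le_sup_left ⟨φ x, ⟨x, rfl⟩⟩) =
          ⟨φ' (Subgroup.inclusion le_sup_left x), ⟨_, rfl⟩⟩ := by
        apply Subtype.ext
        exact (hφ'P x).symm
      rw [h2, h1]
      rfl
    · rw [map_subgroupOf_eq_iff]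
      constructor
      · intro q
        obtain ⟨q₁, hq₁⟩ := hφ'Q.2 q q.2
        have h1 := hχφ' (Subgroup.inclusion le_sup_right q₁)
        show χ (Subgroup.inclusion hle (Subgroup.inclusion le_sup_right q)) ∈ Q
        have h2 : Subgroup.inclusion hle (Subgroup.inclusion le_sup_right q) =
            ⟨φ' (Subgroup.inclusion le_sup_right q₁), ⟨_, rfl⟩⟩ := by
          apply Subtype.ext
          exact hq₁.symm
        rw [h2, h1]
        exact q₁.2
      · intro y hy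
        refine ⟨⟨φ' (Subgroup.inclusion le_sup_right ⟨y, hy⟩), hφ'Q.1 ⟨y, hy⟩⟩, ?_⟩
        have h1 := hχφ' (Subgroup.inclusion le_sup_right ⟨y, hy⟩)
        show χ (Subgroup.inclusion hle (Subgroup.inclusion le_sup_right
          ⟨φ' (Subgroup.inclusion le_sup_right ⟨y, hy⟩), hφ'Q.1 ⟨y, hy⟩⟩)) = y
        have h2 : Subgroup.inclusion hle (Subgroup.inclusion le_sup_right
            ⟨φ' (Subgroup.inclusion le_sup_right ⟨y, hy⟩), hφ'Q.1 ⟨y, hy⟩⟩) =
            ⟨φ' (Subgroup.inclusion le_sup_right ⟨y, hy⟩), ⟨_, rfl⟩⟩ := Subtype.ext rfl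
        rw [h2, h1]
        rfl

theorem normalizerSystem_hom (F : FusionSystem S) (Q : Subgroup Ω) (hQ : Q ≤ S) (P : Subgroup Ω) :
    (normalizerSystem F Q hQ).Hom P = F.normalizerHom Q P := rfl

end Cfsg.Agent.Lib.Helper9
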