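import Cfsg.Agent.Lib.Helper9.FusionAlp2
import Cfsg.Agent.Lib.Helper9.FusionNorm
import Cfsg.Agent.S5080
import Cfsg.Agent.S5082

set_option autoImplicit false

namespace Cfsg.Agent.Lib.Helper9

open Cfsg Cfsg.FusionSystem

variable {Ω : Type*} [Group Ω] {S : Subgroup Ω}

/-- Transport of a fusion system along an equality of the underlying subgroups. -/
def castSystem {S₁ S₂ : Subgroup Ω} (h : S₁ = S₂) (E : FusionSystem S₁) : FusionSystem S₂ := h ▸ E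

theorem castSystem_hom {S₁ S₂ : Subgroup Ω} (h : S₁ = S₂) (E : FusionSystem S₁) (P : Subgroup Ω) :
    (castSystem h E).Hom P = E.Hom P := by
  subst h; rfl

/-- If `Q ≤ P` and `α ∈ Aut_F(P)` maps `Q` onto `Q` then `α` is a map of `N_F(Q)`. -/
theorem aut_mem_normalizerHom (F : FusionSystem S) {P Q : Subgroup Ω} (hPS : P ≤ S) (hQP : Q ≤ P)
    (hPN : P ≤ normalizerIn S Q) {α : MulAut P} (hα : α ∈ F.autGroup P)
    (hαQ : (Q.subgroupOf P).map α.toMonoidHom = Q.subgroupOf P) :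
    P.subtype.comp α.toMonoidHom ∈ F.normalizerHom Q P := by
  have hφ := (mem_autGroup_iff F hPS α).mp hα
  have hle : P ⊔ Q ≤ P := sup_le le_rfl hQP
  refine ⟨hφ, hPN, fun x => hPN (α x).2, (P.subtype.comp α.toMonoidHom).comp (Subgroup.inclusion hle),
    restrict_mem F hφ hle, fun x => rfl, ?_⟩
  rw [map_subgroupOf_eq_iff]
  constructor
  · intro q
    have h1 : α ⟨q, hQP q.2⟩ ∈ (Q.subgroupOf P).map α.toMonoidHom :=
      ⟨⟨q, hQP q.2⟩, Subgroup.mem_subgroupOf.mpr q.2, rfl⟩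
    rw [hαQ] at h1
    exact Subgroup.mem_subgroupOf.mp h1
  · intro y hy
    have h1 : (⟨y, hQP hy⟩ : P) ∈ Q.subgroupOf P := Subgroup.mem_subgroupOf.mpr hy
    rw [← hαQ] at h1
    obtain ⟨x, hx, hxy⟩ := h1
    refine ⟨⟨x, Subgroup.mem_subgroupOf.mp hx⟩, ?_⟩
    exact congrArg Subtype.val hxy

/-- If `Q` is normal in `F` and `Q ≤ P ≤ S` then every element of `Aut_F(P)` maps `Q` onto `Q`. -/
theorem aut_map_eq_of_isNormal (F : FusionSystem S) {P Q : Subgroup Ω} (hQ : F.IsNormal Q)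
    (hPS : P ≤ S) (hQP : Q ≤ P) {α : MulAut P} (hα : α ∈ F.autGroup P) :
    (Q.subgroupOf P).map α.toMonoidHom = Q.subgroupOf P := by
  have hφ := (mem_autGroup_iff F hPS α).mp hα
  obtain ⟨ψ, -, hψP, hψQ⟩ := hQ.2 P _ hφ
  rw [map_subgroupOf_eq_iff] at hψQ
  have key : ∀ q : Q, ψ (Subgroup.inclusion le_sup_right q) = ((α ⟨q, hQP q.2⟩ : P) : Ω) := by
    intro q
    rw [← show (P.subtype.comp α.toMonoidHom) ⟨q, hQP q.2⟩ = ((α ⟨q, hQP q.2⟩ : P) : Ω) from rfl,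
      ← hψP ⟨q, hQP q.2⟩]
    congr 1
  ext y
  constructor
  · rintro ⟨x, hx, rfl⟩
    have hxQ : (x : Ω) ∈ Q := Subgroup.mem_subgroupOf.mp hx
    rw [Subgroup.mem_subgroupOf]
    have h1 := hψQ.1 ⟨x, hxQ⟩
    rw [key] at h1
    exact h1
  · intro hy
    have hyQ : (y : Ω) ∈ Q := Subgroup.mem_subgroupOf.mp hy
    obtain ⟨q, hq⟩ := hψQ.2 y hyQ
    rw [key] at hq
    exact ⟨⟨q, hQP q.2⟩, Subgroup.mem_subgroupOf.mpr q.2, Subtype.ext hq⟩

end Cfsg.Agent.Lib.Helper9
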