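import Cfsg.Agent.S5082

set_option autoImplicit false

namespace Cfsg.Agent.Lib.Helper9

open Cfsg Cfsg.FusionSystem

variable {Ω : Type*} [Group Ω] {S : Subgroup Ω}

/-- The subsystem of `F` of the maps that satisfy `C` whenever their source has order at least `n`. -/
def truncSystem [Finite S] (F : FusionSystem S) (C : ∀ P : Subgroup Ω, (P →* Ω) → Prop) (n : ℕ)
    (hconj : ∀ P : Subgroup Ω, P ≤ S → ∀ g ∈ S, C P (conjHom P g))
    (hcomp : ∀ (P Q : Subgroup Ω) (φ : P →* Ω) (ψ : Q →* Ω), φ ∈ F.Hom P → ψ ∈ F.Hom Q →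
      ∀ h : ∀ x : P, φ x ∈ Q, C P φ → C Q ψ → C P (ψ.comp (φ.codRestrict Q h)))
    (hinv : ∀ (P : Subgroup Ω) (φ : P →* Ω), φ ∈ F.Hom P → C P φ → ∀ ψ ∈ F.Hom φ.range,
      (∀ x : P, ψ ⟨φ x, ⟨x, rfl⟩⟩ = (x : Ω)) → C φ.range ψ) : FusionSystem S where
  Hom P := {φ | φ ∈ F.Hom P ∧ (n ≤ Nat.card P → C P φ)}
  le_of_mem h := F.le_of_mem h.1
  injective_of_mem h := F.injective_of_mem h.1
  conj_mem hP hg := ⟨F.conj_mem hP hg, fun _ => hconj _ hP _ hg⟩
  comp_mem := by
    intro P Q φ ψ hφ hψ h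
    refine ⟨F.comp_mem hφ.1 hψ.1 h, fun hn => ?_⟩
    have hfin : Finite Q := finite_of_le' (F.le_of_mem hψ.1).1
    have hle : Nat.card P ≤ Nat.card Q :=
      Nat.card_le_card_of_injective (φ.codRestrict Q h)
        (fun x y hxy => F.injective_of_mem hφ.1 (congrArg Subtype.val hxy))
    exact hcomp P Q φ ψ hφ.1 hψ.1 h (hφ.2 hn) (hψ.2 (hn.trans hle))
  inv_mem := by
    intro P φ hφ
    obtain ⟨ψ, hψ, hψx⟩ := F.inv_mem hφ.1
    refine ⟨ψ, ⟨hψ, fun hn => ?_⟩, hψx⟩
    have hcard : Nat.card φ.range = Nat.card P :=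
      (Nat.card_congr (Equiv.ofInjective φ (F.injective_of_mem hφ.1))).symm
    rw [hcard] at hn
    exact hinv P φ hφ.1 (hφ.2 hn) ψ hψ hψx

/-- Induction principle from Alperin's fusion theorem: a class `C` of maps of a saturated fusion
system containing the conjugations by `S`, closed under composition and inverses, and containing
`Aut_F(U)` for `U = S` or `U` essential as soon as it contains all maps with source of order
larger than `|U|`, contains all maps. -/
theorem alperin_induction [Finite S] (p : ℕ) [Fact p.Prime] (hS : IsPGroup p S)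
    (F : FusionSystem S) (hF : F.IsSaturated p) (C : ∀ P : Subgroup Ω, (P →* Ω) → Prop)
    (hconj : ∀ P : Subgroup Ω, P ≤ S → ∀ g ∈ S, C P (conjHom P g))
    (hcomp : ∀ (P Q : Subgroup Ω) (φ : P →* Ω) (ψ : Q →* Ω), φ ∈ F.Hom P → ψ ∈ F.Hom Q →
      ∀ h : ∀ x : P, φ x ∈ Q, C P φ → C Q ψ → C P (ψ.comp (φ.codRestrict Q h)))
    (hinv : ∀ (P : Subgroup Ω) (φ : P →* Ω), φ ∈ F.Hom P → C P φ → ∀ ψ ∈ F.Hom φ.range,
      (∀ x : P, ψ ⟨φ x, ⟨x, rfl⟩⟩ = (x : Ω)) → C φ.range ψ)
    (hstep : ∀ U : Subgroup Ω, (U = S ∨ F.IsEssential p U) →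
      (∀ P : Subgroup Ω, Nat.card U < Nat.card P → ∀ φ ∈ F.Hom P, C P φ) →
      ∀ α ∈ F.autGroup U, C U (U.subtype.comp α.toMonoidHom)) :
    ∀ (P : Subgroup Ω) (φ : P →* Ω), φ ∈ F.Hom P → C P φ := by
  have key : ∀ k : ℕ, ∀ P : Subgroup Ω, Nat.card S + 1 - k ≤ Nat.card P →
      ∀ φ ∈ F.Hom P, C P φ := by
    intro k
    induction k with
    | zero =>
      intro P hP φ hφ
      have hPS := (F.le_of_mem hφ).1
      have := Nat.card_le_card_of_injective _ (Subgroup.inclusion_injective hPS)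
      omega
    | succ k ih =>
      intro P hP φ hφ
      have hle : F ≤ truncSystem F C (Nat.card S + 1 - (k + 1)) hconj hcomp hinv := by
        apply Cfsg.Agent.S5082.result p hS F hF
        intro U hU α hα
        have hUS : U ≤ S := by
          rcases hU with rfl | hess
          · exact le_rfl
          · exact hess.1.1
        apply Subgroup.subset_closure
        refine ⟨(mem_autGroup_iff F hUS α).mp hα, fun hn => ?_⟩
        apply hstep U hU _ α hα
        intro P' hP' φ' hφ'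
        apply ih P' _ φ' hφ'
        omega
      exact (hle P hφ).2 hP
  intro P φ hφ
  exact key (Nat.card S + 1) P (by omega) φ hφ

end Cfsg.Agent.Lib.Helper9
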