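import Cfsg.Agent.Lib.Helper9.Fusion3

set_option autoImplicit false

namespace Cfsg.Agent.Lib.Helper9

open Cfsg Cfsg.FusionSystem

variable {Ω : Type*} [Group Ω] {S : Subgroup Ω}

/-- For `P ≤ S`, the automorphisms of `P` that are maps of the system form a subgroup: membership in
`Aut_F(P)` is the defining property. -/
theorem mem_autGroup_iff (F : FusionSystem S) {P : Subgroup Ω} (hP : P ≤ S) (α : MulAut P) :
    α ∈ F.autGroup P ↔ P.subtype.comp α.toMonoidHom ∈ F.Hom P := by
  constructor
  · intro hα
    unfold FusionSystem.autGroup at hα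
    induction hα using Subgroup.closure_induction with
    | mem x hx => exact hx
    | one =>
      have : P.subtype.comp (1 : MulAut P).toMonoidHom = P.subtype := by ext x; rfl
      rw [this]
      exact subtype_mem F hP
    | mul x y _ _ hx hy =>
      have h := F.comp_mem hy hx (fun z => (y z).2)
      have : (P.subtype.comp x.toMonoidHom).comp
          ((P.subtype.comp y.toMonoidHom).codRestrict P (fun z => (y z).2)) =
          P.subtype.comp (x * y).toMonoidHom := by
        ext z; rfl
      rw [this] at h
      exact h
    | inv x _ hx =>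
      have hr : (P.subtype.comp x.toMonoidHom).range = P := by
        ext y
        constructor
        · rintro ⟨z, rfl⟩; exact (x z).2
        · intro hy
          exact ⟨x.symm ⟨y, hy⟩, by show ((x (x.symm ⟨y, hy⟩) : P) : Ω) = y; rw [MulEquiv.apply_symm_apply]⟩
      obtain ⟨ψ, hψ, hψx, -⟩ := exists_inv_hom F hx hr
      have : ψ = P.subtype.comp (x⁻¹).toMonoidHom := by
        ext y
        have h1 := hψx (x⁻¹ y) (by show ((x (x⁻¹ y) : P) : Ω) ∈ P; exact (x (x⁻¹ y)).2)
        have h2 : (⟨(P.subtype.comp x.toMonoidHom) (x⁻¹ y), (x (x⁻¹ y)).2⟩ : P) = y := by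
          apply Subtype.ext
          show ((x (x⁻¹ y) : P) : Ω) = y
          have : x (x⁻¹ y) = y := MulEquiv.apply_symm_apply x y
          rw [this]
        rw [h2] at h1
        exact h1
      rw [← this]
      exact hψ
  · intro h
    exact Subgroup.subset_closure h

end Cfsg.Agent.Lib.Helper9
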