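import Cfsg.Agent.Lib.Helper9.FusionMorph3
import Cfsg.Agent.Lib.Helper9.FusionAut

set_option autoImplicit false

namespace Cfsg.Agent.Lib.Helper9

open Cfsg Cfsg.FusionSystem

variable {Ω : Type*} [Group Ω] {S T : Subgroup Ω}

/-- Clean form of the conjugation-invariance clause of `IsInvariantIn`. -/
theorem invariant_conj_spec (E : FusionSystem T) (F : FusionSystem S) (hinv : E.IsInvariantIn F)
    {α : MulAut T} (hα : α ∈ F.autGroup T) {P : Subgroup Ω} {φ : P →* Ω} (hφ : φ ∈ E.Hom P) :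
    ∃ χ ∈ E.Hom (imageAlong (T.subtype.comp α.toMonoidHom) P), ∀ x : P,
      χ ⟨α ⟨x, (E.le_of_mem hφ).1 x.2⟩, mem_imageAlong (θ := T.subtype.comp α.toMonoidHom)
        (E.le_of_mem hφ).1 x⟩ = α ⟨φ x, (E.le_of_mem hφ).2 x⟩ := by
  obtain ⟨χ, hχ, hspec⟩ := hinv.2.2.1 P (E.le_of_mem hφ).1 φ hφ α hα
  exact ⟨χ, hχ, fun x => hspec x _ _⟩

/-- An element of `Aut_F(T)` gives a morphism of an invariant subsystem to itself. -/
theorem isMorphism_of_invariant (E : FusionSystem T) (F : FusionSystem S)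
    (hinv : E.IsInvariantIn F) {α : MulAut T} (hα : α ∈ F.autGroup T) :
    E.IsMorphism E (T.subtype.comp α.toMonoidHom) := by
  refine ⟨fun t => (α t).2, ?_⟩
  intro P φ hφ
  obtain ⟨χ, hχ, hspec⟩ := invariant_conj_spec E F hinv hα hφ
  exact ⟨χ, hχ, (E.le_of_mem hφ).1, (E.le_of_mem hφ).2,
    fun x => mem_imageAlong (θ := T.subtype.comp α.toMonoidHom) (E.le_of_mem hφ).1 x, hspec⟩

/-- An element of `Aut_F(T)` gives a surjective morphism of an invariant subsystem to itself. -/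
theorem isSurjectiveMorphism_of_invariant (E : FusionSystem T) (F : FusionSystem S)
    (hinv : E.IsInvariantIn F) {α : MulAut T} (hα : α ∈ F.autGroup T) :
    E.IsSurjectiveMorphism E (T.subtype.comp α.toMonoidHom) := by
  refine ⟨isMorphism_of_invariant E F hinv hα, ?_, ?_⟩
  · ext t
    constructor
    · rintro ⟨s, rfl⟩
      exact (α s).2
    · intro ht
      refine ⟨α⁻¹ ⟨t, ht⟩, ?_⟩
      show ((α (α⁻¹ ⟨t, ht⟩) : T) : Ω) = t
      rw [MulAut.apply_inv_self]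
  · intro P' hP' φ' hφ'
    have hα' : α⁻¹ ∈ F.autGroup T := Subgroup.inv_mem _ hα
    obtain ⟨χ, hχ, hspec⟩ := invariant_conj_spec E F hinv hα' hφ'
    have hpre : preimageAlong (T.subtype.comp α.toMonoidHom) P' ≤ T := preimageAlong_le _ _
    have hle : preimageAlong (T.subtype.comp α.toMonoidHom) P' ≤
        imageAlong (T.subtype.comp (α⁻¹).toMonoidHom) P' := by
      intro y hy
      have hy' : ((α ⟨y, hpre hy⟩ : T) : Ω) ∈ P' := (mem_preimageAlong (hpre hy)).mp hy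
      refine ⟨α ⟨y, hpre hy⟩, Subgroup.mem_subgroupOf.mpr hy', ?_⟩
      show ((α⁻¹ (α ⟨y, hpre hy⟩) : T) : Ω) = y
      rw [MulAut.inv_apply_self]
    have hφS : ∀ y : ↥(preimageAlong (T.subtype.comp α.toMonoidHom) P'),
        (χ.comp (Subgroup.inclusion hle)) y ∈ T := fun y => (E.le_of_mem hχ).2 _
    refine ⟨χ.comp (Subgroup.inclusion hle), restrict_mem E hχ hle, hpre, hφS,
      fun y => (mem_preimageAlong (hpre y.2)).mp y.2, ?_⟩
    intro y
    have hy' : ((α ⟨y, hpre y.2⟩ : T) : Ω) ∈ P' := (mem_preimageAlong (hpre y.2)).mp y.2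
    have e1 : Subgroup.inclusion hle y =
        ⟨α⁻¹ ⟨((⟨(α ⟨y, hpre y.2⟩ : T), hy'⟩ : P') : Ω), hP' hy'⟩,
          mem_imageAlong (θ := T.subtype.comp (α⁻¹).toMonoidHom) hP' ⟨(α ⟨y, hpre y.2⟩ : T), hy'⟩⟩ := by
      apply Subtype.ext
      show (y : Ω) = ((α⁻¹ (α ⟨y, hpre y.2⟩) : T) : Ω)
      rw [MulAut.inv_apply_self]
    have key : (⟨(χ.comp (Subgroup.inclusion hle)) y, hφS y⟩ : T) =
        α⁻¹ ⟨φ' ⟨(α ⟨y, hpre y.2⟩ : T), hy'⟩, (E.le_of_mem hφ').2 _⟩ := by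
      apply Subtype.ext
      show χ (Subgroup.inclusion hle y) = _
      rw [e1]
      exact hspec ⟨(α ⟨y, hpre y.2⟩ : T), hy'⟩
    show φ' ⟨(α ⟨y, hpre y.2⟩ : T), hy'⟩ =
      ((α ⟨(χ.comp (Subgroup.inclusion hle)) y, hφS y⟩ : T) : Ω)
    rw [key, MulAut.apply_inv_self]

/-- The image of a subgroup normal in an invariant subsystem under an element of `Aut_F(T)` is
again normal in the subsystem. -/
theorem isNormal_image_of_invariant (E : FusionSystem T) (F : FusionSystem S)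
    (hinv : E.IsInvariantIn F) {α : MulAut T} (hα : α ∈ F.autGroup T) {Q : Subgroup Ω}
    (hQ : E.IsNormal Q) : E.IsNormal (imageAlong (T.subtype.comp α.toMonoidHom) Q) :=
  isNormal_imageAlong E E _ (isSurjectiveMorphism_of_invariant E F hinv hα) hQ

/-- A subgroup strongly closed in an invariant subsystem and invariant under `Aut_F(T)` is strongly
closed in `F`. -/
theorem stronglyClosed_of_invariant (E : FusionSystem T) (F : FusionSystem S)
    (hinv : E.IsInvariantIn F) {U : Subgroup Ω} (hU : E.StronglyClosed U)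
    (hUα : ∀ α ∈ F.autGroup T, ∀ t : T, (t : Ω) ∈ U → ((α t : T) : Ω) ∈ U) :
    F.StronglyClosed U := by
  refine ⟨hU.1.trans hinv.2.1.1, ?_⟩
  intro R hR φ hφ x
  obtain ⟨α, hα, φ₀, hφ₀, hspec⟩ := hinv.2.2.2 R (hR.trans hU.1) φ hφ
  rw [hspec x ((E.le_of_mem hφ₀).2 x)]
  exact hUα α hα _ (hU.2 R hR φ₀ hφ₀ x)

end Cfsg.Agent.Lib.Helper9
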