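import Cfsg.Agent.Lib.Helper9.SylowConj

set_option autoImplicit false

namespace Cfsg.Agent.Lib.Helper9

variable {G : Type*} [Group G]

/-- If a conjugate of `P ≤ S` lies in `S H` with `H` normal, it can be moved into `S` by an element
of `H`. -/
theorem exists_conj_mod_normal [Finite G] (p : ℕ) [Fact p.Prime] (S : Sylow p G) (H : Subgroup G)
    [H.Normal] (P : Subgroup G) (hP : P ≤ S) (g₀ : G)
    (hg₀ : ∀ x ∈ P, g₀ * x * g₀⁻¹ ∈ (S : Subgroup G) ⊔ H) :
    ∃ h ∈ H, ∀ x ∈ P, (h * g₀) * x * (h * g₀)⁻¹ ∈ (S : Subgroup G) := by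
  have hKM : P.map (MulAut.conj g₀).toMonoidHom ≤ (S : Subgroup G) ⊔ H := by
    rintro _ ⟨x, hx, rfl⟩
    exact hg₀ x hx
  have hKp : IsPGroup p (P.map (MulAut.conj g₀).toMonoidHom) := (S.isPGroup'.to_le hP).map _
  have hcardS : Nat.card (S : Subgroup G) = p ^ (Nat.card (⊤ : Subgroup G)).factorization p := by
    rw [Subgroup.card_top]; exact S.card_eq_multiplicity
  have hcardM := sylow_card_of_le p (le_sup_left : (S : Subgroup G) ≤ (S : Subgroup G) ⊔ H) le_top hcardS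
  obtain ⟨m, hmM, hm⟩ := exists_conj_le_of_sylow_card p le_sup_left hKM hKp hcardM
  have hnorm : (S : Subgroup G) ≤ Subgroup.normalizer ((H : Subgroup G) : Set G) := by
    rw [Subgroup.normalizer_eq_top]; exact le_top
  obtain ⟨s, hs, h, hh, rfl⟩ := exists_mul_of_mem_sup_of_le_normalizer hnorm hmM
  refine ⟨h, hh, ?_⟩
  intro x hx
  have h1 : (MulAut.conj (s * h)).toMonoidHom ((MulAut.conj g₀).toMonoidHom x) ∈ (S : Subgroup G) :=
    hm ⟨_, ⟨x, hx, rfl⟩, rfl⟩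
  have h2 : s⁻¹ * ((MulAut.conj (s * h)).toMonoidHom ((MulAut.conj g₀).toMonoidHom x)) * s ∈
      (S : Subgroup G) := Subgroup.mul_mem _ (Subgroup.mul_mem _ (Subgroup.inv_mem _ hs) h1) hs
  have h3 : s⁻¹ * ((MulAut.conj (s * h)).toMonoidHom ((MulAut.conj g₀).toMonoidHom x)) * s =
      (h * g₀) * x * (h * g₀)⁻¹ := by
    show s⁻¹ * ((s * h) * (g₀ * x * g₀⁻¹) * (s * h)⁻¹) * s = _
    group
  rw [h3] at h2
  exact h2

end Cfsg.Agent.Lib.Helper9
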