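import Cfsg.Agent.Lib.Helper9.FusionFactorAut
import Cfsg.Agent.Lib.Helper9.SylowConj2
import Cfsg.Agent.S5131

set_option autoImplicit false

namespace Cfsg.Agent.Lib.Helper9

open Cfsg Cfsg.FusionSystem

/-- Moving a `p`-subgroup of `S H` (`H` normal) into the Sylow subgroup `S` by an element of `H`. -/
theorem exists_conj_mod_normal' {G : Type*} [Group G] [Finite G] (p : ℕ) [Fact p.Prime]
    (S : Sylow p G) (H : Subgroup G) [H.Normal] (X : Subgroup G) (hX : IsPGroup p X)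
    (hXM : X ≤ (S : Subgroup G) ⊔ H) :
    ∃ h ∈ H, ∀ x ∈ X, h * x * h⁻¹ ∈ (S : Subgroup G) := by
  have hcardS : Nat.card (S : Subgroup G) = p ^ (Nat.card (⊤ : Subgroup G)).factorization p := by
    rw [Subgroup.card_top]; exact S.card_eq_multiplicity
  have hcardM := sylow_card_of_le p (le_sup_left : (S : Subgroup G) ≤ (S : Subgroup G) ⊔ H) le_top hcardS
  obtain ⟨m, hmM, hm⟩ := exists_conj_le_of_sylow_card p le_sup_left hXM hX hcardM
  have hnorm : (S : Subgroup G) ≤ Subgroup.normalizer ((H : Subgroup G) : Set G) := by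
    rw [Subgroup.normalizer_eq_top]; exact le_top
  obtain ⟨s, hs, h, hh, rfl⟩ := exists_mul_of_mem_sup_of_le_normalizer hnorm hmM
  refine ⟨h, hh, ?_⟩
  intro x hx
  have h1 : (MulAut.conj (s * h)).toMonoidHom x ∈ (S : Subgroup G) := hm ⟨x, hx, rfl⟩
  have h2 : s⁻¹ * ((MulAut.conj (s * h)).toMonoidHom x) * s ∈ (S : Subgroup G) :=
    Subgroup.mul_mem _ (Subgroup.mul_mem _ (Subgroup.inv_mem _ hs) h1) hs
  have h3 : s⁻¹ * ((MulAut.conj (s * h)).toMonoidHom x) * s = h * x * h⁻¹ := by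
    show s⁻¹ * ((s * h) * x * (s * h)⁻¹) * s = _
    group
  rw [h3] at h2
  exact h2

variable {Ω : Type*} [Group Ω] {S : Subgroup Ω}

/-- The generating set of the extender is already a subgroup. -/
theorem mem_extender_iff (S P : Subgroup Ω) (φ : P →* Ω) (g : Ω) :
    g ∈ extender S P φ ↔ g ∈ S ∧ g ∈ Subgroup.normalizer (P : Set Ω) ∧
      ∃ h ∈ S, ∀ (x : P) (hx : g * (x : Ω) * g⁻¹ ∈ P), φ ⟨g * x * g⁻¹, hx⟩ = h * φ x * h⁻¹ := by
  constructor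
  · intro hg
    unfold extender at hg
    induction hg using Subgroup.closure_induction with
    | mem y hy => exact hy
    | one =>
      refine ⟨S.one_mem, Subgroup.one_mem _, 1, S.one_mem, fun x hx => ?_⟩
      have : (⟨1 * (x : Ω) * 1⁻¹, hx⟩ : P) = x := Subtype.ext (by simp)
      rw [this]; simp
    | mul a b _ _ iha ihb =>
      obtain ⟨haS, haN, h₁, hh₁, ha⟩ := iha
      obtain ⟨hbS, hbN, h₂, hh₂, hb⟩ := ihb
      refine ⟨S.mul_mem haS hbS, Subgroup.mul_mem _ haN hbN, h₁ * h₂, S.mul_mem hh₁ hh₂,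
        fun x hx => ?_⟩
      have hbx : b * (x : Ω) * b⁻¹ ∈ P := (Subgroup.mem_normalizer_iff.mp hbN x).mp x.2
      have e : (⟨a * b * (x : Ω) * (a * b)⁻¹, hx⟩ : P) =
          ⟨a * ((⟨b * (x : Ω) * b⁻¹, hbx⟩ : P) : Ω) * a⁻¹, by
            have : a * (b * (x : Ω) * b⁻¹) * a⁻¹ = a * b * (x : Ω) * (a * b)⁻¹ := by group
            rw [this]; exact hx⟩ := by
        apply Subtype.ext
        show a * b * (x : Ω) * (a * b)⁻¹ = a * (b * (x : Ω) * b⁻¹) * a⁻¹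
        group
      rw [e, ha, hb]
      group
    | inv a _ iha =>
      obtain ⟨haS, haN, h₁, hh₁, ha⟩ := iha
      refine ⟨S.inv_mem haS, Subgroup.inv_mem _ haN, h₁⁻¹, S.inv_mem hh₁, fun x hx => ?_⟩
      have h1 := ha ⟨a⁻¹ * (x : Ω) * a⁻¹⁻¹, hx⟩ (by
        have : a * (a⁻¹ * (x : Ω) * a⁻¹⁻¹) * a⁻¹ = x := by group
        show a * (a⁻¹ * (x : Ω) * a⁻¹⁻¹) * a⁻¹ ∈ P
        rw [this]; exact x.2)
      have e : (⟨a * ((⟨a⁻¹ * (x : Ω) * a⁻¹⁻¹, hx⟩ : P) : Ω) * a⁻¹, by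
            have : a * (a⁻¹ * (x : Ω) * a⁻¹⁻¹) * a⁻¹ = x := by group
            show a * (a⁻¹ * (x : Ω) * a⁻¹⁻¹) * a⁻¹ ∈ P
            rw [this]; exact x.2⟩ : P) = x := by
        apply Subtype.ext
        show a * (a⁻¹ * (x : Ω) * a⁻¹⁻¹) * a⁻¹ = x
        group
      rw [e] at h1
      rw [h1]
      group
  · intro h
    exact Subgroup.subset_closure h

variable {Ω' : Type*} [Group Ω'] {S' : Subgroup Ω'}

/-- The image of a subgroup of `S` lies in the image of `S`. -/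
theorem imageAlong_le_range (α : S →* Ω') (hrange : α.range = S') (P : Subgroup Ω) :
    imageAlong α P ≤ S' := by
  rintro _ ⟨s, -, rfl⟩
  rw [← hrange]
  exact ⟨s, rfl⟩

/-- Pushing a map forward along a morphism. -/
theorem morph_push (F : FusionSystem S) (F' : FusionSystem S') (α : S →* Ω')
    (hα : F.IsMorphism F' α) {P : Subgroup Ω} {φ : P →* Ω} (hφ : φ ∈ F.Hom P) :
    ∃ φ' ∈ F'.Hom (imageAlong α P), ∀ x : P,
      φ' ⟨α ⟨x, (F.le_of_mem hφ).1 x.2⟩, mem_imageAlong (F.le_of_mem hφ).1 x⟩ =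
        α ⟨φ x, (F.le_of_mem hφ).2 x⟩ := by
  obtain ⟨φ', hφ', hP, hφS, hPP', hind⟩ := hα.2 P φ hφ
  exact ⟨φ', hφ', fun x => hind x⟩

/-- Pushing a map defined on a full preimage forward, with prescribed source. -/
theorem morph_push_preimage (F : FusionSystem S) (F' : FusionSystem S') (α : S →* Ω')
    (hα : F.IsMorphism F' α) (hrange : α.range = S') {P' : Subgroup Ω'} (hP' : P' ≤ S')
    {φ : ↥(preimageAlong α P') →* Ω} (hφ : φ ∈ F.Hom (preimageAlong α P')) :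
    ∃ φ' ∈ F'.Hom P', ∀ x : ↥(preimageAlong α P'),
      φ' ⟨α ⟨x, preimageAlong_le α P' x.2⟩, map_preimageAlong_mem x⟩ =
        α ⟨φ x, (F.le_of_mem hφ).2 x⟩ := by
  obtain ⟨φ'', hφ'', hind⟩ := morph_push F F' α hα hφ
  have hle : P' ≤ imageAlong α (preimageAlong α P') := by
    intro y hy
    obtain ⟨x, hx⟩ := exists_preimageAlong hrange hP' ⟨y, hy⟩
    exact ⟨⟨x, preimageAlong_le α P' x.2⟩, Subgroup.mem_subgroupOf.mpr x.2, hx⟩
  refine ⟨φ''.comp (Subgroup.inclusion hle), restrict_mem F' hφ'' hle, fun x => ?_⟩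
  rw [← hind x]
  rfl

/-- Lifting a map along a surjective morphism, with prescribed source. -/
theorem morph_lift (F : FusionSystem S) (F' : FusionSystem S') (α : S →* Ω')
    (hα : F.IsSurjectiveMorphism F' α) {Q : Subgroup Ω} (hQS : Q ≤ S)
    {φ' : ↥(imageAlong α Q) →* Ω'} (hφ' : φ' ∈ F'.Hom (imageAlong α Q)) :
    ∃ φ ∈ F.Hom Q, ∃ hφS : ∀ x : Q, φ x ∈ S, ∀ x : Q,
      φ' ⟨α ⟨x, hQS x.2⟩, mem_imageAlong hQS x⟩ = α ⟨φ x, hφS x⟩ := by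
  obtain ⟨φ, hφ, hP, hφS, hPP', hind⟩ :=
    hα.2.2 (imageAlong α Q) (imageAlong_le_range α hα.2.1 Q) φ' hφ'
  have hle : Q ≤ preimageAlong α (imageAlong α Q) := by
    intro x hx
    rw [mem_preimageAlong (hQS hx)]
    exact mem_imageAlong hQS ⟨x, hx⟩
  refine ⟨φ.comp (Subgroup.inclusion hle), restrict_mem F hφ hle, fun x => hφS _, fun x => ?_⟩
  exact hind (Subgroup.inclusion hle x)

/-- Membership in a subgroup containing the kernel can be tested on images. -/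
theorem mem_of_map_mem_imageAlong (α : S →* Ω') {Q : Subgroup Ω} (hQS : Q ≤ S)
    (hker : (α.ker).map S.subtype ≤ Q) {y : Ω} (hy : y ∈ S) (h : α ⟨y, hy⟩ ∈ imageAlong α Q) :
    y ∈ Q := by
  obtain ⟨s, hs, hsy⟩ := h
  have hsQ : (s : Ω) ∈ Q := Subgroup.mem_subgroupOf.mp hs
  have h1 : s⁻¹ * ⟨y, hy⟩ ∈ α.ker := by
    rw [MonoidHom.mem_ker, map_mul, map_inv, hsy, inv_mul_cancel]
  have h2 : ((s⁻¹ * ⟨y, hy⟩ : S) : Ω) ∈ Q := hker ⟨_, h1, rfl⟩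
  have h3 : y = (s : Ω) * ((s⁻¹ * ⟨y, hy⟩ : S) : Ω) := by
    push_cast
    group
  rw [h3]
  exact Q.mul_mem hsQ h2

/-- Automorphisms of an image are determined by their values on images. -/
theorem aut_ext_imageAlong (α : S →* Ω') {Q : Subgroup Ω} (hQS : Q ≤ S)
    (β₁ β₂ : MulAut ↥(imageAlong α Q))
    (h : ∀ x : Q, ((β₁ ⟨α ⟨x, hQS x.2⟩, mem_imageAlong hQS x⟩ : ↥(imageAlong α Q)) : Ω') =
      β₂ ⟨α ⟨x, hQS x.2⟩, mem_imageAlong hQS x⟩) : β₁ = β₂ := by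
  ext ⟨_, s, hs, rfl⟩
  exact h ⟨s, Subgroup.mem_subgroupOf.mp hs⟩

/-- The homomorphism `Aut_F(Q) → Aut_{F'}(α(Q))` induced by a morphism. -/
theorem exists_ind_hom [Finite S] (F : FusionSystem S) (F' : FusionSystem S') (α : S →* Ω')
    (hα : F.IsSurjectiveMorphism F' α) {Q : Subgroup Ω} (hQS : Q ≤ S) :
    ∃ π : ↥(F.autGroup Q) →* ↥(F'.autGroup (imageAlong α Q)),
      ∀ (γ : ↥(F.autGroup Q)) (x : Q),
        ((((π γ : ↥(F'.autGroup (imageAlong α Q))) : MulAut ↥(imageAlong α Q))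
          ⟨α ⟨x, hQS x.2⟩, mem_imageAlong hQS x⟩ : ↥(imageAlong α Q)) : Ω') =
        α ⟨(((γ : MulAut Q) x : Q) : Ω), hQS ((γ : MulAut Q) x).2⟩ := by
  haveI : Finite S' := finite_of_range_eq hα.2.1
  have hex : ∀ γ : ↥(F.autGroup Q), ∃ γ' : ↥(F'.autGroup (imageAlong α Q)), ∀ x : Q,
      ((((γ' : ↥(F'.autGroup (imageAlong α Q))) : MulAut ↥(imageAlong α Q))
          ⟨α ⟨x, hQS x.2⟩, mem_imageAlong hQS x⟩ : ↥(imageAlong α Q)) : Ω') =
        α ⟨(((γ : MulAut Q) x : Q) : Ω), hQS ((γ : MulAut Q) x).2⟩ := by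
    intro γ
    have hφ := (mem_autGroup_iff F hQS (γ : MulAut Q)).mp γ.2
    obtain ⟨φ', hφ', hind⟩ := morph_push F F' α hα.1 hφ
    have hval : ∀ y : ↥(imageAlong α Q), φ' y ∈ imageAlong α Q := by
      rintro ⟨_, s, hs, rfl⟩
      have hsQ : (s : Ω) ∈ Q := Subgroup.mem_subgroupOf.mp hs
      have h1 := hind ⟨s, hsQ⟩
      have e : (⟨α s, ⟨s, hs, rfl⟩⟩ : ↥(imageAlong α Q)) =
          ⟨α ⟨((⟨s, hsQ⟩ : Q) : Ω), (F.le_of_mem hφ).1 hsQ⟩,
            mem_imageAlong (F.le_of_mem hφ).1 ⟨s, hsQ⟩⟩ := rfl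
      rw [e, h1]
      exact mem_imageAlong hQS ((γ : MulAut Q) ⟨s, hsQ⟩)
    obtain ⟨γ', hγ', hγ'x⟩ := exists_aut_of_hom_self F' hφ' hval
    refine ⟨⟨γ', hγ'⟩, fun x => ?_⟩
    show ((γ' ⟨α ⟨x, hQS x.2⟩, mem_imageAlong hQS x⟩ : ↥(imageAlong α Q)) : Ω') = _
    rw [hγ'x]
    exact hind x
  choose f hf using hex
  refine ⟨MonoidHom.mk' f ?_, fun γ x => hf γ x⟩
  intro γ δ
  apply Subtype.ext
  apply aut_ext_imageAlong α hQS
  intro x
  rw [hf (γ * δ) x]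
  show _ = ((((f γ : ↥(F'.autGroup (imageAlong α Q))) : MulAut ↥(imageAlong α Q))
    (((f δ : ↥(F'.autGroup (imageAlong α Q))) : MulAut ↥(imageAlong α Q))
      ⟨α ⟨x, hQS x.2⟩, mem_imageAlong hQS x⟩) : ↥(imageAlong α Q)) : Ω')
  have e : (((f δ : ↥(F'.autGroup (imageAlong α Q))) : MulAut ↥(imageAlong α Q))
      ⟨α ⟨x, hQS x.2⟩, mem_imageAlong hQS x⟩) =
      ⟨α ⟨(((δ : MulAut Q) x : Q) : Ω), hQS ((δ : MulAut Q) x).2⟩,
        mem_imageAlong hQS ((δ : MulAut Q) x)⟩ := Subtype.ext (hf δ x)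
  rw [e, hf γ ((δ : MulAut Q) x)]
  rfl

theorem ind_hom_surjective [Finite S] (F : FusionSystem S) (F' : FusionSystem S') (α : S →* Ω')
    (hα : F.IsSurjectiveMorphism F' α) {Q : Subgroup Ω} (hQS : Q ≤ S)
    (hker : (α.ker).map S.subtype ≤ Q)
    (π : ↥(F.autGroup Q) →* ↥(F'.autGroup (imageAlong α Q)))
    (hπ : ∀ (γ : ↥(F.autGroup Q)) (x : Q),
        ((((π γ : ↥(F'.autGroup (imageAlong α Q))) : MulAut ↥(imageAlong α Q))
          ⟨α ⟨x, hQS x.2⟩, mem_imageAlong hQS x⟩ : ↥(imageAlong α Q)) : Ω') =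
        α ⟨(((γ : MulAut Q) x : Q) : Ω), hQS ((γ : MulAut Q) x).2⟩) :
    Function.Surjective π := by
  intro β
  have hQ'S' := imageAlong_le_range α hα.2.1 Q
  have hφ' := (mem_autGroup_iff F' hQ'S' (β : MulAut ↥(imageAlong α Q))).mp β.2
  obtain ⟨φ, hφ, hφS, hind⟩ := morph_lift F F' α hα hQS hφ'
  have hval : ∀ x : Q, φ x ∈ Q := by
    intro x
    apply mem_of_map_mem_imageAlong α hQS hker (hφS x)
    rw [← hind x]
    exact ((β : MulAut ↥(imageAlong α Q)) _).2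
  obtain ⟨γ, hγ, hγx⟩ := exists_aut_of_hom_self F hφ hval
  refine ⟨⟨γ, hγ⟩, ?_⟩
  apply Subtype.ext
  apply aut_ext_imageAlong α hQS
  intro x
  rw [hπ ⟨γ, hγ⟩ x]
  have h1 := hind x
  have e : (⟨((γ x : Q) : Ω), hQS (γ x).2⟩ : S) = ⟨φ x, hφS x⟩ := Subtype.ext (hγx x)
  show α ⟨((γ x : Q) : Ω), hQS (γ x).2⟩ = _
  rw [e, ← h1]
  rfl

theorem ind_hom_map_autS [Finite S] (F : FusionSystem S) (F' : FusionSystem S') (α : S →* Ω')
    (hα : F.IsSurjectiveMorphism F' α) {Q : Subgroup Ω} (hQS : Q ≤ S)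
    (hker : (α.ker).map S.subtype ≤ Q)
    (π : ↥(F.autGroup Q) →* ↥(F'.autGroup (imageAlong α Q)))
    (hπ : ∀ (γ : ↥(F.autGroup Q)) (x : Q),
        ((((π γ : ↥(F'.autGroup (imageAlong α Q))) : MulAut ↥(imageAlong α Q))
          ⟨α ⟨x, hQS x.2⟩, mem_imageAlong hQS x⟩ : ↥(imageAlong α Q)) : Ω') =
        α ⟨(((γ : MulAut Q) x : Q) : Ω), hQS ((γ : MulAut Q) x).2⟩) :
    ((autInducedBy S Q).subgroupOf (F.autGroup Q)).map π =
      (autInducedBy S' (imageAlong α Q)).subgroupOf (F'.autGroup (imageAlong α Q)) := by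
  haveI hfinQ : Finite Q := finite_of_le' hQS
  apply le_antisymm
  · rintro _ ⟨γ, hγ, rfl⟩
    rw [Subgroup.mem_subgroupOf]
    have hγ' : (γ : MulAut Q) ∈ autInducedBy S Q := Subgroup.mem_subgroupOf.mp hγ
    rw [autInducedBy_eq_map] at hγ'
    obtain ⟨n, hn, hnγ⟩ := hγ'
    have hnS : (n : Ω) ∈ S := Subgroup.mem_subgroupOf.mp hn
    apply Subgroup.subset_closure
    refine ⟨α ⟨n, hnS⟩, hα.1.1 _, ?_⟩
    rintro ⟨_, s, hs, rfl⟩
    have hsQ : (s : Ω) ∈ Q := Subgroup.mem_subgroupOf.mp hs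
    have h1 := hπ γ ⟨s, hsQ⟩
    have e : (⟨α s, ⟨s, hs, rfl⟩⟩ : ↥(imageAlong α Q)) =
        ⟨α ⟨((⟨s, hsQ⟩ : Q) : Ω), hQS hsQ⟩, mem_imageAlong hQS ⟨s, hsQ⟩⟩ := rfl
    rw [e, h1, ← hnγ]
    have e2 : (⟨((normConj Q n ⟨s, hsQ⟩ : Q) : Ω), hQS (normConj Q n ⟨s, hsQ⟩).2⟩ : S) =
        ⟨n, hnS⟩ * s * ⟨n, hnS⟩⁻¹ := by
      apply Subtype.ext
      rw [normConj_apply]
      rfl
    rw [e2, map_mul, map_mul, map_inv]
  · intro β hβ
    have hβ' : (β : MulAut ↥(imageAlong α Q)) ∈ autInducedBy S' (imageAlong α Q) :=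
      Subgroup.mem_subgroupOf.mp hβ
    rw [autInducedBy_eq_map] at hβ'
    obtain ⟨n', hn', hn'β⟩ := hβ'
    have hn'S' : (n' : Ω') ∈ S' := Subgroup.mem_subgroupOf.mp hn'
    rw [← hα.2.1] at hn'S'
    obtain ⟨n, hn⟩ := hn'S'
    have hnN : (n : Ω) ∈ Subgroup.normalizer (Q : Set Ω) := by
      apply mem_normalizer_of_conj_mem_of_finite
      intro x hx
      have hmemS : (n : Ω) * x * (n : Ω)⁻¹ ∈ S := S.mul_mem (S.mul_mem n.2 (hQS hx)) (S.inv_mem n.2)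
      apply mem_of_map_mem_imageAlong α hQS hker hmemS
      have e : (⟨(n : Ω) * x * (n : Ω)⁻¹, hmemS⟩ : S) = n * ⟨x, hQS hx⟩ * n⁻¹ := Subtype.ext rfl
      rw [e, map_mul, map_mul, map_inv, hn]
      exact (Subgroup.mem_normalizer_iff.mp n'.2 _).mp (mem_imageAlong hQS ⟨x, hx⟩)
    have hγS : normConj Q ⟨n, hnN⟩ ∈ autInducedBy S Q := by
      rw [autInducedBy_eq_map]
      exact ⟨⟨n, hnN⟩, Subgroup.mem_subgroupOf.mpr n.2, rfl⟩
    have hγA := autInducedBy_le_autGroup F hQS hγS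
    refine ⟨⟨_, hγA⟩, Subgroup.mem_subgroupOf.mpr hγS, ?_⟩
    apply Subtype.ext
    apply aut_ext_imageAlong α hQS
    intro x
    have hR : ((normConj (imageAlong α Q) n' ⟨α ⟨x, hQS x.2⟩, mem_imageAlong hQS x⟩ :
        ↥(imageAlong α Q)) : Ω') = (n' : Ω') * α ⟨x, hQS x.2⟩ * (n' : Ω')⁻¹ :=
      normConj_apply _ _ _
    rw [hπ ⟨_, hγA⟩ x, ← hn'β, hR]
    have e2 : (⟨((normConj Q ⟨n, hnN⟩ x : Q) : Ω), hQS (normConj Q ⟨n, hnN⟩ x).2⟩ : S) =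
        n * ⟨x, hQS x.2⟩ * n⁻¹ := by
      apply Subtype.ext
      rw [normConj_apply]
      rfl
    show α ⟨((normConj Q ⟨n, hnN⟩ x : Q) : Ω), _⟩ = _
    rw [e2, map_mul, map_mul, map_inv, hn]

end Cfsg.Agent.Lib.Helper9
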