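import Cfsg.Agent.Lib.Helper9.FusionInner
import Cfsg.Agent.Lib.Helper9.PowTrick
import Cfsg.Agent.Lib.Helper9.FusionMorph

set_option autoImplicit false

namespace Cfsg.Agent.Lib.Helper9

open Cfsg Cfsg.FusionSystem

variable {Ω : Type*} [Group Ω]

/-- The system over `T` of the restrictions of the elements of `B ≤ Aut(T)`, `B ≥ Inn(T)`. -/
def autSystem (T : Subgroup Ω) (B : Subgroup (MulAut T)) (hB : Inn T ≤ B) : FusionSystem T where
  Hom P := {φ | ∃ hP : P ≤ T, ∃ b ∈ B, ∀ x : P, φ x = ((b ⟨x, hP x.2⟩ : T) : Ω)}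
  le_of_mem := by
    rintro P φ ⟨hP, b, hb, h⟩
    exact ⟨hP, fun x => by rw [h]; exact (b _).2⟩
  injective_of_mem := by
    rintro P φ ⟨hP, b, hb, h⟩ x y hxy
    rw [h, h] at hxy
    have h1 := b.injective (Subtype.ext hxy)
    exact Subtype.ext (congrArg (fun z : T => (z : Ω)) h1)
  conj_mem := by
    intro P g hP hg
    exact ⟨hP, MulAut.conj ⟨g, hg⟩, hB ⟨⟨g, hg⟩, rfl⟩, fun x => rfl⟩
  comp_mem := by
    rintro P Q φ ψ ⟨hP, b, hb, h⟩ ⟨hQ, c, hc, h'⟩ hφQ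
    refine ⟨hP, c * b, B.mul_mem hc hb, fun x => ?_⟩
    show ψ ⟨φ x, hφQ x⟩ = _
    rw [h']
    show ((c ⟨φ x, _⟩ : T) : Ω) = ((c (b ⟨x, _⟩) : T) : Ω)
    have e : (⟨φ x, hQ (hφQ x)⟩ : T) = b ⟨x, hP x.2⟩ := Subtype.ext (h x)
    rw [e]
  inv_mem := by
    rintro P φ ⟨hP, b, hb, h⟩
    have hr : φ.range ≤ T := by
      rintro _ ⟨x, rfl⟩
      rw [h]
      exact (b _).2
    refine ⟨T.subtype.comp (b⁻¹.toMonoidHom.comp (Subgroup.inclusion hr)),
      ⟨hr, b⁻¹, B.inv_mem hb, fun y => rfl⟩, fun x => ?_⟩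
    show ((b⁻¹ ⟨φ x, _⟩ : T) : Ω) = x
    have e : (⟨φ x, hr ⟨x, rfl⟩⟩ : T) = b ⟨x, hP x.2⟩ := Subtype.ext (h x)
    rw [e, MulAut.inv_apply_self]

theorem mem_autSystem_hom {T : Subgroup Ω} {B : Subgroup (MulAut T)} {hB : Inn T ≤ B}
    {P : Subgroup Ω} {φ : P →* Ω} : φ ∈ (autSystem T B hB).Hom P ↔
      ∃ hP : P ≤ T, ∃ b ∈ B, ∀ x : P, φ x = ((b ⟨x, hP x.2⟩ : T) : Ω) := Iff.rfl

theorem autSystem_autGroup_top (T : Subgroup Ω) (B : Subgroup (MulAut T)) (hB : Inn T ≤ B) :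
    (autSystem T B hB).autGroup T = B := by
  ext α
  rw [mem_autGroup_iff _ le_rfl, mem_autSystem_hom]
  constructor
  · rintro ⟨_, b, hb, h⟩
    have : α = b := by
      ext x
      exact h x
    rw [this]
    exact hb
  · intro hα
    exact ⟨le_rfl, α, hα, fun x => rfl⟩

theorem autSystem_isSubsystemOf {S T : Subgroup Ω} (F : FusionSystem S) (hTS : T ≤ S)
    (B : Subgroup (MulAut T)) (hB : Inn T ≤ B) (hBF : B ≤ F.autGroup T) :
    (autSystem T B hB).IsSubsystemOf F := by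
  rintro P φ ⟨hP, b, hb, h⟩
  have h1 := (mem_autGroup_iff F hTS b).mp (hBF hb)
  have h2 := restrict_mem F h1 hP
  have : (T.subtype.comp b.toMonoidHom).comp (Subgroup.inclusion hP) = φ := by
    ext x
    exact (h x).symm
  rw [← this]
  exact h2

/-- A power of `g` that is a `p`-element, with exponent `≡ 1` modulo `p ^ k`. -/
theorem exists_pow_pElem_modEq {G : Type*} [Group G] [Finite G] (p : ℕ) [hp : Fact p.Prime]
    (g : G) (k : ℕ) : ∃ m j : ℕ, m ≡ 1 [MOD p ^ k] ∧ (g ^ m) ^ p ^ j = 1 := by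
  have hm0 : orderOf g ≠ 0 := (orderOf_pos g).ne'
  have hp1 : p ≠ 1 := hp.out.one_lt.ne'
  obtain ⟨a, r, hr, hm⟩ := Nat.exists_eq_pow_mul_and_not_dvd hm0 p hp1
  have hrp : Nat.Coprime r p := ((Nat.Prime.coprime_iff_not_dvd hp.out).mpr hr).symm
  have hcop : Nat.Coprime r (p ^ k) := Nat.Coprime.pow_right k hrp
  have hn0 : p ^ k ≠ 0 := pow_ne_zero _ hp.out.ne_zero
  obtain ⟨c, -, hc⟩ := Nat.exists_mul_mod_eq_of_coprime 1 hcop hn0
  refine ⟨r * c, a, hc, ?_⟩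
  rw [← pow_mul]
  have : r * c * p ^ a = orderOf g * c := by rw [hm]; ring
  rw [this, pow_mul, pow_orderOf_eq_one, one_pow]

/-- The `p`-elements of `Inn(T)⟨β⟩`, `β` of prime order `q ≠ p`, are inner. -/
theorem mem_inn_of_pElem_of_sup_zpowers {T : Type*} [Group T] (p q : ℕ) [hp : Fact p.Prime]
    (hq : q.Prime) (hqp : q ≠ p) (β : MulAut T) (hβ : β ^ q = 1) {b : MulAut T}
    (hb : b ∈ Inn T ⊔ Subgroup.zpowers β) {k : ℕ} (hbk : b ^ p ^ k = 1) : b ∈ Inn T := by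
  have : (Inn T).Normal := inferInstance
  have hπ : (QuotientGroup.mk' (Inn T)) b ∈
      Subgroup.zpowers ((QuotientGroup.mk' (Inn T)) β) := by
    have h1 : (QuotientGroup.mk' (Inn T)) b ∈
        (Inn T ⊔ Subgroup.zpowers β).map (QuotientGroup.mk' (Inn T)) := ⟨b, hb, rfl⟩
    rw [Subgroup.map_sup, MonoidHom.map_zpowers, QuotientGroup.map_mk'_self, bot_sup_eq] at h1
    exact h1
  obtain ⟨j, hj⟩ := hπ
  have hj' : (QuotientGroup.mk' (Inn T)) b = ((QuotientGroup.mk' (Inn T)) β) ^ j := hj.symm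
  have h2 : ((QuotientGroup.mk' (Inn T)) b) ^ q = 1 := by
    rw [hj', ← zpow_natCast, ← zpow_mul, mul_comm, zpow_mul, zpow_natCast, ← map_pow, hβ, map_one,
      one_zpow]
  have h3 : ((QuotientGroup.mk' (Inn T)) b) ^ p ^ k = 1 := by rw [← map_pow, hbk, map_one]
  have h4 : (QuotientGroup.mk' (Inn T)) b = 1 := by
    have hd1 := orderOf_dvd_of_pow_eq_one h2
    have hd2 := orderOf_dvd_of_pow_eq_one h3
    have hcop : Nat.Coprime q (p ^ k) :=
      Nat.Coprime.pow_right k ((Nat.coprime_primes hq hp.out).mpr hqp)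
    have h5 := Nat.dvd_gcd hd1 hd2
    rw [hcop] at h5
    exact orderOf_eq_one_iff.mp (Nat.dvd_one.mp h5)
  exact (QuotientGroup.eq_one_iff b).mp h4

/-- `autSystem T B` is saturated when the `p`-elements of `B` are inner. -/
theorem autSystem_saturated {T : Subgroup Ω} [Finite T] (p : ℕ) [Fact p.Prime]
    (hT : IsPGroup p T) (B : Subgroup (MulAut T)) (hB : Inn T ≤ B)
    (hp : ∀ b ∈ B, ∀ k : ℕ, b ^ p ^ k = 1 → b ∈ Inn T) : (autSystem T B hB).IsSaturated p := by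
  intro P hPT
  have hfinP : Finite P := finite_of_le' hPT
  refine ⟨P, isConj_refl _ hPT, ⟨hPT, ?_⟩, ⟨hPT, ?_⟩⟩
  · have hDp : IsPGroup p ((autInducedBy T P).subgroupOf ((autSystem T B hB).autGroup P)) :=
      (isPGroup_autInducedBy p hT P).comap_subtype
    obtain ⟨R, hR⟩ := hDp.exists_le_sylow
    refine ⟨R, le_antisymm ?_ hR⟩
    intro a ha
    obtain ⟨k, hk⟩ := R.2 ⟨a, ha⟩
    have hak : (a : MulAut P) ^ p ^ k = 1 := by
      have h1 := congrArg (fun z : (R : Subgroup ((autSystem T B hB).autGroup P)) =>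
        (((z : (autSystem T B hB).autGroup P)) : MulAut P)) hk
      simpa using h1
    rw [Subgroup.mem_subgroupOf]
    have haE := (mem_autGroup_iff (autSystem T B hB) hPT (a : MulAut P)).mp a.2
    obtain ⟨_, b, hb, hab⟩ := haE
    have hab' : ∀ x : P, (((a : MulAut P) x : P) : Ω) = ((b ⟨x, hPT x.2⟩ : T) : Ω) := hab
    have hpow : ∀ n : ℕ, ∀ x : P, ((((a : MulAut P) ^ n) x : P) : Ω) =
        (((b ^ n) ⟨x, hPT x.2⟩ : T) : Ω) := by
      intro n
      induction n with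
      | zero => intro x; rfl
      | succ n ih =>
        intro x
        rw [pow_succ', pow_succ', MulAut.mul_apply, MulAut.mul_apply, hab']
        have e : (⟨((((a : MulAut P) ^ n) x : P) : Ω), hPT (((a : MulAut P) ^ n) x).2⟩ : T) =
            (b ^ n) ⟨x, hPT x.2⟩ := Subtype.ext (ih x)
        rw [e]
    obtain ⟨m, j, hm1, hmj⟩ := exists_pow_pElem_modEq p b k
    have ham : (a : MulAut P) ^ m = a := pow_eq_self_of_modEq _ hak hm1
    have hbm : b ^ m ∈ Inn T := hp _ (B.pow_mem hb m) j hmj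
    obtain ⟨t, ht⟩ := hbm
    apply Subgroup.subset_closure
    refine ⟨(t : Ω), t.2, fun x => ?_⟩
    have h2 := hpow m x
    rw [ham, ← ht] at h2
    exact h2
  · intro P' φ hφ hr
    obtain ⟨hP', b, hb, hφb⟩ := hφ
    have hN : extender T P' φ ≤ T := (extender_le T P' φ).trans (normalizerIn_le_left T P')
    refine ⟨T.subtype.comp (b.toMonoidHom.comp (Subgroup.inclusion hN)),
      ⟨hN, b, hb, fun x => rfl⟩, fun x hxP hxN => ?_⟩
    rw [hφb]
    rfl

end Cfsg.Agent.Lib.Helper9
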