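import Cfsg.Agent.Lib.Helper9.Fusion3

set_option autoImplicit false

namespace Cfsg.Agent.Lib.Helper9

open Cfsg Cfsg.FusionSystem

variable {Ω : Type*} [Group Ω] {S : Subgroup Ω}

/-- Composition of maps of a fusion system, with a pointwise description. -/
theorem comp_spec (F : FusionSystem S) {P Q : Subgroup Ω}
    {φ : P →* Ω} {ψ : Q →* Ω} (hφ : φ ∈ F.Hom P) (hψ : ψ ∈ F.Hom Q) (h : ∀ x : P, φ x ∈ Q) :
    ∃ χ ∈ F.Hom P, ∀ x : P, χ x = ψ ⟨φ x, h x⟩ :=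
  ⟨_, F.comp_mem hφ hψ h, fun _ => rfl⟩

/-- Inverse of a map of a fusion system, with a pointwise description. -/
theorem inv_spec (F : FusionSystem S) {P : Subgroup Ω}
    {φ : P →* Ω} (hφ : φ ∈ F.Hom P) :
    ∃ ψ ∈ F.Hom φ.range, (∀ x : P, ψ ⟨φ x, ⟨x, rfl⟩⟩ = x) ∧
      ∀ y : φ.range, ∃ x : P, φ x = y ∧ ψ y = x := by
  obtain ⟨ψ, hψ, hψφ⟩ := F.inv_mem hφ
  refine ⟨ψ, hψ, hψφ, ?_⟩
  rintro ⟨_, x, rfl⟩
  exact ⟨x, rfl, hψφ x⟩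

/-- Restriction with a pointwise description. -/
theorem restrict_spec (F : FusionSystem S) {P R : Subgroup Ω} {φ : P →* Ω} (hφ : φ ∈ F.Hom P)
    (hRP : R ≤ P) : ∃ χ ∈ F.Hom R, ∀ x : R, χ x = φ ⟨x, hRP x.2⟩ :=
  ⟨_, restrict_mem F hφ hRP, fun _ => rfl⟩

end Cfsg.Agent.Lib.Helper9
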