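import Cfsg.Agent.Lib.Helper9.Fusion3

set_option autoImplicit false

namespace Cfsg.Agent.Lib.Helper9

open Cfsg Cfsg.FusionSystem

variable {Ω : Type*} [Group Ω] {S : Subgroup Ω}

/-- A homomorphism on `P ⊔ Q` taking `P` and `Q` into `T` takes everything into `T`. -/
theorem sup_map_mem {P Q T : Subgroup Ω} (ψ : ↥(P ⊔ Q) →* Ω)
    (hP : ∀ x : P, ψ (Subgroup.inclusion le_sup_left x) ∈ T)
    (hQ : ∀ x : Q, ψ (Subgroup.inclusion le_sup_right x) ∈ T) : ∀ z : ↥(P ⊔ Q), ψ z ∈ T := by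
  have hT : P ⊔ Q ≤ (T.comap ψ).map (P ⊔ Q).subtype := by
    apply sup_le
    · intro x hx
      exact ⟨Subgroup.inclusion le_sup_left ⟨x, hx⟩, hP _, rfl⟩
    · intro x hx
      exact ⟨Subgroup.inclusion le_sup_right ⟨x, hx⟩, hQ _, rfl⟩
  intro z
  obtain ⟨y, hy, hyz⟩ := hT z.2
  have : y = z := Subtype.ext hyz
  rw [← this]
  exact hy

/-- The centralizer fusion system `C_F(Q)`. -/
def centralizerSystem (F : FusionSystem S) (Q : Subgroup Ω) (hQ : Q ≤ S) :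
    FusionSystem (centralizerIn S Q) where
  Hom P := F.centralizerHom Q P
  le_of_mem h := ⟨h.2.1, h.2.2.1⟩
  injective_of_mem h := F.injective_of_mem h.1
  conj_mem := by
    intro P g hP hg
    have hPS : P ≤ S := hP.trans (centralizerIn_le_left S Q)
    have hgS : g ∈ S := centralizerIn_le_left S Q hg
    refine ⟨F.conj_mem hPS hgS, hP, ?_, conjHom (P ⊔ Q) g, F.conj_mem (sup_le hPS hQ) hgS, fun x => rfl, ?_⟩
    · intro x
      show g * (x : Ω) * g⁻¹ ∈ centralizerIn S Q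
      exact Subgroup.mul_mem _ (Subgroup.mul_mem _ hg (hP x.2)) (Subgroup.inv_mem _ hg)
    · intro x
      show g * (x : Ω) * g⁻¹ = x
      have := (mem_centralizerIn.mp hg).2 x x.2
      rw [← this, mul_assoc, mul_inv_cancel, mul_one]
  comp_mem := by
    rintro P P₂ φ ψ ⟨hφ, hP, hφC, φ', hφ', hφ'P, hφ'Q⟩ ⟨hψ, hP₂, hψC, ψ', hψ', hψ'P, hψ'Q⟩ h
    refine ⟨F.comp_mem hφ hψ h, hP, fun x => hψC _, ?_⟩
    have hval : ∀ z : ↥(P ⊔ Q), φ' z ∈ P₂ ⊔ Q := by
      apply sup_map_mem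
      · intro x
        rw [hφ'P]
        exact (le_sup_left : P₂ ≤ P₂ ⊔ Q) (h x)
      · intro x
        rw [hφ'Q]
        exact (le_sup_right : Q ≤ P₂ ⊔ Q) x.2
    refine ⟨ψ'.comp (φ'.codRestrict (P₂ ⊔ Q) hval), F.comp_mem hφ' hψ' hval, ?_, ?_⟩
    · intro x
      show ψ' ⟨φ' (Subgroup.inclusion le_sup_left x), _⟩ = ψ ⟨φ x, h x⟩
      rw [← hψ'P ⟨φ x, h x⟩]
      congr 1
      apply Subtype.ext
      exact hφ'P x
    · intro x
      show ψ' ⟨φ' (Subgroup.inclusion le_sup_right x), _⟩ = x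
      rw [← hψ'Q x]
      congr 1
      apply Subtype.ext
      exact hφ'Q x
  inv_mem := by
    rintro P φ ⟨hφ, hP, hφC, φ', hφ', hφ'P, hφ'Q⟩
    obtain ⟨ψ₀, hψ₀, hψ₀φ⟩ := F.inv_mem hφ
    obtain ⟨χ, hχ, hχφ'⟩ := F.inv_mem hφ'
    have hle : φ.range ⊔ Q ≤ φ'.range := by
      apply sup_le
      · rintro _ ⟨x, rfl⟩
        exact ⟨Subgroup.inclusion le_sup_left x, hφ'P x⟩
      · intro q hq
        exact ⟨Subgroup.inclusion le_sup_right ⟨q, hq⟩, hφ'Q ⟨q, hq⟩⟩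
    refine ⟨ψ₀, ⟨hψ₀, ?_, ?_, χ.comp (Subgroup.inclusion hle), restrict_mem F hχ hle, ?_, ?_⟩, hψ₀φ⟩
    · rintro _ ⟨x, rfl⟩
      exact hφC x
    · rintro ⟨_, x, rfl⟩
      rw [hψ₀φ x]
      exact hP x.2
    · rintro ⟨_, x, rfl⟩
      rw [hψ₀φ x]
      have h1 := hχφ' (Subgroup.inclusion le_sup_left x)
      show χ (Subgroup.inclusion hle (Subgroup.inclusion le_sup_left ⟨φ x, ⟨x, rfl⟩⟩)) = x
      have h2 : Subgroup.inclusion hle (Subgroup.inclusion le_sup_left ⟨φ x, ⟨x, rfl⟩⟩) =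
          ⟨φ' (Subgroup.inclusion le_sup_left x), ⟨_, rfl⟩⟩ := by
        apply Subtype.ext
        exact (hφ'P x).symm
      rw [h2, h1]
      rfl
    · intro q
      have h1 := hχφ' (Subgroup.inclusion le_sup_right q)
      show χ (Subgroup.inclusion hle (Subgroup.inclusion le_sup_right q)) = q
      have h2 : Subgroup.inclusion hle (Subgroup.inclusion le_sup_right q) =
          ⟨φ' (Subgroup.inclusion le_sup_right q), ⟨_, rfl⟩⟩ := by
        apply Subtype.ext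
        exact (hφ'Q q).symm
      rw [h2, h1]
      rfl

theorem centralizerSystem_hom (F : FusionSystem S) (Q : Subgroup Ω) (hQ : Q ≤ S) (P : Subgroup Ω) :
    (centralizerSystem F Q hQ).Hom P = F.centralizerHom Q P := rfl

end Cfsg.Agent.Lib.Helper9
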