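import Cfsg.Agent.Lib.Helper9.FusionHyp
import Cfsg.Agent.Lib.Helper9.Stab

set_option autoImplicit false

namespace Cfsg.Agent.Lib.Helper9

open Cfsg Cfsg.FusionSystem

variable {Ω : Type*} [Group Ω] {S : Subgroup Ω}

/-- A subgroup of `S` containing a centric subgroup is centric. -/
theorem centric_of_le (F : FusionSystem S) {Q R : Subgroup Ω} (hQR : Q ≤ R) (hRS : R ≤ S)
    (hQ : F.IsCentric Q) : F.IsCentric R := by
  refine ⟨hRS, ?_⟩
  rintro R' ⟨θ, hθ, rfl⟩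
  have hζ := restrict_mem F hθ hQR
  have hC := hQ.2 _ ⟨_, hζ, rfl⟩
  intro g hg
  have hg' : g ∈ centralizerIn S (θ.comp (Subgroup.inclusion hQR)).range := by
    rw [mem_centralizerIn] at hg ⊢
    refine ⟨hg.1, ?_⟩
    rintro _ ⟨x, rfl⟩
    exact hg.2 _ ⟨Subgroup.inclusion hQR x, rfl⟩
  obtain ⟨x, hx⟩ := hC hg'
  exact ⟨Subgroup.inclusion hQR x, hx⟩

/-- If `φ'` takes values in the image of `φ`, then `φ' = φ ∘ τ` for some `τ ∈ Aut_F(R)`. -/
theorem exists_aut_of_range_le [Finite S] (F : FusionSystem S) {R : Subgroup Ω} {φ φ' : R →* Ω}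
    (hφ : φ ∈ F.Hom R) (hφ' : φ' ∈ F.Hom R) (hle : ∀ y : R, φ' y ∈ φ.range) :
    ∃ τ ∈ F.autGroup R, ∀ y : R, φ' y = φ (τ y) := by
  have hRS := (F.le_of_mem hφ).1
  have hfinR : Finite R := finite_of_le' hRS
  obtain ⟨θ', θi, hθ', hθi, hθi', -⟩ := exists_iso_data F hφ rfl
  have hτ₀ := F.comp_mem hφ' hθi hle
  obtain ⟨f, hf⟩ : ∃ f : R →* R, ∀ y, f y = θ'.symm ⟨φ' y, hle y⟩ :=
    ⟨θ'.symm.toMonoidHom.comp (φ'.codRestrict φ.range hle), fun y => rfl⟩
  have hinj : Function.Injective f := by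
    intro a b hab
    rw [hf, hf] at hab
    have := θ'.symm.injective hab
    exact F.injective_of_mem hφ' (congrArg Subtype.val this)
  have hbij : Function.Bijective f := ⟨hinj, Finite.surjective_of_injective hinj⟩
  refine ⟨MulEquiv.ofBijective f hbij, ?_, fun y => ?_⟩
  · rw [mem_autGroup_iff F hRS]
    have : R.subtype.comp (MulEquiv.ofBijective f hbij).toMonoidHom =
        θi.comp (φ'.codRestrict φ.range hle) := by
      ext y
      show ((f y : R) : Ω) = θi ⟨φ' y, hle y⟩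
      rw [hf, hθi']
    rw [this]
    exact hτ₀
  · show φ' y = φ (f y)
    rw [hf, ← hθ', MulEquiv.apply_symm_apply]

theorem isPGroup_zpowers_of_pow_eq_one {A : Type*} [Group A] {p : ℕ} {g : A} {k : ℕ}
    (hk : g ^ p ^ k = 1) : IsPGroup p (Subgroup.zpowers g) := by
  rintro ⟨y, hy⟩
  obtain ⟨i, rfl⟩ := Subgroup.mem_zpowers_iff.mp hy
  refine ⟨k, Subtype.ext ?_⟩
  show (g ^ i) ^ p ^ k = 1
  rw [← zpow_natCast, ← zpow_mul, mul_comm, zpow_mul, zpow_natCast, hk, one_zpow]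

end Cfsg.Agent.Lib.Helper9
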