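import Cfsg.Agent.Lib.Helper9.FusionCentric

set_option autoImplicit false

namespace Cfsg.Agent.Lib.Helper9

open Cfsg Cfsg.FusionSystem

variable {Ω : Type*} [Group Ω] {S : Subgroup Ω}

/-- An `F`-automorphism of `R` fixing pointwise a centric normal subgroup `Q` of `R` is conjugation
by an element of `Z(Q)`. -/
theorem aut_eq_conj_of_fix_centric_normal [Finite S] (p : ℕ) [Fact p.Prime] (hS : IsPGroup p S)
    (F : FusionSystem S) (hF : F.IsSaturated p) {Q R : Subgroup Ω} (hQR : Q ≤ R) (hRS : R ≤ S)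
    (hRN : R ≤ Subgroup.normalizer (Q : Set Ω)) (hQ : F.IsCentric Q) (τ : MulAut R)
    (hτ : τ ∈ F.autGroup R) (hfix : ∀ x : R, (x : Ω) ∈ Q → τ x = x) :
    ∃ z : R, (z : Ω) ∈ Q ∧ (z : Ω) ∈ Subgroup.centralizer (Q : Set Ω) ∧
      ∀ y : R, τ y = z * y * z⁻¹ := by
  have hQS := hQ.1
  have hfinR : Finite R := finite_of_le' hRS
  have hRp : IsPGroup p R := hS.to_le hRS
  have hCQ : centralizerIn S Q ≤ Q := hQ.2 Q (isConj_refl F hQS)
  -- Step 1
  have hstab : ∀ x : R, ((x⁻¹ * τ x : R) : Ω) ∈ Q := by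
    intro x
    apply hCQ
    rw [mem_centralizerIn]
    refine ⟨hRS (x⁻¹ * τ x).2, ?_⟩
    intro q hq
    have hq' : (x : Ω) * q * (x : Ω)⁻¹ ∈ Q := by
      have := (Subgroup.mem_normalizer_iff.mp (hRN x.2) q).mp hq
      exact this
    have h1 := hfix (x * ⟨q, hQR hq⟩ * x⁻¹) hq'
    rw [map_mul, map_mul, map_inv, hfix ⟨q, hQR hq⟩ hq] at h1
    have h2 : ((τ x : R) : Ω) * q * ((τ x : R) : Ω)⁻¹ = (x : Ω) * q * (x : Ω)⁻¹ :=
      congrArg Subtype.val h1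
    push_cast
    calc q * ((x : Ω)⁻¹ * ((τ x : R) : Ω))
        = (x : Ω)⁻¹ * ((x : Ω) * q * (x : Ω)⁻¹) * ((τ x : R) : Ω) := by group
      _ = (x : Ω)⁻¹ * (((τ x : R) : Ω) * q * ((τ x : R) : Ω)⁻¹) * ((τ x : R) : Ω) := by rw [h2]
      _ = (x : Ω)⁻¹ * ((τ x : R) : Ω) * q := by group
  -- Step 2
  obtain ⟨Rc, hRc⟩ : ∃ Rc : ℕ → Subgroup R, Rc = fun j => if j = 0 then Q.subgroupOf R else ⊤ :=
    ⟨_, rfl⟩
  have hR0 : Rc 0 = Q.subgroupOf R := by rw [hRc]; simp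
  have hRge : ∀ j, 1 ≤ j → Rc j = ⊤ := by
    intro j hj
    have : j ≠ 0 := by omega
    rw [hRc]; simp [this]
  obtain ⟨k, hk⟩ := aut_pow_eq_one_of_stabilizes p hRp τ Rc 1 (hRge 1 le_rfl)
    ⟨0, fun x hx => by
      rw [hR0] at hx
      simpa using hfix x (Subgroup.mem_subgroupOf.mp hx)⟩
    (fun j x hx => by
      rcases Nat.eq_zero_or_pos j with rfl | hj
      · rw [hR0] at hx ⊢
        rw [hfix x (Subgroup.mem_subgroupOf.mp hx)]
        exact hx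
      · rw [hRge j hj]; exact Subgroup.mem_top _)
    (fun j x _ => by
      rcases Nat.eq_zero_or_pos j with rfl | hj
      · rw [hR0, Subgroup.mem_subgroupOf]
        exact hstab x
      · rw [hRge j hj]; exact Subgroup.mem_top _)
  -- Step 3: transport to a fully normalized conjugate
  obtain ⟨R', hRR', hfn⟩ := exists_fullyNormalized_conj F hRS
  obtain ⟨θ, hθ, hθr⟩ := hRR'
  obtain ⟨θ', θi, hθ', hθi, hθi', -⟩ := exists_iso_data F hθ hθr
  have hR'S := hfn.1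
  have hfinR' : Finite R' := finite_of_le' hR'S
  have hfinA' : Finite (MulAut R') := inferInstance
  obtain ⟨-, hfa⟩ := sat_fullyNormalized p hS F hF hfn
  have hcard := (fullyAutomized_iff_card p F hR'S).mp hfa
  have hτ' : (MulAut.congr θ').toMonoidHom τ ∈ F.autGroup R' :=
    map_congr_autGroup_le F hθ θ' θi hθ' hθi hθi' ⟨τ, hτ, rfl⟩
  have hk' : ((MulAut.congr θ').toMonoidHom τ) ^ p ^ k = 1 := by
    rw [← map_pow, hk, map_one]
  have hKp := isPGroup_zpowers_of_pow_eq_one hk'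
  have hKA : Subgroup.zpowers ((MulAut.congr θ').toMonoidHom τ) ≤ F.autGroup R' := by
    rw [Subgroup.zpowers_le]; exact hτ'
  obtain ⟨m, hm, hmK⟩ := exists_conj_le_of_sylow_card p (autInducedBy_le_autGroup F hR'S)
    hKA hKp hcard
  have hconj : m * (MulAut.congr θ').toMonoidHom τ * m⁻¹ ∈ autInducedBy S R' :=
    hmK ⟨_, Subgroup.mem_zpowers _, rfl⟩
  rw [autInducedBy_eq_map] at hconj
  obtain ⟨n, hnS, hn⟩ := hconj
  have hnS' : (n : Ω) ∈ S := Subgroup.mem_subgroupOf.mp hnS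
  -- the F-map η = m ∘ θ
  have hθR' : ∀ x : R, θ x ∈ R' := fun x => by rw [← hθ']; exact (θ' x).2
  have hmF := (mem_autGroup_iff F hR'S m).mp hm
  have hη := F.comp_mem hθ hmF hθR'
  obtain ⟨η, hηdef⟩ : ∃ η : R →* Ω, η = (R'.subtype.comp m.toMonoidHom).comp (θ.codRestrict R' hθR') :=
    ⟨_, rfl⟩
  rw [← hηdef] at hη
  have hηval : ∀ y : R, η y = ((m (θ' y) : R') : Ω) := by
    intro y
    rw [hηdef]
    show ((m (θ.codRestrict R' hθR' y) : R') : Ω) = _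
    congr 2
    exact Subtype.ext (hθ' y).symm
  have hkey : ∀ y : R, η (τ y) = (n : Ω) * η y * (n : Ω)⁻¹ := by
    intro y
    have h1 : ((normConj R' n (m (θ' y)) : R') : Ω) =
        (((m * (MulAut.congr θ').toMonoidHom τ * m⁻¹) (m (θ' y)) : R') : Ω) := by rw [hn]
    rw [normConj_apply] at h1
    rw [hηval, hηval, h1]
    show _ = ((m ((MulAut.congr θ') τ (m⁻¹ (m (θ' y)))) : R') : Ω)
    have e0 : m⁻¹ (m (θ' y)) = θ' y := MulEquiv.symm_apply_apply m _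
    rw [e0]
    show _ = ((m (θ' (τ (θ'.symm (θ' y)))) : R') : Ω)
    rw [MulEquiv.symm_apply_apply]
  -- Step 5: n centralizes the image of Q, so lies in it
  have hζ := restrict_mem F hη hQR
  have hCζ := hQ.2 _ ⟨_, hζ, rfl⟩
  have hnC : (n : Ω) ∈ centralizerIn S (η.comp (Subgroup.inclusion hQR)).range := by
    rw [mem_centralizerIn]
    refine ⟨hnS', ?_⟩
    rintro _ ⟨q, rfl⟩
    have h1 := hkey (Subgroup.inclusion hQR q)
    rw [hfix _ q.2] at h1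
    show η (Subgroup.inclusion hQR q) * (n : Ω) = (n : Ω) * η (Subgroup.inclusion hQR q)
    calc η (Subgroup.inclusion hQR q) * (n : Ω)
        = ((n : Ω) * η (Subgroup.inclusion hQR q) * (n : Ω)⁻¹) * (n : Ω) := by rw [← h1]
      _ = (n : Ω) * η (Subgroup.inclusion hQR q) := by group
  obtain ⟨z₀, hz₀⟩ := hCζ hnC
  have hz₀' : η (Subgroup.inclusion hQR z₀) = (n : Ω) := hz₀
  have hηinj := F.injective_of_mem hη
  have hτy : ∀ y : R, τ y = Subgroup.inclusion hQR z₀ * y * (Subgroup.inclusion hQR z₀)⁻¹ := by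
    intro y
    apply hηinj
    rw [hkey, map_mul, map_mul, map_inv, hz₀']
  refine ⟨Subgroup.inclusion hQR z₀, z₀.2, ?_, hτy⟩
  rw [Subgroup.mem_centralizer_iff]
  intro q hq
  have h1 := hτy ⟨q, hQR hq⟩
  rw [hfix ⟨q, hQR hq⟩ hq] at h1
  have h2 : q = (z₀ : Ω) * q * (z₀ : Ω)⁻¹ := congrArg Subtype.val h1
  show q * (z₀ : Ω) = (z₀ : Ω) * q
  calc q * (z₀ : Ω) = ((z₀ : Ω) * q * (z₀ : Ω)⁻¹) * (z₀ : Ω) := by rw [← h2]
    _ = (z₀ : Ω) * q := by group

end Cfsg.Agent.Lib.Helper9
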