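import Cfsg.Agent.Lib.Helper9.FusionCentric2

set_option autoImplicit false

namespace Cfsg.Agent.Lib.Helper9

open Cfsg Cfsg.FusionSystem

variable {Ω : Type*} [Group Ω] {S : Subgroup Ω}

/-- Precomposition of a map of the system with conjugation by an element of its source. -/
theorem comp_conj_mem (F : FusionSystem S) {P : Subgroup Ω} {φ : P →* Ω} (hφ : φ ∈ F.Hom P)
    (z : P) : φ.comp (MulAut.conj z).toMonoidHom ∈ F.Hom P := by
  have hPS := (F.le_of_mem hφ).1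
  have h : ∀ x : P, conjHom P (z : Ω) x ∈ P := fun x =>
    P.mul_mem (P.mul_mem z.2 x.2) (P.inv_mem z.2)
  have h1 := F.comp_mem (F.conj_mem hPS (hPS z.2)) hφ h
  have : φ.comp ((conjHom P (z : Ω)).codRestrict P h) = φ.comp (MulAut.conj z).toMonoidHom := by
    ext x
    show φ _ = φ _
    congr 1
  rw [this] at h1
  exact h1

theorem eq_comp_conj_of_agree_on_centric_aux [Finite S] (p : ℕ) [Fact p.Prime]
    (hS : IsPGroup p S) (F : FusionSystem S) (hF : F.IsSaturated p) (P : Subgroup Ω)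
    (hPS : P ≤ S) :
    ∀ (n : ℕ) (Q : Subgroup Ω), Q ≤ P → F.IsCentric Q → Nat.card P - Nat.card Q ≤ n →
      ∀ φ ∈ F.Hom P, ∀ φ' ∈ F.Hom P, (∀ x : P, (x : Ω) ∈ Q → φ x = φ' x) →
      ∃ z : P, (z : Ω) ∈ Q ∧ (z : Ω) ∈ Subgroup.centralizer (Q : Set Ω) ∧
        ∀ y : P, φ' y = φ (z * y * z⁻¹) := by
  have hfinP : Finite P := finite_of_le' hPS
  have hPp : IsPGroup p P := hS.to_le hPS
  have htriv : ∀ (Q : Subgroup Ω), Q = P → ∀ φ φ' : P →* Ω,
      (∀ x : P, (x : Ω) ∈ Q → φ x = φ' x) →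
      ∃ z : P, (z : Ω) ∈ Q ∧ (z : Ω) ∈ Subgroup.centralizer (Q : Set Ω) ∧
        ∀ y : P, φ' y = φ (z * y * z⁻¹) := by
    rintro Q rfl φ φ' h
    refine ⟨1, Subgroup.one_mem _, Subgroup.one_mem _, fun y => ?_⟩
    rw [one_mul, inv_one, mul_one]
    exact (h y y.2).symm
  intro n
  induction n with
  | zero =>
    intro Q hQP _ hn φ _ φ' _ h
    have hcard : Nat.card P ≤ Nat.card Q := by omega
    exact htriv Q (Subgroup.eq_of_le_of_card_ge hQP hcard) φ φ' h
  | succ n ih =>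
    intro Q hQP hQ hn φ hφ φ' hφ' h
    by_cases hne : Q = P
    · exact htriv Q hne φ φ' h
    have hQS := hQ.1
    have hCQ : centralizerIn S Q ≤ Q := hQ.2 Q (isConj_refl F hQS)
    have hlt := lt_normalizerIn (S := P) p hPp hQP hne
    have hQ₁P : normalizerIn P Q ≤ P := normalizerIn_le_left P Q
    have hQ₁S : normalizerIn P Q ≤ S := hQ₁P.trans hPS
    have hQQ₁ : Q ≤ normalizerIn P Q := hlt.le
    have hQ₁N : normalizerIn P Q ≤ Subgroup.normalizer (Q : Set Ω) := normalizerIn_le_normalizer P Q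
    have hQ₁cen : F.IsCentric (normalizerIn P Q) := centric_of_le F hQQ₁ hQ₁S hQ
    have hφ₁ := restrict_mem F hφ hQ₁P
    have hφ'₁ := restrict_mem F hφ' hQ₁P
    -- the image of Q under φ
    have hφQ := restrict_mem F hφ hQP
    have hCφQ := hQ.2 _ ⟨_, hφQ, rfl⟩
    have hle : ∀ y : ↥(normalizerIn P Q), (φ'.comp (Subgroup.inclusion hQ₁P)) y ∈
        (φ.comp (Subgroup.inclusion hQ₁P)).range := by
      intro y
      have hw : (φ (Subgroup.inclusion hQ₁P y))⁻¹ * φ' (Subgroup.inclusion hQ₁P y) ∈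
          centralizerIn S (φ.comp (Subgroup.inclusion hQP)).range := by
        rw [mem_centralizerIn]
        refine ⟨S.mul_mem (S.inv_mem ((F.le_of_mem hφ).2 _)) ((F.le_of_mem hφ').2 _), ?_⟩
        rintro _ ⟨q, rfl⟩
        have hq' : (y : Ω) * (q : Ω) * (y : Ω)⁻¹ ∈ Q :=
          (Subgroup.mem_normalizer_iff.mp (hQ₁N y.2) q).mp q.2
        have h1 := h (Subgroup.inclusion hQ₁P y * Subgroup.inclusion hQP q *
          (Subgroup.inclusion hQ₁P y)⁻¹) hq'
        rw [map_mul, map_mul, map_inv, map_mul, map_mul, map_inv,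
          ← h (Subgroup.inclusion hQP q) q.2] at h1
        show φ (Subgroup.inclusion hQP q) * ((φ (Subgroup.inclusion hQ₁P y))⁻¹ *
          φ' (Subgroup.inclusion hQ₁P y)) = (φ (Subgroup.inclusion hQ₁P y))⁻¹ *
          φ' (Subgroup.inclusion hQ₁P y) * φ (Subgroup.inclusion hQP q)
        calc φ (Subgroup.inclusion hQP q) * ((φ (Subgroup.inclusion hQ₁P y))⁻¹ *
              φ' (Subgroup.inclusion hQ₁P y))
            = (φ (Subgroup.inclusion hQ₁P y))⁻¹ * (φ (Subgroup.inclusion hQ₁P y) *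
              φ (Subgroup.inclusion hQP q) * (φ (Subgroup.inclusion hQ₁P y))⁻¹) *
              φ' (Subgroup.inclusion hQ₁P y) := by group
          _ = (φ (Subgroup.inclusion hQ₁P y))⁻¹ * (φ' (Subgroup.inclusion hQ₁P y) *
              φ (Subgroup.inclusion hQP q) * (φ' (Subgroup.inclusion hQ₁P y))⁻¹) *
              φ' (Subgroup.inclusion hQ₁P y) := by rw [h1]
          _ = _ := by group
      obtain ⟨ζ, hζ⟩ := hCφQ hw
      refine ⟨y * Subgroup.inclusion hQQ₁ ζ, ?_⟩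
      show φ (Subgroup.inclusion hQ₁P (y * Subgroup.inclusion hQQ₁ ζ)) =
        φ' (Subgroup.inclusion hQ₁P y)
      have hζ' : φ (Subgroup.inclusion hQP ζ) = (φ (Subgroup.inclusion hQ₁P y))⁻¹ *
          φ' (Subgroup.inclusion hQ₁P y) := hζ
      have e : Subgroup.inclusion hQ₁P (y * Subgroup.inclusion hQQ₁ ζ) =
          Subgroup.inclusion hQ₁P y * Subgroup.inclusion hQP ζ := Subtype.ext rfl
      rw [e, map_mul, hζ']
      group
    obtain ⟨τ, hτ, hτy⟩ := exists_aut_of_range_le F hφ₁ hφ'₁ hle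
    have hτfix : ∀ x : ↥(normalizerIn P Q), (x : Ω) ∈ Q → τ x = x := by
      intro x hx
      apply F.injective_of_mem hφ₁
      rw [← hτy x]
      exact (h (Subgroup.inclusion hQ₁P x) hx).symm
    obtain ⟨z, hzQ, hzC, hzy⟩ :=
      aut_eq_conj_of_fix_centric_normal p hS F hF hQQ₁ hQ₁S hQ₁N hQ τ hτ hτfix
    -- Step B
    have hφ'' := comp_conj_mem F hφ (Subgroup.inclusion hQ₁P z)
    have hagree : ∀ x : P, (x : Ω) ∈ normalizerIn P Q →
        (φ.comp (MulAut.conj (Subgroup.inclusion hQ₁P z)).toMonoidHom) x = φ' x := by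
      intro x hx
      have h1 := hτy ⟨x, hx⟩
      rw [hzy] at h1
      have e : Subgroup.inclusion hQ₁P ⟨(x : Ω), hx⟩ = x := Subtype.ext rfl
      have h2 : φ' x = (φ'.comp (Subgroup.inclusion hQ₁P)) ⟨(x : Ω), hx⟩ := by
        show φ' x = φ' (Subgroup.inclusion hQ₁P ⟨(x : Ω), hx⟩)
        rw [e]
      rw [h2, h1]
      show φ _ = φ _
      congr 1
    have hcard₁ : Nat.card P - Nat.card ↥(normalizerIn P Q) ≤ n := by
      have h1 := card_lt_card_normalizerIn (S := P) p hPp hQP hne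
      have h2 : Nat.card ↥(normalizerIn P Q) ≤ Nat.card P :=
        Nat.card_le_card_of_injective _ (Subgroup.inclusion_injective hQ₁P)
      omega
    obtain ⟨z₁, hz₁Q₁, hz₁C, hz₁y⟩ := ih (normalizerIn P Q) hQ₁P hQ₁cen hcard₁ _ hφ'' φ' hφ' hagree
    have hz₁CQ : (z₁ : Ω) ∈ Subgroup.centralizer (Q : Set Ω) :=
      Subgroup.centralizer_le (show (Q : Set Ω) ⊆ (normalizerIn P Q : Set Ω) from hQQ₁) hz₁C
    have hz₁Q : (z₁ : Ω) ∈ Q :=
      hCQ (Subgroup.mem_inf.mpr ⟨hPS z₁.2, hz₁CQ⟩)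
    refine ⟨Subgroup.inclusion hQ₁P z * z₁, Q.mul_mem hzQ hz₁Q,
      Subgroup.mul_mem _ hzC hz₁CQ, fun y => ?_⟩
    rw [hz₁y y]
    show φ _ = φ _
    congr 1
    show Subgroup.inclusion hQ₁P z * (z₁ * y * z₁⁻¹) * (Subgroup.inclusion hQ₁P z)⁻¹ = _
    group

/-- In a saturated fusion system, two maps with source `P` agreeing on a centric subgroup
`Q ≤ P` differ by conjugation by an element of `Z(Q)`. -/
theorem eq_comp_conj_of_agree_on_centric [Finite S] (p : ℕ) [Fact p.Prime]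
    (hS : IsPGroup p S) (F : FusionSystem S) (hF : F.IsSaturated p) {P Q : Subgroup Ω}
    (hQP : Q ≤ P) (hQ : F.IsCentric Q) {φ φ' : P →* Ω} (hφ : φ ∈ F.Hom P) (hφ' : φ' ∈ F.Hom P)
    (h : ∀ x : P, (x : Ω) ∈ Q → φ x = φ' x) :
    ∃ z : P, (z : Ω) ∈ Q ∧ (z : Ω) ∈ Subgroup.centralizer (Q : Set Ω) ∧
      ∀ y : P, φ' y = φ (z * y * z⁻¹) :=
  eq_comp_conj_of_agree_on_centric_aux p hS F hF P (F.le_of_mem hφ).1 _ Q hQP hQ le_rfl φ hφ φ' hφ' h

end Cfsg.Agent.Lib.Helper9
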