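import Cfsg.Agent.Lib.Helper9.FusionCentric3

set_option autoImplicit false

namespace Cfsg.Agent.Lib.Helper9

open Cfsg Cfsg.FusionSystem

variable {Ω : Type*} [Group Ω] {S : Subgroup Ω}

/-- A centric subgroup is fully centralized. -/
theorem fullyCentralized_of_centric [Finite S] (F : FusionSystem S) {P : Subgroup Ω}
    (hP : F.IsCentric P) : F.IsFullyCentralized P := by
  refine ⟨hP.1, fun Q hQ => ?_⟩
  have hCQ := hP.2 Q hQ
  obtain ⟨ψ, hψ, hψr⟩ := isConj_symm F hQ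
  have hmap : ∀ c : ↥(centralizerIn S Q), ψ ⟨c, hCQ c.2⟩ ∈ centralizerIn S P := by
    intro c
    rw [mem_centralizerIn]
    refine ⟨(F.le_of_mem hψ).2 _, ?_⟩
    intro x hx
    rw [← hψr] at hx
    obtain ⟨q, rfl⟩ := hx
    have hcomm : (q : Ω) * (c : Ω) = (c : Ω) * (q : Ω) :=
      (mem_centralizerIn.mp c.2).2 q q.2
    have hcomm' : q * (⟨c, hCQ c.2⟩ : Q) = ⟨c, hCQ c.2⟩ * q := Subtype.ext hcomm
    rw [← map_mul, ← map_mul, hcomm']
  have hfin : Finite ↥(centralizerIn S P) := finite_of_le' inf_le_left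
  apply Nat.card_le_card_of_injective
    (fun c : ↥(centralizerIn S Q) => (⟨ψ ⟨c, hCQ c.2⟩, hmap c⟩ : ↥(centralizerIn S P)))
  intro a b hab
  have h1 : ψ ⟨a, hCQ a.2⟩ = ψ ⟨b, hCQ b.2⟩ := congrArg Subtype.val hab
  have h2 := F.injective_of_mem hψ h1
  exact Subtype.ext (congrArg (fun z : Q => (z : Ω)) h2)

/-- Centricity passes to conjugates. -/
theorem centric_of_isConj (F : FusionSystem S) {P Q : Subgroup Ω} (hP : F.IsCentric P)
    (hPQ : F.IsConj P Q) : F.IsCentric Q :=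
  ⟨(isConj_le F hPQ).2, fun _ hQR => hP.2 _ (isConj_trans F hPQ hQR)⟩

/-- Centricity in `F` implies centricity in a subsystem over the same `S`. -/
theorem centric_of_le_system {F F' : FusionSystem S} (hle : F' ≤ F) {P : Subgroup Ω}
    (hP : F.IsCentric P) : F'.IsCentric P := by
  refine ⟨hP.1, ?_⟩
  rintro Q ⟨φ, hφ, hr⟩
  exact hP.2 Q ⟨φ, hle P hφ, hr⟩

/-- **Extension in a subsystem**: if `F' ≤ F` are saturated over `S`, `Q ≤ R` with `Q` centric in
`F`, and `ψ` is a map of `F` on `R` whose restriction to `Q` is a map of `F'`, then `ψ` is a map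
of `F'`. -/
theorem mem_subsystem_of_restrict_centric_aux [Finite S] (p : ℕ) [Fact p.Prime]
    (hS : IsPGroup p S) (F : FusionSystem S) (hF : F.IsSaturated p) (F' : FusionSystem S)
    (hF' : F'.IsSaturated p) (hle : F' ≤ F) (R : Subgroup Ω) (ψ : R →* Ω) (hψ : ψ ∈ F.Hom R) :
    ∀ (n : ℕ) (Q : Subgroup Ω) (hQR : Q ≤ R), F.IsCentric Q → Nat.card R - Nat.card Q ≤ n →
      ψ.comp (Subgroup.inclusion hQR) ∈ F'.Hom Q → ψ ∈ F'.Hom R := by
  have hRS := (F.le_of_mem hψ).1
  have hfinR : Finite R := finite_of_le' hRS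
  have hRp : IsPGroup p R := hS.to_le hRS
  have htriv : ∀ (Q : Subgroup Ω) (hQR : Q ≤ R), Q = R →
      ψ.comp (Subgroup.inclusion hQR) ∈ F'.Hom Q → ψ ∈ F'.Hom R := by
    rintro Q hQR rfl h
    exact h
  intro n
  induction n with
  | zero =>
    intro Q hQR _ hn h
    have hcard : Nat.card R ≤ Nat.card Q := by omega
    exact htriv Q hQR (Subgroup.eq_of_le_of_card_ge hQR hcard) h
  | succ n ih =>
    intro Q hQR hQ hn h
    by_cases hne : Q = R
    · exact htriv Q hQR hne h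
    have hQS := hQ.1
    have hlt := lt_normalizerIn (S := R) p hRp hQR hne
    have hQ₁R : normalizerIn R Q ≤ R := normalizerIn_le_left R Q
    have hQ₁S : normalizerIn R Q ≤ S := hQ₁R.trans hRS
    have hQQ₁ : Q ≤ normalizerIn R Q := hlt.le
    have hQ₁N : normalizerIn R Q ≤ Subgroup.normalizer (Q : Set Ω) := normalizerIn_le_normalizer R Q
    have hQ₁cen : F.IsCentric (normalizerIn R Q) := centric_of_le F hQQ₁ hQ₁S hQ
    have hcard₁ : Nat.card R - Nat.card ↥(normalizerIn R Q) ≤ n := by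
      have h1 := card_lt_card_normalizerIn (S := R) p hRp hQR hne
      have h2 : Nat.card ↥(normalizerIn R Q) ≤ Nat.card R :=
        Nat.card_le_card_of_injective _ (Subgroup.inclusion_injective hQ₁R)
      omega
    apply ih (normalizerIn R Q) hQ₁R hQ₁cen hcard₁
    -- the image of Q is centric in F', hence receptive in F'
    have hιF : ψ.comp (Subgroup.inclusion hQR) ∈ F.Hom Q := hle Q h
    have hQ'cen : F.IsCentric (ψ.comp (Subgroup.inclusion hQR)).range :=
      centric_of_isConj F hQ ⟨_, hιF, rfl⟩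
    have hQ'cen' : F'.IsCentric (ψ.comp (Subgroup.inclusion hQR)).range :=
      centric_of_le_system hle hQ'cen
    have hrec := sat_fullyCentralized_receptive p hS F' hF' (fullyCentralized_of_centric F' hQ'cen')
    obtain ⟨χ, hχ, hχι⟩ := hrec.2 Q _ h rfl
    have hNle : normalizerIn R Q ≤ extender S Q (ψ.comp (Subgroup.inclusion hQR)) := by
      intro g hg
      apply Subgroup.subset_closure
      refine ⟨hQ₁S hg, hQ₁N hg, ψ ⟨g, hQ₁R hg⟩, (F.le_of_mem hψ).2 _, ?_⟩
      intro x hx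
      show ψ (Subgroup.inclusion hQR ⟨g * (x : Ω) * g⁻¹, hx⟩) =
        ψ ⟨g, hQ₁R hg⟩ * ψ (Subgroup.inclusion hQR x) * (ψ ⟨g, hQ₁R hg⟩)⁻¹
      rw [← map_inv, ← map_mul, ← map_mul]
      congr 1
    have hχ₁ := restrict_mem F' hχ hNle
    have hχ₁F : χ.comp (Subgroup.inclusion hNle) ∈ F.Hom (normalizerIn R Q) := hle _ hχ₁
    have hψ₁ := restrict_mem F hψ hQ₁R
    have hagree : ∀ x : ↥(normalizerIn R Q), (x : Ω) ∈ Q →
        (χ.comp (Subgroup.inclusion hNle)) x = (ψ.comp (Subgroup.inclusion hQ₁R)) x := by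
      intro x hx
      exact hχι (x : Ω) hx (hNle x.2)
    obtain ⟨z, -, -, hzy⟩ :=
      eq_comp_conj_of_agree_on_centric p hS F hF hQQ₁ hQ hχ₁F hψ₁ hagree
    have h3 := comp_conj_mem F' hχ₁ z
    have : ψ.comp (Subgroup.inclusion hQ₁R) =
        (χ.comp (Subgroup.inclusion hNle)).comp (MulAut.conj z).toMonoidHom := by
      ext y
      exact hzy y
    rw [this]
    exact h3

theorem mem_subsystem_of_restrict_centric [Finite S] (p : ℕ) [Fact p.Prime]
    (hS : IsPGroup p S) (F : FusionSystem S) (hF : F.IsSaturated p) (F' : FusionSystem S)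
    (hF' : F'.IsSaturated p) (hle : F' ≤ F) {Q R : Subgroup Ω} (hQR : Q ≤ R)
    (hQ : F.IsCentric Q) {ψ : R →* Ω} (hψ : ψ ∈ F.Hom R)
    (h : ψ.comp (Subgroup.inclusion hQR) ∈ F'.Hom Q) : ψ ∈ F'.Hom R :=
  mem_subsystem_of_restrict_centric_aux p hS F hF F' hF' hle R ψ hψ _ Q hQR hQ le_rfl h

end Cfsg.Agent.Lib.Helper9
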