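import Cfsg.Agent.Lib.Helper9.FusionChain

set_option autoImplicit false

namespace Cfsg.Agent.Lib.Helper9

open Cfsg Cfsg.FusionSystem
open scoped commutatorElement

variable {Ω : Type*} [Group Ω] {S : Subgroup Ω}

/-- In a finite `p`-group `S`, if `P` normalizes `Q` and `N_Q(P) ≤ P`, then `Q ≤ P`. -/
theorem le_of_forall_mem_normalizer_mem [Finite S] (p : ℕ) [Fact p.Prime] (hS : IsPGroup p S)
    {P Q : Subgroup Ω} (hPS : P ≤ S) (hQS : Q ≤ S) (hPNQ : P ≤ Subgroup.normalizer (Q : Set Ω))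
    (h : ∀ b ∈ Q, b ∈ Subgroup.normalizer (P : Set Ω) → b ∈ P) : Q ≤ P := by
  have hTS : P ⊔ Q ≤ S := sup_le hPS hQS
  have hfinT : Finite ↥(P ⊔ Q) := finite_of_le' hTS
  have hTp : IsPGroup p ↥(P ⊔ Q) := hS.to_le hTS
  have hPT : P = P ⊔ Q := by
    by_contra hne
    have hlt := lt_normalizerIn (S := P ⊔ Q) p hTp le_sup_left hne
    obtain ⟨g, hgN, hgP⟩ := SetLike.exists_of_lt hlt
    obtain ⟨y, hy, b, hb, rfl⟩ :=
      exists_mul_of_mem_sup_of_le_normalizer hPNQ (Subgroup.mem_inf.mp hgN).1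
    have hbN : b ∈ Subgroup.normalizer (P : Set Ω) := by
      have h1 : y * b ∈ Subgroup.normalizer (P : Set Ω) := (Subgroup.mem_inf.mp hgN).2
      have h2 : b = y⁻¹ * (y * b) := by group
      rw [h2]
      exact Subgroup.mul_mem _ (Subgroup.inv_mem _ (Subgroup.le_normalizer hy)) h1
    exact hgP (P.mul_mem hy (h b hb hbN))
  rw [hPT]
  exact le_sup_right

/-- A strongly closed subgroup is normalized by `S`. -/
theorem le_normalizer_of_stronglyClosed [Finite S] (F : FusionSystem S) {Q : Subgroup Ω}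
    (hQ : F.StronglyClosed Q) : S ≤ Subgroup.normalizer (Q : Set Ω) := by
  have hfinQ : Finite Q := finite_of_le' hQ.1
  intro y hy
  exact mem_normalizer_of_conj_mem_of_finite
    (fun q hq => conj_mem_of_stronglyClosed F hQ hy hq)

end Cfsg.Agent.Lib.Helper9
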