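import Cfsg.Agent.Lib.Helper9.FusionChain2

set_option autoImplicit false

namespace Cfsg.Agent.Lib.Helper9

open Cfsg Cfsg.FusionSystem

variable {Ω : Type*} [Group Ω] {S : Subgroup Ω}

/-- An element of `N_S(P)`, `P` centric radical, whose conjugation action stabilizes an
`Aut_F(P)`-invariant chain from `1` to `P`, lies in `P`. -/
theorem mem_of_stabilizes_chain [Finite S] (p : ℕ) [Fact p.Prime] (hS : IsPGroup p S)
    (F : FusionSystem S) {P : Subgroup Ω} (hcen : F.IsCentric P) (hrad : F.IsRadical p P)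
    (R : ℕ → Subgroup P) (m : ℕ) (hm : R m = ⊤) (h0 : R 0 = ⊥)
    (hRinv : ∀ α ∈ F.autGroup P, ∀ j, ∀ x ∈ R j, α x ∈ R j) {b : Ω} (hbS : b ∈ S)
    (hbN : b ∈ Subgroup.normalizer (P : Set Ω))
    (hb : ∀ j, ∀ x ∈ R (j + 1), x⁻¹ * normConj P ⟨b, hbN⟩ x ∈ R j) : b ∈ P := by
  have hPS := hcen.1
  have hfinP : Finite P := finite_of_le' hPS
  have hPp : IsPGroup p P := hS.to_le hPS
  have hXp : IsPGroup p (stabSub (F.autGroup P) R hRinv) := by
    apply stabSub_isPGroup p hPp (F.autGroup P) R hRinv m hm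
    intro α _
    refine ⟨0, ?_⟩
    intro x hx
    rw [h0, Subgroup.mem_bot] at hx
    rw [hx, map_one]
  have hXn := stabSub_normal (F.autGroup P) R hRinv
  have hXA := stabSub_le (F.autGroup P) R hRinv
  apply mem_of_centric_radical_of_normal_pgroup p F hcen hrad _ hXA hXn hXp hbS hbN
  rw [mem_stabSub]
  exact ⟨autInducedBy_le_autGroup F hPS (Subgroup.subset_closure ⟨b, hbS, fun x => rfl⟩), hb⟩

/-- A weakly closed subgroup is normalized by `S`. -/
theorem le_normalizer_of_weaklyClosed [Finite S] (F : FusionSystem S) {Q : Subgroup Ω}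
    (hQ : F.WeaklyClosed Q) : S ≤ Subgroup.normalizer (Q : Set Ω) := by
  have hfinQ : Finite Q := finite_of_le' hQ.1
  intro y hy
  apply mem_normalizer_of_conj_mem_of_finite
  intro q hq
  have h1 := hQ.2 _ (F.conj_mem hQ.1 hy)
  have h2 : conjHom Q y ⟨q, hq⟩ ∈ (conjHom Q y).range := ⟨_, rfl⟩
  rw [h1] at h2
  exact h2

/-- `F`-automorphisms of `P` preserve weakly closed subgroups of `P`. -/
theorem aut_mem_of_weaklyClosed (F : FusionSystem S) {P B : Subgroup Ω} (hPS : P ≤ S)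
    (hB : F.WeaklyClosed B) (hBP : B ≤ P) {α : MulAut P} (hα : α ∈ F.autGroup P) (x : P)
    (hx : (x : Ω) ∈ B) : ((α x : P) : Ω) ∈ B := by
  have hφ := (mem_autGroup_iff F hPS α).mp hα
  have h1 := hB.2 _ (restrict_mem F hφ hBP)
  have h2 : ((P.subtype.comp α.toMonoidHom).comp (Subgroup.inclusion hBP)) ⟨x, hx⟩ ∈
      ((P.subtype.comp α.toMonoidHom).comp (Subgroup.inclusion hBP)).range := ⟨_, rfl⟩
  rw [h1] at h2
  exact h2

/-- A strongly closed subgroup of a finite `S` is weakly closed. -/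
theorem weaklyClosed_of_stronglyClosed [Finite S] (F : FusionSystem S) {Q : Subgroup Ω}
    (hQ : F.StronglyClosed Q) : F.WeaklyClosed Q := by
  refine ⟨hQ.1, fun φ hφ => ?_⟩
  have hfinQ : Finite Q := finite_of_le' hQ.1
  have hle : φ.range ≤ Q := by
    rintro _ ⟨x, rfl⟩
    exact hQ.2 Q le_rfl φ hφ x
  have hcard : Nat.card φ.range = Nat.card Q :=
    (Nat.card_congr (Equiv.ofInjective φ (F.injective_of_mem hφ))).symm
  exact Subgroup.eq_of_le_of_card_ge hle hcard.ge

end Cfsg.Agent.Lib.Helper9
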