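import Cfsg.Agent.Lib.Helper9.FusionChain
import Cfsg.Agent.Lib.Helper9.FusionCentric
import Cfsg.Agent.Lib.Helper9.Fusion2
import Cfsg.Agent.Lib.Helper9.FusionNorm
import Cfsg.Agent.S5086
import Cfsg.Agent.S5088

set_option autoImplicit false
set_option maxHeartbeats 1600000

namespace Cfsg.Agent.Lib.Helper9

open Cfsg Cfsg.FusionSystem
open scoped commutatorElement

variable {Ω : Type*} [Group Ω] {S : Subgroup Ω}

/-- The intersection of a normal subgroup and a strongly closed subgroup is normal. -/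
theorem isNormal_inf_stronglyClosed [Finite S] (F : FusionSystem S) {Q U : Subgroup Ω}
    (hQ : F.IsNormal Q) (hU : F.StronglyClosed U) : F.IsNormal (Q ⊓ U) := by
  refine ⟨inf_le_left.trans hQ.1, ?_⟩
  intro P φ hφ
  obtain ⟨ψ, hψ, hψP, hψQ⟩ := hQ.2 P φ hφ
  rw [map_subgroupOf_eq_iff] at hψQ
  have hle : P ⊔ (Q ⊓ U) ≤ P ⊔ Q := sup_le_sup_left inf_le_left P
  have hRfin : Finite ↥(Q ⊓ U) := finite_of_le' (inf_le_left.trans hQ.1)
  refine ⟨ψ.comp (Subgroup.inclusion hle), restrict_mem F hψ hle, ?_, ?_⟩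
  · intro x
    rw [← hψP x]
    rfl
  · rw [map_subgroupOf_eq_iff]
    have hmem : ∀ q : ↥(Q ⊓ U), (ψ.comp (Subgroup.inclusion hle))
        (Subgroup.inclusion le_sup_right q) ∈ Q ⊓ U := by
      intro q
      refine Subgroup.mem_inf.mpr ⟨?_, ?_⟩
      · exact hψQ.1 ⟨q, (Subgroup.mem_inf.mp q.2).1⟩
      · have hleR : Q ⊓ U ≤ P ⊔ Q := inf_le_left.trans le_sup_right
        exact hU.2 (Q ⊓ U) inf_le_right _ (restrict_mem F hψ hleR) q
    refine ⟨hmem, ?_⟩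
    have hinj : Function.Injective (fun q : ↥(Q ⊓ U) =>
        (⟨_, hmem q⟩ : ↥(Q ⊓ U))) := by
      intro a b hab
      have h1 : ψ (Subgroup.inclusion hle (Subgroup.inclusion le_sup_right a)) =
          ψ (Subgroup.inclusion hle (Subgroup.inclusion le_sup_right b)) := congrArg Subtype.val hab
      have h2 := F.injective_of_mem hψ h1
      apply Subtype.ext
      have h3 := congrArg Subtype.val h2
      exact h3
    have hsurj := Finite.injective_iff_surjective.mp hinj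
    intro y hy
    obtain ⟨q, hq⟩ := hsurj ⟨y, hy⟩
    exact ⟨q, congrArg Subtype.val hq⟩

/-- A map of the system carries elements centralizing a normal subgroup `R` to elements
centralizing `R`. -/
theorem map_mem_centralizer_of_isNormal (F : FusionSystem S) {R : Subgroup Ω} (hR : F.IsNormal R)
    {P : Subgroup Ω} {φ : P →* Ω} (hφ : φ ∈ F.Hom P) (x : P)
    (hx : (x : Ω) ∈ Subgroup.centralizer (R : Set Ω)) :
    φ x ∈ Subgroup.centralizer (R : Set Ω) := by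
  obtain ⟨ψ, hψ, hψP, hψR⟩ := hR.2 P φ hφ
  rw [map_subgroupOf_eq_iff] at hψR
  intro r hr
  obtain ⟨r', hr'⟩ := hψR.2 r hr
  rw [← hr', ← hψP x, ← map_mul, ← map_mul]
  congr 1
  apply Subtype.ext
  exact hx (r' : Ω) r'.2

/-- A map of the system carries elements of a normal subgroup `R` into `R`. -/
theorem map_mem_of_isNormal (F : FusionSystem S) {R : Subgroup Ω} (hR : F.IsNormal R)
    {P : Subgroup Ω} {φ : P →* Ω} (hφ : φ ∈ F.Hom P) (x : P) (hx : (x : Ω) ∈ R) : φ x ∈ R := by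
  obtain ⟨ψ, hψ, hψP, hψR⟩ := hR.2 P φ hφ
  rw [map_subgroupOf_eq_iff] at hψR
  rw [← hψP x]
  have := hψR.1 ⟨x, hx⟩
  exact this

/-- A saturated subsystem of a constrained fusion system over a strongly closed subgroup is
constrained. -/
theorem constrained_of_subsystem [Finite S] (p : ℕ) [Fact p.Prime] (hS : IsPGroup p S)
    (F : FusionSystem S) (hF : F.IsConstrained p) {U : Subgroup Ω} (D : FusionSystem U)
    (hD : D.IsSaturated p) (hDF : D.IsSubsystemOf F) (hU : F.StronglyClosed U) :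
    D.IsConstrained p := by
  obtain ⟨hFsat, Q₁, hQ₁n, hQ₁c⟩ := hF
  have hQn : F.IsNormal F.core := isNormal_core F
  have hQS := hQn.1
  have hQc : F.IsCentric F.core := centric_of_le F (le_sSup hQ₁n) hQS hQ₁c
  have hCQ : centralizerIn S F.core ≤ F.core := hQc.2 _ (isConj_refl F hQS)
  have hUS := hU.1
  haveI hfinU : Finite U := finite_of_le' hUS
  have hUp : IsPGroup p U := hS.to_le hUS
  have hQsc : F.StronglyClosed F.core := ((Cfsg.Agent.S5086.result p hS F hFsat _).mp hQn).1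
  have hRn : F.IsNormal (F.core ⊓ U) := isNormal_inf_stronglyClosed F hQn hU
  have hRsc : F.StronglyClosed (F.core ⊓ U) :=
    ((Cfsg.Agent.S5086.result p hS F hFsat _).mp hRn).1
  have hRS : F.core ⊓ U ≤ S := hRn.1
  -- `Y = C_U(R)` and `Z(R)`
  have hYsc : F.StronglyClosed (U ⊓ Subgroup.centralizer ((F.core ⊓ U : Subgroup Ω) : Set Ω)) := by
    refine ⟨inf_le_left.trans hUS, ?_⟩
    intro P hP φ hφ x
    exact Subgroup.mem_inf.mpr ⟨hU.2 P (hP.trans inf_le_left) φ hφ x,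
      map_mem_centralizer_of_isNormal F hRn hφ x (Subgroup.mem_inf.mp (hP x.2)).2⟩
  have hZsc : F.StronglyClosed ((F.core ⊓ U) ⊓
      Subgroup.centralizer ((F.core ⊓ U : Subgroup Ω) : Set Ω)) := by
    refine ⟨inf_le_left.trans hRS, ?_⟩
    intro P hP φ hφ x
    exact Subgroup.mem_inf.mpr ⟨map_mem_of_isNormal F hRn hφ x (Subgroup.mem_inf.mp (hP x.2)).1,
      map_mem_centralizer_of_isNormal F hRn hφ x (Subgroup.mem_inf.mp (hP x.2)).2⟩
  -- the cocycle property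
  have hcoc : ∀ y ∈ U ⊓ Subgroup.centralizer ((F.core ⊓ U : Subgroup Ω) : Set Ω), ∀ q ∈ F.core,
      q⁻¹ * (y * q * y⁻¹) ∈ (F.core ⊓ U) ⊓
        Subgroup.centralizer ((F.core ⊓ U : Subgroup Ω) : Set Ω) := by
    intro y hy q hq
    obtain ⟨hyU, hyC⟩ := Subgroup.mem_inf.mp hy
    have hyS : y ∈ S := hUS hyU
    have hqS : q ∈ S := hQS hq
    refine Subgroup.mem_inf.mpr ⟨Subgroup.mem_inf.mpr ⟨?_, ?_⟩, ?_⟩
    · exact Subgroup.mul_mem _ (Subgroup.inv_mem _ hq) (conj_mem_of_stronglyClosed F hQsc hyS hq)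
    · have h1 := conj_mem_of_stronglyClosed F hU (S.inv_mem hqS) hyU
      have e : q⁻¹ * (y * q * y⁻¹) = (q⁻¹ * y * q⁻¹⁻¹) * y⁻¹ := by group
      rw [e]
      exact Subgroup.mul_mem _ h1 (Subgroup.inv_mem _ hyU)
    · rw [Subgroup.mem_centralizer_iff]
      intro r hr
      have e1 : Commute y r := (hyC r hr).symm
      have hc1 : Commute y⁻¹ r := e1.inv_left
      have hr' : q * r * q⁻¹ ∈ F.core ⊓ U := conj_mem_of_stronglyClosed F hRsc hqS hr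
      have e2 : y * (q * r * q⁻¹) = (q * r * q⁻¹) * y := (hyC _ hr').symm
      symm
      calc q⁻¹ * (y * q * y⁻¹) * r = q⁻¹ * (y * q * (y⁻¹ * r)) := by group
        _ = q⁻¹ * (y * q * (r * y⁻¹)) := by rw [hc1.eq]
        _ = q⁻¹ * ((y * (q * r * q⁻¹)) * q * y⁻¹) := by group
        _ = q⁻¹ * (((q * r * q⁻¹) * y) * q * y⁻¹) := by rw [e2]
        _ = r * (q⁻¹ * (y * q * y⁻¹)) := by group
  have hconj2 : ∀ y₁ ∈ U ⊓ Subgroup.centralizer ((F.core ⊓ U : Subgroup Ω) : Set Ω),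
      ∀ y₂ ∈ U ⊓ Subgroup.centralizer ((F.core ⊓ U : Subgroup Ω) : Set Ω), ∀ q ∈ F.core,
      y₁ * y₂ * q * (y₁ * y₂)⁻¹ = q * (q⁻¹ * (y₁ * q * y₁⁻¹)) * (q⁻¹ * (y₂ * q * y₂⁻¹)) := by
    intro y₁ hy₁ y₂ hy₂ q hq
    have hr₂ := hcoc y₂ hy₂ q hq
    have hr₂R : q⁻¹ * (y₂ * q * y₂⁻¹) ∈ F.core ⊓ U := (Subgroup.mem_inf.mp hr₂).1
    have e1 : y₁ * (q⁻¹ * (y₂ * q * y₂⁻¹)) = (q⁻¹ * (y₂ * q * y₂⁻¹)) * y₁ :=
      ((Subgroup.mem_inf.mp hy₁).2 _ hr₂R).symm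
    calc y₁ * y₂ * q * (y₁ * y₂)⁻¹
        = y₁ * q * (y₁⁻¹ * (y₁ * (q⁻¹ * (y₂ * q * y₂⁻¹)))) * y₁⁻¹ := by group
      _ = y₁ * q * (y₁⁻¹ * ((q⁻¹ * (y₂ * q * y₂⁻¹)) * y₁)) * y₁⁻¹ := by rw [e1]
      _ = q * (q⁻¹ * (y₁ * q * y₁⁻¹)) * (q⁻¹ * (y₂ * q * y₂⁻¹)) := by group
  have hcomm : ∀ y₁ ∈ U ⊓ Subgroup.centralizer ((F.core ⊓ U : Subgroup Ω) : Set Ω),
      ∀ y₂ ∈ U ⊓ Subgroup.centralizer ((F.core ⊓ U : Subgroup Ω) : Set Ω),
      ⁅y₁, y₂⁆ ∈ (F.core ⊓ U) ⊓ Subgroup.centralizer ((F.core ⊓ U : Subgroup Ω) : Set Ω) := by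
    intro y₁ hy₁ y₂ hy₂
    have hcU : ⁅y₁, y₂⁆ ∈ U := by
      rw [commutatorElement_def]
      have h1 := (Subgroup.mem_inf.mp hy₁).1
      have h2 := (Subgroup.mem_inf.mp hy₂).1
      exact U.mul_mem (U.mul_mem (U.mul_mem h1 h2) (U.inv_mem h1)) (U.inv_mem h2)
    have hcS : ⁅y₁, y₂⁆ ∈ S := hUS hcU
    -- `y₁ y₂` and `y₂ y₁` act the same way on `Q`
    have hsame : ∀ q ∈ F.core, y₁ * y₂ * q * (y₁ * y₂)⁻¹ = y₂ * y₁ * q * (y₂ * y₁)⁻¹ := by
      intro q hq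
      rw [hconj2 y₁ hy₁ y₂ hy₂ q hq, hconj2 y₂ hy₂ y₁ hy₁ q hq]
      have hr₁ := hcoc y₁ hy₁ q hq
      have hr₂ := hcoc y₂ hy₂ q hq
      have hr₂R : q⁻¹ * (y₂ * q * y₂⁻¹) ∈ F.core ⊓ U := (Subgroup.mem_inf.mp hr₂).1
      have e := (Subgroup.mem_inf.mp hr₁).2 _ hr₂R
      generalize q⁻¹ * (y₁ * q * y₁⁻¹) = r₁ at e ⊢
      generalize q⁻¹ * (y₂ * q * y₂⁻¹) = r₂ at e ⊢
      rw [mul_assoc, mul_assoc, e]
    have hcQ : ⁅y₁, y₂⁆ ∈ Subgroup.centralizer ((F.core : Subgroup Ω) : Set Ω) := by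
      rw [Subgroup.mem_centralizer_iff]
      intro q hq
      have hy₁S : y₁ ∈ S := hUS (Subgroup.mem_inf.mp hy₁).1
      have hy₂S : y₂ ∈ S := hUS (Subgroup.mem_inf.mp hy₂).1
      have hq' : (y₂ * y₁)⁻¹ * q * ((y₂ * y₁)⁻¹)⁻¹ ∈ F.core :=
        conj_mem_of_stronglyClosed F hQsc (S.inv_mem (S.mul_mem hy₂S hy₁S)) hq
      have h1 := hsame _ hq'
      have h2 : y₂ * y₁ * ((y₂ * y₁)⁻¹ * q * ((y₂ * y₁)⁻¹)⁻¹) * (y₂ * y₁)⁻¹ = q := by group
      rw [h2] at h1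
      rw [commutatorElement_def]
      calc q * (y₁ * y₂ * y₁⁻¹ * y₂⁻¹)
          = (y₁ * y₂ * ((y₂ * y₁)⁻¹ * q * ((y₂ * y₁)⁻¹)⁻¹) * (y₁ * y₂)⁻¹) *
              (y₁ * y₂ * y₁⁻¹ * y₂⁻¹) := by rw [h1]
        _ = y₁ * y₂ * y₁⁻¹ * y₂⁻¹ * q := by group
    have hcQ' : ⁅y₁, y₂⁆ ∈ F.core := hCQ (Subgroup.mem_inf.mpr ⟨hcS, hcQ⟩)
    refine Subgroup.mem_inf.mpr ⟨Subgroup.mem_inf.mpr ⟨hcQ', hcU⟩, ?_⟩
    rw [Subgroup.mem_centralizer_iff]
    intro r hr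
    exact hcQ r (Subgroup.mem_inf.mp hr).1
  -- `Y` is normal in `F`
  have hYn : F.IsNormal (U ⊓ Subgroup.centralizer ((F.core ⊓ U : Subgroup Ω) : Set Ω)) := by
    rw [Cfsg.Agent.S5088.result p hS F hFsat]
    refine ⟨2, ![⊥, (F.core ⊓ U) ⊓ Subgroup.centralizer ((F.core ⊓ U : Subgroup Ω) : Set Ω),
      U ⊓ Subgroup.centralizer ((F.core ⊓ U : Subgroup Ω) : Set Ω)], rfl, rfl, ?_, ?_⟩
    · have hle : (F.core ⊓ U) ⊓ Subgroup.centralizer ((F.core ⊓ U : Subgroup Ω) : Set Ω) ≤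
          U ⊓ Subgroup.centralizer ((F.core ⊓ U : Subgroup Ω) : Set Ω) :=
        inf_le_inf_right _ inf_le_right
      intro i j hij
      fin_cases i <;> fin_cases j <;> first | exact le_rfl | exact bot_le | exact hle |
        (exfalso; revert hij; decide)
    · intro i
      fin_cases i
      · refine ⟨hZsc, ?_⟩
        show ⁅_, (F.core ⊓ U) ⊓ Subgroup.centralizer ((F.core ⊓ U : Subgroup Ω) : Set Ω)⁆ ≤ ⊥
        rw [Subgroup.commutator_le]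
        intro y hy z hz
        rw [Subgroup.mem_bot, commutatorElement_eq_one_iff_mul_comm]
        exact ((Subgroup.mem_inf.mp hy).2 z (Subgroup.mem_inf.mp hz).1).symm
      · refine ⟨hYsc, ?_⟩
        show ⁅_, U ⊓ Subgroup.centralizer ((F.core ⊓ U : Subgroup Ω) : Set Ω)⁆ ≤
          (F.core ⊓ U) ⊓ Subgroup.centralizer ((F.core ⊓ U : Subgroup Ω) : Set Ω)
        rw [Subgroup.commutator_le]
        intro y hy z hz
        exact hcomm y hy z hz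
  have hYQ : U ⊓ Subgroup.centralizer ((F.core ⊓ U : Subgroup Ω) : Set Ω) ≤ F.core :=
    le_sSup hYn
  -- `R` is normal in `D`
  have hRD : D.IsNormal (F.core ⊓ U) := by
    obtain ⟨n, Qs, h0, hlast, hmono, hstep⟩ :=
      (Cfsg.Agent.S5088.result p hS F hFsat (F.core ⊓ U)).mp hRn
    rw [Cfsg.Agent.S5088.result p hUp D hD]
    refine ⟨n, Qs, h0, hlast, hmono, fun i => ⟨?_, (hstep i).2⟩⟩
    have hle : Qs i.succ ≤ U := by
      have h1 : Qs i.succ ≤ Qs (Fin.last n) := hmono (Fin.le_last _)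
      rw [hlast] at h1
      exact h1.trans inf_le_right
    exact ⟨hle, fun P hP φ hφ x => (hstep i).1.2 P hP φ (hDF P hφ) x⟩
  refine ⟨hD, F.core ⊓ U, hRD, inf_le_right, ?_⟩
  rintro R' ⟨φ, hφ, rfl⟩
  have hRDsc : D.StronglyClosed (F.core ⊓ U) :=
    ((Cfsg.Agent.S5086.result p hUp D hD _).mp hRD).1
  have hfinR : Finite ↥(F.core ⊓ U) := finite_of_le' hRS
  have hrange : φ.range = F.core ⊓ U := by
    have hle : φ.range ≤ F.core ⊓ U := by
      rintro _ ⟨x, rfl⟩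
      exact hRDsc.2 _ le_rfl φ hφ x
    have hinj := D.injective_of_mem hφ
    have hcard : Nat.card φ.range = Nat.card ↥(F.core ⊓ U) :=
      (Nat.card_congr (Equiv.ofInjective φ hinj)).symm
    exact Subgroup.eq_of_le_of_card_ge hle hcard.ge
  rw [hrange]
  intro g hg
  have hg' : g ∈ U ⊓ Subgroup.centralizer ((F.core ⊓ U : Subgroup Ω) : Set Ω) := hg
  exact Subgroup.mem_inf.mpr ⟨hYQ hg', (Subgroup.mem_inf.mp hg').1⟩

end Cfsg.Agent.Lib.Helper9
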