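import Cfsg.Agent.Lib.Helper9.FusionSat

set_option autoImplicit false

namespace Cfsg.Agent.Lib.Helper9

open Cfsg Cfsg.FusionSystem

variable {Ω : Type*} [Group Ω] {S : Subgroup Ω}

theorem isConj_trans (F : FusionSystem S) {P Q R : Subgroup Ω} (h₁ : F.IsConj P Q)
    (h₂ : F.IsConj Q R) : F.IsConj P R := by
  obtain ⟨φ, hφ, rfl⟩ := h₁
  obtain ⟨ψ, hψ, rfl⟩ := h₂
  refine ⟨ψ.comp (φ.codRestrict φ.range (fun x => ⟨x, rfl⟩)), F.comp_mem hφ hψ _, ?_⟩
  ext y
  constructor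
  · rintro ⟨x, rfl⟩
    exact ⟨_, rfl⟩
  · rintro ⟨⟨_, x, rfl⟩, rfl⟩
    exact ⟨x, rfl⟩

theorem isConj_le (F : FusionSystem S) {P Q : Subgroup Ω} (h : F.IsConj P Q) : P ≤ S ∧ Q ≤ S := by
  obtain ⟨φ, hφ, rfl⟩ := h
  refine ⟨(F.le_of_mem hφ).1, ?_⟩
  rintro _ ⟨x, rfl⟩
  exact (F.le_of_mem hφ).2 x

theorem card_eq_of_isConj (F : FusionSystem S) {P Q : Subgroup Ω} (h : F.IsConj P Q) :
    Nat.card Q = Nat.card P := by
  obtain ⟨φ, hφ, rfl⟩ := h
  exact Nat.card_congr (Equiv.ofInjective φ (F.injective_of_mem hφ)).symm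

/-- Every conjugacy class of subgroups of a finite `S` contains a fully normalized member. -/
theorem exists_fullyNormalized_conj [Finite S] (F : FusionSystem S) {P : Subgroup Ω} (hP : P ≤ S) :
    ∃ Q, F.IsConj P Q ∧ F.IsFullyNormalized Q := by
  classical
  let A : Set ℕ := {n | ∃ Q, F.IsConj P Q ∧ Nat.card (normalizerIn S Q) = n}
  have hAne : A.Nonempty := ⟨_, P, isConj_refl F hP, rfl⟩
  have hAbdd : BddAbove A := by
    refine ⟨Nat.card S, ?_⟩
    rintro n ⟨Q, -, rfl⟩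
    exact Nat.card_le_card_of_injective _ (Subgroup.inclusion_injective (normalizerIn_le_left S Q))
  obtain ⟨Q₀, hQ₀, hQ₀card⟩ := Nat.sSup_mem hAne hAbdd
  refine ⟨Q₀, hQ₀, (isConj_le F hQ₀).2, ?_⟩
  intro Q' hQ'
  rw [hQ₀card]
  exact le_csSup hAbdd ⟨Q', isConj_trans F hQ₀ hQ', rfl⟩

/-- Every conjugacy class of subgroups of a finite `S` contains a fully centralized member. -/
theorem exists_fullyCentralized_conj [Finite S] (F : FusionSystem S) {P : Subgroup Ω} (hP : P ≤ S) :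
    ∃ Q, F.IsConj P Q ∧ F.IsFullyCentralized Q := by
  classical
  let A : Set ℕ := {n | ∃ Q, F.IsConj P Q ∧ Nat.card (centralizerIn S Q) = n}
  have hAne : A.Nonempty := ⟨_, P, isConj_refl F hP, rfl⟩
  have hAbdd : BddAbove A := by
    refine ⟨Nat.card S, ?_⟩
    rintro n ⟨Q, -, rfl⟩
    exact Nat.card_le_card_of_injective _ (Subgroup.inclusion_injective (centralizerIn_le_left S Q))
  obtain ⟨Q₀, hQ₀, hQ₀card⟩ := Nat.sSup_mem hAne hAbdd
  refine ⟨Q₀, hQ₀, (isConj_le F hQ₀).2, ?_⟩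
  intro Q' hQ'
  rw [hQ₀card]
  exact le_csSup hAbdd ⟨Q', isConj_trans F hQ₀ hQ', rfl⟩

/-- Data attached to an isomorphism of the system. -/
theorem exists_iso_data (F : FusionSystem S) {P P₀ : Subgroup Ω} {θ : P →* Ω} (hθ : θ ∈ F.Hom P)
    (hr : θ.range = P₀) :
    ∃ (θ' : P ≃* P₀) (θi : P₀ →* Ω), (∀ x, ((θ' x : P₀) : Ω) = θ x) ∧ θi ∈ F.Hom P₀ ∧
      (∀ y : P₀, θi y = ((θ'.symm y : P) : Ω)) ∧ θi.range = P := by
  have hθinj := F.injective_of_mem hθ
  have hθP : ∀ x : P, θ x ∈ P₀ := fun x => by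
    have : θ x ∈ θ.range := ⟨x, rfl⟩
    rw [hr] at this; exact this
  have hbij : Function.Bijective (θ.codRestrict P₀ hθP) := by
    constructor
    · intro x y hxy
      exact hθinj (congrArg Subtype.val hxy)
    · intro y
      have hy : (y : Ω) ∈ θ.range := by rw [hr]; exact y.2
      obtain ⟨x, hx⟩ := hy
      exact ⟨x, Subtype.ext hx⟩
  obtain ⟨θ', hθ'def⟩ : ∃ θ' : P ≃* P₀, θ' = MulEquiv.ofBijective (θ.codRestrict P₀ hθP) hbij := ⟨_, rfl⟩
  have hθ'val : ∀ x : P, ((θ' x : P₀) : Ω) = θ x := fun x => by rw [hθ'def]; rfl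
  obtain ⟨θi, hθi, hθiθ, hθir⟩ := exists_inv_hom F hθ hr
  refine ⟨θ', θi, hθ'val, hθi, ?_, hθir⟩
  intro y
  have h1 := hθiθ (θ'.symm y) (hθP _)
  have h2 : (⟨θ (θ'.symm y), hθP _⟩ : P₀) = y := by
    apply Subtype.ext
    show θ (θ'.symm y) = y
    rw [← hθ'val, MulEquiv.apply_symm_apply]
  rw [h2] at h1
  exact h1

/-- Transport of `Aut_F` along an isomorphism of the system. -/
theorem map_congr_autGroup_le (F : FusionSystem S) {P P₀ : Subgroup Ω} {θ : P →* Ω}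
    (hθ : θ ∈ F.Hom P) (θ' : P ≃* P₀) (θi : P₀ →* Ω) (hθ' : ∀ x, ((θ' x : P₀) : Ω) = θ x)
    (hθi : θi ∈ F.Hom P₀) (hθi' : ∀ y : P₀, θi y = ((θ'.symm y : P) : Ω)) :
    (F.autGroup P).map (MulAut.congr θ').toMonoidHom ≤ F.autGroup P₀ := by
  have hPS : P ≤ S := (F.le_of_mem hθ).1
  rintro _ ⟨β, hβ, rfl⟩
  rw [SetLike.mem_coe, mem_autGroup_iff F hPS] at hβ
  apply Subgroup.subset_closure
  have hθiP : ∀ y : P₀, θi y ∈ P := fun y => by rw [hθi']; exact (θ'.symm y).2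
  have h1 := F.comp_mem hθi hβ hθiP
  have hc : ∀ y : P₀, ((P.subtype.comp β.toMonoidHom).comp (θi.codRestrict P hθiP)) y ∈ P :=
    fun y => (β _).2
  have h2 := F.comp_mem h1 hθ hc
  have : θ.comp (((P.subtype.comp β.toMonoidHom).comp (θi.codRestrict P hθiP)).codRestrict P hc) =
      P₀.subtype.comp ((MulAut.congr θ').toMonoidHom β).toMonoidHom := by
    ext y
    show θ ⟨((β (θi.codRestrict P hθiP y) : P) : Ω), _⟩ = ((θ' (β (θ'.symm y)) : P₀) : Ω)
    rw [hθ']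
    congr 1
    apply Subtype.ext
    show ((β (θi.codRestrict P hθiP y) : P) : Ω) = ((β (θ'.symm y) : P) : Ω)
    congr 2
    apply Subtype.ext
    exact hθi' y
  show P₀.subtype.comp ((MulAut.congr θ').toMonoidHom β).toMonoidHom ∈ F.Hom P₀
  rw [← this]
  exact h2

theorem card_autGroup_le_of_isConj [Finite S] (F : FusionSystem S) {P P₀ : Subgroup Ω}
    (h : F.IsConj P P₀) : Nat.card (F.autGroup P) ≤ Nat.card (F.autGroup P₀) := by
  obtain ⟨θ, hθ, hr⟩ := h
  obtain ⟨θ', θi, hθ', hθi, hθi', -⟩ := exists_iso_data F hθ hr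
  have hle := map_congr_autGroup_le F hθ θ' θi hθ' hθi hθi'
  have hP₀S : P₀ ≤ S := (F.le_of_mem hθi).1
  have hfin : Finite P₀ := finite_of_le' hP₀S
  have hfin2 : Finite ↥(F.autGroup P₀) := inferInstance
  have hc : Nat.card ((F.autGroup P).map (MulAut.congr θ').toMonoidHom) = Nat.card (F.autGroup P) :=
    Subgroup.card_map_of_injective (f := (MulAut.congr θ').toMonoidHom) (MulAut.congr θ').injective
  rw [← hc]
  exact Nat.card_le_card_of_injective _ (Subgroup.inclusion_injective hle)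

theorem card_autGroup_eq_of_isConj [Finite S] (F : FusionSystem S) {P P₀ : Subgroup Ω}
    (h : F.IsConj P P₀) : Nat.card (F.autGroup P) = Nat.card (F.autGroup P₀) :=
  le_antisymm (card_autGroup_le_of_isConj F h) (card_autGroup_le_of_isConj F (isConj_symm F h))

theorem autInducedBy_le_autGroup (F : FusionSystem S) {P : Subgroup Ω} (hP : P ≤ S) :
    autInducedBy S P ≤ F.autGroup P := by
  unfold autInducedBy
  rw [Subgroup.closure_le]
  rintro α ⟨g, hgS, hg⟩
  apply Subgroup.subset_closure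
  have h := F.conj_mem (P := P) (g := g) hP hgS
  have : P.subtype.comp α.toMonoidHom = conjHom P g := by
    ext x; exact hg x
  show P.subtype.comp α.toMonoidHom ∈ F.Hom P
  rw [this]; exact h

theorem isPGroup_autInducedBy [Finite S] (p : ℕ) [Fact p.Prime] (hS : IsPGroup p S) (P : Subgroup Ω) :
    IsPGroup p (autInducedBy S P) := by
  rw [autInducedBy_eq_map]
  have h1 : IsPGroup p (S.subgroupOf (Subgroup.normalizer (P : Set Ω))) :=
    hS.comap_subtype
  exact h1.map _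

theorem fullyAutomized_iff_card [Finite S] (p : ℕ) [Fact p.Prime] (F : FusionSystem S)
    {P : Subgroup Ω} (hP : P ≤ S) :
    F.IsFullyAutomized p P ↔
      Nat.card (autInducedBy S P) = p ^ (Nat.card (F.autGroup P)).factorization p := by
  have hfin : Finite P := finite_of_le' hP
  have hfin2 : Finite (MulAut P) := inferInstance
  unfold IsFullyAutomized
  rw [exists_sylow_eq_subgroupOf_iff p (autInducedBy_le_autGroup F hP)]
  exact ⟨fun h => h.2, fun h => ⟨hP, h⟩⟩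

end Cfsg.Agent.Lib.Helper9
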