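import Cfsg.Agent.Lib.Helper9.FusionSat4
import Cfsg.Agent.Lib.Helper9.FusionSat2
import Cfsg.Agent.Lib.Helper9.FusionCent
import Cfsg.Agent.Lib.Helper9.FusionNorm
import Cfsg.Agent.Lib.Helper9.FusionAlp4
import Cfsg.Agent.Lib.Helper9.SylowConj

set_option autoImplicit false
set_option maxHeartbeats 1600000

namespace Cfsg.Agent.Lib.Helper9

open Cfsg Cfsg.FusionSystem

variable {Ω : Type*} [Group Ω] {S : Subgroup Ω}

/-- A map of the system defined on a subgroup containing a strongly closed subgroup `A` maps `A`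
onto `A`. -/
theorem stronglyClosed_map_surj [Finite S] (F : FusionSystem S) {A D : Subgroup Ω}
    (hA : F.StronglyClosed A) (hAD : A ≤ D) {ρ : D →* Ω} (hρ : ρ ∈ F.Hom D) :
    (∀ a : A, ρ (Subgroup.inclusion hAD a) ∈ A) ∧
      ∀ y ∈ A, ∃ a : A, ρ (Subgroup.inclusion hAD a) = y := by
  have hmem : ∀ a : A, ρ (Subgroup.inclusion hAD a) ∈ A := fun a =>
    hA.2 A le_rfl _ (restrict_mem F hρ hAD) a
  refine ⟨hmem, ?_⟩
  haveI : Finite A := finite_of_le' hA.1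
  have hinj : Function.Injective (fun a : A => (⟨_, hmem a⟩ : A)) := by
    intro a b hab
    have h1 : ρ (Subgroup.inclusion hAD a) = ρ (Subgroup.inclusion hAD b) :=
      congrArg Subtype.val hab
    have h2 := F.injective_of_mem hρ h1
    exact Subgroup.inclusion_injective hAD h2
  have hsurj := Finite.injective_iff_surjective.mp hinj
  intro y hy
  obtain ⟨a, ha⟩ := hsurj ⟨y, hy⟩
  exact ⟨a, congrArg Subtype.val ha⟩

/-- **Extension over a centralizing strongly closed subgroup.** If `A` is strongly closed and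
centralizes both `P` and `φ(P)`, then `φ` extends to `P ⊔ A`, mapping `A` onto `A`. -/
theorem exists_extension_stronglyClosed [Finite S] (p : ℕ) [Fact p.Prime] (hS : IsPGroup p S)
    (F : FusionSystem S) (hF : F.IsSaturated p) {A P : Subgroup Ω} (hA : F.StronglyClosed A)
    {φ : P →* Ω} (hφ : φ ∈ F.Hom P) (hAP : A ≤ centralizerIn S P)
    (hAQ : A ≤ centralizerIn S φ.range) :
    ∃ ψ ∈ F.Hom (P ⊔ A), (∀ x : P, ψ (Subgroup.inclusion le_sup_left x) = φ x) ∧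
      (A.subgroupOf (P ⊔ A)).map ψ = A := by
  have hPS : P ≤ S := (F.le_of_mem hφ).1
  have hQS : φ.range ≤ S := by
    rintro _ ⟨x, rfl⟩
    exact (F.le_of_mem hφ).2 x
  obtain ⟨Q', ⟨χ, hχ, hχr⟩, hQ'fc⟩ := exists_fullyCentralized_conj F hQS
  have hrec := sat_fullyCentralized_receptive p hS F hF hQ'fc
  -- extension of `χ`
  obtain ⟨ψ₁, hψ₁, hψ₁e⟩ := hrec.2 φ.range χ hχ hχr
  -- the composite `θ = χ ∘ φ`
  have hθ : χ.comp (φ.codRestrict φ.range (fun x => ⟨x, rfl⟩)) ∈ F.Hom P :=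
    F.comp_mem hφ hχ _
  have hθr : (χ.comp (φ.codRestrict φ.range (fun x => ⟨x, rfl⟩))).range = Q' := by
    rw [← hχr]
    ext y
    constructor
    · rintro ⟨x, rfl⟩
      exact ⟨_, rfl⟩
    · rintro ⟨⟨_, x, rfl⟩, rfl⟩
      exact ⟨x, rfl⟩
  obtain ⟨ψ₂, hψ₂, hψ₂e⟩ := hrec.2 P _ hθ hθr
  have hχS : ∀ x : φ.range, χ x ∈ S := (F.le_of_mem hχ).2
  have hθS : ∀ x : P, (χ.comp (φ.codRestrict φ.range (fun x => ⟨x, rfl⟩))) x ∈ S :=
    (F.le_of_mem hθ).2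
  have hle₁ : φ.range ⊔ A ≤ extender S φ.range χ :=
    sup_le (le_extender hQS χ hχS) (hAQ.trans (centralizerIn_le_extender S _ χ))
  have hle₂ : P ⊔ A ≤ extender S P (χ.comp (φ.codRestrict φ.range (fun x => ⟨x, rfl⟩))) :=
    sup_le (le_extender hPS _ hθS) (hAP.trans (centralizerIn_le_extender S _ _))
  have hρ₁ := restrict_mem F hψ₁ hle₁
  have hρ₂ := restrict_mem F hψ₂ hle₂
  obtain ⟨ι, hι, hιe, -⟩ := exists_inv_hom F hρ₁ rfl
  have hA₁ := stronglyClosed_map_surj F hA (le_sup_right : A ≤ φ.range ⊔ A) hρ₁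
  have hA₂ := stronglyClosed_map_surj F hA (le_sup_right : A ≤ P ⊔ A) hρ₂
  -- `ρ₂` takes values in the range of `ρ₁`
  have hval : ∀ z : ↥(P ⊔ A), (ψ₂.comp (Subgroup.inclusion hle₂)) z ∈
      (ψ₁.comp (Subgroup.inclusion hle₁)).range := by
    apply sup_map_mem
    · intro x
      have hxN : (x : Ω) ∈ extender S P (χ.comp (φ.codRestrict φ.range (fun x => ⟨x, rfl⟩))) :=
        hle₂ ((le_sup_left : P ≤ P ⊔ A) x.2)
      have h1 := hψ₂e (x : Ω) x.2 hxN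
      have hφx : φ x ∈ φ.range := ⟨x, rfl⟩
      have hφxN : φ x ∈ extender S φ.range χ := hle₁ ((le_sup_left : φ.range ≤ φ.range ⊔ A) hφx)
      have h2 := hψ₁e (φ x) hφx hφxN
      refine ⟨⟨φ x, (le_sup_left : φ.range ≤ φ.range ⊔ A) hφx⟩, ?_⟩
      show ψ₁ ⟨φ x, hφxN⟩ = ψ₂ ⟨(x : Ω), hxN⟩
      rw [h1, h2]
      rfl
    · intro a
      obtain ⟨a', ha'⟩ := hA₁.2 _ (hA₂.1 a)
      exact ⟨_, ha'⟩
  have hψ := F.comp_mem hρ₂ hι hval
  refine ⟨_, hψ, ?_, ?_⟩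
  · intro x
    have hxN : (x : Ω) ∈ extender S P (χ.comp (φ.codRestrict φ.range (fun x => ⟨x, rfl⟩))) :=
      hle₂ ((le_sup_left : P ≤ P ⊔ A) x.2)
    have h1 := hψ₂e (x : Ω) x.2 hxN
    have hφx : φ x ∈ φ.range := ⟨x, rfl⟩
    have hφxN : φ x ∈ extender S φ.range χ := hle₁ ((le_sup_left : φ.range ≤ φ.range ⊔ A) hφx)
    have h2 := hψ₁e (φ x) hφx hφxN
    have h3 : (ψ₂.comp (Subgroup.inclusion hle₂)) (Subgroup.inclusion le_sup_left x) =
        (ψ₁.comp (Subgroup.inclusion hle₁))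
          ⟨φ x, (le_sup_left : φ.range ≤ φ.range ⊔ A) hφx⟩ := by
      show ψ₂ ⟨(x : Ω), hxN⟩ = ψ₁ ⟨φ x, hφxN⟩
      rw [h1, h2]
      rfl
    have h4 := hιe ⟨φ x, (le_sup_left : φ.range ≤ φ.range ⊔ A) hφx⟩ ⟨_, rfl⟩
    refine Eq.trans ?_ h4
    show ι ⟨(ψ₂.comp (Subgroup.inclusion hle₂)) (Subgroup.inclusion le_sup_left x), _⟩ = _
    congr 1
    exact Subtype.ext h3
  · rw [map_subgroupOf_eq_iff]
    exact stronglyClosed_map_surj F hA (le_sup_right : A ≤ P ⊔ A) hψ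

/-- If `S = S₁ S₂` with `[S₁, S₂] = 1`, then `Aut_{S₁}(Q) = Aut_S(Q)` for `Q ≤ S₁`. -/
theorem autInducedBy_eq_of_direct {S₁ S₂ Q : Subgroup Ω} (h1 : S₁ ≤ S)
    (hcomm : ∀ a ∈ S₁, ∀ b ∈ S₂, a * b = b * a) (hsup : S₁ ⊔ S₂ = S) (hQ : Q ≤ S₁) :
    autInducedBy S₁ Q = autInducedBy S Q := by
  apply le_antisymm (autInducedBy_mono h1 Q)
  unfold autInducedBy
  rw [Subgroup.closure_le]
  rintro α ⟨g, hgS, hg⟩
  rw [← hsup] at hgS
  have hnorm : S₁ ≤ Subgroup.normalizer (S₂ : Set Ω) := by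
    intro a ha
    apply centralizer_le_normalizer' S₂
    rw [Subgroup.mem_centralizer_iff]
    intro b hb
    exact (hcomm a ha b hb).symm
  obtain ⟨a, ha, b, hb, rfl⟩ := exists_mul_of_mem_sup_of_le_normalizer hnorm hgS
  apply Subgroup.subset_closure
  refine ⟨a, ha, fun x => ?_⟩
  rw [hg x]
  have hx := hcomm (x : Ω) (hQ x.2) b hb
  calc a * b * (x : Ω) * (a * b)⁻¹ = a * (b * (x : Ω)) * b⁻¹ * a⁻¹ := by group
    _ = a * ((x : Ω) * b) * b⁻¹ * a⁻¹ := by rw [hx]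
    _ = a * (x : Ω) * a⁻¹ := by group

/-- The full subsystem over a strongly closed factor `S₁` of `S = S₁ S₂`, `[S₁, S₂] = 1`, is
saturated. -/
theorem fullSub_saturated_of_direct [Finite S] (p : ℕ) [Fact p.Prime] (F : FusionSystem S)
    (hF : F.IsSaturated p) {S₁ S₂ : Subgroup Ω} (h1 : S₁ ≤ S)
    (hcomm : ∀ a ∈ S₁, ∀ b ∈ S₂, a * b = b * a) (hsup : S₁ ⊔ S₂ = S)
    (hsc : F.StronglyClosed S₁) (R : FusionSystem S₁)
    (hR : ∀ P : Subgroup Ω, P ≤ S₁ → R.Hom P = F.Hom P) : R.IsSaturated p := by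
  haveI : Finite S₁ := finite_of_le' h1
  intro P hP
  obtain ⟨Q, ⟨φ, hφ, hφr⟩, hauto, hrec⟩ := hF P (hP.trans h1)
  have hQS₁ : Q ≤ S₁ := by
    rw [← hφr]
    rintro _ ⟨x, rfl⟩
    exact hsc.2 P hP φ hφ x
  refine ⟨Q, ⟨φ, by rw [hR P hP]; exact hφ, hφr⟩, ?_, ?_⟩
  · have heq : R.autGroup Q = F.autGroup Q := by
      unfold autGroup
      rw [hR Q hQS₁]
    rw [fullyAutomized_iff_card p R hQS₁, heq, autInducedBy_eq_of_direct h1 hcomm hsup hQS₁]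
    exact (fullyAutomized_iff_card p F (hQS₁.trans h1)).mp hauto
  · refine ⟨hQS₁, fun P' φ' hφ' hr' => ?_⟩
    have hP' : P' ≤ S₁ := (R.le_of_mem hφ').1
    have hφ'F : φ' ∈ F.Hom P' := by rw [← hR P' hP']; exact hφ'
    obtain ⟨ψ, hψ, hψe⟩ := hrec.2 P' φ' hφ'F hr'
    have hle : extender S₁ P' φ' ≤ extender S P' φ' := by
      unfold extender
      apply Subgroup.closure_mono
      rintro g ⟨hg1, hgN, h, hh, hheq⟩
      exact ⟨h1 hg1, hgN, h, h1 hh, hheq⟩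
    have hleS₁ : extender S₁ P' φ' ≤ S₁ :=
      (extender_le S₁ P' φ').trans (normalizerIn_le_left _ _)
    refine ⟨ψ.comp (Subgroup.inclusion hle), ?_, fun x hP hN => hψe x hP (hle hN)⟩
    rw [hR _ hleS₁]
    exact restrict_mem F hψ hle

end Cfsg.Agent.Lib.Helper9
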