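import Cfsg.Agent.Lib.Helper9.FusionDirect
import Cfsg.Agent.Lib.Helper9.FusionAut

set_option autoImplicit false
set_option maxHeartbeats 1600000

namespace Cfsg.Agent.Lib.Helper9

open Cfsg Cfsg.FusionSystem

variable {Ω : Type*} [Group Ω] {S : Subgroup Ω}

/-- A map of the system from `T` into `T` is an `F`-automorphism of `T`. -/
theorem exists_aut_of_hom [Finite S] (F : FusionSystem S) {T : Subgroup Ω} {ψ : T →* Ω}
    (hψ : ψ ∈ F.Hom T) (hval : ∀ x : T, ψ x ∈ T) :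
    ∃ β : MulAut T, β ∈ F.autGroup T ∧ ∀ x : T, ((β x : T) : Ω) = ψ x := by
  have hTS : T ≤ S := (F.le_of_mem hψ).1
  haveI : Finite T := finite_of_le' hTS
  have hinj : Function.Injective (ψ.codRestrict T hval) := by
    intro a b hab
    exact F.injective_of_mem hψ (congrArg Subtype.val hab)
  have hbij : Function.Bijective (ψ.codRestrict T hval) :=
    ⟨hinj, Finite.injective_iff_surjective.mp hinj⟩
  refine ⟨MulEquiv.ofBijective (ψ.codRestrict T hval) hbij, ?_, fun x => rfl⟩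
  rw [mem_autGroup_iff F hTS]
  have : T.subtype.comp (MulEquiv.ofBijective (ψ.codRestrict T hval) hbij).toMonoidHom = ψ := by
    ext x
    rfl
  rw [this]
  exact hψ

section Direct

variable [Finite S] (p : ℕ) [Fact p.Prime] (hS : IsPGroup p S) (F : FusionSystem S)
  (hF : F.IsSaturated p) {S₁ S₂ : Subgroup Ω}

include hS hF in
/-- Extension of an `F`-automorphism of `S₁` to `S₁ ⊔ S₂`. -/
theorem exists_aut_extension_direct (h1 : S₁ ≤ S) (h2 : S₂ ≤ S)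
    (hcomm : ∀ a ∈ S₁, ∀ b ∈ S₂, a * b = b * a) (hsc₂ : F.StronglyClosed S₂)
    (α : MulAut S₁) (hα : α ∈ F.autGroup S₁) :
    ∃ ψ ∈ F.Hom (S₁ ⊔ S₂), (∀ x : S₁, ψ (Subgroup.inclusion le_sup_left x) = ((α x : S₁) : Ω)) ∧
      (∀ q : S₂, ψ (Subgroup.inclusion le_sup_right q) ∈ S₂) ∧
      (∀ y ∈ S₂, ∃ q : S₂, ψ (Subgroup.inclusion le_sup_right q) = y) := by
  have hα' := (mem_autGroup_iff F h1 α).mp hα
  have hC : S₂ ≤ centralizerIn S S₁ := by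
    intro b hb
    rw [mem_centralizerIn]
    exact ⟨h2 hb, fun a ha => hcomm a ha b hb⟩
  have hC' : S₂ ≤ centralizerIn S (S₁.subtype.comp α.toMonoidHom).range := by
    intro b hb
    rw [mem_centralizerIn]
    refine ⟨h2 hb, ?_⟩
    rintro _ ⟨x, rfl⟩
    exact hcomm _ (α x).2 b hb
  obtain ⟨ψ, hψ, hψe, hψS₂⟩ := exists_extension_stronglyClosed p hS F hF hsc₂ hα' hC hC'
  rw [map_subgroupOf_eq_iff] at hψS₂
  exact ⟨ψ, hψ, hψe, hψS₂.1, hψS₂.2⟩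

include hS hF in
/-- Invariance of `C_F(S₂)` restricted to `S₁` under `Aut_F(S₁)`. -/
theorem centralizerHom_invariant_direct (h1 : S₁ ≤ S) (h2 : S₂ ≤ S)
    (hcomm : ∀ a ∈ S₁, ∀ b ∈ S₂, a * b = b * a) (hsup : S₁ ⊔ S₂ = S)
    (hsc₁ : F.StronglyClosed S₁) (hsc₂ : F.StronglyClosed S₂)
    (P : Subgroup Ω) (hPT : P ≤ S₁) (φ : P →* Ω) (hφ : φ ∈ F.centralizerHom S₂ P)
    (α : MulAut S₁) (hα : α ∈ F.autGroup S₁) :
    ∃ χ ∈ F.centralizerHom S₂ ((P.subgroupOf S₁).map (S₁.subtype.comp α.toMonoidHom)),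
      ∀ (x : P) (hφx : φ x ∈ S₁)
        (hαx : ((α ⟨x, hPT x.2⟩ : S₁) : Ω) ∈
          (P.subgroupOf S₁).map (S₁.subtype.comp α.toMonoidHom)),
        χ ⟨(α ⟨x, hPT x.2⟩ : S₁), hαx⟩ = ((α ⟨φ x, hφx⟩ : S₁) : Ω) := by
  obtain ⟨hφF, hPC, hφC, ψ, hψ, hψP, hψS₂⟩ := hφ
  obtain ⟨αh, hαh, hαhe, hαhS₂, hαhsurj⟩ :=
    exists_aut_extension_direct p hS F hF h1 h2 hcomm hsc₂ α hα
  have hS₁C : S₁ ≤ centralizerIn S S₂ := by
    intro a ha
    rw [mem_centralizerIn]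
    exact ⟨h1 ha, fun b hb => (hcomm a ha b hb).symm⟩
  have hP'S₁ : (P.subgroupOf S₁).map (S₁.subtype.comp α.toMonoidHom) ≤ S₁ := by
    rintro _ ⟨s, -, rfl⟩
    exact (α s).2
  have hle : P ⊔ S₂ ≤ S₁ ⊔ S₂ := sup_le_sup_right hPT S₂
  have hρ := restrict_mem F hαh hle
  -- values of `ρ`
  have hρP : ∀ x : P, (αh.comp (Subgroup.inclusion hle)) (Subgroup.inclusion le_sup_left x) =
      ((α ⟨x, hPT x.2⟩ : S₁) : Ω) := by
    intro x
    rw [← hαhe]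
    rfl
  have hρS₂ : ∀ b : S₂, (αh.comp (Subgroup.inclusion hle)) (Subgroup.inclusion le_sup_right b) =
      αh (Subgroup.inclusion le_sup_right b) := fun b => rfl
  have hρr : (αh.comp (Subgroup.inclusion hle)).range =
      (P.subgroupOf S₁).map (S₁.subtype.comp α.toMonoidHom) ⊔ S₂ := by
    apply le_antisymm
    · rintro _ ⟨z, rfl⟩
      revert z
      apply sup_map_mem
      · intro x
        rw [hρP]
        exact (le_sup_left : (P.subgroupOf S₁).map (S₁.subtype.comp α.toMonoidHom) ≤ _)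
          ⟨⟨x, hPT x.2⟩, Subgroup.mem_subgroupOf.mpr x.2, rfl⟩
      · intro b
        rw [hρS₂]
        exact (le_sup_right : S₂ ≤ _) (hαhS₂ b)
    · apply sup_le
      · rintro _ ⟨s, hs, rfl⟩
        have hsP : (s : Ω) ∈ P := Subgroup.mem_subgroupOf.mp hs
        exact ⟨Subgroup.inclusion le_sup_left ⟨s, hsP⟩, hρP ⟨s, hsP⟩⟩
      · intro y hy
        obtain ⟨q, hq⟩ := hαhsurj y hy
        exact ⟨Subgroup.inclusion le_sup_right q, hq⟩
  obtain ⟨ι, hι, hιe, hιr⟩ := exists_inv_hom F hρ hρr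
  have hιval : ∀ z, ι z ∈ P ⊔ S₂ := by
    intro z
    rw [← hιr]
    exact ⟨z, rfl⟩
  have hψι := F.comp_mem hι hψ hιval
  have hval2 : ∀ z, (ψ.comp (ι.codRestrict (P ⊔ S₂) hιval)) z ∈ S₁ ⊔ S₂ := by
    intro z
    rw [hsup]
    exact (F.le_of_mem hψι).2 z
  have hψ' := F.comp_mem hψι hαh hval2
  -- the specification of `ψ'`
  have hspec : ∀ (w : ↥((P.subgroupOf S₁).map (S₁.subtype.comp α.toMonoidHom) ⊔ S₂))
      (z : ↥(P ⊔ S₂)), (w : Ω) = (αh.comp (Subgroup.inclusion hle)) z →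
      ∀ u : ↥(S₁ ⊔ S₂), (u : Ω) = ψ z →
      (αh.comp ((ψ.comp (ι.codRestrict (P ⊔ S₂) hιval)).codRestrict (S₁ ⊔ S₂) hval2)) w =
        αh u := by
    intro w z hw u hu
    have hmem : (αh.comp (Subgroup.inclusion hle)) z ∈
        (P.subgroupOf S₁).map (S₁.subtype.comp α.toMonoidHom) ⊔ S₂ := by
      rw [← hw]; exact w.2
    have h1' := hιe z hmem
    have hw' : w = ⟨_, hmem⟩ := Subtype.ext hw
    show αh ⟨ψ ⟨ι w, hιval w⟩, _⟩ = αh u
    congr 1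
    apply Subtype.ext
    show ψ ⟨ι w, hιval w⟩ = (u : Ω)
    rw [hu]
    congr 1
    apply Subtype.ext
    show ι w = (z : Ω)
    rw [hw']
    exact h1'
  refine ⟨_, ⟨restrict_mem F hψ' le_sup_left, hP'S₁.trans hS₁C, ?_, _, hψ', fun x => rfl, ?_⟩, ?_⟩
  · intro x
    exact hS₁C (hsc₁.2 _ hP'S₁ _ (restrict_mem F hψ' le_sup_left) x)
  · intro b
    obtain ⟨q, hq⟩ := hαhsurj b b.2
    have h3 := hspec (Subgroup.inclusion le_sup_right b) (Subgroup.inclusion le_sup_right q)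
      (by rw [hρS₂, hq]; rfl) (Subgroup.inclusion le_sup_right q) (hψS₂ q).symm
    rw [h3, hq]
  · intro x hφx hαx
    have h3 := hspec (Subgroup.inclusion le_sup_left ⟨_, hαx⟩) (Subgroup.inclusion le_sup_left x)
      (by rw [hρP]; rfl) (Subgroup.inclusion le_sup_left ⟨φ x, hφx⟩) (hψP x).symm
    exact h3.trans (hαhe ⟨φ x, hφx⟩)

include hS hF in
/-- Frattini factorization: every map of `F` out of `P ≤ S₁` is a map of `C_F(S₂)` followed by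
an `F`-automorphism of `S₁`. -/
theorem frattini_direct (h1 : S₁ ≤ S) (h2 : S₂ ≤ S)
    (hcomm : ∀ a ∈ S₁, ∀ b ∈ S₂, a * b = b * a)
    (hsc₁ : F.StronglyClosed S₁) (hsc₂ : F.StronglyClosed S₂)
    (P : Subgroup Ω) (hPT : P ≤ S₁) (φ : P →* Ω) (hφ : φ ∈ F.Hom P) :
    ∃ α ∈ F.autGroup S₁, ∃ φ₀ ∈ F.centralizerHom S₂ P,
      ∀ (x : P) (hx : φ₀ x ∈ S₁), φ x = ((α ⟨φ₀ x, hx⟩ : S₁) : Ω) := by
  have hS₁C : S₁ ≤ centralizerIn S S₂ := by
    intro a ha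
    rw [mem_centralizerIn]
    exact ⟨h1 ha, fun b hb => (hcomm a ha b hb).symm⟩
  have hS₂C : S₂ ≤ centralizerIn S S₁ := by
    intro b hb
    rw [mem_centralizerIn]
    exact ⟨h2 hb, fun a ha => hcomm a ha b hb⟩
  have hφS₁ : ∀ x : P, φ x ∈ S₁ := fun x => hsc₁.2 P hPT φ hφ x
  have hC : S₂ ≤ centralizerIn S P := by
    intro b hb
    rw [mem_centralizerIn]
    exact ⟨h2 hb, fun a ha => hcomm a (hPT ha) b hb⟩
  have hC' : S₂ ≤ centralizerIn S φ.range := by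
    intro b hb
    rw [mem_centralizerIn]
    refine ⟨h2 hb, ?_⟩
    rintro _ ⟨x, rfl⟩
    exact hcomm _ (hφS₁ x) b hb
  obtain ⟨ψ, hψ, hψP, hψS₂⟩ := exists_extension_stronglyClosed p hS F hF hsc₂ hφ hC hC'
  rw [map_subgroupOf_eq_iff] at hψS₂
  -- `β = ψ|S₂`
  have hβ := restrict_mem F hψ (le_sup_right : S₂ ≤ P ⊔ S₂)
  have hD : S₁ ≤ centralizerIn S (ψ.comp (Subgroup.inclusion (le_sup_right : S₂ ≤ P ⊔ S₂))).range := by
    intro a ha
    rw [mem_centralizerIn]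
    refine ⟨h1 ha, ?_⟩
    rintro _ ⟨b, rfl⟩
    exact (hcomm a ha _ (hψS₂.1 b)).symm
  obtain ⟨βh, hβh, hβhe, hβhS₁⟩ := exists_extension_stronglyClosed p hS F hF hsc₁ hβ hS₁C hD
  rw [map_subgroupOf_eq_iff] at hβhS₁
  -- the automorphism `α` of `S₁`
  have hα₀ := restrict_mem F hβh (le_sup_right : S₁ ≤ S₂ ⊔ S₁)
  obtain ⟨α, hα, hαe⟩ := exists_aut_of_hom F hα₀ hβhS₁.1
  -- the inverse of `βh`
  obtain ⟨ι, hι, hιe, -⟩ := exists_inv_hom F hβh rfl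
  have hval : ∀ z : ↥(P ⊔ S₂), ψ z ∈ βh.range := by
    apply sup_map_mem
    · intro x
      rw [hψP]
      obtain ⟨a, ha⟩ := hβhS₁.2 _ (hφS₁ x)
      exact ⟨_, ha⟩
    · intro b
      exact ⟨Subgroup.inclusion le_sup_left b, hβhe b⟩
  have hψ₀ := F.comp_mem hψ hι hval
  have hφ₀ := restrict_mem F hψ₀ (le_sup_left : P ≤ P ⊔ S₂)
  refine ⟨α, hα, _, ⟨hφ₀, hPT.trans hS₁C, ?_, _, hψ₀, fun x => rfl, ?_⟩, ?_⟩
  · intro x
    exact hS₁C (hsc₁.2 P hPT _ hφ₀ x)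
  · intro b
    have h3 := hιe (Subgroup.inclusion le_sup_left b) ⟨_, rfl⟩
    refine Eq.trans ?_ h3
    show ι ⟨ψ (Subgroup.inclusion le_sup_right b), _⟩ = ι ⟨βh (Subgroup.inclusion le_sup_left b), _⟩
    congr 1
    exact Subtype.ext (hβhe b).symm
  · intro x hx
    obtain ⟨a, ha⟩ := hβhS₁.2 _ (hφS₁ x)
    have h3 := hιe (Subgroup.inclusion le_sup_right a) ⟨_, rfl⟩
    have h4 : (ι.comp (ψ.codRestrict βh.range hval)).comp
        (Subgroup.inclusion (le_sup_left : P ≤ P ⊔ S₂)) x = (a : Ω) := by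
      refine Eq.trans ?_ h3
      show ι ⟨ψ (Subgroup.inclusion le_sup_left x), _⟩ =
        ι ⟨βh (Subgroup.inclusion le_sup_right a), _⟩
      congr 1
      apply Subtype.ext
      show ψ (Subgroup.inclusion le_sup_left x) = βh (Subgroup.inclusion le_sup_right a)
      rw [hψP, ha]
    have h5 : (⟨_, hx⟩ : S₁) = a := Subtype.ext h4
    rw [h5, hαe a]
    exact ha.symm

/-- Invariance of the full subsystem on a strongly closed subgroup under `Aut_F(S₁)`. -/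
theorem full_invariant (hsc₁ : F.StronglyClosed S₁)
    (P : Subgroup Ω) (hPT : P ≤ S₁) (φ : P →* Ω) (hφ : φ ∈ F.Hom P)
    (α : MulAut S₁) (hα : α ∈ F.autGroup S₁) :
    ∃ χ ∈ F.Hom ((P.subgroupOf S₁).map (S₁.subtype.comp α.toMonoidHom)),
      ∀ (x : P) (hφx : φ x ∈ S₁)
        (hαx : ((α ⟨x, hPT x.2⟩ : S₁) : Ω) ∈
          (P.subgroupOf S₁).map (S₁.subtype.comp α.toMonoidHom)),
        χ ⟨(α ⟨x, hPT x.2⟩ : S₁), hαx⟩ = ((α ⟨φ x, hφx⟩ : S₁) : Ω) := by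
  have h1 : S₁ ≤ S := hsc₁.1
  have hα' := (mem_autGroup_iff F h1 α).mp hα
  have hρ := restrict_mem F hα' hPT
  have hP'S₁ : (P.subgroupOf S₁).map (S₁.subtype.comp α.toMonoidHom) ≤ S₁ := by
    rintro _ ⟨s, -, rfl⟩
    exact (α s).2
  have hρr : ((S₁.subtype.comp α.toMonoidHom).comp (Subgroup.inclusion hPT)).range =
      (P.subgroupOf S₁).map (S₁.subtype.comp α.toMonoidHom) := by
    ext y
    constructor
    · rintro ⟨x, rfl⟩
      exact ⟨⟨x, hPT x.2⟩, Subgroup.mem_subgroupOf.mpr x.2, rfl⟩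
    · rintro ⟨s, hs, rfl⟩
      exact ⟨⟨s, Subgroup.mem_subgroupOf.mp hs⟩, rfl⟩
  obtain ⟨ι, hι, hιe, hιr⟩ := exists_inv_hom F hρ hρr
  have hιval : ∀ z, ι z ∈ P := by
    intro z
    have h3 : ι z ∈ ι.range := ⟨z, rfl⟩
    rw [hιr] at h3
    exact h3
  have hφι := F.comp_mem hι hφ hιval
  have hval2 : ∀ z, (φ.comp (ι.codRestrict P hιval)) z ∈ S₁ :=
    fun z => hsc₁.2 _ hP'S₁ _ hφι z
  have hχ := F.comp_mem hφι hα' hval2
  refine ⟨_, hχ, ?_⟩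
  intro x hφx hαx
  have h3 := hιe x hαx
  show ((α ⟨φ ⟨ι ⟨_, hαx⟩, _⟩, _⟩ : S₁) : Ω) = _
  congr 2
  apply Subtype.ext
  show φ ⟨ι ⟨_, hαx⟩, _⟩ = φ x
  congr 1
  exact Subtype.ext h3

/-- The extension condition for `C_F(S₂)|S₁` in `F`. -/
theorem ext_cond_direct (h1 : S₁ ≤ S) (h2 : S₂ ≤ S)
    (hcomm : ∀ a ∈ S₁, ∀ b ∈ S₂, a * b = b * a) (hsup : S₁ ⊔ S₂ = S)
    (α : MulAut S₁) (hα : S₁.subtype.comp α.toMonoidHom ∈ F.centralizerHom S₂ S₁) :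
    ∃ β ∈ F.autGroup (S₁ ⊔ centralizerIn S S₁),
      (∀ x : S₁, ((β (Subgroup.inclusion le_sup_left x) : ↥(S₁ ⊔ centralizerIn S S₁)) : Ω) =
        ((α x : S₁) : Ω)) ∧
      ∀ c : ↥(S₁ ⊔ centralizerIn S S₁), (c : Ω) ∈ centralizerIn S S₁ →
        (c : Ω)⁻¹ * ((β c : ↥(S₁ ⊔ centralizerIn S S₁)) : Ω) ∈
          S₁ ⊓ Subgroup.centralizer (S₁ : Set Ω) := by
  obtain ⟨-, -, -, ψ, hψ, hψP, hψS₂⟩ := hα
  have hS₂C : S₂ ≤ centralizerIn S S₁ := by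
    intro b hb
    rw [mem_centralizerIn]
    exact ⟨h2 hb, fun a ha => hcomm a ha b hb⟩
  have hT' : S₁ ⊔ centralizerIn S S₁ ≤ S₁ ⊔ S₂ := by
    rw [hsup]; exact sup_le h1 inf_le_left
  have hψ' := restrict_mem F hψ hT'
  have hval : ∀ x, (ψ.comp (Subgroup.inclusion hT')) x ∈ S₁ ⊔ centralizerIn S S₁ := by
    intro x
    have h3 := (F.le_of_mem hψ').2 x
    exact (sup_le_sup_left hS₂C S₁) (hsup.ge h3)
  obtain ⟨β, hβ, hβe⟩ := exists_aut_of_hom F hψ' hval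
  refine ⟨β, hβ, ?_, ?_⟩
  · intro x
    rw [hβe]
    exact hψP x
  · intro c hc
    rw [hβe]
    have hnorm : S₁ ≤ Subgroup.normalizer (S₂ : Set Ω) := by
      intro a ha
      apply centralizer_le_normalizer' S₂
      rw [Subgroup.mem_centralizer_iff]
      intro b hb
      exact (hcomm a ha b hb).symm
    obtain ⟨a, ha, b, hb, hcab⟩ := exists_mul_of_mem_sup_of_le_normalizer hnorm (hT' c.2)
    rw [mem_centralizerIn] at hc
    -- `a` is central in `S₁`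
    have haZ : ∀ s ∈ S₁, s * a = a * s := by
      intro s hs
      have h3 := hc.2 s hs
      rw [hcab] at h3
      have h4 := hcomm s hs b hb
      have h5 : s * a * b = a * s * b := by
        calc s * a * b = s * (a * b) := by group
          _ = a * b * s := h3
          _ = a * (b * s) := by group
          _ = a * (s * b) := by rw [h4]
          _ = a * s * b := by group
      exact mul_right_cancel h5
    have hαZ : ∀ s ∈ S₁, s * ((α ⟨a, ha⟩ : S₁) : Ω) = ((α ⟨a, ha⟩ : S₁) : Ω) * s := by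
      intro s hs
      obtain ⟨s', hs'⟩ := α.surjective ⟨s, hs⟩
      have h3 : s' * ⟨a, ha⟩ = ⟨a, ha⟩ * s' := Subtype.ext (haZ s' s'.2)
      have h4 := congrArg (fun t => ((α t : S₁) : Ω)) h3
      simp only [map_mul, Subgroup.coe_mul] at h4
      rw [hs'] at h4
      exact h4
    have hψc : (ψ.comp (Subgroup.inclusion hT')) c = ((α ⟨a, ha⟩ : S₁) : Ω) * b := by
      have hc' : Subgroup.inclusion hT' c =
          Subgroup.inclusion le_sup_left (⟨a, ha⟩ : S₁) *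
            Subgroup.inclusion le_sup_right (⟨b, hb⟩ : S₂) := Subtype.ext hcab
      show ψ (Subgroup.inclusion hT' c) = _
      rw [hc', map_mul, hψP, hψS₂]
      rfl
    rw [hψc, hcab]
    have hb' := hcomm _ (S₁.mul_mem (S₁.inv_mem ha) (α ⟨a, ha⟩).2) b hb
    have e : (a * b)⁻¹ * (((α ⟨a, ha⟩ : S₁) : Ω) * b) =
        b⁻¹ * ((a⁻¹ * ((α ⟨a, ha⟩ : S₁) : Ω)) * b) := by group
    rw [e, hb']
    have e2 : b⁻¹ * (b * (a⁻¹ * ((α ⟨a, ha⟩ : S₁) : Ω))) = a⁻¹ * ((α ⟨a, ha⟩ : S₁) : Ω) := by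
      group
    rw [e2]
    refine Subgroup.mem_inf.mpr ⟨S₁.mul_mem (S₁.inv_mem ha) (α ⟨a, ha⟩).2, ?_⟩
    rw [Subgroup.mem_centralizer_iff]
    intro s hs
    have h3 := haZ s hs
    have h4 := hαZ s hs
    have h5 : s * a⁻¹ = a⁻¹ * s := by
      calc s * a⁻¹ = a⁻¹ * (a * s) * a⁻¹ := by group
        _ = a⁻¹ * (s * a) * a⁻¹ := by rw [h3]
        _ = a⁻¹ * s := by group
    calc s * (a⁻¹ * ((α ⟨a, ha⟩ : S₁) : Ω)) = (s * a⁻¹) * ((α ⟨a, ha⟩ : S₁) : Ω) := by group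
      _ = (a⁻¹ * s) * ((α ⟨a, ha⟩ : S₁) : Ω) := by rw [h5]
      _ = a⁻¹ * (s * ((α ⟨a, ha⟩ : S₁) : Ω)) := by group
      _ = a⁻¹ * (((α ⟨a, ha⟩ : S₁) : Ω) * s) := by rw [h4]
      _ = a⁻¹ * ((α ⟨a, ha⟩ : S₁) : Ω) * s := by group

end Direct

/-- The extension condition inside the full subsystem on `S₁` (where `S₁ C_{S₁}(S₁) = S₁`). -/
theorem ext_cond_self {S₁ : Subgroup Ω} (R : FusionSystem S₁) (T' : Subgroup Ω) (hle : S₁ ≤ T')
    (heq : T' = S₁) (α : MulAut S₁) (hα : α ∈ R.autGroup S₁) :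
    ∃ β ∈ R.autGroup T',
      (∀ x : S₁, ((β (Subgroup.inclusion hle x) : T') : Ω) = ((α x : S₁) : Ω)) ∧
      ∀ c : T', (c : Ω) ∈ centralizerIn S₁ S₁ →
        (c : Ω)⁻¹ * ((β c : T') : Ω) ∈ S₁ ⊓ Subgroup.centralizer (S₁ : Set Ω) := by
  subst heq
  refine ⟨α, hα, fun x => rfl, ?_⟩
  intro c hc
  rw [mem_centralizerIn] at hc
  have hαZ : ∀ s ∈ T', s * ((α c : T') : Ω) = ((α c : T') : Ω) * s := by
    intro s hs
    obtain ⟨s', hs'⟩ := α.surjective ⟨s, hs⟩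
    have h3 : s' * c = c * s' := Subtype.ext (hc.2 s' s'.2)
    have h4 := congrArg (fun t => ((α t : T') : Ω)) h3
    simp only [map_mul, Subgroup.coe_mul] at h4
    rw [hs'] at h4
    exact h4
  refine Subgroup.mem_inf.mpr ⟨T'.mul_mem (T'.inv_mem c.2) (α c).2, ?_⟩
  rw [Subgroup.mem_centralizer_iff]
  intro s hs
  have h3 := hc.2 s hs
  have h4 := hαZ s hs
  have h5 : s * (c : Ω)⁻¹ = (c : Ω)⁻¹ * s := by
    calc s * (c : Ω)⁻¹ = (c : Ω)⁻¹ * ((c : Ω) * s) * (c : Ω)⁻¹ := by group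
      _ = (c : Ω)⁻¹ * (s * (c : Ω)) * (c : Ω)⁻¹ := by rw [h3]
      _ = (c : Ω)⁻¹ * s := by group
  calc s * ((c : Ω)⁻¹ * ((α c : T') : Ω)) = (s * (c : Ω)⁻¹) * ((α c : T') : Ω) := by group
    _ = ((c : Ω)⁻¹ * s) * ((α c : T') : Ω) := by rw [h5]
    _ = (c : Ω)⁻¹ * (s * ((α c : T') : Ω)) := by group
    _ = (c : Ω)⁻¹ * (((α c : T') : Ω) * s) := by rw [h4]
    _ = (c : Ω)⁻¹ * ((α c : T') : Ω) * s := by group

end Cfsg.Agent.Lib.Helper9
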