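import Cfsg.Agent.Lib.Helper9.FusionGroup2
import Cfsg.Agent.Lib.Helper9.FusionAut
import Mathlib.GroupTheory.Nilpotent

set_option autoImplicit false

namespace Cfsg.Agent.Lib.Helper9

open Cfsg Cfsg.FusionSystem

variable {Ω : Type*} [Group Ω] {S : Subgroup Ω}

theorem fusionSystem_ext {F F' : FusionSystem S} (h : ∀ P, F.Hom P = F'.Hom P) : F = F' := by
  cases F; cases F'
  simp only [FusionSystem.mk.injEq]
  funext P
  exact h P

/-- Normalizers grow in a finite `p`-group. -/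
theorem lt_normalizerIn [Finite S] (p : ℕ) [Fact p.Prime] (hS : IsPGroup p S) {P : Subgroup Ω}
    (hPS : P ≤ S) (hne : P ≠ S) : P < normalizerIn S P := by
  have hnil : Group.IsNilpotent S := hS.isNilpotent
  have hnc : NormalizerCondition S := normalizerCondition_of_isNilpotent
  have hlt : P.subgroupOf S < ⊤ := by
    rw [lt_top_iff_ne_top]
    intro h
    apply hne
    apply le_antisymm hPS
    intro x hx
    have : (⟨x, hx⟩ : S) ∈ P.subgroupOf S := by rw [h]; exact Subgroup.mem_top _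
    exact Subgroup.mem_subgroupOf.mp this
  have h1 := hnc _ hlt
  obtain ⟨g, hgN, hgP⟩ := SetLike.exists_of_lt h1
  refine lt_of_le_of_ne (le_normalizerIn hPS) ?_
  intro heq
  apply hgP
  rw [Subgroup.mem_subgroupOf]
  rw [heq]
  refine Subgroup.mem_inf.mpr ⟨g.2, ?_⟩
  rw [Subgroup.mem_normalizer_iff] at hgN ⊢
  intro x
  constructor
  · intro hx
    have := (hgN ⟨x, hPS hx⟩).mp (Subgroup.mem_subgroupOf.mpr hx)
    exact Subgroup.mem_subgroupOf.mp this
  · intro hx
    have hxS : x ∈ S := by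
      have h2 : (g : Ω)⁻¹ * ((g : Ω) * x * (g : Ω)⁻¹) * (g : Ω) ∈ S :=
        S.mul_mem (S.mul_mem (S.inv_mem g.2) (hPS hx)) g.2
      have h3 : (g : Ω)⁻¹ * ((g : Ω) * x * (g : Ω)⁻¹) * (g : Ω) = x := by group
      rw [h3] at h2; exact h2
    have := (hgN ⟨x, hxS⟩).mpr (Subgroup.mem_subgroupOf.mpr hx)
    exact Subgroup.mem_subgroupOf.mp this

theorem card_lt_card_normalizerIn [Finite S] (p : ℕ) [Fact p.Prime] (hS : IsPGroup p S)
    {P : Subgroup Ω} (hPS : P ≤ S) (hne : P ≠ S) :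
    Nat.card P < Nat.card (normalizerIn S P) := by
  have hlt := lt_normalizerIn p hS hPS hne
  have hfin : Finite ↥(normalizerIn S P) := finite_of_le' (normalizerIn_le_left S P)
  have hle : Nat.card P ≤ Nat.card (normalizerIn S P) :=
    Nat.card_le_card_of_injective _ (Subgroup.inclusion_injective hlt.le)
  refine lt_of_le_of_ne hle ?_
  intro h
  exact absurd (Subgroup.eq_of_le_of_card_ge hlt.le h.ge) hlt.ne

theorem sylow_eq_top_of_isPGroup {A : Type*} [Group A] {p : ℕ} (hA : IsPGroup p A) (R : Sylow p A) :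
    (R : Subgroup A) = ⊤ :=
  (R.is_maximal' (hA.to_subgroup ⊤) le_top).symm

/-- If `P₀` is fully automized and `Aut_F(P₀)` is a `p`-group, then every map of the system from `P₀`
onto `P₀` is conjugation by an element of `S`. -/
theorem exists_conj_of_fullyAutomized [Finite S] (p : ℕ) [Fact p.Prime] (F : FusionSystem S)
    {P₀ : Subgroup Ω} (hP₀ : F.IsFullyAutomized p P₀) (hp : IsPGroup p (F.autGroup P₀))
    {γ : P₀ →* Ω} (hγ : γ ∈ F.Hom P₀) (hγr : γ.range = P₀) :
    ∃ s ∈ S, ∀ y : P₀, γ y = s * (y : Ω) * s⁻¹ := by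
  obtain ⟨hP₀S, R, hR⟩ := hP₀
  have hγP : ∀ y : P₀, γ y ∈ P₀ := fun y => by
    have : γ y ∈ γ.range := ⟨y, rfl⟩
    rw [hγr] at this; exact this
  have hbij : Function.Bijective (γ.codRestrict P₀ hγP) := by
    constructor
    · intro x y hxy
      exact F.injective_of_mem hγ (congrArg Subtype.val hxy)
    · intro y
      have hy : (y : Ω) ∈ γ.range := by rw [hγr]; exact y.2
      obtain ⟨x, hx⟩ := hy
      exact ⟨x, Subtype.ext hx⟩
  obtain ⟨γ', hγ'⟩ : ∃ γ' : MulAut P₀, γ' = MulEquiv.ofBijective (γ.codRestrict P₀ hγP) hbij := ⟨_, rfl⟩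
  have hγ'val : ∀ y : P₀, ((γ' y : P₀) : Ω) = γ y := fun y => by rw [hγ']; rfl
  have hmem : γ' ∈ F.autGroup P₀ := by
    apply Subgroup.subset_closure
    have : P₀.subtype.comp γ'.toMonoidHom = γ := by
      ext y; exact hγ'val y
    show P₀.subtype.comp γ'.toMonoidHom ∈ F.Hom P₀
    rw [this]; exact hγ
  have htop := sylow_eq_top_of_isPGroup hp R
  have h1 : (⟨γ', hmem⟩ : F.autGroup P₀) ∈ (R : Subgroup ↥(F.autGroup P₀)) := by
    rw [htop]; exact Subgroup.mem_top _
  rw [hR, Subgroup.mem_subgroupOf, autInducedBy_eq_map] at h1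
  obtain ⟨n, hnS, hn⟩ := h1
  refine ⟨n, Subgroup.mem_subgroupOf.mp hnS, ?_⟩
  intro y
  rw [← hγ'val, ← normConj_apply, hn]

end Cfsg.Agent.Lib.Helper9
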