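import Cfsg.Agent.Lib.Helper9.StrongEmb
import Cfsg.Agent.Lib.Helper9.SylowConj
import Cfsg.Agent.Lib.Helper9.FusionSat

set_option autoImplicit false

namespace Cfsg.Agent.Lib.Helper9

open Cfsg Cfsg.FusionSystem

variable {X : Type*} [Group X]

/-- Normalizers of nontrivial subgroups of `P` lie in the `1`-generated core. -/
theorem normalizer_le_kGeneratedCore [Finite X] (p : ℕ) [hp : Fact p.Prime] (P : Sylow p X)
    {D : Subgroup X} (hDP : D ≤ P) (hD : D ≠ ⊥) :
    Subgroup.normalizer (D : Set X) ≤ kGeneratedCore p 1 (P : Subgroup X) := by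
  have hDp : IsPGroup p D := P.2.to_le hDP
  have hcard : Nat.card D ≠ 1 := fun h => hD (Subgroup.card_eq_one.mp h)
  have hrank := not_pRankLE_zero p hDp hcard
  unfold kGeneratedCore
  exact le_iSup (fun Q : {Q : Subgroup X // Q ≤ (P : Subgroup X) ∧ ¬ PRankLE p (1 - 1) Q} =>
    Subgroup.normalizer ((Q : Subgroup X) : Set X)) ⟨D, hDP, by simpa using hrank⟩

theorem mem_normalizer_of_map_conj_eq {H : Subgroup X} {x : X}
    (h : H.map (MulAut.conj x).toMonoidHom = H) : x ∈ Subgroup.normalizer (H : Set X) := by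
  rw [Subgroup.mem_normalizer_iff]
  intro y
  constructor
  · intro hy
    rw [← h]
    exact ⟨y, hy, rfl⟩
  · intro hy
    rw [← h] at hy
    obtain ⟨z, hz, hzy⟩ := hy
    have : z = y := by
      have h1 : x * z * x⁻¹ = x * y * x⁻¹ := hzy
      exact mul_left_cancel (mul_right_cancel h1)
    rw [← this]; exact hz

/-- Control of fusion by a subgroup containing the `1`-generated core: if a nontrivial subgroup of the
Sylow subgroup `P` is conjugated into `P` by `x`, then `x` lies in the subgroup. -/
theorem mem_of_kGeneratedCore_le [Finite X] (p : ℕ) [hp : Fact p.Prime] (P : Sylow p X)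
    (M : Subgroup X) (hM : kGeneratedCore p 1 (P : Subgroup X) ≤ M) :
    ∀ (D : Subgroup X), D ≤ P → D ≠ ⊥ → ∀ x : X, D.map (MulAut.conj x).toMonoidHom ≤ P → x ∈ M := by
  have hN : ∀ D : Subgroup X, D ≤ P → D ≠ ⊥ → Subgroup.normalizer (D : Set X) ≤ M :=
    fun D hDP hD => (normalizer_le_kGeneratedCore p P hDP hD).trans hM
  have key : ∀ k : ℕ, ∀ (D : Subgroup X), D ≤ P → D ≠ ⊥ →
      Nat.card (P : Subgroup X) - Nat.card D ≤ k →
      ∀ x : X, D.map (MulAut.conj x).toMonoidHom ≤ P → x ∈ M := by
    intro k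
    induction k with
    | zero =>
      intro D hDP hD hk x hx
      have hcle : Nat.card D ≤ Nat.card (P : Subgroup X) := Subgroup.card_le_of_le hDP
      have hDeq : D = (P : Subgroup X) := Subgroup.eq_of_le_of_card_ge hDP (by omega)
      have hmap : D.map (MulAut.conj x).toMonoidHom = D := by
        rw [hDeq] at hx ⊢
        exact Subgroup.eq_of_le_of_card_ge hx (by rw [card_map_conj])
      exact hN D hDP hD (mem_normalizer_of_map_conj_eq hmap)
    | succ k ih =>
      intro D hDP hD hk x hx
      by_cases hDeq : D = (P : Subgroup X)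
      · have hmap : D.map (MulAut.conj x).toMonoidHom = D := by
          rw [hDeq] at hx ⊢
          exact Subgroup.eq_of_le_of_card_ge hx (by rw [card_map_conj])
        exact hN D hDP hD (mem_normalizer_of_map_conj_eq hmap)
      · set D' := D.map (MulAut.conj x).toMonoidHom with hD'
        have hcardD' : Nat.card D' = Nat.card D := card_map_conj D x
        have hD'ne : D' ≠ (P : Subgroup X) := by
          intro h
          apply hDeq
          apply Subgroup.eq_of_le_of_card_ge hDP
          rw [← hcardD', h]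
        have hlt := card_lt_card_normalizerIn p P.2 hx hD'ne
        set N₂ := normalizerIn (P : Subgroup X) D' with hN₂
        have hN₂P : N₂ ≤ P := normalizerIn_le_left _ _
        set D₂ := N₂.map (MulAut.conj x⁻¹).toMonoidHom with hD₂
        have hcardD₂ : Nat.card D₂ = Nat.card N₂ := card_map_conj N₂ x⁻¹
        have hPM : (P : Subgroup X) ≤ M := by
          have hPne : (P : Subgroup X) ≠ ⊥ := by
            intro h
            apply hD
            rw [eq_bot_iff, ← h]
            exact hDP
          exact (Subgroup.le_normalizer).trans (hN _ le_rfl hPne)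
        have hD₂N : D₂ ≤ Subgroup.normalizer (D : Set X) := by
          rintro _ ⟨n, hn, rfl⟩
          have hnN : n ∈ Subgroup.normalizer (D' : Set X) := hn.2
          rw [Subgroup.mem_normalizer_iff] at hnN ⊢
          intro y
          show y ∈ D ↔ (x⁻¹ * n * x⁻¹⁻¹) * y * (x⁻¹ * n * x⁻¹⁻¹)⁻¹ ∈ D
          have h1 : y ∈ D ↔ x * y * x⁻¹ ∈ D' := by
            constructor
            · intro hy; exact ⟨y, hy, rfl⟩
            · rintro ⟨z, hz, hzy⟩
              have h1 : x * z * x⁻¹ = x * y * x⁻¹ := hzy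
              have : z = y := mul_left_cancel (mul_right_cancel h1)
              rw [← this]; exact hz
          have h2 : (x⁻¹ * n * x⁻¹⁻¹) * y * (x⁻¹ * n * x⁻¹⁻¹)⁻¹ ∈ D ↔
              x * ((x⁻¹ * n * x⁻¹⁻¹) * y * (x⁻¹ * n * x⁻¹⁻¹)⁻¹) * x⁻¹ ∈ D' := by
            constructor
            · intro hy; exact ⟨_, hy, rfl⟩
            · rintro ⟨z, hz, hzy⟩
              have h1 : x * z * x⁻¹ = x * ((x⁻¹ * n * x⁻¹⁻¹) * y * (x⁻¹ * n * x⁻¹⁻¹)⁻¹) * x⁻¹ := hzy
              have : z = (x⁻¹ * n * x⁻¹⁻¹) * y * (x⁻¹ * n * x⁻¹⁻¹)⁻¹ :=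
                mul_left_cancel (mul_right_cancel h1)
              rw [← this]; exact hz
          rw [h1, h2, hnN (x * y * x⁻¹)]
          have e : x * ((x⁻¹ * n * x⁻¹⁻¹) * y * (x⁻¹ * n * x⁻¹⁻¹)⁻¹) * x⁻¹ =
              n * (x * y * x⁻¹) * n⁻¹ := by group
          rw [e]
        have hD₂M : D₂ ≤ M := hD₂N.trans (hN D hDP hD)
        have hD₂p : IsPGroup p D₂ := by
          have : IsPGroup p N₂ := P.2.to_le hN₂P
          exact this.map _
        have hPcard : Nat.card (P : Subgroup X) = p ^ (Nat.card M).factorization p :=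
          sylow_card_of_le p hPM le_top (by
            rw [Subgroup.card_top]; exact P.card_eq_multiplicity)
        obtain ⟨m, hmM, hm⟩ := exists_conj_le_of_sylow_card p hPM hD₂M hD₂p hPcard
        set D₃ := D₂.map (MulAut.conj m).toMonoidHom with hD₃
        have hcardD₃ : Nat.card D₃ = Nat.card D₂ := card_map_conj D₂ m
        have hD₃ne : D₃ ≠ ⊥ := by
          intro h
          have h1 : Nat.card D₃ = 1 := by rw [h]; exact Subgroup.card_bot
          have h2 : 0 < Nat.card D := Nat.card_pos
          omega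
        have hx' : D₃.map (MulAut.conj (x * m⁻¹)).toMonoidHom ≤ P := by
          rintro _ ⟨_, ⟨_, ⟨n, hn, rfl⟩, rfl⟩, rfl⟩
          have e : (MulAut.conj (x * m⁻¹)).toMonoidHom
              ((MulAut.conj m).toMonoidHom ((MulAut.conj x⁻¹).toMonoidHom n)) = n := by
            show (x * m⁻¹) * (m * (x⁻¹ * n * x⁻¹⁻¹) * m⁻¹) * (x * m⁻¹)⁻¹ = n
            group
          rw [e]
          exact hN₂P hn
        have hcle : Nat.card D₃ ≤ Nat.card (P : Subgroup X) := Subgroup.card_le_of_le hm
        have hmem := ih D₃ hm hD₃ne (by omega) (x * m⁻¹) hx'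
        have : x = (x * m⁻¹) * m := by group
        rw [this]
        exact M.mul_mem hmem hmM
  intro D hDP hD x hx
  exact key _ D hDP hD le_rfl x hx

end Cfsg.Agent.Lib.Helper9
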