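import Cfsg.Agent.Lib.Helper9.FusionAlp4
import Cfsg.Agent.Lib.Helper9.StrongEmb2

set_option autoImplicit false

namespace Cfsg.Agent.Lib.Helper9

open Cfsg Cfsg.FusionSystem

variable {Ω : Type*} [Group Ω] {S : Subgroup Ω}

/-- The closure of the extendable automorphisms lies in `Aut_F(P)`. -/
theorem closure_extGens_le_autGroup (F : FusionSystem S) {P : Subgroup Ω} (hPS : P ≤ S) :
    Subgroup.closure (extGens F P) ≤ F.autGroup P := by
  rw [Subgroup.closure_le]
  rintro α ⟨Q, hPQ, φ, hφ, hφα⟩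
  rw [SetLike.mem_coe, mem_autGroup_iff F hPS]
  have h := restrict_mem F hφ hPQ.le
  have e : φ.comp (Subgroup.inclusion hPQ.le) = P.subtype.comp α.toMonoidHom := by
    ext x
    exact hφα x
  rw [← e]; exact h

/-- `Aut_S(P)` consists of extendable automorphisms when `P < S`. -/
theorem autInducedBy_le_closure_extGens [Finite S] (p : ℕ) [Fact p.Prime] (hS : IsPGroup p S)
    (F : FusionSystem S) {P : Subgroup Ω} (hPS : P ≤ S) (hne : P ≠ S) :
    autInducedBy S P ≤ Subgroup.closure (extGens F P) := by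
  unfold autInducedBy
  apply Subgroup.closure_mono
  rintro α ⟨g, hgS, hg⟩
  have hlt := lt_normalizerIn p hS hPS hne
  exact ⟨normalizerIn S P, hlt, conjHom _ g, F.conj_mem (normalizerIn_le_left S P) hgS,
    fun y => (hg y).symm⟩

/-- The `1`-generated core of `Out_F(P)` (with respect to `Out_S(P)`) lies in the image of the group
generated by the extendable automorphisms. -/
theorem core_le_map_closure_extGens [Finite S] (p : ℕ) [hp : Fact p.Prime]
    (hS : IsPGroup p S) (F : FusionSystem S) (hF : F.IsSaturated p) {P : Subgroup Ω}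
    (hPfn : F.IsFullyNormalized P) (hPne : P ≠ S)
    [hIn : ((Inn P).subgroupOf (F.autGroup P)).Normal]
    (R : Sylow p ↥(F.autGroup P))
    (hR : (R : Subgroup ↥(F.autGroup P)) = (autInducedBy S P).subgroupOf (F.autGroup P))
    (T' : Sylow p (↥(F.autGroup P) ⧸ (Inn P).subgroupOf (F.autGroup P)))
    (hT' : T'.toSubgroup = (R : Subgroup ↥(F.autGroup P)).map
        (QuotientGroup.mk' ((Inn P).subgroupOf (F.autGroup P)))) :
    kGeneratedCore p 1 T'.toSubgroup ≤
      ((Subgroup.closure (extGens F P)).subgroupOf (F.autGroup P)).map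
        (QuotientGroup.mk' ((Inn P).subgroupOf (F.autGroup P))) := by
  have hPS := hPfn.1
  obtain ⟨hfc, hfa⟩ := sat_fullyNormalized p hS F hF hPfn
  have hrec := sat_fullyCentralized_receptive p hS F hF hfc
  have hfinP : Finite P := finite_of_le' hPS
  have hRelem : ∀ r : ↥(F.autGroup P), r ∈ (R : Subgroup ↥(F.autGroup P)) →
      ∃ (n : Ω) (hnS : n ∈ S) (hnN : n ∈ Subgroup.normalizer (P : Set Ω)),
        (r : MulAut P) = normConj P ⟨n, hnN⟩ := by
    intro r hr
    rw [hR, Subgroup.mem_subgroupOf, autInducedBy_eq_map] at hr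
    obtain ⟨n, hnS, hn⟩ := hr
    exact ⟨n, Subgroup.mem_subgroupOf.mp hnS, n.2, hn.symm⟩
  unfold kGeneratedCore
  apply iSup_le
  rintro ⟨Qb, hQbT, hQbr⟩
  intro ab hab
  have hQbne : Qb ≠ ⊥ := by
    rintro rfl
    exact hQbr (pRankLE_zero_of_bot p)
  obtain ⟨qb, hqb, hqb1⟩ := (Subgroup.bot_or_exists_ne_one Qb).resolve_left hQbne
  obtain ⟨α, rfl⟩ := QuotientGroup.mk'_surjective _ ab
  refine ⟨α, ?_, rfl⟩
  rw [SetLike.mem_coe, Subgroup.mem_subgroupOf]
  apply Subgroup.subset_closure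
  have hqbT : qb ∈ T'.toSubgroup := hQbT hqb
  rw [hT'] at hqbT
  obtain ⟨r, hr, hrq⟩ := hqbT
  obtain ⟨g₀, hg₀S, hg₀N, hrg₀⟩ := hRelem r hr
  have hg₀P : g₀ ∉ P := by
    intro h
    apply hqb1
    rw [← hrq, QuotientGroup.mk'_apply, QuotientGroup.eq_one_iff, Subgroup.mem_subgroupOf, hrg₀]
    exact ⟨⟨g₀, h⟩, by ext y; rfl⟩
  refine mem_extGens_of_extender F hPS hrec α.2 ?_ hg₀P
  apply mem_extender_of_conj_mem F (α : MulAut P) hg₀S hg₀N
  have h1 : QuotientGroup.mk' ((Inn P).subgroupOf (F.autGroup P)) (α * r * α⁻¹) ∈ Qb := by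
    rw [map_mul, map_mul, map_inv, hrq]
    exact (Subgroup.mem_normalizer_iff.mp hab qb).mp hqb
  have h2 := hQbT h1
  rw [hT'] at h2
  obtain ⟨r', hr', hr'q⟩ := h2
  have h3 : r'⁻¹ * (α * r * α⁻¹) ∈ (Inn P).subgroupOf (F.autGroup P) := by
    rw [← QuotientGroup.eq_one_iff, ← QuotientGroup.mk'_apply, map_mul, map_inv, hr'q, inv_mul_cancel]
  have hIR : (Inn P).subgroupOf (F.autGroup P) ≤ (R : Subgroup ↥(F.autGroup P)) := by
    rw [hR]
    intro x hx
    exact Subgroup.mem_subgroupOf.mpr (inn_le_autInducedBy hPS (Subgroup.mem_subgroupOf.mp hx))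
  have h4 : α * r * α⁻¹ ∈ (R : Subgroup ↥(F.autGroup P)) := by
    have : α * r * α⁻¹ = r' * (r'⁻¹ * (α * r * α⁻¹)) := by group
    rw [this]
    exact Subgroup.mul_mem _ hr' (hIR h3)
  rw [hR, Subgroup.mem_subgroupOf] at h4
  have h5 : ((α * r * α⁻¹ : ↥(F.autGroup P)) : MulAut P) =
      (α : MulAut P) * normConj P ⟨g₀, hg₀N⟩ * (α : MulAut P)⁻¹ := by
    rw [← hrg₀]; rfl
  rw [h5] at h4
  exact h4

/-- For a centric proper subgroup `P`, conjugation by an element of `N_S(P)` outside `P` has nontrivial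
image in `Out_F(P)`. -/
theorem mk_normConj_ne_one (F : FusionSystem S) {P : Subgroup Ω} (hPS : P ≤ S)
    (hC : centralizerIn S P ≤ P) [hIn : ((Inn P).subgroupOf (F.autGroup P)).Normal]
    {g : Ω} (hgS : g ∈ S) (hgN : g ∈ Subgroup.normalizer (P : Set Ω)) (hgP : g ∉ P)
    (hA : normConj P ⟨g, hgN⟩ ∈ F.autGroup P) :
    QuotientGroup.mk' ((Inn P).subgroupOf (F.autGroup P)) ⟨normConj P ⟨g, hgN⟩, hA⟩ ≠ 1 := by
  intro h
  rw [QuotientGroup.mk'_apply, QuotientGroup.eq_one_iff, Subgroup.mem_subgroupOf] at h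
  exact hgP (mem_of_normConj_mem_inn hPS hC hgS hgN h)

/-- `p` divides the order of `Out_F(P)` for a centric proper subgroup. -/
theorem dvd_card_out [Finite S] (p : ℕ) [hp : Fact p.Prime]
    (hS : IsPGroup p S) (F : FusionSystem S) {P : Subgroup Ω}
    (hPS : P ≤ S) (hPne : P ≠ S) (hC : centralizerIn S P ≤ P)
    [hIn : ((Inn P).subgroupOf (F.autGroup P)).Normal]
    (R : Sylow p ↥(F.autGroup P))
    (hR : (R : Subgroup ↥(F.autGroup P)) = (autInducedBy S P).subgroupOf (F.autGroup P))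
    (T' : Sylow p (↥(F.autGroup P) ⧸ (Inn P).subgroupOf (F.autGroup P)))
    (hT' : T'.toSubgroup = (R : Subgroup ↥(F.autGroup P)).map
        (QuotientGroup.mk' ((Inn P).subgroupOf (F.autGroup P)))) :
    p ∣ Nat.card (↥(F.autGroup P) ⧸ (Inn P).subgroupOf (F.autGroup P)) := by
  have hfinP : Finite P := finite_of_le' hPS
  have hfinA : Finite ↥(F.autGroup P) := inferInstance
  have hNN : normalizerIn S P ≤ Subgroup.normalizer (P : Set Ω) := normalizerIn_le_normalizer S P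
  have hBA := autInducedBy_le_autGroup F hPS
  obtain ⟨g₁, hg₁N, hg₁P⟩ := SetLike.exists_of_lt (lt_normalizerIn p hS hPS hPne)
  have hc : normConj P ⟨g₁, hNN hg₁N⟩ ∈ autInducedBy S P :=
    Subgroup.subset_closure ⟨g₁, normalizerIn_le_left S P hg₁N, fun x => rfl⟩
  have hT'ne : T'.toSubgroup ≠ ⊥ := by
    intro hbot
    have hmem : QuotientGroup.mk' ((Inn P).subgroupOf (F.autGroup P))
        ⟨normConj P ⟨g₁, hNN hg₁N⟩, hBA hc⟩ ∈ T'.toSubgroup := by
      rw [hT']
      refine ⟨_, ?_, rfl⟩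
      rw [SetLike.mem_coe, hR]
      exact Subgroup.mem_subgroupOf.mpr hc
    rw [hbot, Subgroup.mem_bot] at hmem
    exact mk_normConj_ne_one F hPS hC (normalizerIn_le_left S P hg₁N) (hNN hg₁N) hg₁P (hBA hc) hmem
  have hcard : Nat.card T'.toSubgroup ≠ 1 := fun h => hT'ne (Subgroup.card_eq_one.mp h)
  have h1 : p ∣ Nat.card T'.toSubgroup := T'.isPGroup'.card_eq_or_dvd.resolve_left hcard
  exact h1.trans (Subgroup.card_subgroup_dvd_card _)

end Cfsg.Agent.Lib.Helper9
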