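import Cfsg.Agent.Lib.Helper9.FusionEss

set_option autoImplicit false

namespace Cfsg.Agent.Lib.Helper9

open Cfsg Cfsg.FusionSystem

variable {Ω : Type*} [Group Ω] {S : Subgroup Ω}

/-- The image in `Out_F(P)` of the group generated by the extendable automorphisms lies in every
subgroup containing the `1`-generated core (with respect to `Out_S(P)`). -/
theorem map_closure_extGens_le [Finite S] (p : ℕ) [hp : Fact p.Prime]
    (hS : IsPGroup p S) (F : FusionSystem S) {P : Subgroup Ω}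
    (hPS : P ≤ S) (hC : centralizerIn S P ≤ P)
    [hIn : ((Inn P).subgroupOf (F.autGroup P)).Normal]
    (R : Sylow p ↥(F.autGroup P))
    (hR : (R : Subgroup ↥(F.autGroup P)) = (autInducedBy S P).subgroupOf (F.autGroup P))
    (T' : Sylow p (↥(F.autGroup P) ⧸ (Inn P).subgroupOf (F.autGroup P)))
    (hT' : T'.toSubgroup = (R : Subgroup ↥(F.autGroup P)).map
        (QuotientGroup.mk' ((Inn P).subgroupOf (F.autGroup P))))
    (M : Subgroup (↥(F.autGroup P) ⧸ (Inn P).subgroupOf (F.autGroup P)))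
    (hM : kGeneratedCore p 1 T'.toSubgroup ≤ M) :
    ((Subgroup.closure (extGens F P)).subgroupOf (F.autGroup P)).map
        (QuotientGroup.mk' ((Inn P).subgroupOf (F.autGroup P))) ≤ M := by
  have hfinP : Finite P := finite_of_le' hPS
  have hfinA : Finite ↥(F.autGroup P) := inferInstance
  have hfinX : Finite (↥(F.autGroup P) ⧸ (Inn P).subgroupOf (F.autGroup P)) := inferInstance
  have key : ∀ α ∈ extGens F P, ∀ hA : α ∈ F.autGroup P,
      QuotientGroup.mk' ((Inn P).subgroupOf (F.autGroup P)) ⟨α, hA⟩ ∈ M := by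
    rintro α ⟨Q, hPQ, φ, hφ, hφα⟩ hA
    have hQS : Q ≤ S := (F.le_of_mem hφ).1
    have hφS : ∀ y : Q, φ y ∈ S := (F.le_of_mem hφ).2
    have hfinQ : Finite Q := finite_of_le' hQS
    have hQp : IsPGroup p Q := hS.to_le hQS
    have hlt : P < normalizerIn Q P := lt_normalizerIn p hQp hPQ.le hPQ.ne
    obtain ⟨g₁, hg₁R, hg₁P⟩ := SetLike.exists_of_lt hlt
    have hR₁S : normalizerIn Q P ≤ S := (normalizerIn_le_left Q P).trans hQS
    have hR₁N : normalizerIn Q P ≤ Subgroup.normalizer (P : Set Ω) := normalizerIn_le_normalizer Q P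
    have hle : (autInducedBy (normalizerIn Q P) P).subgroupOf (F.autGroup P) ≤
        (R : Subgroup ↥(F.autGroup P)) := by
      rw [hR]
      intro x hx
      exact Subgroup.mem_subgroupOf.mpr (autInducedBy_mono hR₁S P (Subgroup.mem_subgroupOf.mp hx))
    have hDT : ((autInducedBy (normalizerIn Q P) P).subgroupOf (F.autGroup P)).map
        (QuotientGroup.mk' ((Inn P).subgroupOf (F.autGroup P))) ≤ T'.toSubgroup := by
      rw [hT']
      exact Subgroup.map_mono hle
    have hBA := autInducedBy_le_autGroup F hPS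
    have hDne : ((autInducedBy (normalizerIn Q P) P).subgroupOf (F.autGroup P)).map
        (QuotientGroup.mk' ((Inn P).subgroupOf (F.autGroup P))) ≠ ⊥ := by
      intro hbot
      have hc : normConj P ⟨g₁, hR₁N hg₁R⟩ ∈ autInducedBy (normalizerIn Q P) P :=
        Subgroup.subset_closure ⟨g₁, hg₁R, fun x => rfl⟩
      have hcA : normConj P ⟨g₁, hR₁N hg₁R⟩ ∈ F.autGroup P :=
        hBA (autInducedBy_mono hR₁S P hc)
      have hmem : QuotientGroup.mk' ((Inn P).subgroupOf (F.autGroup P))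
          ⟨normConj P ⟨g₁, hR₁N hg₁R⟩, hcA⟩ ∈
          ((autInducedBy (normalizerIn Q P) P).subgroupOf (F.autGroup P)).map
            (QuotientGroup.mk' ((Inn P).subgroupOf (F.autGroup P))) :=
        ⟨_, Subgroup.mem_subgroupOf.mpr hc, rfl⟩
      rw [hbot, Subgroup.mem_bot] at hmem
      exact mk_normConj_ne_one F hPS hC (hR₁S hg₁R) (hR₁N hg₁R) hg₁P hcA hmem
    refine mem_of_kGeneratedCore_le p T' M hM _ hDT hDne _ ?_
    rintro _ ⟨_, ⟨d, hd, rfl⟩, rfl⟩
    rw [SetLike.mem_coe, Subgroup.mem_subgroupOf, autInducedBy_eq_map] at hd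
    obtain ⟨n, hn, hnd⟩ := hd
    have hnR₁ : (n : Ω) ∈ normalizerIn Q P := Subgroup.mem_subgroupOf.mp hn
    have hnQ : (n : Ω) ∈ Q := normalizerIn_le_left Q P hnR₁
    rw [hT']
    refine ⟨(⟨α, hA⟩ : ↥(F.autGroup P)) * d * (⟨α, hA⟩ : ↥(F.autGroup P))⁻¹, ?_, ?_⟩
    · rw [SetLike.mem_coe, hR, Subgroup.mem_subgroupOf]
      show α * (d : MulAut P) * α⁻¹ ∈ autInducedBy S P
      apply Subgroup.subset_closure
      refine ⟨φ ⟨(n : Ω), hnQ⟩, hφS _, fun y => ?_⟩
      rw [← hnd]
      show ((α (normConj P n (α⁻¹ y)) : P) : Ω) = _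
      rw [← hφα (normConj P n (α⁻¹ y))]
      have e1 : Subgroup.inclusion hPQ.le (normConj P n (α⁻¹ y)) =
          (⟨(n : Ω), hnQ⟩ : Q) * Subgroup.inclusion hPQ.le (α⁻¹ y) * (⟨(n : Ω), hnQ⟩ : Q)⁻¹ := by
        apply Subtype.ext
        rfl
      rw [e1, map_mul, map_mul, map_inv, hφα (α⁻¹ y)]
      have e2 : α (α⁻¹ y) = y := MulEquiv.apply_symm_apply α y
      rw [e2]
    · rw [map_mul, map_mul, map_inv]
      rfl
  rintro _ ⟨a, ha, rfl⟩
  rw [SetLike.mem_coe, Subgroup.mem_subgroupOf] at ha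
  have gen : ∀ β : MulAut P, β ∈ Subgroup.closure (extGens F P) → ∀ hA : β ∈ F.autGroup P,
      QuotientGroup.mk' ((Inn P).subgroupOf (F.autGroup P)) ⟨β, hA⟩ ∈ M := by
    intro β hβ
    induction hβ using Subgroup.closure_induction with
    | mem x hx => exact key x hx
    | one =>
      intro hA
      have : (⟨1, hA⟩ : ↥(F.autGroup P)) = 1 := rfl
      rw [this, map_one]
      exact M.one_mem
    | mul x y hx hy ihx ihy =>
      intro hA
      have hxA := closure_extGens_le_autGroup F hPS hx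
      have hyA := closure_extGens_le_autGroup F hPS hy
      have : (⟨x * y, hA⟩ : ↥(F.autGroup P)) = ⟨x, hxA⟩ * ⟨y, hyA⟩ := rfl
      rw [this, map_mul]
      exact M.mul_mem (ihx hxA) (ihy hyA)
    | inv x hx ihx =>
      intro hA
      have hxA := closure_extGens_le_autGroup F hPS hx
      have : (⟨x⁻¹, hA⟩ : ↥(F.autGroup P)) = (⟨x, hxA⟩ : ↥(F.autGroup P))⁻¹ := rfl
      rw [this, map_inv]
      exact M.inv_mem (ihx hxA)
  exact gen a ha a.2

/-- If `P` is essential, the image in `Out_F(P)` of the group generated by the extendable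
automorphisms is a proper subgroup. -/
theorem map_closure_extGens_ne_top [Finite S] (p : ℕ) [hp : Fact p.Prime]
    (hS : IsPGroup p S) (F : FusionSystem S) {P : Subgroup Ω}
    (hess : F.IsEssential p P)
    [hIn : ((Inn P).subgroupOf (F.autGroup P)).Normal]
    (R : Sylow p ↥(F.autGroup P))
    (hR : (R : Subgroup ↥(F.autGroup P)) = (autInducedBy S P).subgroupOf (F.autGroup P)) :
    ((Subgroup.closure (extGens F P)).subgroupOf (F.autGroup P)).map
        (QuotientGroup.mk' ((Inn P).subgroupOf (F.autGroup P))) ≠ ⊤ := by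
  obtain ⟨hcen, hfn, hIn', Mb, hdvd, hMtop, Qb, hQb⟩ := hess
  have hPS := hfn.1
  have hC : centralizerIn S P ≤ P := hcen.2 P (isConj_refl F hPS)
  have hfinP : Finite P := finite_of_le' hPS
  have hfinA : Finite ↥(F.autGroup P) := inferInstance
  have hfinX : Finite (↥(F.autGroup P) ⧸ (Inn P).subgroupOf (F.autGroup P)) := inferInstance
  obtain ⟨T', hT'⟩ : ∃ T' : Sylow p (↥(F.autGroup P) ⧸ (Inn P).subgroupOf (F.autGroup P)),
      T'.toSubgroup = (R : Subgroup ↥(F.autGroup P)).map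
        (QuotientGroup.mk' ((Inn P).subgroupOf (F.autGroup P))) :=
    ⟨R.mapSurjective (QuotientGroup.mk'_surjective _), rfl⟩
  obtain ⟨g, hg⟩ := MulAction.exists_smul_eq
    (↥(F.autGroup P) ⧸ (Inn P).subgroupOf (F.autGroup P)) T' Qb
  have hconj : ∀ d ∈ T'.toSubgroup, g * d * g⁻¹ ∈ Qb.toSubgroup := by
    intro d hd
    have h1 : (MulAut.conj g) d ∈ ((g • T' : Sylow p _) : Subgroup _) := by
      rw [Sylow.coe_subgroup_smul]
      exact Subgroup.smul_mem_pointwise_smul _ _ _ hd
    rw [hg] at h1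
    exact h1
  have hM' : kGeneratedCore p 1 T'.toSubgroup ≤ Mb.comap (MulAut.conj g).toMonoidHom := by
    unfold kGeneratedCore
    apply iSup_le
    rintro ⟨D, hDT, hDr⟩ n hn
    have hDne : D ≠ ⊥ := by
      rintro rfl
      exact hDr (pRankLE_zero_of_bot p)
    rw [Subgroup.mem_comap]
    have hD'Q : D.map (MulAut.conj g).toMonoidHom ≤ Qb.toSubgroup := by
      rintro _ ⟨d, hd, rfl⟩
      exact hconj d (hDT hd)
    have hD'ne : D.map (MulAut.conj g).toMonoidHom ≠ ⊥ := by
      intro h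
      exact hDne ((Subgroup.map_eq_bot_iff_of_injective D (MulAut.conj g).injective).mp h)
    have hnN : (MulAut.conj g).toMonoidHom n ∈
        Subgroup.normalizer ((D.map (MulAut.conj g).toMonoidHom : Subgroup _) : Set _) := by
      rw [normalizer_map_conj]
      exact ⟨n, hn, rfl⟩
    exact hQb (normalizer_le_kGeneratedCore p Qb hD'Q hD'ne hnN)
  have hle := map_closure_extGens_le p hS F hPS hC R hR T' hT' _ hM'
  intro htop
  apply hMtop
  rw [eq_top_iff]
  intro y _
  have h1 : g⁻¹ * y * g ∈ Mb.comap (MulAut.conj g).toMonoidHom := by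
    apply hle
    rw [htop]
    exact Subgroup.mem_top _
  rw [Subgroup.mem_comap] at h1
  have e : (MulAut.conj g).toMonoidHom (g⁻¹ * y * g) = y := by
    show g * (g⁻¹ * y * g) * g⁻¹ = y
    group
  rw [e] at h1
  exact h1

end Cfsg.Agent.Lib.Helper9
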