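import Cfsg.Prelude.Def_FusionComponents
import Cfsg.Agent.Lib.Helper9.Fusion3

set_option autoImplicit false

namespace Cfsg.Agent.Lib.Helper9

open Cfsg Cfsg.FusionSystem

variable {Ω : Type*} [Group Ω] {S : Subgroup Ω} {Ω' : Type*} [Group Ω']

theorem preimageAlong_le (θ : S →* Ω') (P' : Subgroup Ω') : preimageAlong θ P' ≤ S := by
  rintro _ ⟨s, -, rfl⟩
  exact s.2

theorem mem_preimageAlong {θ : S →* Ω'} {P' : Subgroup Ω'} {x : Ω} (hx : x ∈ S) :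
    x ∈ preimageAlong θ P' ↔ θ ⟨x, hx⟩ ∈ P' := by
  constructor
  · rintro ⟨s, hs, hsx⟩
    have : s = ⟨x, hx⟩ := Subtype.ext hsx
    rw [← this]; exact hs
  · intro h
    exact ⟨⟨x, hx⟩, h, rfl⟩

theorem map_preimageAlong_mem {θ : S →* Ω'} {P' : Subgroup Ω'} (x : ↥(preimageAlong θ P')) :
    θ ⟨x, preimageAlong_le θ P' x.2⟩ ∈ P' :=
  (mem_preimageAlong (preimageAlong_le θ P' x.2)).mp x.2

theorem exists_preimageAlong {θ : S →* Ω'} {S' P' : Subgroup Ω'} (hS' : θ.range = S') (hP' : P' ≤ S')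
    (y : P') : ∃ x : ↥(preimageAlong θ P'), θ ⟨x, preimageAlong_le θ P' x.2⟩ = y := by
  have hy : (y : Ω') ∈ θ.range := by rw [hS']; exact hP' y.2
  obtain ⟨s, hs⟩ := hy
  refine ⟨⟨s, (mem_preimageAlong s.2).mpr (by rw [hs]; exact y.2)⟩, hs⟩

/-- In a strongly closed situation, a map of the system reflects membership in `S₀`. -/
theorem mem_of_map_mem_stronglyClosed (F : FusionSystem S) {S₀ : Subgroup Ω} (hS₀ : F.StronglyClosed S₀)
    {P : Subgroup Ω} {φ : P →* Ω} (hφ : φ ∈ F.Hom P) (x : P) (hx : φ x ∈ S₀) : (x : Ω) ∈ S₀ := by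
  obtain ⟨ψ, hψ, hψφ⟩ := F.inv_mem hφ
  have hle : φ.range ⊓ S₀ ≤ φ.range := inf_le_left
  have h1 := hS₀.2 (φ.range ⊓ S₀) inf_le_right _ (restrict_mem F hψ hle)
    ⟨φ x, Subgroup.mem_inf.mpr ⟨⟨x, rfl⟩, hx⟩⟩
  have h2 : (ψ.comp (Subgroup.inclusion hle)) ⟨φ x, Subgroup.mem_inf.mpr ⟨⟨x, rfl⟩, hx⟩⟩ = x := hψφ x
  rw [h2] at h1
  exact h1

/-- The factor system of `F` modulo a strongly closed subgroup `S₀`, read through `θ`. -/
def factorSystem [Finite S] (F : FusionSystem S) (S₀ : Subgroup Ω) (hS₀ : F.StronglyClosed S₀)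
    (θ : S →* Ω') (S' : Subgroup Ω') (hS' : θ.range = S')
    (hker : ∀ s : S, θ s = 1 ↔ (s : Ω) ∈ S₀) : FusionSystem S' where
  Hom P' := {φ' | P' ≤ S' ∧ ∃ φ ∈ F.Hom (preimageAlong θ P'), InducedAlong θ φ φ'}
  le_of_mem := by
    rintro P' φ' ⟨hP', φ, hφ, hP, hφS, hPP', hind⟩
    refine ⟨hP', fun y => ?_⟩
    obtain ⟨x, hx⟩ := exists_preimageAlong hS' hP' y
    have : y = ⟨θ ⟨x, hP x.2⟩, hPP' x⟩ := Subtype.ext hx.symm
    rw [this, hind x, ← hS']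
    exact ⟨_, rfl⟩
  injective_of_mem := by
    rintro P' φ' ⟨hP', φ, hφ, hP, hφS, hPP', hind⟩
    rw [injective_iff_map_eq_one]
    intro y hy
    obtain ⟨x, hx⟩ := exists_preimageAlong hS' hP' y
    have hyx : y = ⟨θ ⟨x, hP x.2⟩, hPP' x⟩ := Subtype.ext hx.symm
    rw [hyx, hind x, hker] at hy
    have hx₀ := mem_of_map_mem_stronglyClosed F hS₀ hφ x hy
    rw [hyx]
    apply Subtype.ext
    exact (hker ⟨x, hP x.2⟩).mpr hx₀
  conj_mem := by
    intro P' g' hP' hg'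
    have hg : g' ∈ θ.range := by rw [hS']; exact hg'
    obtain ⟨g, rfl⟩ := hg
    refine ⟨hP', conjHom _ (g : Ω), F.conj_mem (preimageAlong_le θ P') g.2, preimageAlong_le θ P',
      fun x => S.mul_mem (S.mul_mem g.2 (preimageAlong_le θ P' x.2)) (S.inv_mem g.2),
      fun x => map_preimageAlong_mem x, ?_⟩
    intro x
    show θ g * θ ⟨x, _⟩ * (θ g)⁻¹ = θ ⟨(g : Ω) * x * (g : Ω)⁻¹, _⟩
    rw [← map_inv, ← map_mul, ← map_mul]
    rfl
  comp_mem := by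
    rintro P' Q' φ' ψ' ⟨hP', φ, hφ, hP, hφS, hPP', hφind⟩ ⟨hQ', ψ, hψ, hQ, hψS, hQQ', hψind⟩ h
    have hval : ∀ x : ↥(preimageAlong θ P'), φ x ∈ preimageAlong θ Q' := by
      intro x
      rw [mem_preimageAlong (hφS x), ← hφind x]
      exact h _
    refine ⟨hP', ψ.comp (φ.codRestrict _ hval), F.comp_mem hφ hψ hval, hP, fun x => hψS _, hPP', ?_⟩
    intro x
    show ψ' ⟨φ' ⟨θ ⟨x, _⟩, _⟩, _⟩ = θ ⟨ψ ⟨φ x, hval x⟩, _⟩
    rw [← hψind ⟨φ x, hval x⟩]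
    congr 1
    apply Subtype.ext
    exact hφind x
  inv_mem := by
    rintro P' φ' ⟨hP', φ, hφ, hP, hφS, hPP', hφind⟩
    have hinj : Function.Injective φ' := by
      rw [injective_iff_map_eq_one]
      intro y hy
      obtain ⟨x, hx⟩ := exists_preimageAlong hS' hP' y
      have hyx : y = ⟨θ ⟨x, hP x.2⟩, hPP' x⟩ := Subtype.ext hx.symm
      rw [hyx, hφind x, hker] at hy
      have hx₀ := mem_of_map_mem_stronglyClosed F hS₀ hφ x hy
      rw [hyx]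
      apply Subtype.ext
      exact (hker ⟨x, hP x.2⟩).mpr hx₀
    have hR'S' : φ'.range ≤ S' := by
      rintro _ ⟨y, rfl⟩
      obtain ⟨x, hx⟩ := exists_preimageAlong hS' hP' y
      have : y = ⟨θ ⟨x, hP x.2⟩, hPP' x⟩ := Subtype.ext hx.symm
      rw [this, hφind x, ← hS']
      exact ⟨_, rfl⟩
    obtain ⟨ψ, hψ, hψφ⟩ := F.inv_mem hφ
    -- S₀ ≤ φ.range
    have hS₀P : S₀ ≤ preimageAlong θ P' := by
      intro s hs
      rw [mem_preimageAlong (hS₀.1 hs)]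
      rw [(hker ⟨s, hS₀.1 hs⟩).mpr hs]
      exact P'.one_mem
    have hφS₀ : ∀ s : S₀, φ ⟨s, hS₀P s.2⟩ ∈ S₀ := by
      intro s
      have := hS₀.2 S₀ le_rfl _ (restrict_mem F hφ hS₀P) s
      exact this
    have hfinS₀ : Finite S₀ := finite_of_le' hS₀.1
    have hS₀range : S₀ ≤ φ.range := by
      intro s hs
      have hinj₀ : Function.Injective (fun s : S₀ => (⟨φ ⟨s, hS₀P s.2⟩, hφS₀ s⟩ : S₀)) := by
        intro a b hab
        have h1 : φ ⟨a, hS₀P a.2⟩ = φ ⟨b, hS₀P b.2⟩ := congrArg Subtype.val hab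
        have h2 := F.injective_of_mem hφ h1
        apply Subtype.ext
        exact congrArg (fun t : ↥(preimageAlong θ P') => (t : Ω)) h2
      obtain ⟨a, ha⟩ := (Finite.injective_iff_surjective.mp hinj₀) ⟨s, hs⟩
      exact ⟨⟨a, hS₀P a.2⟩, congrArg Subtype.val ha⟩
    have hle : preimageAlong θ φ'.range ≤ φ.range := by
      intro z hz
      have hzS := preimageAlong_le θ _ hz
      rw [mem_preimageAlong hzS] at hz
      obtain ⟨y, hy⟩ := hz
      obtain ⟨x, hx⟩ := exists_preimageAlong hS' hP' y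
      have hyx : y = ⟨θ ⟨x, hP x.2⟩, hPP' x⟩ := Subtype.ext hx.symm
      rw [hyx, hφind x] at hy
      -- θ (φ x) = θ z, so z (φ x)⁻¹ ∈ S₀
      have h1 : θ (⟨z, hzS⟩ * ⟨φ x, hφS x⟩⁻¹) = 1 := by
        rw [map_mul, map_inv, hy, mul_inv_cancel]
      rw [hker] at h1
      have h2 := hS₀range h1
      have h3 : z = (z * (φ x)⁻¹) * φ x := by group
      rw [h3]
      exact Subgroup.mul_mem _ h2 ⟨x, rfl⟩
    refine ⟨P'.subtype.comp (MonoidHom.ofInjective hinj).symm.toMonoidHom,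
      ⟨hR'S', ψ.comp (Subgroup.inclusion hle), restrict_mem F hψ hle, preimageAlong_le θ _, ?_,
        fun x => map_preimageAlong_mem x, ?_⟩, ?_⟩
    · intro z
      obtain ⟨x, hx⟩ := hle z.2
      have : Subgroup.inclusion hle z = ⟨φ x, ⟨x, rfl⟩⟩ := Subtype.ext hx.symm
      show ψ (Subgroup.inclusion hle z) ∈ S
      rw [this, hψφ x]
      exact hP x.2
    · intro z
      obtain ⟨x, hx⟩ := hle z.2
      have h1 : Subgroup.inclusion hle z = ⟨φ x, ⟨x, rfl⟩⟩ := Subtype.ext hx.symm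
      have h2 : (⟨θ ⟨z, preimageAlong_le θ _ z.2⟩, map_preimageAlong_mem z⟩ : φ'.range) =
          (MonoidHom.ofInjective hinj) ⟨θ ⟨x, hP x.2⟩, hPP' x⟩ := by
        apply Subtype.ext
        show θ ⟨z, _⟩ = φ' ⟨θ ⟨x, hP x.2⟩, hPP' x⟩
        rw [hφind x]
        congr 1
        exact Subtype.ext hx.symm
      show ((MonoidHom.ofInjective hinj).symm ⟨θ ⟨z, _⟩, _⟩ : Ω') =
        θ ⟨ψ (Subgroup.inclusion hle z), _⟩
      rw [h2, MulEquiv.symm_apply_apply]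
      show θ ⟨x, hP x.2⟩ = θ ⟨ψ (Subgroup.inclusion hle z), _⟩
      congr 1
      apply Subtype.ext
      show (x : Ω) = ψ (Subgroup.inclusion hle z)
      rw [h1, hψφ x]
    · intro y
      show ((MonoidHom.ofInjective hinj).symm ⟨φ' y, ⟨y, rfl⟩⟩ : Ω') = y
      have : (⟨φ' y, ⟨y, rfl⟩⟩ : φ'.range) = (MonoidHom.ofInjective hinj) y := rfl
      rw [this, MulEquiv.symm_apply_apply]

theorem factorSystem_isFactorSystem [Finite S] (F : FusionSystem S) (S₀ : Subgroup Ω)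
    (hS₀ : F.StronglyClosed S₀) (θ : S →* Ω') (S' : Subgroup Ω') (hS' : θ.range = S')
    (hker : ∀ s : S, θ s = 1 ↔ (s : Ω) ∈ S₀) :
    F.IsFactorSystem S₀ θ (factorSystem F S₀ hS₀ θ S' hS' hker) :=
  ⟨hS₀.1, hker, hS', fun _ _ => Iff.rfl⟩

end Cfsg.Agent.Lib.Helper9
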