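import Cfsg.Prelude.Def_Transfer
import Cfsg.Agent.Lib.Helper9.SylowConj

set_option autoImplicit false

namespace Cfsg.Agent.Lib.Helper9

open Cfsg

variable {G : Type*} [Group G]

theorem pResidual_normal (p : ℕ) : (pResidual p G).Normal := by
  constructor
  intro n hn g
  have hmap : (pResidual p G).map (MulAut.conj g).toMonoidHom ≤ pResidual p G := by
    unfold pResidual
    rw [MonoidHom.map_closure, Subgroup.closure_le]
    rintro _ ⟨x, hx, rfl⟩
    apply Subgroup.subset_closure
    show Nat.Coprime (orderOf ((MulAut.conj g) x)) p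
    rw [MulEquiv.orderOf_eq]
    exact hx
  exact hmap ⟨n, hn, rfl⟩

theorem pow_mem_pResidual [Finite G] (p : ℕ) [hp : Fact p.Prime] (g : G) :
    g ^ p ^ (orderOf g).factorization p ∈ pResidual p G := by
  apply Subgroup.subset_closure
  show Nat.Coprime (orderOf (g ^ p ^ (orderOf g).factorization p)) p
  have hpos : orderOf g ≠ 0 := (orderOf_pos g).ne'
  rw [orderOf_pow' g (pow_ne_zero _ hp.out.ne_zero),
    Nat.gcd_eq_right (Nat.ordProj_dvd (orderOf g) p)]
  exact (Nat.coprime_ordCompl hp.out hpos).symm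

/-- A finite group is the product of `O^p(G)` and any Sylow `p`-subgroup. -/
theorem exists_mul_pResidual_sylow [Finite G] (p : ℕ) [hp : Fact p.Prime] (P : Sylow p G) (g : G) :
    ∃ r ∈ pResidual p G, ∃ s ∈ (P : Subgroup G), g = r * s := by
  haveI hN := pResidual_normal (G := G) p
  have hquot : IsPGroup p (G ⧸ pResidual p G) := by
    intro x
    obtain ⟨g, rfl⟩ := QuotientGroup.mk_surjective x
    refine ⟨(orderOf g).factorization p, ?_⟩
    rw [← QuotientGroup.mk_pow, QuotientGroup.eq_one_iff]
    exact pow_mem_pResidual p g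
  have hidx1 : ((P : Subgroup G) ⊔ pResidual p G).index ∣ (P : Subgroup G).index :=
    Subgroup.index_dvd_of_le le_sup_left
  have hidx2 : ((P : Subgroup G) ⊔ pResidual p G).index ∣ (pResidual p G).index :=
    Subgroup.index_dvd_of_le le_sup_right
  obtain ⟨k, hk⟩ := hquot.exists_card_eq
  rw [← Subgroup.index_eq_card] at hk
  rw [hk] at hidx2
  obtain ⟨j, -, hj⟩ := (Nat.dvd_prime_pow hp.out).mp hidx2
  have htop : (P : Subgroup G) ⊔ pResidual p G = ⊤ := by
    rw [← Subgroup.index_eq_one, hj]
    rcases Nat.eq_zero_or_pos j with rfl | hjpos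
    · rfl
    · exfalso
      apply P.not_dvd_index
      refine dvd_trans ?_ hidx1
      rw [hj]
      exact dvd_pow_self p hjpos.ne'
  have hg : g ∈ (P : Subgroup G) ⊔ pResidual p G := by rw [htop]; exact Subgroup.mem_top g
  have hPN : (P : Subgroup G) ≤ Subgroup.normalizer ((pResidual p G : Subgroup G) : Set G) := by
    rw [Subgroup.normalizer_eq_top]
    exact le_top
  obtain ⟨s, hs, r, hr, rfl⟩ := exists_mul_of_mem_sup_of_le_normalizer hPN hg
  refine ⟨s * r * s⁻¹, hN.conj_mem r hr s, s, hs, by group⟩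

end Cfsg.Agent.Lib.Helper9
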