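import Cfsg.Agent.Lib.Helper9.FusionAlpInd
import Cfsg.Agent.Lib.Helper9.PResidual

set_option autoImplicit false

namespace Cfsg.Agent.Lib.Helper9

open Cfsg Cfsg.FusionSystem

variable {Ω : Type*} [Group Ω] {S : Subgroup Ω}

theorem hyperfocal_gen_mem (F : FusionSystem S) (p : ℕ) {P : Subgroup Ω} (hP : P ≤ S)
    (ρ : F.autGroup P) (hρ : ρ ∈ pResidual p (F.autGroup P)) (x : P) :
    (x : Ω)⁻¹ * (((ρ : MulAut P) x : P) : Ω) ∈ F.hyperfocalSubgroup p :=
  Subgroup.subset_closure ⟨P, ρ, x, hP, hρ, rfl⟩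

theorem hyperfocal_le (F : FusionSystem S) (p : ℕ) : F.hyperfocalSubgroup p ≤ S := by
  unfold hyperfocalSubgroup
  rw [Subgroup.closure_le]
  rintro _ ⟨P, ρ, x, hP, -, rfl⟩
  exact S.mul_mem (S.inv_mem (hP x.2)) (hP ((ρ : MulAut P) x).2)

/-- Transport of a generator of the hyperfocal subgroup along a map of the system. -/
theorem hyperfocal_transport (F : FusionSystem S) (p : ℕ) {P : Subgroup Ω} {φ : P →* Ω}
    (hφ : φ ∈ F.Hom P) (α : MulAut P) (hα : α ∈ F.autGroup P) (hord : Nat.Coprime (orderOf α) p)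
    (x : P) : (φ x)⁻¹ * φ (α x) ∈ F.hyperfocalSubgroup p := by
  obtain ⟨θ', θi, hθ', hθi, hθi', -⟩ := exists_iso_data F hφ rfl
  have hα' : (MulAut.congr θ').toMonoidHom α ∈ F.autGroup φ.range :=
    map_congr_autGroup_le F hφ θ' θi hθ' hθi hθi' ⟨α, hα, rfl⟩
  have hord' : orderOf ((MulAut.congr θ') α) = orderOf α := MulEquiv.orderOf_eq _ α
  have hres : (⟨(MulAut.congr θ').toMonoidHom α, hα'⟩ : F.autGroup φ.range) ∈
      pResidual p (F.autGroup φ.range) := by
    apply Subgroup.subset_closure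
    show Nat.Coprime (orderOf (⟨(MulAut.congr θ').toMonoidHom α, hα'⟩ : F.autGroup φ.range)) p
    rw [← Subgroup.orderOf_coe]
    show Nat.Coprime (orderOf ((MulAut.congr θ') α)) p
    rw [hord']
    exact hord
  have hP₀S : φ.range ≤ S := (F.le_of_mem hθi).1
  have h := hyperfocal_gen_mem F p hP₀S _ hres (θ' x)
  have e1 : ((θ' x : φ.range) : Ω) = φ x := hθ' x
  have e2 : ((((⟨(MulAut.congr θ').toMonoidHom α, hα'⟩ : F.autGroup φ.range) : MulAut φ.range)
      (θ' x) : φ.range) : Ω) = φ (α x) := by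
    show ((θ' (α (θ'.symm (θ' x))) : φ.range) : Ω) = φ (α x)
    rw [MulEquiv.symm_apply_apply, hθ']
  rw [e1, e2] at h
  exact h

/-- The hyperfocal subgroup is normalized by `S`. -/
theorem hyperfocal_conj_mem (F : FusionSystem S) (p : ℕ) {s : Ω} (hs : s ∈ S) {h : Ω}
    (hh : h ∈ F.hyperfocalSubgroup p) : s * h * s⁻¹ ∈ F.hyperfocalSubgroup p := by
  unfold hyperfocalSubgroup at hh
  induction hh using Subgroup.closure_induction with
  | mem y hy =>
    obtain ⟨P, ρ, x, hP, hρ, rfl⟩ := hy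
    have key : ∀ ρ' : F.autGroup P, ρ' ∈ pResidual p (F.autGroup P) → ∀ x : P,
        s * ((x : Ω)⁻¹ * (((ρ' : MulAut P) x : P) : Ω)) * s⁻¹ ∈ F.hyperfocalSubgroup p := by
      intro ρ' hρ'
      unfold pResidual at hρ'
      induction hρ' using Subgroup.closure_induction with
      | mem ρ'' hρ'' =>
        intro x
        have hord : Nat.Coprime (orderOf (ρ'' : MulAut P)) p := by
          rw [Subgroup.orderOf_coe]; exact hρ''
        have h1 := hyperfocal_transport F p (F.conj_mem hP hs) (ρ'' : MulAut P) ρ''.2 hord x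
        have h2 : (conjHom P s x)⁻¹ * conjHom P s ((ρ'' : MulAut P) x) =
            s * ((x : Ω)⁻¹ * (((ρ'' : MulAut P) x : P) : Ω)) * s⁻¹ := by
          simp only [conjHom, MonoidHom.coe_comp, MulEquiv.coe_toMonoidHom, Function.comp_apply,
            Subgroup.coe_subtype, MulAut.conj_apply]
          group
        rw [h2] at h1
        exact h1
      | one =>
        intro x
        have : s * ((x : Ω)⁻¹ * ((((1 : F.autGroup P) : MulAut P) x : P) : Ω)) * s⁻¹ = 1 := by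
          show s * ((x : Ω)⁻¹ * (x : Ω)) * s⁻¹ = 1
          group
        rw [this]
        exact Subgroup.one_mem _
      | mul a b _ _ iha ihb =>
        intro x
        have h1 := ihb x
        have h2 := iha ((b : MulAut P) x)
        have e : s * ((x : Ω)⁻¹ * ((((a * b : F.autGroup P) : MulAut P) x : P) : Ω)) * s⁻¹ =
            (s * ((x : Ω)⁻¹ * (((b : MulAut P) x : P) : Ω)) * s⁻¹) *
            (s * ((((b : MulAut P) x : P) : Ω)⁻¹ *
              (((a : MulAut P) ((b : MulAut P) x) : P) : Ω)) * s⁻¹) := by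
          show s * ((x : Ω)⁻¹ * (((a : MulAut P) ((b : MulAut P) x) : P) : Ω)) * s⁻¹ = _
          group
        rw [e]
        exact Subgroup.mul_mem _ h1 h2
      | inv a _ iha =>
        intro x
        have h1 := iha ((a : MulAut P)⁻¹ x)
        have e0 : (a : MulAut P) ((a : MulAut P)⁻¹ x) = x := MulEquiv.apply_symm_apply _ x
        rw [e0] at h1
        have e : s * ((x : Ω)⁻¹ * ((((a⁻¹ : F.autGroup P) : MulAut P) x : P) : Ω)) * s⁻¹ =
            (s * ((((a : MulAut P)⁻¹ x : P) : Ω)⁻¹ * (x : Ω)) * s⁻¹)⁻¹ := by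
          show s * ((x : Ω)⁻¹ * ((((a : MulAut P)⁻¹ x : P)) : Ω)) * s⁻¹ = _
          group
        rw [e]
        exact Subgroup.inv_mem _ h1
    exact key ρ hρ x
  | one =>
    have : s * 1 * s⁻¹ = 1 := by group
    rw [this]; exact Subgroup.one_mem _
  | mul a b _ _ iha ihb =>
    have : s * (a * b) * s⁻¹ = (s * a * s⁻¹) * (s * b * s⁻¹) := by group
    rw [this]; exact Subgroup.mul_mem _ iha ihb
  | inv a _ iha =>
    have : s * a⁻¹ * s⁻¹ = (s * a * s⁻¹)⁻¹ := by group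
    rw [this]; exact Subgroup.inv_mem _ iha

/-- Automorphisms of a fully automized subgroup are conjugations modulo the hyperfocal subgroup. -/
theorem hyperfocal_aut_congr [Finite S] (p : ℕ) [Fact p.Prime] (F : FusionSystem S)
    {U : Subgroup Ω} (hfa : F.IsFullyAutomized p U) (α : MulAut U) (hα : α ∈ F.autGroup U) :
    ∃ s ∈ S, ∀ x : U, (s * (x : Ω) * s⁻¹)⁻¹ * ((α x : U) : Ω) ∈ F.hyperfocalSubgroup p := by
  have hUS := hfa.1
  obtain ⟨Rs, hRs⟩ := hfa.2
  have hfinU : Finite U := finite_of_le' hUS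
  have hfinA : Finite (MulAut U) := inferInstance
  obtain ⟨r, hr, σ, hσ, hασ⟩ := exists_mul_pResidual_sylow p Rs ⟨α, hα⟩
  have hσ' : (σ : MulAut U) ∈ autInducedBy S U := by
    have : σ ∈ (Rs : Subgroup (F.autGroup U)) := hσ
    rw [hRs] at this
    exact Subgroup.mem_subgroupOf.mp this
  rw [autInducedBy_eq_map] at hσ'
  obtain ⟨n, hnS, hn⟩ := hσ'
  refine ⟨(n : Ω), Subgroup.mem_subgroupOf.mp hnS, fun x => ?_⟩
  have h1 := hyperfocal_gen_mem F p hUS r hr ((σ : MulAut U) x)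
  have e1 : (((σ : MulAut U) x : U) : Ω) = (n : Ω) * (x : Ω) * (n : Ω)⁻¹ := by
    rw [← hn, normConj_apply]
  have e2 : α x = (r : MulAut U) ((σ : MulAut U) x) := by
    have : α = (r : MulAut U) * (σ : MulAut U) := congrArg Subtype.val hασ
    rw [this]; rfl
  rw [e2, ← e1]
  exact h1

theorem isFullyNormalized_top [Finite S] (F : FusionSystem S) : F.IsFullyNormalized S := by
  refine ⟨le_rfl, fun Q _ => ?_⟩
  have h1 : normalizerIn S Q ≤ S := normalizerIn_le_left S Q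
  have h2 : normalizerIn S S = S := by
    unfold normalizerIn
    exact inf_of_le_left Subgroup.le_normalizer
  rw [h2]
  exact Nat.card_le_card_of_injective _ (Subgroup.inclusion_injective h1)

/-- **Every map of a saturated fusion system is a conjugation modulo the hyperfocal subgroup.** -/
theorem hyperfocal_congr [Finite S] (p : ℕ) [Fact p.Prime] (hS : IsPGroup p S)
    (F : FusionSystem S) (hF : F.IsSaturated p) {P : Subgroup Ω} {φ : P →* Ω} (hφ : φ ∈ F.Hom P) :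
    ∃ s ∈ S, ∀ x : P, (s * (x : Ω) * s⁻¹)⁻¹ * φ x ∈ F.hyperfocalSubgroup p := by
  refine alperin_induction p hS F hF
    (fun P φ => ∃ s ∈ S, ∀ x : P, (s * (x : Ω) * s⁻¹)⁻¹ * φ x ∈ F.hyperfocalSubgroup p)
    ?_ ?_ ?_ ?_ P φ hφ
  · intro P _ g hg
    refine ⟨g, hg, fun x => ?_⟩
    have : (g * (x : Ω) * g⁻¹)⁻¹ * conjHom P g x = 1 := by
      simp only [conjHom, MonoidHom.coe_comp, MulEquiv.coe_toMonoidHom, Function.comp_apply,
        Subgroup.coe_subtype, MulAut.conj_apply]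
      group
    rw [this]; exact Subgroup.one_mem _
  · rintro P Q φ φ' _ _ h ⟨s, hs, hsx⟩ ⟨s', hs', hs'x⟩
    refine ⟨s' * s, S.mul_mem hs' hs, fun x => ?_⟩
    have h1 := hyperfocal_conj_mem F p hs' (hsx x)
    have h2 := hs'x ⟨φ x, h x⟩
    have e : (s' * s * (x : Ω) * (s' * s)⁻¹)⁻¹ * (φ'.comp (φ.codRestrict Q h)) x =
        (s' * ((s * (x : Ω) * s⁻¹)⁻¹ * φ x) * s'⁻¹) *
          ((s' * ((⟨φ x, h x⟩ : Q) : Ω) * s'⁻¹)⁻¹ * φ' ⟨φ x, h x⟩) := by
      show (s' * s * (x : Ω) * (s' * s)⁻¹)⁻¹ * φ' ⟨φ x, h x⟩ = _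
      group
    rw [e]
    exact Subgroup.mul_mem _ h1 h2
  · rintro P φ _ ⟨s, hs, hsx⟩ χ _ hχx
    refine ⟨s⁻¹, S.inv_mem hs, ?_⟩
    rintro ⟨_, ⟨x, rfl⟩⟩
    have h1 := hyperfocal_conj_mem F p (S.inv_mem hs) (hsx x)
    rw [hχx x]
    have e : (s⁻¹ * ((⟨φ x, ⟨x, rfl⟩⟩ : φ.range) : Ω) * s⁻¹⁻¹)⁻¹ * (x : Ω) =
        (s⁻¹ * ((s * (x : Ω) * s⁻¹)⁻¹ * φ x) * s⁻¹⁻¹)⁻¹ := by
      show (s⁻¹ * φ x * s⁻¹⁻¹)⁻¹ * (x : Ω) = _
      group
    rw [e]
    exact Subgroup.inv_mem _ h1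
  · intro U hU _ α hα
    have hfn : F.IsFullyNormalized U := by
      rcases hU with rfl | hess
      · exact isFullyNormalized_top F
      · exact hess.2.1
    obtain ⟨-, hfa⟩ := sat_fullyNormalized p hS F hF hfn
    exact hyperfocal_aut_congr p F hfa α hα

end Cfsg.Agent.Lib.Helper9
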