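import Cfsg.Agent.S5134
import Cfsg.Agent.Lib.Helper9.FusionHyp

set_option autoImplicit false

namespace Cfsg.Agent.Lib.Helper9

open Cfsg Cfsg.FusionSystem

variable {Ω : Type*} [Group Ω] {S : Subgroup Ω} {Ω' : Type*} [Group Ω'] {S' : Subgroup Ω'}

theorem finite_of_range_eq [Finite S] {θ : S →* Ω'} (hrange : θ.range = S') : Finite S' := by
  rw [← hrange]
  exact Finite.of_surjective θ.rangeRestrict θ.rangeRestrict_surjective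

/-- From a map of a fusion system on a finite `P` with values in `P`, an element of `Aut(P)`. -/
theorem exists_aut_of_hom_self {Ω₀ : Type*} [Group Ω₀] {S₀ : Subgroup Ω₀} [Finite S₀]
    (E : FusionSystem S₀) {P : Subgroup Ω₀} {φ : P →* Ω₀} (hφ : φ ∈ E.Hom P)
    (hval : ∀ x : P, φ x ∈ P) : ∃ α ∈ E.autGroup P, ∀ x : P, ((α x : P) : Ω₀) = φ x := by
  have hPS := (E.le_of_mem hφ).1
  have hfin : Finite P := finite_of_le' hPS
  have hrle : φ.range ≤ P := by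
    rintro _ ⟨x, rfl⟩
    exact hval x
  have hcard : Nat.card φ.range = Nat.card P :=
    (Nat.card_congr (Equiv.ofInjective _ (E.injective_of_mem hφ))).symm
  have hr : φ.range = P := Subgroup.eq_of_le_of_card_ge hrle hcard.ge
  obtain ⟨θ', θi, hθ', -, -, -⟩ := exists_iso_data E hφ hr
  refine ⟨θ', ?_, fun x => hθ' x⟩
  rw [mem_autGroup_iff E hPS]
  have : P.subtype.comp (MulEquiv.toMonoidHom θ') = φ := by
    ext x
    exact hθ' x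
  rw [this]
  exact hφ

/-- Pushing forward an automorphism to the factor system. -/
theorem exists_induced_aut [Finite S] (p : ℕ) [Fact p.Prime] (hS : IsPGroup p S)
    (F : FusionSystem S) (hF : F.IsSaturated p) (T : Subgroup Ω) (hT : F.StronglyClosed T)
    (θ : S →* Ω') (E : FusionSystem S') (hE : F.IsFactorSystem T θ E) {P : Subgroup Ω}
    (hPS : P ≤ S) {α : MulAut P} (hα : α ∈ F.autGroup P) :
    ∃ α' ∈ E.autGroup (imageAlong θ P), ∀ (x : P) (hx' : θ ⟨x, hPS x.2⟩ ∈ imageAlong θ P),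
      ((α' ⟨θ ⟨x, hPS x.2⟩, hx'⟩ : imageAlong θ P) : Ω') = θ ⟨(α x : P), hPS (α x).2⟩ := by
  haveI : Finite S' := finite_of_range_eq hE.2.2.1
  have hφ := (mem_autGroup_iff F hPS α).mp hα
  obtain ⟨φ', hφ', hP, hφS, hPP', hind⟩ :=
    Cfsg.Agent.S5134.exists_induced_of_factorSystem p hS F hF T hT θ E hE P _ hφ
  have hval : ∀ y : ↥(imageAlong θ P), φ' y ∈ imageAlong θ P := by
    rintro ⟨_, ⟨s, hs, rfl⟩⟩
    have hsP : (s : Ω) ∈ P := Subgroup.mem_subgroupOf.mp hs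
    have h1 := hind ⟨s, hsP⟩
    have e : (⟨θ s, ⟨s, hs, rfl⟩⟩ : ↥(imageAlong θ P)) =
        ⟨θ ⟨((⟨s, hsP⟩ : P) : Ω), hP hsP⟩, hPP' ⟨s, hsP⟩⟩ := rfl
    rw [e, h1]
    exact ⟨⟨_, hφS ⟨s, hsP⟩⟩, Subgroup.mem_subgroupOf.mpr (α ⟨s, hsP⟩).2, rfl⟩
  obtain ⟨α', hα', hα'x⟩ := exists_aut_of_hom_self E hφ' hval
  refine ⟨α', hα', fun x hx' => ?_⟩
  rw [hα'x]
  exact hind x

theorem induced_aut_pow {θ : S →* Ω'} {P : Subgroup Ω} (hPS : P ≤ S) (α : MulAut P)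
    (α' : MulAut ↥(imageAlong θ P))
    (h : ∀ (x : P) (hx' : θ ⟨x, hPS x.2⟩ ∈ imageAlong θ P),
      ((α' ⟨θ ⟨x, hPS x.2⟩, hx'⟩ : imageAlong θ P) : Ω') = θ ⟨(α x : P), hPS (α x).2⟩) (k : ℕ) :
    ∀ (x : P) (hx' : θ ⟨x, hPS x.2⟩ ∈ imageAlong θ P),
      (((α' ^ k) ⟨θ ⟨x, hPS x.2⟩, hx'⟩ : imageAlong θ P) : Ω') =
        θ ⟨((α ^ k) x : P), hPS ((α ^ k) x).2⟩ := by
  induction k with
  | zero => intro x hx'; rfl
  | succ k ih =>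
    intro x hx'
    rw [pow_succ, pow_succ]
    show (((α' ^ k) (α' ⟨θ ⟨x, hPS x.2⟩, hx'⟩) : imageAlong θ P) : Ω') =
      θ ⟨((α ^ k) (α x) : P), _⟩
    have hmem : θ ⟨(α x : P), hPS (α x).2⟩ ∈ imageAlong θ P :=
      ⟨⟨_, hPS (α x).2⟩, Subgroup.mem_subgroupOf.mpr (α x).2, rfl⟩
    have e : α' ⟨θ ⟨x, hPS x.2⟩, hx'⟩ = ⟨θ ⟨(α x : P), hPS (α x).2⟩, hmem⟩ :=
      Subtype.ext (h x hx')
    rw [e, ih (α x) hmem]

theorem mem_imageAlong {θ : S →* Ω'} {P : Subgroup Ω} (hPS : P ≤ S) (x : P) :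
    θ ⟨x, hPS x.2⟩ ∈ imageAlong θ P :=
  ⟨⟨x, hPS x.2⟩, Subgroup.mem_subgroupOf.mpr x.2, rfl⟩

theorem induced_aut_pow_eq_one {θ : S →* Ω'} {P : Subgroup Ω} (hPS : P ≤ S) (α : MulAut P)
    (α' : MulAut ↥(imageAlong θ P))
    (h : ∀ (x : P) (hx' : θ ⟨x, hPS x.2⟩ ∈ imageAlong θ P),
      ((α' ⟨θ ⟨x, hPS x.2⟩, hx'⟩ : imageAlong θ P) : Ω') = θ ⟨(α x : P), hPS (α x).2⟩) (k : ℕ)
    (hk : α ^ k = 1) : α' ^ k = 1 := by
  ext ⟨_, ⟨s, hs, rfl⟩⟩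
  have hsP : (s : Ω) ∈ P := Subgroup.mem_subgroupOf.mp hs
  have h1 := induced_aut_pow hPS α α' h k ⟨s, hsP⟩ (mem_imageAlong hPS ⟨s, hsP⟩)
  rw [hk] at h1
  exact h1

end Cfsg.Agent.Lib.Helper9
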