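import Cfsg.Agent.Lib.Helper9.FusionAutMorph
import Cfsg.Agent.Lib.Helper9.FusionCalc

set_option autoImplicit false

namespace Cfsg.Agent.Lib.Helper9

open Cfsg Cfsg.FusionSystem

variable {Ω : Type*} [Group Ω] {S T : Subgroup Ω}

/-- The conjugation-invariance clause of `IsInvariantIn`. -/
def ConjInv (E : FusionSystem T) (F : FusionSystem S) : Prop :=
  ∀ (P : Subgroup Ω) (hPT : P ≤ T) (φ : P →* Ω), φ ∈ E.Hom P → ∀ α ∈ F.autGroup T,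
    ∃ χ ∈ E.Hom ((P.subgroupOf T).map (T.subtype.comp α.toMonoidHom)),
      ∀ (x : P) (hφx : φ x ∈ T)
        (hαx : ((α ⟨x, hPT x.2⟩ : T) : Ω) ∈ (P.subgroupOf T).map (T.subtype.comp α.toMonoidHom)),
        χ ⟨(α ⟨x, hPT x.2⟩ : T), hαx⟩ = ((α ⟨φ x, hφx⟩ : T) : Ω)

theorem conjInv_spec {E : FusionSystem T} {F : FusionSystem S} (hc : ConjInv E F)
    {α : MulAut T} (hα : α ∈ F.autGroup T) {P : Subgroup Ω} {φ : P →* Ω} (hφ : φ ∈ E.Hom P) :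
    ∃ χ ∈ E.Hom (imageAlong (T.subtype.comp α.toMonoidHom) P), ∀ x : P,
      χ ⟨α ⟨x, (E.le_of_mem hφ).1 x.2⟩, mem_imageAlong (θ := T.subtype.comp α.toMonoidHom)
        (E.le_of_mem hφ).1 x⟩ = α ⟨φ x, (E.le_of_mem hφ).2 x⟩ := by
  obtain ⟨χ, hχ, hspec⟩ := hc P (E.le_of_mem hφ).1 φ hφ α hα
  exact ⟨χ, hχ, fun x => hspec x _ _⟩

/-- The maps of `F` between subgroups of `T` of the form `α ∘ φ₀` with `α ∈ Aut_F(T)` and `φ₀` a map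
of `E`. -/
def goodSystem (E : FusionSystem T) (F : FusionSystem S) (hTS : T ≤ S)
    (hc : ConjInv E F) : FusionSystem T where
  Hom P := {φ | φ ∈ F.Hom P ∧ P ≤ T ∧ ∃ α, α ∈ F.autGroup T ∧ ∃ (φ₀ : P →* Ω) (hφ₀ : φ₀ ∈ E.Hom P),
    ∀ x : P, φ x = ((α ⟨φ₀ x, (E.le_of_mem hφ₀).2 x⟩ : T) : Ω)}
  le_of_mem := by
    rintro P φ ⟨-, hPT, α, -, φ₀, hφ₀, hspec⟩
    refine ⟨hPT, fun x => ?_⟩
    rw [hspec x]
    exact (α _).2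
  injective_of_mem := fun h => F.injective_of_mem h.1
  conj_mem := by
    intro P g hPT hg
    refine ⟨F.conj_mem (hPT.trans hTS) (hTS hg), hPT, 1, Subgroup.one_mem _, conjHom P g,
      E.conj_mem hPT hg, fun x => rfl⟩
  comp_mem := by
    rintro P Q φ ψ ⟨hφF, hPT, α, hα, φ₀, hφ₀, hφs⟩ ⟨hψF, hQT, β, hβ, ψ₀, hψ₀, hψs⟩ h
    refine ⟨F.comp_mem hφF hψF h, hPT, β * α, Subgroup.mul_mem _ hβ hα, ?_⟩
    have hα' : α⁻¹ ∈ F.autGroup T := Subgroup.inv_mem _ hα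
    obtain ⟨χ, hχ, hχs⟩ := conjInv_spec hc hα' hψ₀
    have hmem : ∀ x : P, φ₀ x ∈ imageAlong (T.subtype.comp (α⁻¹).toMonoidHom) Q := by
      intro x
      refine ⟨⟨φ x, hQT (h x)⟩, Subgroup.mem_subgroupOf.mpr (h x), ?_⟩
      show ((α⁻¹ ⟨φ x, hQT (h x)⟩ : T) : Ω) = φ₀ x
      have : (⟨φ x, hQT (h x)⟩ : T) = α ⟨φ₀ x, (E.le_of_mem hφ₀).2 x⟩ := Subtype.ext (hφs x)
      rw [this, MulAut.inv_apply_self]
    refine ⟨χ.comp (φ₀.codRestrict _ hmem), E.comp_mem hφ₀ hχ hmem, fun x => ?_⟩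
    show ψ ⟨φ x, h x⟩ = ((β (α ⟨χ ⟨φ₀ x, hmem x⟩, _⟩) : T) : Ω)
    have e1 : (⟨φ₀ x, hmem x⟩ : ↥(imageAlong (T.subtype.comp (α⁻¹).toMonoidHom) Q)) =
        ⟨α⁻¹ ⟨((⟨φ x, h x⟩ : Q) : Ω), (E.le_of_mem hψ₀).1 (h x)⟩,
          mem_imageAlong (θ := T.subtype.comp (α⁻¹).toMonoidHom) (E.le_of_mem hψ₀).1 ⟨φ x, h x⟩⟩ := by
      apply Subtype.ext
      show φ₀ x = ((α⁻¹ ⟨φ x, _⟩ : T) : Ω)
      have : (⟨φ x, (E.le_of_mem hψ₀).1 (h x)⟩ : T) = α ⟨φ₀ x, (E.le_of_mem hφ₀).2 x⟩ :=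
        Subtype.ext (hφs x)
      rw [this, MulAut.inv_apply_self]
    have e2 : (⟨χ ⟨φ₀ x, hmem x⟩, (E.le_of_mem hχ).2 _⟩ : T) =
        α⁻¹ ⟨ψ₀ ⟨φ x, h x⟩, (E.le_of_mem hψ₀).2 _⟩ := by
      apply Subtype.ext
      show χ ⟨φ₀ x, hmem x⟩ = _
      rw [e1]
      exact hχs ⟨φ x, h x⟩
    rw [hψs ⟨φ x, h x⟩]
    congr 2
    rw [e2, MulAut.apply_inv_self]
  inv_mem := by
    rintro P φ ⟨hφF, hPT, α, hα, φ₀, hφ₀, hφs⟩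
    obtain ⟨ψ, hψ, hψφ⟩ := F.inv_mem hφF
    refine ⟨ψ, ⟨hψ, ?_, α⁻¹, Subgroup.inv_mem _ hα, ?_⟩, hψφ⟩
    · rintro _ ⟨x, rfl⟩
      rw [hφs x]
      exact (α _).2
    · obtain ⟨ι₀, hι₀, hι₀s⟩ := E.inv_mem hφ₀
      obtain ⟨χ, hχ, hχs⟩ := conjInv_spec hc hα hι₀
      have hle : φ.range ≤ imageAlong (T.subtype.comp α.toMonoidHom) φ₀.range := by
        rintro _ ⟨x, rfl⟩
        refine ⟨⟨φ₀ x, (E.le_of_mem hφ₀).2 x⟩, Subgroup.mem_subgroupOf.mpr ⟨x, rfl⟩, ?_⟩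
        exact (hφs x).symm
      refine ⟨χ.comp (Subgroup.inclusion hle), restrict_mem E hχ hle, ?_⟩
      rintro ⟨_, x, rfl⟩
      have e1 : Subgroup.inclusion hle ⟨φ x, ⟨x, rfl⟩⟩ =
          ⟨α ⟨((⟨φ₀ x, ⟨x, rfl⟩⟩ : φ₀.range) : Ω), (E.le_of_mem hι₀).1 ⟨x, rfl⟩⟩,
            mem_imageAlong (θ := T.subtype.comp α.toMonoidHom) (E.le_of_mem hι₀).1
              ⟨φ₀ x, ⟨x, rfl⟩⟩⟩ := Subtype.ext (hφs x)
      have e2 : (⟨(χ.comp (Subgroup.inclusion hle)) ⟨φ x, ⟨x, rfl⟩⟩,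
          (E.le_of_mem (restrict_mem E hχ hle)).2 _⟩ : T) = α ⟨x, hPT x.2⟩ := by
        apply Subtype.ext
        show χ (Subgroup.inclusion hle ⟨φ x, ⟨x, rfl⟩⟩) = _
        rw [e1, hχs ⟨φ₀ x, ⟨x, rfl⟩⟩]
        congr 2
        exact Subtype.ext (hι₀s x)
      rw [hψφ x, e2, MulAut.inv_apply_self]

theorem mem_goodSystem_iff (E : FusionSystem T) (F : FusionSystem S) (hTS : T ≤ S)
    (hc : ConjInv E F) {P : Subgroup Ω} {φ : P →* Ω} :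
    φ ∈ (goodSystem E F hTS hc).Hom P ↔ φ ∈ F.Hom P ∧ P ≤ T ∧ ∃ α, α ∈ F.autGroup T ∧
      ∃ (φ₀ : P →* Ω) (hφ₀ : φ₀ ∈ E.Hom P),
        ∀ x : P, φ x = ((α ⟨φ₀ x, (E.le_of_mem hφ₀).2 x⟩ : T) : Ω) := Iff.rfl

theorem mem_goodSystem_of_mem (E : FusionSystem T) (F : FusionSystem S) (hsub : E.IsSubsystemOf F)
    (hTS : T ≤ S) (hc : ConjInv E F) {P : Subgroup Ω} {φ : P →* Ω} (hφ : φ ∈ E.Hom P) :
    φ ∈ (goodSystem E F hTS hc).Hom P :=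
  ⟨hsub P hφ, (E.le_of_mem hφ).1, 1, Subgroup.one_mem _, φ, hφ, fun _ => rfl⟩

theorem autGroup_le_goodSystem (E : FusionSystem T) (F : FusionSystem S)
    (hsub : E.IsSubsystemOf F) (hTS : T ≤ S) (hc : ConjInv E F) (P : Subgroup Ω) :
    E.autGroup P ≤ (goodSystem E F hTS hc).autGroup P := by
  unfold FusionSystem.autGroup
  apply Subgroup.closure_mono
  intro α hα
  exact mem_goodSystem_of_mem E F hsub hTS hc hα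

end Cfsg.Agent.Lib.Helper9
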