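import Cfsg.Agent.Lib.Helper9.FusionGroup

set_option autoImplicit false

namespace Cfsg.Agent.Lib.Helper9

open Cfsg Cfsg.FusionSystem

variable {G : Type*} [Group G]

/-- The conjugation action of `N_G(Q)` on `Q`. -/
noncomputable def normConj (Q : Subgroup G) : ↥(Subgroup.normalizer (Q : Set G)) →* MulAut Q :=
  (MulAut.congr (Subgroup.subgroupOfEquivOfLe (Subgroup.le_normalizer (H := Q)))).toMonoidHom.comp
    (MulAut.conjNormal (H := Q.subgroupOf (Subgroup.normalizer (Q : Set G))))

theorem normConj_apply (Q : Subgroup G) (n : ↥(Subgroup.normalizer (Q : Set G))) (x : Q) :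
    ((normConj Q n x : Q) : G) = (n : G) * x * (n : G)⁻¹ := by
  rfl

/-- An element inducing an automorphism of `Q` by conjugation normalizes `Q`. -/
theorem mem_normalizer_of_aut {Q : Subgroup G} {g : G} (α : MulAut Q)
    (h : ∀ x : Q, ((α x : Q) : G) = g * (x : G) * g⁻¹) : g ∈ Subgroup.normalizer (Q : Set G) := by
  rw [Subgroup.mem_normalizer_iff]
  intro y
  constructor
  · intro hy
    rw [← h ⟨y, hy⟩]
    exact (α ⟨y, hy⟩).2
  · intro hy
    obtain ⟨x, hx⟩ := α.surjective ⟨g * y * g⁻¹, hy⟩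
    have h1 : g * (x : G) * g⁻¹ = g * y * g⁻¹ := by
      rw [← h x, hx]
    have h2 : (x : G) = y := mul_left_cancel (mul_right_cancel h1)
    rw [← h2]
    exact x.2

/-- `Aut_K(Q)` is the image of `N_K(Q)` under the conjugation action. -/
theorem autInducedBy_eq_map (K Q : Subgroup G) :
    autInducedBy K Q = (K.subgroupOf (Subgroup.normalizer (Q : Set G))).map (normConj Q) := by
  apply le_antisymm
  · unfold autInducedBy
    rw [Subgroup.closure_le]
    rintro α ⟨g, hgK, hg⟩
    have hgN := mem_normalizer_of_aut α hg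
    refine ⟨⟨g, hgN⟩, Subgroup.mem_subgroupOf.mpr hgK, ?_⟩
    ext x
    rw [normConj_apply, hg]
  · rintro _ ⟨n, hn, rfl⟩
    exact Subgroup.subset_closure ⟨n, Subgroup.mem_subgroupOf.mp hn, fun x => rfl⟩

theorem autInducedBy_top_eq_range (Q : Subgroup G) :
    autInducedBy ⊤ Q = (normConj Q).range := by
  rw [autInducedBy_eq_map, MonoidHom.range_eq_map]
  congr 1

/-- If `N_S(Q)` is a Sylow `p`-subgroup of `N_G(Q)` then `Aut_S(Q)` is a Sylow `p`-subgroup of
`Aut_G(Q)`. -/
theorem exists_sylow_autInducedBy [Finite G] (p : ℕ) [Fact p.Prime] (S Q : Subgroup G)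
    (R : Sylow p ↥(Subgroup.normalizer (Q : Set G)))
    (hR : (R : Subgroup ↥(Subgroup.normalizer (Q : Set G))) =
      (normalizerIn S Q).subgroupOf (Subgroup.normalizer (Q : Set G))) :
    ∃ R' : Sylow p ↥(autInducedBy ⊤ Q),
      (R' : Subgroup ↥(autInducedBy ⊤ Q)) = (autInducedBy S Q).subgroupOf (autInducedBy ⊤ Q) := by
  rw [autInducedBy_top_eq_range]
  refine ⟨R.mapSurjective (normConj Q).rangeRestrict_surjective, ?_⟩
  rw [Sylow.coe_mapSurjective, hR, autInducedBy_eq_map S Q]
  ext y
  constructor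
  · rintro ⟨n, hn, rfl⟩
    rw [Subgroup.mem_subgroupOf]
    have hnS : (n : G) ∈ S := normalizerIn_le_left _ _ (Subgroup.mem_subgroupOf.mp hn)
    exact ⟨n, Subgroup.mem_subgroupOf.mpr hnS, rfl⟩
  · intro hy
    rw [Subgroup.mem_subgroupOf] at hy
    obtain ⟨n, hn, hny⟩ := hy
    have hnS : (n : G) ∈ S := Subgroup.mem_subgroupOf.mp hn
    refine ⟨n, Subgroup.mem_subgroupOf.mpr (Subgroup.mem_inf.mpr ⟨hnS, n.2⟩), ?_⟩
    exact Subtype.ext hny

/-- Every subgroup of a Sylow `p`-subgroup `S` has a conjugate `Q ≤ S` with `N_S(Q)` of Sylow order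
in `N_G(Q)`. -/
theorem exists_conj_normalizerIn_sylow_card [Finite G] (p : ℕ) [Fact p.Prime] (S : Sylow p G)
    (P : Subgroup G) (hP : P ≤ S) :
    ∃ g : G, P.map (MulAut.conj g).toMonoidHom ≤ S ∧
      Nat.card (normalizerIn (S : Subgroup G) (P.map (MulAut.conj g).toMonoidHom)) =
        p ^ (Nat.card ↥(Subgroup.normalizer
          ((P.map (MulAut.conj g).toMonoidHom : Subgroup G) : Set G))).factorization p := by
  have hNSp : ∀ Q : Subgroup G, IsPGroup p (normalizerIn (S : Subgroup G) Q) := fun Q =>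
    S.isPGroup'.to_le (normalizerIn_le_left _ _)
  have hpg : IsPGroup p ((normalizerIn (S : Subgroup G) P).subgroupOf
      (Subgroup.normalizer (P : Set G))) := (hNSp P).comap_subtype
  obtain ⟨T, hT⟩ := hpg.exists_le_sylow
  obtain ⟨T', hT'def⟩ : ∃ T' : Subgroup G,
    T' = (T : Subgroup ↥(Subgroup.normalizer (P : Set G))).map
      (Subgroup.normalizer (P : Set G)).subtype := ⟨_, rfl⟩
  have hT'N : T' ≤ Subgroup.normalizer (P : Set G) := by
    rw [hT'def]; rintro _ ⟨x, -, rfl⟩; exact x.2
  have hT'card : Nat.card T' = p ^ (Nat.card ↥(Subgroup.normalizer (P : Set G))).factorization p := by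
    rw [hT'def, Subgroup.card_map_of_injective Subtype.val_injective]
    exact T.card_eq_multiplicity
  have hT'p : IsPGroup p T' := IsPGroup.of_card hT'card
  have hNST' : normalizerIn (S : Subgroup G) P ≤ T' := by
    intro x hx
    rw [hT'def]
    exact ⟨⟨x, normalizerIn_le_normalizer _ _ hx⟩, hT (Subgroup.mem_subgroupOf.mpr hx), rfl⟩
  obtain ⟨g, hg⟩ := exists_conj_le_sylow p S hT'p
  have hPT' : P ≤ T' := (le_normalizerIn hP).trans hNST'
  have hQS : P.map (MulAut.conj g).toMonoidHom ≤ (S : Subgroup G) :=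
    (Subgroup.map_mono hPT').trans hg
  refine ⟨g, hQS, ?_⟩
  have h2 : T'.map (MulAut.conj g).toMonoidHom ≤
      normalizerIn (S : Subgroup G) (P.map (MulAut.conj g).toMonoidHom) := by
    refine le_inf hg ?_
    rw [normalizer_map_conj]
    exact Subgroup.map_mono hT'N
  have h3 : Nat.card T' ≤ Nat.card ↥(normalizerIn (S : Subgroup G) (P.map (MulAut.conj g).toMonoidHom)) := by
    rw [← card_map_conj T' g]
    exact Nat.card_le_card_of_injective _ (Subgroup.inclusion_injective h2)
  have h4 := card_le_of_isPGroup_le p (hNSp (P.map (MulAut.conj g).toMonoidHom))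
    (normalizerIn_le_normalizer _ _)
  have h5 : Nat.card ↥(Subgroup.normalizer ((P.map (MulAut.conj g).toMonoidHom : Subgroup G) : Set G)) =
      Nat.card ↥(Subgroup.normalizer (P : Set G)) := by
    rw [normalizer_map_conj, card_map_conj]
  rw [h5] at h4 ⊢
  rw [hT'card] at h3
  exact le_antisymm h4 h3

/-- If `N_S(Q)` has Sylow order in `N_G(Q)` then `C_S(Q)` has Sylow order in `C_G(Q)`. -/
theorem centralizerIn_sylow_card_of_normalizerIn [Finite G] (p : ℕ) [Fact p.Prime] (S : Sylow p G)
    (Q : Subgroup G)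
    (hN : Nat.card (normalizerIn (S : Subgroup G) Q) =
      p ^ (Nat.card ↥(Subgroup.normalizer (Q : Set G))).factorization p) :
    Nat.card (centralizerIn (S : Subgroup G) Q) =
      p ^ (Nat.card ↥(Subgroup.centralizer (Q : Set G))).factorization p := by
  have hCSp : IsPGroup p (centralizerIn (S : Subgroup G) Q) :=
    S.isPGroup'.to_le (centralizerIn_le_left _ _)
  have hpg : IsPGroup p ((centralizerIn (S : Subgroup G) Q).subgroupOf
      (Subgroup.centralizer (Q : Set G))) := hCSp.comap_subtype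
  obtain ⟨T, hT⟩ := hpg.exists_le_sylow
  obtain ⟨T', hT'def⟩ : ∃ T' : Subgroup G,
    T' = (T : Subgroup ↥(Subgroup.centralizer (Q : Set G))).map
      (Subgroup.centralizer (Q : Set G)).subtype := ⟨_, rfl⟩
  have hT'C : T' ≤ Subgroup.centralizer (Q : Set G) := by
    rw [hT'def]; rintro _ ⟨x, -, rfl⟩; exact x.2
  have hT'card : Nat.card T' = p ^ (Nat.card ↥(Subgroup.centralizer (Q : Set G))).factorization p := by
    rw [hT'def, Subgroup.card_map_of_injective Subtype.val_injective]
    exact T.card_eq_multiplicity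
  have hT'p : IsPGroup p T' := IsPGroup.of_card hT'card
  have hT'N : T' ≤ Subgroup.normalizer (Q : Set G) := hT'C.trans (centralizer_le_normalizer' Q)
  obtain ⟨n, hnN, hn⟩ := exists_conj_le_of_sylow_card p (normalizerIn_le_normalizer _ _) hT'N hT'p hN
  have h2 : T'.map (MulAut.conj n).toMonoidHom ≤ centralizerIn (S : Subgroup G) Q := by
    refine le_inf (hn.trans (normalizerIn_le_left _ _)) ?_
    have h1 : T'.map (MulAut.conj n).toMonoidHom ≤
        (Subgroup.centralizer (Q : Set G)).map (MulAut.conj n).toMonoidHom := Subgroup.map_mono hT'C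
    rw [← centralizer_map_conj] at h1
    have h3 : Q.map (MulAut.conj n).toMonoidHom = Q := Subgroup.mem_normalizer_iff_map_conj_eq.mp hnN
    rw [h3] at h1
    exact h1
  have h3 : Nat.card T' ≤ Nat.card ↥(centralizerIn (S : Subgroup G) Q) := by
    rw [← card_map_conj T' n]
    exact Nat.card_le_card_of_injective _ (Subgroup.inclusion_injective h2)
  have h4 := card_le_of_isPGroup_le p hCSp (centralizerIn_le_centralizer _ _)
  rw [hT'card] at h3
  exact le_antisymm h4 h3

end Cfsg.Agent.Lib.Helper9
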