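import Cfsg.Agent.Lib.Helper9.FusionFrattini
import Cfsg.Agent.Lib.Helper9.FusionGroup2
import Cfsg.Agent.Lib.Helper9.FusionSat
import Cfsg.Agent.Lib.Helper9.Frattini
import Cfsg.Agent.Lib.Helper9.FusionAlp4

set_option autoImplicit false

namespace Cfsg.Agent.Lib.Helper9

open Cfsg Cfsg.FusionSystem

variable {Ω : Type*} [Group Ω] {S T : Subgroup Ω}

/-- The automorphisms of a fully automized receptive proper subgroup `P` of `T` are good, provided
the maps of `F` on larger subgroups of `T` are. -/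
theorem aut_le_good [Finite S] (p : ℕ) [Fact p.Prime] (F : FusionSystem S) (E : FusionSystem T)
    (hsub : E.IsSubsystemOf F) (hTS : T ≤ S) (hTp : IsPGroup p T) (hc : ConjInv E F)
    {P : Subgroup Ω} (hPT : P ≤ T) (hPne : P ≠ T)
    (hauto : F.IsFullyAutomized p P) (hrec : F.IsReceptive P)
    (hK : ∀ g ∈ F.autGroup P, ∀ (x : Ω) (_ : x ∈ T) (hxN : x ∈ Subgroup.normalizer (P : Set Ω)),
      g * normConj P ⟨x, hxN⟩ * g⁻¹ ∈ E.autGroup P)
    (IH : ∀ R : Subgroup Ω, R ≤ T → Nat.card P < Nat.card R →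
      ∀ φ ∈ F.Hom R, φ ∈ (goodSystem E F hTS hc).Hom R) :
    F.autGroup P ≤ (goodSystem E F hTS hc).autGroup P := by
  have hfinT : Finite T := finite_of_le' hTS
  obtain ⟨hPS, R, hR⟩ := hauto
  have hfinP : Finite P := finite_of_le' hPS
  have hfinΓ : Finite (F.autGroup P) := inferInstance
  have hKR : (autInducedBy T P).subgroupOf (F.autGroup P) ≤ (R : Subgroup (F.autGroup P)) := by
    rw [hR]
    intro a ha
    exact Subgroup.mem_subgroupOf.mpr (autInducedBy_mono hTS P (Subgroup.mem_subgroupOf.mp ha))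
  have hBE : Subgroup.normalClosure
      (((autInducedBy T P).subgroupOf (F.autGroup P) : Subgroup (F.autGroup P)) :
        Set (F.autGroup P)) ≤ (E.autGroup P).subgroupOf (F.autGroup P) := by
    unfold Subgroup.normalClosure
    rw [Subgroup.closure_le]
    intro a ha
    rw [Group.mem_conjugatesOfSet_iff] at ha
    obtain ⟨k, hk, hka⟩ := ha
    rw [isConj_iff] at hka
    obtain ⟨c, rfl⟩ := hka
    have hk' : (k : MulAut P) ∈ autInducedBy T P := Subgroup.mem_subgroupOf.mp hk
    rw [autInducedBy_eq_map] at hk'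
    obtain ⟨m, hm, hmk⟩ := hk'
    show ((c * k * c⁻¹ : F.autGroup P) : MulAut P) ∈ E.autGroup P
    have e : ((c * k * c⁻¹ : F.autGroup P) : MulAut P) =
        (c : MulAut P) * (k : MulAut P) * (c : MulAut P)⁻¹ := rfl
    rw [e, ← hmk]
    exact hK c c.2 m (Subgroup.mem_subgroupOf.mp hm) m.2
  intro g hg
  obtain ⟨n, hnB, h, hgh, hh⟩ := frattini_inf p R (Subgroup.normalClosure
    (((autInducedBy T P).subgroupOf (F.autGroup P) : Subgroup (F.autGroup P)) :
      Set (F.autGroup P))) ⟨g, hg⟩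
  have hn : (n : MulAut P) ∈ (goodSystem E F hTS hc).autGroup P :=
    autGroup_le_goodSystem E F hsub hTS hc P (Subgroup.mem_subgroupOf.mp (hBE hnB))
  have hhgood : (h : MulAut P) ∈ (goodSystem E F hTS hc).autGroup P := by
    have hφ : P.subtype.comp (h : MulAut P).toMonoidHom ∈ F.Hom P :=
      (mem_autGroup_iff F hPS _).mp h.2
    have hrange : (P.subtype.comp (h : MulAut P).toMonoidHom).range = P := by
      ext y
      constructor
      · rintro ⟨x, rfl⟩
        exact ((h : MulAut P) x).2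
      · intro hy
        refine ⟨(h : MulAut P)⁻¹ ⟨y, hy⟩, ?_⟩
        show (((h : MulAut P) ((h : MulAut P)⁻¹ ⟨y, hy⟩) : P) : Ω) = y
        rw [MulAut.apply_inv_self]
    obtain ⟨ψ, hψ, hψs⟩ := hrec.2 P _ hφ hrange
    have hNT : normalizerIn T P ≤ extender S P (P.subtype.comp (h : MulAut P).toMonoidHom) := by
      intro x hx
      have hxT : x ∈ T := hx.1
      have hxN : x ∈ Subgroup.normalizer (P : Set Ω) := hx.2
      rw [mem_extender_iff]
      refine ⟨hTS hxT, hxN, ?_⟩
      have hkxT : normConj P ⟨x, hxN⟩ ∈ autInducedBy T P := by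
        rw [autInducedBy_eq_map]
        exact ⟨⟨x, hxN⟩, Subgroup.mem_subgroupOf.mpr hxT, rfl⟩
      have hkxA : normConj P ⟨x, hxN⟩ ∈ F.autGroup P :=
        autInducedBy_le_autGroup F hPS (autInducedBy_mono hTS P hkxT)
      have hmemK : (⟨normConj P ⟨x, hxN⟩, hkxA⟩ : F.autGroup P) ∈
          (autInducedBy T P).subgroupOf (F.autGroup P) := Subgroup.mem_subgroupOf.mpr hkxT
      have hkx : (⟨normConj P ⟨x, hxN⟩, hkxA⟩ : F.autGroup P) ∈
          (R : Subgroup (F.autGroup P)) ⊓ Subgroup.normalClosure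
            (((autInducedBy T P).subgroupOf (F.autGroup P) : Subgroup (F.autGroup P)) :
              Set (F.autGroup P)) :=
        ⟨hKR hmemK, Subgroup.subset_normalClosure hmemK⟩
      have h0 : h * (⟨normConj P ⟨x, hxN⟩, hkxA⟩ : F.autGroup P) * h⁻¹ ∈
          (R : Subgroup (F.autGroup P)) := (hh _ hkx).1
      have h1 : h * (⟨normConj P ⟨x, hxN⟩, hkxA⟩ : F.autGroup P) * h⁻¹ ∈
          (autInducedBy S P).subgroupOf (F.autGroup P) := hR.le h0
      rw [Subgroup.mem_subgroupOf, autInducedBy_eq_map] at h1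
      obtain ⟨s', hs', hs'e⟩ := h1
      refine ⟨s', Subgroup.mem_subgroupOf.mp hs', ?_⟩
      intro y hy
      show (((h : MulAut P) ⟨x * y * x⁻¹, hy⟩ : P) : Ω) = s' * ((h : MulAut P) y : P) * (s' : Ω)⁻¹
      have h2 : (normConj P s') ((h : MulAut P) y) =
          ((h : MulAut P) * normConj P ⟨x, hxN⟩ * (h : MulAut P)⁻¹) ((h : MulAut P) y) := by
        rw [hs'e]
        rfl
      have h3 : ((h : MulAut P) * normConj P ⟨x, hxN⟩ * (h : MulAut P)⁻¹) ((h : MulAut P) y) =
          (h : MulAut P) ⟨x * y * x⁻¹, hy⟩ := by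
        rw [MulAut.mul_apply, MulAut.mul_apply, MulAut.inv_apply_self]
        congr 1
      rw [← h3, ← h2, normConj_apply]
    have hlt : Nat.card P < Nat.card (normalizerIn T P) :=
      card_lt_card_normalizerIn p hTp hPT hPne
    have hNTT : normalizerIn T P ≤ T := inf_le_left
    have hψ₁ := IH (normalizerIn T P) hNTT hlt _ (restrict_mem F hψ hNT)
    have hPN : P ≤ normalizerIn T P := fun y hy => ⟨hPT hy, Subgroup.le_normalizer hy⟩
    have hψ₂ := restrict_mem (goodSystem E F hTS hc) hψ₁ hPN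
    rw [mem_autGroup_iff (goodSystem E F hTS hc) hPT]
    have e : P.subtype.comp (h : MulAut P).toMonoidHom =
        ((ψ.comp (Subgroup.inclusion hNT)).comp (Subgroup.inclusion hPN)) := by
      ext x
      exact (hψs x x.2 (hNT (hPN x.2))).symm
    rw [e]
    exact hψ₂
  have e : g = (h : MulAut P) * (n : MulAut P) := congrArg Subtype.val hgh
  rw [e]
  exact Subgroup.mul_mem _ hhgood hn

end Cfsg.Agent.Lib.Helper9
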