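import Cfsg.Agent.Lib.Helper9.FusionFrattini2
import Cfsg.Agent.Lib.Helper9.FusionSat2
import Cfsg.Agent.Lib.Helper9.FusionFactorAut
import Cfsg.Agent.S5079

set_option autoImplicit false

namespace Cfsg.Agent.Lib.Helper9

open Cfsg Cfsg.FusionSystem

variable {Ω : Type*} [Group Ω] {S T : Subgroup Ω}

/-- Frattini property from conjugation invariance plus the invariance of `Aut_T(P)` classes. -/
theorem hom_le_goodSystem [Finite S] (p : ℕ) [Fact p.Prime] (hS : IsPGroup p S)
    (F : FusionSystem S) (hF : F.IsSaturated p) (E : FusionSystem T) (hsub : E.IsSubsystemOf F)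
    (hT : F.StronglyClosed T) (hc : ConjInv E F)
    (hK : ∀ P : Subgroup Ω, P ≤ T → ∀ g ∈ F.autGroup P, ∀ (x : Ω) (_ : x ∈ T)
      (hxN : x ∈ Subgroup.normalizer (P : Set Ω)),
      g * normConj P ⟨x, hxN⟩ * g⁻¹ ∈ E.autGroup P) :
    ∀ P : Subgroup Ω, P ≤ T → ∀ φ ∈ F.Hom P, φ ∈ (goodSystem E F hT.1 hc).Hom P := by
  have hTS : T ≤ S := hT.1
  have hfinT : Finite T := finite_of_le' hTS
  have hTp : IsPGroup p T := hS.to_le hTS
  have key : ∀ k : ℕ, ∀ P : Subgroup Ω, P ≤ T → Nat.card T - Nat.card P ≤ k →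
      ∀ φ ∈ F.Hom P, φ ∈ (goodSystem E F hT.1 hc).Hom P := by
    intro k
    induction k with
    | zero =>
      intro P hPT hk φ hφ
      have hfinP : Finite P := finite_of_le' (hPT.trans hTS)
      have hcard : Nat.card P ≤ Nat.card T := Subgroup.card_le_of_le hPT
      have hPeq : P = T := Subgroup.eq_of_le_of_card_ge hPT (by omega)
      subst hPeq
      have hval : ∀ x : P, φ x ∈ P := fun x => hT.2 P le_rfl φ hφ x
      obtain ⟨α, hα, hαs⟩ := exists_aut_of_hom_self F hφ hval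
      exact ⟨hφ, le_rfl, α, hα, P.subtype, subtype_mem E le_rfl, fun x => (hαs x).symm⟩
    | succ k ih =>
      intro P hPT hk φ hφ
      have hPS : P ≤ S := hPT.trans hTS
      have hfinP : Finite P := finite_of_le' hPS
      by_cases hPeq : P = T
      · subst hPeq
        have hval : ∀ x : P, φ x ∈ P := fun x => hT.2 P le_rfl φ hφ x
        obtain ⟨α, hα, hαs⟩ := exists_aut_of_hom_self F hφ hval
        exact ⟨hφ, le_rfl, α, hα, P.subtype, subtype_mem E le_rfl, fun x => (hαs x).symm⟩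
      · have hcardlt : Nat.card P < Nat.card T := by
          have hle : Nat.card P ≤ Nat.card T := Subgroup.card_le_of_le hPT
          rcases lt_or_eq_of_le hle with h | h
          · exact h
          · exact absurd (Subgroup.eq_of_le_of_card_ge hPT h.ge) hPeq
        have IH : ∀ R : Subgroup Ω, R ≤ T → Nat.card P < Nat.card R →
            ∀ ψ ∈ F.Hom R, ψ ∈ (goodSystem E F hT.1 hc).Hom R := by
          intro R hRT hlt ψ hψ
          exact ih R hRT (by omega) ψ hψ
        obtain ⟨Ps, hconj, hauto, hrec⟩ := hF P hPS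
        have hPsT : Ps ≤ T := by
          obtain ⟨θ, hθ, hθr⟩ := hconj
          rw [← hθr]
          rintro _ ⟨x, rfl⟩
          exact hT.2 P hPT θ hθ x
        have hcardPs : Nat.card Ps = Nat.card P := card_eq_of_isConj F hconj
        have hPsne : Ps ≠ T := by
          intro h
          rw [h] at hcardPs
          omega
        have hAut := aut_le_good p F E hsub hTS hTp hc hPsT hPsne hauto hrec (hK Ps hPsT)
          (fun R hRT hlt => IH R hRT (by omega))
        -- the map χ₂ : P → Ps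
        have hmk : ∀ (P₁ : Subgroup Ω), P₁ ≤ T → Nat.card P₁ = Nat.card P → F.IsConj P₁ Ps →
            ∃ χ₂ ∈ (goodSystem E F hT.1 hc).Hom P₁, χ₂.range = Ps := by
          intro P₁ hP₁T hcard₁ hconj₁
          have hP₁ne : P₁ ≠ T := by
            intro h
            rw [h] at hcard₁
            omega
          obtain ⟨χ, hχ, hχN, hχP⟩ := Cfsg.Agent.S5079.result p hS F Ps P₁ hauto hrec hconj₁
          have hNle : normalizerIn T P₁ ≤ normalizerIn S P₁ :=
            fun y hy => ⟨hTS hy.1, hy.2⟩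
          have hlt : Nat.card P₁ < Nat.card (normalizerIn T P₁) :=
            card_lt_card_normalizerIn p hTp hP₁T hP₁ne
          have hχ₁ := IH (normalizerIn T P₁) inf_le_left (by omega) _ (restrict_mem F hχ hNle)
          have hPN : P₁ ≤ normalizerIn T P₁ := fun y hy => ⟨hP₁T hy, Subgroup.le_normalizer hy⟩
          refine ⟨_, restrict_mem (goodSystem E F hT.1 hc) hχ₁ hPN, ?_⟩
          rw [← hχP]
          ext y
          constructor
          · rintro ⟨x, rfl⟩
            exact ⟨⟨x, hNle (hPN x.2)⟩, Subgroup.mem_subgroupOf.mpr x.2, rfl⟩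
          · rintro ⟨x, hx, rfl⟩
            exact ⟨⟨x, Subgroup.mem_subgroupOf.mp hx⟩, rfl⟩
        obtain ⟨χ₂, hχ₂, hχ₂r⟩ := hmk P hPT rfl hconj
        have hP'T : φ.range ≤ T := by
          rintro _ ⟨x, rfl⟩
          exact hT.2 P hPT φ hφ x
        have hconj' : F.IsConj φ.range Ps :=
          isConj_trans F (isConj_symm F ⟨φ, hφ, rfl⟩) hconj
        have hcard' : Nat.card φ.range = Nat.card P := card_eq_of_isConj F ⟨φ, hφ, rfl⟩
        obtain ⟨χ₂', hχ₂', hχ₂'r⟩ := hmk φ.range hP'T hcard' hconj'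
        -- inverses
        obtain ⟨ι, hι, hιs, hιr⟩ := exists_inv_hom F hχ₂.1 hχ₂r
        obtain ⟨ι', hι', hι's, -⟩ := exists_inv_hom (goodSystem E F hT.1 hc) hχ₂' hχ₂'r
        -- β₁ := φ ∘ ι
        have hιP : ∀ y : Ps, ι y ∈ P := fun y => hιr.le ⟨y, rfl⟩
        obtain ⟨β₁, hβ₁, hβ₁s⟩ := comp_spec F hι hφ hιP
        have hβ₁r : ∀ y : Ps, β₁ y ∈ φ.range := fun y => by
          rw [hβ₁s]; exact ⟨_, rfl⟩
        obtain ⟨β, hβ, hβs⟩ := comp_spec F hβ₁ hχ₂'.1 hβ₁r
        have hβval : ∀ y : Ps, β y ∈ Ps := fun y => by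
          rw [hβs]; exact hχ₂'r.le ⟨_, rfl⟩
        obtain ⟨b, hb, hbs⟩ := exists_aut_of_hom_self F hβ hβval
        have hbgood := (mem_autGroup_iff (goodSystem E F hT.1 hc) hPsT b).mp (hAut hb)
        have hβgood : β ∈ (goodSystem E F hT.1 hc).Hom Ps := by
          have e : β = Ps.subtype.comp b.toMonoidHom := by
            ext y; exact (hbs y).symm
          rw [e]; exact hbgood
        -- φ = ι' ∘ β ∘ χ₂
        have hχ₂Ps : ∀ x : P, χ₂ x ∈ Ps := fun x => hχ₂r.le ⟨x, rfl⟩
        obtain ⟨γ₁, hγ₁, hγ₁s⟩ := comp_spec (goodSystem E F hT.1 hc) hχ₂ hβgood hχ₂Ps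
        have hγ₁Ps : ∀ x : P, γ₁ x ∈ Ps := fun x => by
          rw [hγ₁s]; exact hβval _
        obtain ⟨γ, hγ, hγs⟩ := comp_spec (goodSystem E F hT.1 hc) hγ₁ hι' hγ₁Ps
        have e : φ = γ := by
          ext x
          rw [hγs]
          have h1 : (⟨γ₁ x, hγ₁Ps x⟩ : Ps) = ⟨χ₂' ⟨φ x, ⟨x, rfl⟩⟩,
              hχ₂'r.le ⟨_, rfl⟩⟩ := by
            apply Subtype.ext
            show γ₁ x = χ₂' ⟨φ x, ⟨x, rfl⟩⟩
            rw [hγ₁s, hβs]
            congr 1
            apply Subtype.ext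
            show β₁ ⟨χ₂ x, hχ₂Ps x⟩ = φ x
            rw [hβ₁s]
            congr 1
            apply Subtype.ext
            exact hιs x (hχ₂Ps x)
          rw [h1]
          exact (hι's ⟨φ x, ⟨x, rfl⟩⟩ _).symm
        rw [e]
        exact hγ
  intro P hPT φ hφ
  exact key _ P hPT le_rfl φ hφ

end Cfsg.Agent.Lib.Helper9
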