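import Cfsg.Agent.Lib.Helper9.FusionAut

set_option autoImplicit false

namespace Cfsg.Agent.Lib.Helper9

open Cfsg Cfsg.FusionSystem

variable {Ω : Type*} [Group Ω] {S : Subgroup Ω}

/-- The full subsystem of `F` over a subgroup `T ≤ S`: all maps of `F` between subgroups of `T`. -/
def fullSub (F : FusionSystem S) (T : Subgroup Ω) (hT : T ≤ S) : FusionSystem T where
  Hom P := {φ | φ ∈ F.Hom P ∧ P ≤ T ∧ ∀ x : P, φ x ∈ T}
  le_of_mem h := ⟨h.2.1, h.2.2⟩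
  injective_of_mem h := F.injective_of_mem h.1
  conj_mem := by
    intro P g hP hg
    refine ⟨F.conj_mem (hP.trans hT) (hT hg), hP, fun x => ?_⟩
    show g * (x : Ω) * g⁻¹ ∈ T
    exact T.mul_mem (T.mul_mem hg (hP x.2)) (T.inv_mem hg)
  comp_mem := by
    rintro P Q φ ψ ⟨hφ, hP, hφT⟩ ⟨hψ, hQ, hψT⟩ h
    exact ⟨F.comp_mem hφ hψ h, hP, fun x => hψT _⟩
  inv_mem := by
    rintro P φ ⟨hφ, hP, hφT⟩
    obtain ⟨ψ, hψ, hψφ⟩ := F.inv_mem hφ
    refine ⟨ψ, ⟨hψ, ?_, ?_⟩, hψφ⟩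
    · rintro _ ⟨x, rfl⟩
      exact hφT x
    · rintro ⟨_, x, rfl⟩
      rw [hψφ x]
      exact hP x.2

theorem fullSub_hom (F : FusionSystem S) (T : Subgroup Ω) (hT : T ≤ S) (P : Subgroup Ω) :
    (fullSub F T hT).Hom P = {φ | φ ∈ F.Hom P ∧ P ≤ T ∧ ∀ x : P, φ x ∈ T} := rfl

theorem fullSub_isSubsystemOf (F : FusionSystem S) (T : Subgroup Ω) (hT : T ≤ S) :
    (fullSub F T hT).IsSubsystemOf F := fun _ _ h => h.1

theorem fullSub_autGroup (F : FusionSystem S) (T : Subgroup Ω) (hT : T ≤ S) {P : Subgroup Ω}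
    (hPT : P ≤ T) : (fullSub F T hT).autGroup P = F.autGroup P := by
  ext α
  rw [mem_autGroup_iff (fullSub F T hT) hPT, mem_autGroup_iff F (hPT.trans hT)]
  constructor
  · intro h
    exact h.1
  · intro h
    exact ⟨h, hPT, fun x => hPT (α x).2⟩

end Cfsg.Agent.Lib.Helper9
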