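import Cfsg.Agent.Lib.Helper9.FusionFrattini
import Cfsg.Agent.Lib.Helper9.FusionFactorAut

set_option autoImplicit false

namespace Cfsg.Agent.Lib.Helper9

open Cfsg Cfsg.FusionSystem

variable {Ω : Type*} [Group Ω] {S : Subgroup Ω}

/-- The maps generated, inside `F`, by the conjugations by `S` and a family `A` of automorphisms. -/
inductive GenMap (F : FusionSystem S) (A : ∀ P : Subgroup Ω, Set (MulAut P)) :
    ∀ P : Subgroup Ω, (P →* Ω) → Prop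
  | conj {P : Subgroup Ω} {g : Ω} (hP : P ≤ S) (hg : g ∈ S) : GenMap F A P (conjHom P g)
  | aut {P : Subgroup Ω} {β : MulAut P} (hβ : β ∈ A P) :
      GenMap F A P (P.subtype.comp β.toMonoidHom)
  | comp {P Q : Subgroup Ω} {φ : P →* Ω} {ψ : Q →* Ω} (hφ : GenMap F A P φ)
      (hψ : GenMap F A Q ψ) (h : ∀ x : P, φ x ∈ Q) : GenMap F A P (ψ.comp (φ.codRestrict Q h))
  | inv {P : Subgroup Ω} {φ : P →* Ω} (hφ : GenMap F A P φ) (ψ : φ.range →* Ω)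
      (hψ : ψ ∈ F.Hom φ.range) (hinv : ∀ x : P, ψ ⟨φ x, ⟨x, rfl⟩⟩ = (x : Ω)) :
      GenMap F A φ.range ψ

theorem genMap_mem {F : FusionSystem S} {A : ∀ P : Subgroup Ω, Set (MulAut P)}
    (hA : ∀ (P : Subgroup Ω) (β : MulAut P), β ∈ A P → P.subtype.comp β.toMonoidHom ∈ F.Hom P)
    {P : Subgroup Ω} {φ : P →* Ω} (h : GenMap F A P φ) : φ ∈ F.Hom P := by
  induction h with
  | conj hP hg => exact F.conj_mem hP hg
  | aut hβ => exact hA _ _ hβ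
  | comp _ _ h ih₁ ih₂ => exact F.comp_mem ih₁ ih₂ h
  | inv _ ψ hψ _ _ => exact hψ

/-- The subsystem of `F` generated by a family of automorphisms. -/
def genSystem (F : FusionSystem S) (A : ∀ P : Subgroup Ω, Set (MulAut P))
    (hA : ∀ (P : Subgroup Ω) (β : MulAut P), β ∈ A P → P.subtype.comp β.toMonoidHom ∈ F.Hom P) :
    FusionSystem S where
  Hom P := {φ | GenMap F A P φ}
  le_of_mem h := F.le_of_mem (genMap_mem hA h)
  injective_of_mem h := F.injective_of_mem (genMap_mem hA h)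
  conj_mem hP hg := GenMap.conj hP hg
  comp_mem hφ hψ h := GenMap.comp hφ hψ h
  inv_mem := by
    intro P φ hφ
    obtain ⟨ψ, hψ, hs⟩ := F.inv_mem (genMap_mem hA hφ)
    exact ⟨ψ, GenMap.inv hφ ψ hψ hs, hs⟩

theorem genSystem_isSubsystemOf (F : FusionSystem S) (A : ∀ P : Subgroup Ω, Set (MulAut P))
    (hA : ∀ (P : Subgroup Ω) (β : MulAut P), β ∈ A P → P.subtype.comp β.toMonoidHom ∈ F.Hom P) :
    (genSystem F A hA).IsSubsystemOf F := fun _ _ h => genMap_mem hA h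

theorem genMap_mem_of_le {F : FusionSystem S} {A : ∀ P : Subgroup Ω, Set (MulAut P)}
    (E' : FusionSystem S)
    (hE' : ∀ (P : Subgroup Ω) (β : MulAut P), β ∈ A P → P.subtype.comp β.toMonoidHom ∈ E'.Hom P)
    {P : Subgroup Ω} {φ : P →* Ω} (h : GenMap F A P φ) : φ ∈ E'.Hom P := by
  induction h with
  | conj hP hg => exact E'.conj_mem hP hg
  | aut hβ => exact hE' _ _ hβ
  | comp _ _ h ih₁ ih₂ => exact E'.comp_mem ih₁ ih₂ h
  | @inv P φ _ ψ hψ hinv ih =>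
    obtain ⟨ψ', hψ', hs'⟩ := E'.inv_mem ih
    have : ψ = ψ' := by
      ext ⟨_, x, rfl⟩
      rw [hinv x, hs' x]
    rw [this]
    exact hψ'

theorem aut_mem_genSystem (F : FusionSystem S) (A : ∀ P : Subgroup Ω, Set (MulAut P))
    (hA : ∀ (P : Subgroup Ω) (β : MulAut P), β ∈ A P → P.subtype.comp β.toMonoidHom ∈ F.Hom P)
    {P : Subgroup Ω} {β : MulAut P} (hβ : β ∈ A P) : β ∈ (genSystem F A hA).autGroup P :=
  Subgroup.subset_closure (GenMap.aut hβ)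

/-- Transport of generated maps along an automorphism of `S` preserving the generating family. -/
theorem genMap_transport {F : FusionSystem S} {A : ∀ P : Subgroup Ω, Set (MulAut P)}
    (hA : ∀ (P : Subgroup Ω) (β : MulAut P), β ∈ A P → P.subtype.comp β.toMonoidHom ∈ F.Hom P)
    (α : MulAut S)
    (hAinv : ∀ (P : Subgroup Ω) (hPS : P ≤ S) (β : MulAut P), β ∈ A P →
      ∃ β' ∈ A (imageAlong (S.subtype.comp α.toMonoidHom) P),
        ∀ (x : P) (hm : (S.subtype.comp α.toMonoidHom) ⟨x, hPS x.2⟩ ∈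
            imageAlong (S.subtype.comp α.toMonoidHom) P),
          ((β' ⟨(S.subtype.comp α.toMonoidHom) ⟨x, hPS x.2⟩, hm⟩ :
            imageAlong (S.subtype.comp α.toMonoidHom) P) : Ω) =
            (S.subtype.comp α.toMonoidHom) ⟨β x, hPS (β x).2⟩)
    {P : Subgroup Ω} {φ : P →* Ω} (h : GenMap F A P φ) :
    ∃ χ, GenMap F A (imageAlong (S.subtype.comp α.toMonoidHom) P) χ ∧
      ∀ (x : P) (hx : (x : Ω) ∈ S) (hφx : φ x ∈ S)
        (hm : (S.subtype.comp α.toMonoidHom) ⟨x, hx⟩ ∈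
          imageAlong (S.subtype.comp α.toMonoidHom) P),
        χ ⟨(S.subtype.comp α.toMonoidHom) ⟨x, hx⟩, hm⟩ =
          (S.subtype.comp α.toMonoidHom) ⟨φ x, hφx⟩ := by
  have himS : ∀ R : Subgroup Ω, imageAlong (S.subtype.comp α.toMonoidHom) R ≤ S := by
    rintro R _ ⟨s, -, rfl⟩
    exact (α s).2
  induction h with
  | @conj P g hP hg =>
    refine ⟨conjHom _ ((S.subtype.comp α.toMonoidHom) ⟨g, hg⟩),
      GenMap.conj (himS P) (α ⟨g, hg⟩).2, ?_⟩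
    intro x hx hφx hm
    show (S.subtype.comp α.toMonoidHom) ⟨g, hg⟩ * (S.subtype.comp α.toMonoidHom) ⟨x, hx⟩ *
      ((S.subtype.comp α.toMonoidHom) ⟨g, hg⟩)⁻¹ = _
    have e : (⟨conjHom P g x, hφx⟩ : S) = ⟨g, hg⟩ * ⟨x, hx⟩ * (⟨g, hg⟩ : S)⁻¹ :=
      Subtype.ext rfl
    rw [e, map_mul, map_mul, map_inv]
  | @aut P β hβ =>
    have hPS : P ≤ S := (F.le_of_mem (hA P β hβ)).1
    obtain ⟨β', hβ', hs⟩ := hAinv P hPS β hβ
    refine ⟨_, GenMap.aut hβ', ?_⟩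
    intro x hx hφx hm
    exact hs x hm
  | @comp P Q φ ψ hφ hψ h ih₁ ih₂ =>
    obtain ⟨χ₁, hχ₁, hs₁⟩ := ih₁
    obtain ⟨χ₂, hχ₂, hs₂⟩ := ih₂
    have hφF := genMap_mem hA hφ
    have hψF := genMap_mem hA hψ
    have hPS : P ≤ S := (F.le_of_mem hφF).1
    have hQS : Q ≤ S := (F.le_of_mem hψF).1
    have h' : ∀ y : imageAlong (S.subtype.comp α.toMonoidHom) P,
        χ₁ y ∈ imageAlong (S.subtype.comp α.toMonoidHom) Q := by
      rintro ⟨_, ⟨s, hs, rfl⟩⟩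
      have hsP : (s : Ω) ∈ P := Subgroup.mem_subgroupOf.mp hs
      have := hs₁ ⟨s, hsP⟩ s.2 ((F.le_of_mem hφF).2 _) ⟨s, hs, rfl⟩
      rw [this]
      exact mem_imageAlong (θ := S.subtype.comp α.toMonoidHom) hQS ⟨φ ⟨s, hsP⟩, h _⟩
    refine ⟨χ₂.comp (χ₁.codRestrict _ h'), GenMap.comp hχ₁ hχ₂ h', ?_⟩
    intro x hx hφx hm
    have hφxS : φ x ∈ S := (F.le_of_mem hφF).2 x
    have e : (⟨χ₁ ⟨(S.subtype.comp α.toMonoidHom) ⟨x, hx⟩, hm⟩, h' _⟩ :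
        imageAlong (S.subtype.comp α.toMonoidHom) Q) =
        ⟨(S.subtype.comp α.toMonoidHom) ⟨((⟨φ x, h x⟩ : Q) : Ω), hφxS⟩,
          mem_imageAlong (θ := S.subtype.comp α.toMonoidHom) hQS ⟨φ x, h x⟩⟩ :=
      Subtype.ext (hs₁ x hx hφxS hm)
    show χ₂ ⟨χ₁ ⟨(S.subtype.comp α.toMonoidHom) ⟨x, hx⟩, hm⟩, h' _⟩ = _
    rw [e]
    exact hs₂ ⟨φ x, h x⟩ hφxS hφx _
  | @inv P φ hφ ψ hψ hinv ih =>
    obtain ⟨χ₁, hχ₁, hs₁⟩ := ih
    have hφF := genMap_mem hA hφ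
    have hPS : P ≤ S := (F.le_of_mem hφF).1
    have hφS := (F.le_of_mem hφF).2
    obtain ⟨ψ₁, hψ₁, hψ₁s⟩ := (genSystem F A hA).inv_mem hχ₁
    have hle : imageAlong (S.subtype.comp α.toMonoidHom) φ.range ≤ χ₁.range := by
      rintro _ ⟨s, hs, rfl⟩
      have hsr : (s : Ω) ∈ φ.range := Subgroup.mem_subgroupOf.mp hs
      obtain ⟨x₀, hx₀⟩ := hsr
      refine ⟨⟨(S.subtype.comp α.toMonoidHom) ⟨x₀, hPS x₀.2⟩,
        mem_imageAlong (θ := S.subtype.comp α.toMonoidHom) hPS x₀⟩, ?_⟩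
      rw [hs₁ x₀ (hPS x₀.2) (hφS x₀) _]
      congr 1
      exact Subtype.ext hx₀
    refine ⟨ψ₁.comp (Subgroup.inclusion hle), restrict_mem (genSystem F A hA) hψ₁ hle, ?_⟩
    rintro ⟨_, x₀, rfl⟩ hx hφx hm
    have e1 : (⟨(S.subtype.comp α.toMonoidHom) ⟨φ x₀, hx⟩, hle hm⟩ : χ₁.range) =
        ⟨χ₁ ⟨(S.subtype.comp α.toMonoidHom) ⟨x₀, hPS x₀.2⟩,
          mem_imageAlong (θ := S.subtype.comp α.toMonoidHom) hPS x₀⟩, ⟨_, rfl⟩⟩ :=
      Subtype.ext (hs₁ x₀ (hPS x₀.2) hx _).symm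
    show ψ₁ ⟨(S.subtype.comp α.toMonoidHom) ⟨φ x₀, hx⟩, hle hm⟩ = _
    rw [e1, hψ₁s]
    show (S.subtype.comp α.toMonoidHom) ⟨x₀, hPS x₀.2⟩ = _
    congr 1
    exact Subtype.ext (hinv x₀).symm

/-- The generated subsystem is invariant under `Aut_F(S)` when the generating family is. -/
theorem conjInv_genSystem (F : FusionSystem S) (A : ∀ P : Subgroup Ω, Set (MulAut P))
    (hA : ∀ (P : Subgroup Ω) (β : MulAut P), β ∈ A P → P.subtype.comp β.toMonoidHom ∈ F.Hom P)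
    (hAinv : ∀ α ∈ F.autGroup S, ∀ (P : Subgroup Ω) (hPS : P ≤ S) (β : MulAut P), β ∈ A P →
      ∃ β' ∈ A (imageAlong (S.subtype.comp α.toMonoidHom) P),
        ∀ (x : P) (hm : (S.subtype.comp α.toMonoidHom) ⟨x, hPS x.2⟩ ∈
            imageAlong (S.subtype.comp α.toMonoidHom) P),
          ((β' ⟨(S.subtype.comp α.toMonoidHom) ⟨x, hPS x.2⟩, hm⟩ :
            imageAlong (S.subtype.comp α.toMonoidHom) P) : Ω) =
            (S.subtype.comp α.toMonoidHom) ⟨β x, hPS (β x).2⟩) :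
    ConjInv (genSystem F A hA) F := by
  intro P hPT φ hφ α hα
  obtain ⟨χ, hχ, hs⟩ := genMap_transport hA α (hAinv α hα) hφ
  exact ⟨χ, hχ, fun x hφx hαx => hs x (hPT x.2) hφx hαx⟩

end Cfsg.Agent.Lib.Helper9
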