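import Cfsg.Agent.Lib.Helper9.FusionGen
import Cfsg.Agent.Lib.Helper9.FusionSat2
import Cfsg.Agent.Lib.Helper9.FusionCentric4

set_option autoImplicit false

namespace Cfsg.Agent.Lib.Helper9

open Cfsg Cfsg.FusionSystem

variable {Ω : Type*} [Group Ω] {S : Subgroup Ω}

/-- The generating family: on `F`-centric subgroups, the subgroup of `Aut_F(P)` generated by the
elements of `p`-power order. -/
def pElemGens (F : FusionSystem S) (p : ℕ) : ∀ P : Subgroup Ω, Set (MulAut P) :=
  fun P => {β | F.IsCentric P ∧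
    β ∈ (Subgroup.closure {a : F.autGroup P | ∃ k : ℕ, orderOf a = p ^ k}).map
      (F.autGroup P).subtype}

theorem pElemGens_mem (F : FusionSystem S) (p : ℕ) (P : Subgroup Ω) (β : MulAut P)
    (hβ : β ∈ pElemGens F p P) : P.subtype.comp β.toMonoidHom ∈ F.Hom P := by
  obtain ⟨hc, b, -, rfl⟩ := hβ
  exact (mem_autGroup_iff F hc.1 _).mp b.2

/-- The restriction to `P ≤ S` of an automorphism in `Aut_F(S)` is a map of `F` with range the
image of `P`. -/
theorem restrict_aut_mem (F : FusionSystem S) {α : MulAut S} (hα : α ∈ F.autGroup S)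
    {P : Subgroup Ω} (hPS : P ≤ S) :
    (S.subtype.comp α.toMonoidHom).comp (Subgroup.inclusion hPS) ∈ F.Hom P ∧
      ((S.subtype.comp α.toMonoidHom).comp (Subgroup.inclusion hPS)).range =
        imageAlong (S.subtype.comp α.toMonoidHom) P := by
  refine ⟨restrict_mem F ((mem_autGroup_iff F le_rfl α).mp hα) hPS, ?_⟩
  ext y
  constructor
  · rintro ⟨x, rfl⟩
    exact mem_imageAlong (θ := S.subtype.comp α.toMonoidHom) hPS x
  · rintro ⟨s, hs, rfl⟩
    exact ⟨⟨s, Subgroup.mem_subgroupOf.mp hs⟩, rfl⟩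

theorem pElemGens_inv (F : FusionSystem S) (p : ℕ) (α : MulAut S) (hα : α ∈ F.autGroup S)
    (P : Subgroup Ω) (hPS : P ≤ S) (β : MulAut P) (hβ : β ∈ pElemGens F p P) :
    ∃ β' ∈ pElemGens F p (imageAlong (S.subtype.comp α.toMonoidHom) P),
      ∀ (x : P) (hm : (S.subtype.comp α.toMonoidHom) ⟨x, hPS x.2⟩ ∈
          imageAlong (S.subtype.comp α.toMonoidHom) P),
        ((β' ⟨(S.subtype.comp α.toMonoidHom) ⟨x, hPS x.2⟩, hm⟩ :
          imageAlong (S.subtype.comp α.toMonoidHom) P) : Ω) =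
          (S.subtype.comp α.toMonoidHom) ⟨β x, hPS (β x).2⟩ := by
  obtain ⟨hcen, b, hb, rfl⟩ := hβ
  obtain ⟨hθ, hr⟩ := restrict_aut_mem F hα hPS
  obtain ⟨θ', θi, hθ', hθi, hθi', -⟩ := exists_iso_data F hθ hr
  have hmap := map_congr_autGroup_le F hθ θ' θi hθ' hθi hθi'
  have hcen' : F.IsCentric (imageAlong (S.subtype.comp α.toMonoidHom) P) :=
    centric_of_isConj F hcen ⟨_, hθ, hr⟩
  -- the induced homomorphism of automizers
  let Φ : F.autGroup P →* F.autGroup (imageAlong (S.subtype.comp α.toMonoidHom) P) :=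
    ((MulAut.congr θ').toMonoidHom.comp (F.autGroup P).subtype).codRestrict _
      (fun a => hmap ⟨a, a.2, rfl⟩)
  have hΦinj : Function.Injective Φ := by
    intro a a' haa
    have h1 : (MulAut.congr θ') (a : MulAut P) = (MulAut.congr θ') (a' : MulAut P) :=
      congrArg Subtype.val haa
    exact Subtype.ext ((MulAut.congr θ').injective h1)
  have hcl : Subgroup.closure {a : F.autGroup P | ∃ k : ℕ, orderOf a = p ^ k} ≤
      (Subgroup.closure {a : F.autGroup (imageAlong (S.subtype.comp α.toMonoidHom) P) |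
        ∃ k : ℕ, orderOf a = p ^ k}).comap Φ := by
    rw [Subgroup.closure_le]
    rintro a ⟨k, hk⟩
    apply Subgroup.subset_closure
    exact ⟨k, by rw [orderOf_injective Φ hΦinj a, hk]⟩
  refine ⟨(MulAut.congr θ') (b : MulAut P), ⟨hcen', Φ b, hcl hb, rfl⟩, ?_⟩
  intro x hm
  show ((θ' ((b : MulAut P) (θ'.symm ⟨_, hm⟩)) : imageAlong (S.subtype.comp α.toMonoidHom) P) : Ω)
    = _
  have e : θ'.symm ⟨(S.subtype.comp α.toMonoidHom) ⟨x, hPS x.2⟩, hm⟩ = x := by
    rw [MulEquiv.symm_apply_eq]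
    exact Subtype.ext (hθ' x).symm
  rw [e, hθ']
  rfl

end Cfsg.Agent.Lib.Helper9
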