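import Cfsg.Agent.Lib.Helper9.Fusion3
import Cfsg.Agent.Lib.Helper9.SylowConj

set_option autoImplicit false

namespace Cfsg.Agent.Lib.Helper9

open Cfsg Cfsg.FusionSystem

variable {G : Type*} [Group G]

/-- Conjugacy in the fusion system of a group on a subgroup. -/
theorem isConj_groupFusionSystem_iff (S : Subgroup G) (P Q : Subgroup G) :
    (groupFusionSystem S).IsConj P Q ↔
      P ≤ S ∧ Q ≤ S ∧ ∃ g : G, P.map (MulAut.conj g).toMonoidHom = Q := by
  constructor
  · rintro ⟨φ, ⟨hP, hφS, g, hg⟩, rfl⟩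
    refine ⟨hP, ?_, g, ?_⟩
    · rintro _ ⟨x, rfl⟩
      exact hφS x
    · ext y
      constructor
      · rintro ⟨x, hx, rfl⟩
        exact ⟨⟨x, hx⟩, hg ⟨x, hx⟩⟩
      · rintro ⟨x, rfl⟩
        exact ⟨x, x.2, (hg x).symm⟩
  · rintro ⟨hP, hQ, g, rfl⟩
    refine ⟨conjHom P g, ⟨hP, ?_, g, fun x => rfl⟩, ?_⟩
    · intro x
      exact hQ ⟨x, x.2, rfl⟩
    · ext y
      constructor
      · rintro ⟨x, rfl⟩
        exact ⟨x, x.2, rfl⟩
      · rintro ⟨x, hx, rfl⟩
        exact ⟨⟨x, hx⟩, rfl⟩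

theorem le_normalizerIn {S P : Subgroup G} (hP : P ≤ S) : P ≤ normalizerIn S P :=
  le_inf hP Subgroup.le_normalizer

theorem normalizerIn_le_normalizer (S P : Subgroup G) :
    normalizerIn S P ≤ Subgroup.normalizer (P : Set G) := inf_le_right

theorem centralizerIn_le_centralizer (S P : Subgroup G) :
    centralizerIn S P ≤ Subgroup.centralizer (P : Set G) := inf_le_right

end Cfsg.Agent.Lib.Helper9
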