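import Cfsg.Agent.Lib.Helper9.FusionHyp

set_option autoImplicit false

namespace Cfsg.Agent.Lib.Helper9

open Cfsg Cfsg.FusionSystem

variable {Ω : Type*} [Group Ω] {S : Subgroup Ω}

/-- To bound the hyperfocal subgroup, it suffices to treat the `p'`-automorphisms. -/
theorem hyperfocal_le_of_gen (F : FusionSystem S) (p : ℕ) (K : Subgroup Ω)
    (h : ∀ (P : Subgroup Ω), P ≤ S → ∀ α : MulAut P, α ∈ F.autGroup P →
      Nat.Coprime (orderOf α) p → ∀ x : P, (x : Ω)⁻¹ * ((α x : P) : Ω) ∈ K) :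
    F.hyperfocalSubgroup p ≤ K := by
  unfold hyperfocalSubgroup
  rw [Subgroup.closure_le]
  rintro _ ⟨P, ρ, x, hP, hρ, rfl⟩
  have key : ∀ ρ' : F.autGroup P, ρ' ∈ pResidual p (F.autGroup P) → ∀ x : P,
      ((x : Ω)⁻¹ * (((ρ' : MulAut P) x : P) : Ω)) ∈ K := by
    intro ρ' hρ'
    unfold pResidual at hρ'
    induction hρ' using Subgroup.closure_induction with
    | mem ρ'' hρ'' =>
      intro x
      have hord : Nat.Coprime (orderOf (ρ'' : MulAut P)) p := by
        rw [Subgroup.orderOf_coe]; exact hρ''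
      exact h P hP _ ρ''.2 hord x
    | one =>
      intro x
      have : ((x : Ω)⁻¹ * ((((1 : F.autGroup P) : MulAut P) x : P) : Ω)) = 1 := by
        show ((x : Ω)⁻¹ * (x : Ω)) = 1
        group
      rw [this]
      exact Subgroup.one_mem _
    | mul a b _ _ iha ihb =>
      intro x
      have h1 := ihb x
      have h2 := iha ((b : MulAut P) x)
      have e : ((x : Ω)⁻¹ * ((((a * b : F.autGroup P) : MulAut P) x : P) : Ω)) =
          (((x : Ω)⁻¹ * (((b : MulAut P) x : P) : Ω))) *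
          (((((b : MulAut P) x : P) : Ω)⁻¹ *
            (((a : MulAut P) ((b : MulAut P) x) : P) : Ω))) := by
        show ((x : Ω)⁻¹ * (((a : MulAut P) ((b : MulAut P) x) : P) : Ω)) = _
        group
      rw [e]
      exact Subgroup.mul_mem _ h1 h2
    | inv a _ iha =>
      intro x
      have h1 := iha ((a : MulAut P)⁻¹ x)
      have e0 : (a : MulAut P) ((a : MulAut P)⁻¹ x) = x := MulEquiv.apply_symm_apply _ x
      rw [e0] at h1
      have e : ((x : Ω)⁻¹ * ((((a⁻¹ : F.autGroup P) : MulAut P) x : P) : Ω)) =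
          (((((a : MulAut P)⁻¹ x : P) : Ω)⁻¹ * (x : Ω)))⁻¹ := by
        show ((x : Ω)⁻¹ * ((((a : MulAut P)⁻¹ x : P)) : Ω)) = _
        group
      rw [e]
      exact Subgroup.inv_mem _ h1
  exact SetLike.mem_coe.mpr (key ρ hρ x)

/-- A `p'`-automorphism yields hyperfocal generators. -/
theorem hyperfocal_gen_mem' (F : FusionSystem S) (p : ℕ) {P : Subgroup Ω} (hP : P ≤ S)
    (α : MulAut P) (hα : α ∈ F.autGroup P) (hord : Nat.Coprime (orderOf α) p) (x : P) :
    (x : Ω)⁻¹ * ((α x : P) : Ω) ∈ F.hyperfocalSubgroup p := by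
  have hres : (⟨α, hα⟩ : F.autGroup P) ∈ pResidual p (F.autGroup P) := by
    apply Subgroup.subset_closure
    show Nat.Coprime (orderOf (⟨α, hα⟩ : F.autGroup P)) p
    rw [← Subgroup.orderOf_coe]
    exact hord
  exact hyperfocal_gen_mem F p hP ⟨α, hα⟩ hres x

end Cfsg.Agent.Lib.Helper9
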