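import Cfsg.Agent.Lib.Helper9.FusionFactorAut
import Cfsg.Agent.Lib.Helper9.FusionHyp2
import Cfsg.Agent.Lib.Helper9.FusionChain
import Cfsg.Agent.Lib.Helper9.PowTrick

set_option autoImplicit false

namespace Cfsg.Agent.Lib.Helper9

open Cfsg Cfsg.FusionSystem

variable {Ω : Type*} [Group Ω] {S : Subgroup Ω}

/-- Maps of the system fix the elements of a central subgroup. -/
theorem central_fix (F : FusionSystem S) {Q : Subgroup Ω} (hQ : F.IsCentral Q) {P : Subgroup Ω}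
    {φ : P →* Ω} (hφ : φ ∈ F.Hom P) (x : P) (hx : (x : Ω) ∈ Q) : φ x = x := by
  obtain ⟨ψ, -, hψP, hψQ⟩ := hQ.2 P φ hφ
  rw [← hψP x]
  have : Subgroup.inclusion (le_sup_left : P ≤ P ⊔ Q) x =
      Subgroup.inclusion (le_sup_right : Q ≤ P ⊔ Q) ⟨x, hx⟩ := Subtype.ext rfl
  rw [this, hψQ]

theorem central_stronglyClosed (F : FusionSystem S) {Q : Subgroup Ω} (hQ : F.IsCentral Q) :
    F.StronglyClosed Q := by
  refine ⟨hQ.1, fun R hR φ hφ x => ?_⟩
  rw [central_fix F hQ hφ x (hR x.2)]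
  exact hR x.2

theorem central_comm (F : FusionSystem S) {Q : Subgroup Ω} (hQ : F.IsCentral Q) {s ζ : Ω}
    (hs : s ∈ S) (hζ : ζ ∈ Q) : s * ζ * s⁻¹ = ζ := by
  have h := central_fix F hQ (F.conj_mem hQ.1 hs) ⟨ζ, hζ⟩ hζ
  exact h

/-- Powers of an automorphism agreeing with another one modulo a strongly closed subgroup. -/
theorem ext_pow_general (F : FusionSystem S) {T P R : Subgroup Ω} (hT : F.StronglyClosed T)
    (hRS : R ≤ S) (hPR : P ≤ R) (α : MulAut P) (ψ : MulAut R) (hψ : ψ ∈ F.autGroup R)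
    (h : ∀ x : P, ((α x : P) : Ω)⁻¹ * ((ψ (Subgroup.inclusion hPR x) : R) : Ω) ∈ T) (k : ℕ) :
    ∀ x : P, (((α ^ k) x : P) : Ω)⁻¹ * (((ψ ^ k) (Subgroup.inclusion hPR x) : R) : Ω) ∈ T := by
  induction k with
  | zero =>
    intro x
    show (x : Ω)⁻¹ * (x : Ω) ∈ T
    rw [inv_mul_cancel]
    exact T.one_mem
  | succ k ih =>
    intro x
    rw [pow_succ, pow_succ]
    show (((α ^ k) (α x) : P) : Ω)⁻¹ * (((ψ ^ k) (ψ (Subgroup.inclusion hPR x)) : R) : Ω) ∈ T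
    have hτ : ∃ τ : R, (τ : Ω) ∈ T ∧
        ψ (Subgroup.inclusion hPR x) = Subgroup.inclusion hPR (α x) * τ := by
      refine ⟨(Subgroup.inclusion hPR (α x))⁻¹ * ψ (Subgroup.inclusion hPR x), h x, ?_⟩
      group
    obtain ⟨τ, hτT, hτ⟩ := hτ
    rw [hτ, map_mul]
    have h1 := ih (α x)
    have h2 : ((((ψ ^ k) τ : R)) : Ω) ∈ T :=
      aut_mem_of_stronglyClosed F hRS hT (Subgroup.pow_mem _ hψ k) τ hτT
    have e : (((α ^ k) (α x) : P) : Ω)⁻¹ *
        (((ψ ^ k) (Subgroup.inclusion hPR (α x)) * (ψ ^ k) τ : R) : Ω) =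
        ((((α ^ k) (α x) : P) : Ω)⁻¹ * (((ψ ^ k) (Subgroup.inclusion hPR (α x)) : R) : Ω)) *
          ((((ψ ^ k) τ : R)) : Ω) := by
      rw [Subgroup.coe_mul, mul_assoc]
    rw [e]
    exact T.mul_mem h1 h2

/-- A subgroup of the centre of `S` has an automorphism group of order prime to `p`. -/
theorem autGroup_card_coprime_of_central [Finite S] (p : ℕ) [Fact p.Prime] (hS : IsPGroup p S)
    (F : FusionSystem S) (hF : F.IsSaturated p) {U : Subgroup Ω} (hUS : U ≤ S)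
    (hU : ∀ s ∈ S, ∀ u ∈ U, s * u * s⁻¹ = u) : Nat.Coprime (Nat.card (F.autGroup U)) p := by
  have hfinU : Finite U := finite_of_le' hUS
  have hnorm : normalizerIn S U = S := by
    unfold normalizerIn
    apply inf_of_le_left
    intro s hs
    rw [Subgroup.mem_normalizer_iff]
    intro u
    constructor
    · intro hu
      rw [hU s hs u hu]; exact hu
    · intro hu
      have h1 := hU s⁻¹ (S.inv_mem hs) _ hu
      have h2 : u = s⁻¹ * (s * u * s⁻¹) * s⁻¹⁻¹ := by group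
      rw [h2, h1]; exact hu
  have hfn : F.IsFullyNormalized U := by
    refine ⟨hUS, fun Q _ => ?_⟩
    rw [hnorm]
    exact Nat.card_le_card_of_injective _
      (Subgroup.inclusion_injective (normalizerIn_le_left S Q))
  have hfa := (sat_fullyNormalized p hS F hF hfn).2
  rw [fullyAutomized_iff_card p F hUS] at hfa
  have hbot : autInducedBy S U = ⊥ := by
    unfold autInducedBy
    rw [Subgroup.closure_eq_bot_iff]
    rintro α ⟨g, hg, hα⟩
    rw [Set.mem_singleton_iff]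
    ext x
    rw [hα, hU g hg x x.2]
    rfl
  rw [hbot] at hfa
  have h1 : Nat.card (⊥ : Subgroup (MulAut U)) = 1 := Subgroup.card_bot
  rw [h1] at hfa
  have hp : p.Prime := Fact.out
  have h0 : (Nat.card (F.autGroup U)).factorization p = 0 := by
    by_contra hne
    have : 1 < p ^ (Nat.card (F.autGroup U)).factorization p :=
      Nat.one_lt_pow hne hp.one_lt
    omega
  have hcard0 : Nat.card (F.autGroup U) ≠ 0 := Nat.card_pos.ne'
  rcases (Nat.factorization_eq_zero_iff _ _).mp h0 with h | h | h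
  · exact absurd hp h
  · exact ((Nat.Prime.coprime_iff_not_dvd hp).mpr h).symm
  · exact absurd h hcard0

variable {Ω' : Type*} [Group Ω'] {S' : Subgroup Ω'}

/-- Lifting, modulo the kernel, the extension of an automorphism granted by a central subgroup of a
factor system. -/
theorem lift_ext [Finite S] (p : ℕ) [Fact p.Prime] (hS : IsPGroup p S)
    (F : FusionSystem S) (hF : F.IsSaturated p) (T : Subgroup Ω) (hT : F.StronglyClosed T)
    (θ : S →* Ω') (E : FusionSystem S') (hE : F.IsFactorSystem T θ E) {Q' : Subgroup Ω'}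
    (hQ' : E.IsCentral Q') {P : Subgroup Ω} (hPS : P ≤ S) {α : MulAut P}
    (hα : α ∈ F.autGroup P) :
    ∃ (hle : P ≤ preimageAlong θ (imageAlong θ P ⊔ Q'))
      (β : MulAut ↥(preimageAlong θ (imageAlong θ P ⊔ Q'))),
      β ∈ F.autGroup (preimageAlong θ (imageAlong θ P ⊔ Q')) ∧
      ∀ x : P, ((α x : P) : Ω)⁻¹ * ((β (Subgroup.inclusion hle x) :
        ↥(preimageAlong θ (imageAlong θ P ⊔ Q'))) : Ω) ∈ T := by
  haveI : Finite S' := finite_of_range_eq hE.2.2.1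
  obtain ⟨α', hα', hαα'⟩ := exists_induced_aut p hS F hF T hT θ E hE hPS hα
  have hP'S' : imageAlong θ P ≤ S' := by
    rintro _ ⟨s, -, rfl⟩
    rw [← hE.2.2.1]
    exact ⟨s, rfl⟩
  have hφ' := (mem_autGroup_iff E hP'S' α').mp hα'
  obtain ⟨ψ', hψ', hψ'P, hψ'Q⟩ := hQ'.2 _ _ hφ'
  obtain ⟨-, ψ, hψ, hPh, hψS, hPPh', hind⟩ := (hE.2.2.2 _ _).mp hψ'
  have hP'le : imageAlong θ P ≤ imageAlong θ P ⊔ Q' := le_sup_left
  have hQ'le : Q' ≤ imageAlong θ P ⊔ Q' := le_sup_right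
  have hK : imageAlong θ P ⊔ Q' ≤
      ((imageAlong θ P ⊔ Q').comap ψ').map (imageAlong θ P ⊔ Q').subtype := by
    apply sup_le
    · intro y hy
      refine ⟨⟨y, hP'le hy⟩, ?_, rfl⟩
      show ψ' ⟨y, hP'le hy⟩ ∈ imageAlong θ P ⊔ Q'
      have h1 := hψ'P ⟨y, hy⟩
      have e : ψ' ⟨y, hP'le hy⟩ = ψ' (Subgroup.inclusion le_sup_left ⟨y, hy⟩) := rfl
      rw [e, h1]
      exact hP'le (α' ⟨y, hy⟩).2
    · intro t ht
      refine ⟨⟨t, hQ'le ht⟩, ?_, rfl⟩
      show ψ' ⟨t, hQ'le ht⟩ ∈ imageAlong θ P ⊔ Q'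
      have h1 := hψ'Q ⟨t, ht⟩
      have e : ψ' ⟨t, hQ'le ht⟩ = ψ' (Subgroup.inclusion le_sup_right ⟨t, ht⟩) := rfl
      rw [e, h1]
      exact hQ'le ht
  have hval' : ∀ y : ↥(imageAlong θ P ⊔ Q'), ψ' y ∈ imageAlong θ P ⊔ Q' := by
    intro y
    obtain ⟨y', hy', hyy'⟩ := hK y.2
    have : y' = y := Subtype.ext hyy'
    rw [← this]
    exact hy'
  have hval : ∀ x : ↥(preimageAlong θ (imageAlong θ P ⊔ Q')),
      ψ x ∈ preimageAlong θ (imageAlong θ P ⊔ Q') := by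
    intro x
    rw [mem_preimageAlong (hψS x), ← hind x]
    exact hval' _
  obtain ⟨β, hβ, hβψ⟩ := exists_aut_of_hom_self F hψ hval
  have hle : P ≤ preimageAlong θ (imageAlong θ P ⊔ Q') := by
    intro x hx
    rw [mem_preimageAlong (hPS hx)]
    exact hP'le (mem_imageAlong hPS ⟨x, hx⟩)
  refine ⟨hle, β, hβ, fun x => ?_⟩
  have h1 := hind (Subgroup.inclusion hle x)
  have h2 := hψ'P ⟨θ ⟨x, hPS x.2⟩, mem_imageAlong hPS x⟩
  have h3 := hαα' x (mem_imageAlong hPS x)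
  have h4 : θ ⟨ψ (Subgroup.inclusion hle x), hψS _⟩ = θ ⟨(α x : P), hPS (α x).2⟩ := by
    rw [← h1, ← h3]
    exact h2
  have h5 : θ ((⟨(α x : P), hPS (α x).2⟩ : S)⁻¹ * ⟨ψ (Subgroup.inclusion hle x), hψS _⟩) = 1 := by
    rw [map_mul, map_inv, h4, inv_mul_cancel]
  have h6 := (hE.2.1 _).mp h5
  rw [hβψ]
  exact h6

end Cfsg.Agent.Lib.Helper9
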