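import Cfsg.Agent.Lib.Helper9.FusionFactor

set_option autoImplicit false

namespace Cfsg.Agent.Lib.Helper9

open Cfsg Cfsg.FusionSystem

variable {Ω : Type*} [Group Ω] {S : Subgroup Ω} {Ω' : Type*} [Group Ω']

/-- Construction of the homomorphism induced along `θ` by a homomorphism `ψ` on `Q` compatible
with the kernel of `θ`. -/
theorem exists_induced {Q : Subgroup Ω} (hQS : Q ≤ S) (θ : S →* Ω') (P' : Subgroup Ω')
    (hQP' : ∀ x : Q, θ ⟨x, hQS x.2⟩ ∈ P') (hsurj : ∀ y ∈ P', ∃ x : Q, θ ⟨x, hQS x.2⟩ = y)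
    (ψ : Q →* Ω) (hψS : ∀ x, ψ x ∈ S)
    (hker : ∀ x : Q, θ ⟨x, hQS x.2⟩ = 1 → θ ⟨ψ x, hψS x⟩ = 1) :
    ∃ ψ' : P' →* Ω', ∀ x : Q, ψ' ⟨θ ⟨x, hQS x.2⟩, hQP' x⟩ = θ ⟨ψ x, hψS x⟩ := by
  obtain ⟨f, hf⟩ : ∃ f : Q →* P', ∀ x : Q, f x = ⟨θ ⟨x, hQS x.2⟩, hQP' x⟩ :=
    ⟨(θ.comp (Subgroup.inclusion hQS)).codRestrict P' hQP', fun x => rfl⟩
  have hfsurj : Function.Surjective f := by
    intro y
    obtain ⟨x, hx⟩ := hsurj y y.2
    exact ⟨x, by rw [hf]; exact Subtype.ext hx⟩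
  obtain ⟨g, hg⟩ : ∃ g : Q →* Ω', ∀ x : Q, g x = θ ⟨ψ x, hψS x⟩ :=
    ⟨θ.comp (ψ.codRestrict S hψS), fun x => rfl⟩
  have hkerle : f.ker ≤ g.ker := by
    intro x hx
    rw [MonoidHom.mem_ker] at hx ⊢
    rw [hg]
    apply hker
    have := congrArg Subtype.val hx
    rw [hf] at this
    exact this
  refine ⟨f.liftOfRightInverse (Function.surjInv hfsurj) (Function.rightInverse_surjInv hfsurj)
    ⟨g, hkerle⟩, fun x => ?_⟩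
  rw [← hf, MonoidHom.liftOfRightInverse_comp_apply, hg]

end Cfsg.Agent.Lib.Helper9
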