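import Cfsg.Agent.Lib.Helper9.FusionHyp

set_option autoImplicit false

namespace Cfsg.Agent.Lib.Helper9

open Cfsg Cfsg.FusionSystem

variable {Ω : Type*} [Group Ω] {S : Subgroup Ω}

theorem inner_le (F : FusionSystem S) : innerFusionSystem S ≤ F := by
  rintro P φ ⟨hP, g, hg, hφ⟩
  have : φ = conjHom P g := by
    ext x
    rw [hφ x]
    rfl
  rw [this]
  exact F.conj_mem hP hg

/-- A saturated fusion system in which `Aut_F(P)` is a `p`-group for `P = S` and `P` essential is
the inner fusion system. -/
theorem eq_inner_of_autGroup_pgroup [Finite S] (p : ℕ) [Fact p.Prime] (hS : IsPGroup p S)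
    (F : FusionSystem S) (hF : F.IsSaturated p)
    (h : ∀ P : Subgroup Ω, (P = S ∨ F.IsEssential p P) → IsPGroup p (F.autGroup P)) :
    ∀ P : Subgroup Ω, F.Hom P = (innerFusionSystem S).Hom P := by
  have hle : F ≤ innerFusionSystem S := by
    apply Cfsg.Agent.S5082.result p hS F hF
    intro P hP α hα
    have hfn : F.IsFullyNormalized P := by
      rcases hP with rfl | hess
      · exact isFullyNormalized_top F
      · exact hess.2.1
    obtain ⟨-, hfa⟩ := sat_fullyNormalized p hS F hF hfn
    obtain ⟨Rs, hRs⟩ := hfa.2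
    have htop := sylow_eq_top_of_isPGroup (h P hP) Rs
    rw [hRs] at htop
    have h1 : (⟨α, hα⟩ : F.autGroup P) ∈ (autInducedBy S P).subgroupOf (F.autGroup P) := by
      rw [htop]; exact Subgroup.mem_top _
    exact autInducedBy_le_autGroup (innerFusionSystem S) hfa.1 (Subgroup.mem_subgroupOf.mp h1)
  intro P
  exact Set.Subset.antisymm (hle P) (inner_le F P)

end Cfsg.Agent.Lib.Helper9
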