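import Cfsg.Agent.Lib.Helper9.FusionInner

set_option autoImplicit false

namespace Cfsg.Agent.Lib.Helper9

open Cfsg Cfsg.FusionSystem

variable {Ω : Type*} [Group Ω] {S : Subgroup Ω}

theorem autGroup_inner_eq {P : Subgroup Ω} (hP : P ≤ S) :
    (innerFusionSystem S).autGroup P = autInducedBy S P := by
  apply le_antisymm
  · intro α hα
    rw [mem_autGroup_iff _ hP] at hα
    obtain ⟨-, g, hg, hgx⟩ := hα
    exact Subgroup.subset_closure ⟨g, hg, fun x => hgx x⟩
  · exact autInducedBy_le_autGroup _ hP

/-- The inner fusion system of a finite `p`-group is saturated. -/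
theorem inner_saturated [Finite S] (p : ℕ) [Fact p.Prime] (hS : IsPGroup p S) :
    (innerFusionSystem S).IsSaturated p := by
  intro P hP
  refine ⟨P, isConj_refl _ hP, ⟨hP, ?_⟩, hP, ?_⟩
  · have hfinP : Finite P := finite_of_le' hP
    have hfinA : Finite (MulAut P) := inferInstance
    have hA : IsPGroup p ((innerFusionSystem S).autGroup P) := by
      rw [autGroup_inner_eq hP]
      exact isPGroup_autInducedBy p hS P
    have htop : (autInducedBy S P).subgroupOf ((innerFusionSystem S).autGroup P) = ⊤ := by
      rw [autGroup_inner_eq hP]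
      exact Subgroup.subgroupOf_self _
    obtain ⟨R⟩ : Nonempty (Sylow p ((innerFusionSystem S).autGroup P)) := inferInstance
    exact ⟨R, by rw [sylow_eq_top_of_isPGroup hA R, htop]⟩
  · rintro P' φ ⟨hP', g, hg, hgx⟩ -
    have hES : extender S P' φ ≤ S := (extender_le S P' φ).trans (normalizerIn_le_left S P')
    refine ⟨conjHom (extender S P' φ) g, ⟨hES, g, hg, fun x => rfl⟩, fun x hxP hxN => ?_⟩
    rw [hgx]
    rfl

end Cfsg.Agent.Lib.Helper9
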