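import Cfsg.Agent.Lib.Helper9.FusionRealized
import Cfsg.Agent.Lib.Helper9.Basic
import Cfsg.Agent.Lib.Helper9.FusionAlp4
import Cfsg.Agent.Lib.Helper9.FusionNorm
import Cfsg.Agent.Lib.Helper9.FusionFactor

set_option autoImplicit false

namespace Cfsg.Agent.Lib.Helper9

open Cfsg Cfsg.FusionSystem

variable {Ω : Type*} [Group Ω] {S : Subgroup Ω} {G : Type*} [Group G]

/-- A subgroup normal in the system is normalized by `S`. -/
theorem conj_mem_of_isNormal (F : FusionSystem S) {R : Subgroup Ω} (hR : F.IsNormal R) {t : Ω}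
    (ht : t ∈ S) {r : Ω} (hr : r ∈ R) : t * r * t⁻¹ ∈ R := by
  have hφ : conjHom S t ∈ F.Hom S := F.conj_mem le_rfl ht
  obtain ⟨ψ, -, hψS, hψR⟩ := hR.2 S _ hφ
  rw [map_subgroupOf_eq_iff] at hψR
  have h1 := hψR.1 ⟨r, hr⟩
  have h2 : ψ (Subgroup.inclusion le_sup_right ⟨r, hr⟩) =
      ψ (Subgroup.inclusion le_sup_left ⟨r, hR.1 hr⟩) := by
    congr 1
  rw [h2, hψS] at h1
  exact h1

/-- In a model, the preimage of `O_p(G)` is normal in the system. -/
theorem isNormal_preimageAlong_pCore [Finite S] (p : ℕ) [Fact p.Prime] (F : FusionSystem S)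
    (ι : S →* G) (hG : F.IsModel p G ι) : F.IsNormal (preimageAlong ι (pCore p G)) := by
  obtain ⟨hfin, hreal, ⟨T, hT⟩, hcent⟩ := hG
  haveI := hfin
  haveI hOn : (pCore p G).Normal := pCore_normal' p
  have hOT : pCore p G ≤ ι.range := by rw [← hT]; exact pCore_le_sylow' T
  have hQS : preimageAlong ι (pCore p G) ≤ S := preimageAlong_le _ _
  have hfinQ : Finite ↥(preimageAlong ι (pCore p G)) := finite_of_le' hQS
  refine ⟨hQS, ?_⟩
  intro P φ hφ
  have hPS := (F.le_of_mem hφ).1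
  obtain ⟨g, hg⟩ := (hreal.2 P hPS φ (F.le_of_mem hφ).2).mp hφ
  have hsupS : P ⊔ preimageAlong ι (pCore p G) ≤ S := sup_le hPS hQS
  have hK : P ⊔ preimageAlong ι (pCore p G) ≤
      preimageAlong ι (ι.range.comap (MulAut.conj g).toMonoidHom) := by
    apply sup_le
    · intro x hx
      rw [mem_preimageAlong (hPS hx)]
      show g * ι ⟨x, hPS hx⟩ * g⁻¹ ∈ ι.range
      rw [← hg ⟨x, hx⟩]
      exact ⟨_, rfl⟩
    · intro x hx
      rw [mem_preimageAlong (hQS hx)]
      show g * ι ⟨x, hQS hx⟩ * g⁻¹ ∈ ι.range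
      exact hOT (hOn.conj_mem _ ((mem_preimageAlong (hQS hx)).mp hx) g)
  have hconj : ∀ y : ↥(P ⊔ preimageAlong ι (pCore p G)),
      g * ι ⟨y, hsupS y.2⟩ * g⁻¹ ∈ ι.range := by
    intro y
    exact (mem_preimageAlong (hsupS y.2)).mp (hK y.2)
  obtain ⟨ψ, hψ, hψS, hspec⟩ := exists_hom_of_conj F ι hreal hsupS g hconj
  refine ⟨ψ, hψ, ?_, ?_⟩
  · intro x
    have key : (⟨ψ (Subgroup.inclusion le_sup_left x), hψS _⟩ : S) =
        ⟨φ x, (F.le_of_mem hφ).2 x⟩ := by
      apply hreal.1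
      rw [hspec, hg]
      rfl
    exact congrArg Subtype.val key
  · have hle : ((preimageAlong ι (pCore p G)).subgroupOf
        (P ⊔ preimageAlong ι (pCore p G))).map ψ ≤ preimageAlong ι (pCore p G) := by
      rintro _ ⟨y, hy, rfl⟩
      rw [mem_preimageAlong (hψS y), hspec]
      have hyQ : (y : Ω) ∈ preimageAlong ι (pCore p G) := Subgroup.mem_subgroupOf.mp hy
      exact hOn.conj_mem _ ((mem_preimageAlong (hsupS y.2)).mp hyQ) g
    refine Subgroup.eq_of_le_of_card_ge hle ?_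
    rw [Subgroup.card_map_of_injective (F.injective_of_mem hψ)]
    exact (Nat.card_congr (Subgroup.subgroupOfEquivOfLe le_sup_right).toEquiv).ge

/-- In a model `G` of `F`, a subgroup normal in `F` maps onto a normal subgroup of `G`. -/
theorem model_map_normal [Finite S] (p : ℕ) [Fact p.Prime] (F : FusionSystem S) (ι : S →* G)
    (hmod : F.IsModel p G ι) {R : Subgroup Ω} (hR : F.IsNormal R) :
    ((R.subgroupOf S).map ι).Normal := by
  obtain ⟨hfin, hreal, ⟨Syl, hSyl⟩, hcent⟩ := hmod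
  haveI := hfin
  have hUle : pCore p G ≤ ι.range := by rw [← hSyl]; exact pCore_le_sylow' Syl
  haveI hUn : (pCore p G).Normal := pCore_normal' p
  have hRS := hR.1
  have hPS : preimageAlong ι (pCore p G) ≤ S := preimageAlong_le _ _
  constructor
  rintro _ ⟨r, hr, rfl⟩ g
  have hconjP : ∀ x : ↥(preimageAlong ι (pCore p G)), g * ι ⟨x, hPS x.2⟩ * g⁻¹ ∈ ι.range := by
    intro x
    apply hUle
    exact hUn.conj_mem _ (map_preimageAlong_mem x) g
  obtain ⟨φ, hφ, hφS, hφg⟩ := exists_hom_of_conj F ι hreal hPS g hconjP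
  obtain ⟨ψ, hψ, hψP, hψR⟩ := hR.2 _ φ hφ
  rw [map_subgroupOf_eq_iff] at hψR
  have hψS := (F.le_of_mem hψ).2
  have hsupS : preimageAlong ι (pCore p G) ⊔ R ≤ S := sup_le hPS hRS
  obtain ⟨h, hh⟩ := (hreal.2 _ hsupS ψ hψS).mp hψ
  have hcen : g⁻¹ * h ∈ Subgroup.centralizer ((pCore p G : Subgroup G) : Set G) := by
    rw [Subgroup.mem_centralizer_iff]
    intro u hu
    obtain ⟨x, hx⟩ := hUle hu
    have hxP : (x : Ω) ∈ preimageAlong ι (pCore p G) :=
      (mem_preimageAlong x.2).mpr (by rw [hx]; exact hu)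
    have h1 := hh (Subgroup.inclusion le_sup_left ⟨x, hxP⟩)
    have h2 := hφg ⟨x, hxP⟩
    have h3 : h * u * h⁻¹ = g * u * g⁻¹ := by
      rw [← hx]
      have e1 : ι ⟨ψ (Subgroup.inclusion le_sup_left ⟨x, hxP⟩), hψS _⟩ =
          ι ⟨φ ⟨x, hxP⟩, hφS _⟩ := by
        congr 1
        apply Subtype.ext
        exact hψP _
      rw [h1, h2] at e1
      exact e1
    calc u * (g⁻¹ * h) = g⁻¹ * (g * u * g⁻¹) * h := by group
      _ = g⁻¹ * (h * u * h⁻¹) * h := by rw [h3]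
      _ = g⁻¹ * h * u := by group
  obtain ⟨t, ht⟩ := hUle (hcent hcen)
  have hg : g = h * (ι t)⁻¹ := by rw [ht]; group
  have hr' : (r : Ω) ∈ R := Subgroup.mem_subgroupOf.mp hr
  have hr2 : (t : Ω)⁻¹ * (r : Ω) * (t : Ω) ∈ R := by
    have := conj_mem_of_isNormal F hR (S.inv_mem t.2) hr'
    rw [inv_inv] at this
    exact this
  have h4 := hh (Subgroup.inclusion le_sup_right ⟨_, hr2⟩)
  have h5 := hψR.1 ⟨_, hr2⟩
  refine ⟨⟨ψ (Subgroup.inclusion le_sup_right ⟨_, hr2⟩), hψS _⟩,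
    Subgroup.mem_subgroupOf.mpr h5, ?_⟩
  rw [h4, hg]
  have e : ι ⟨((Subgroup.inclusion le_sup_right ⟨_, hr2⟩ :
      ↥(preimageAlong ι (pCore p G) ⊔ R)) : Ω),
      hsupS (Subgroup.inclusion le_sup_right ⟨_, hr2⟩).2⟩ = (ι t)⁻¹ * ι r * ι t := by
    rw [← map_inv, ← map_mul, ← map_mul]
    congr 1
  rw [e]
  group

/-- In a model `G` of `F`, `O_p(G)` is the image of any normal centric radical subgroup. -/
theorem model_pCore_eq [Finite S] (p : ℕ) [Fact p.Prime] (hS : IsPGroup p S) (F : FusionSystem S)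
    (ι : S →* G) (hmod : F.IsModel p G ι) {R : Subgroup Ω} (hR : F.IsNormal R)
    (hcen : F.IsCentric R) (hrad : F.IsRadical p R) :
    (pCore p G : Subgroup G) = (R.subgroupOf S).map ι := by
  have hnorm := model_map_normal p F ι hmod hR
  have hPn := isNormal_preimageAlong_pCore p F ι hmod
  have hle := le_of_isNormal_of_centric_radical p hS F hPn hcen hrad
  obtain ⟨hfin, hreal, ⟨Syl, hSyl⟩, hcent⟩ := hmod
  have hUle : pCore p G ≤ ι.range := by rw [← hSyl]; exact pCore_le_sylow' Syl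
  apply le_antisymm
  · intro u hu
    obtain ⟨x, hx⟩ := hUle hu
    have hxP : (x : Ω) ∈ preimageAlong ι (pCore p G) :=
      (mem_preimageAlong x.2).mpr (by rw [hx]; exact hu)
    exact ⟨x, Subgroup.mem_subgroupOf.mpr (hle hxP), hx⟩
  · apply le_sSup
    refine ⟨hnorm, ?_⟩
    exact (hS.to_subgroup (R.subgroupOf S)).map ι

end Cfsg.Agent.Lib.Helper9
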