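import Cfsg.Agent.Lib.Helper9.FusionSat3

set_option autoImplicit false

namespace Cfsg.Agent.Lib.Helper9

open Cfsg Cfsg.FusionSystem

variable {Ω : Type*} [Group Ω] {S : Subgroup Ω}

theorem centralizerIn_le_normalizerIn (S P : Subgroup Ω) : centralizerIn S P ≤ normalizerIn S P := by
  intro c hc
  exact Subgroup.mem_inf.mpr ⟨(Subgroup.mem_inf.mp hc).1,
    centralizer_le_normalizer' P (Subgroup.mem_inf.mp hc).2⟩

/-- In a saturated fusion system, a fully centralized subgroup is receptive. -/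
theorem sat_fullyCentralized_receptive [Finite S] (p : ℕ) [Fact p.Prime] (hS : IsPGroup p S)
    (F : FusionSystem S) (hF : F.IsSaturated p) {P : Subgroup Ω} (hP : F.IsFullyCentralized P) :
    F.IsReceptive P := by
  obtain ⟨hPS, hfull⟩ := hP
  obtain ⟨P₀, hPP₀, hauto, hrec⟩ := hF P hPS
  have hP₀S := hauto.1
  obtain ⟨α, hα, hαN, hαP⟩ := Cfsg.Agent.S5079.result p hS F P₀ P hauto hrec hPP₀
  have hαinj := F.injective_of_mem hα
  have hαS := (F.le_of_mem hα).2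
  have hPN : P ≤ normalizerIn S P := le_normalizerIn hPS
  have hCN : centralizerIn S P ≤ normalizerIn S P := centralizerIn_le_normalizerIn S P
  have hαP₀ : ∀ x : P, α ⟨x, hPN x.2⟩ ∈ P₀ := by
    intro x
    have : α ⟨x, hPN x.2⟩ ∈ (P.subgroupOf (normalizerIn S P)).map α :=
      ⟨⟨x, hPN x.2⟩, Subgroup.mem_subgroupOf.mpr x.2, rfl⟩
    rw [hαP] at this; exact this
  have hP₀α : ∀ y ∈ P₀, ∃ x : P, α ⟨x, hPN x.2⟩ = y := by
    intro y hy
    rw [← hαP] at hy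
    obtain ⟨x, hx, rfl⟩ := hy
    exact ⟨⟨x, Subgroup.mem_subgroupOf.mp hx⟩, rfl⟩
  -- α maps C_S(P) onto C_S(P₀)
  have hαC : ∀ c : ↥(centralizerIn S P), α ⟨c, hCN c.2⟩ ∈ centralizerIn S P₀ := by
    intro c
    rw [mem_centralizerIn]
    refine ⟨hαS _, ?_⟩
    intro y hy
    obtain ⟨x, rfl⟩ := hP₀α y hy
    rw [← map_mul, ← map_mul]
    congr 1
    apply Subtype.ext
    exact (mem_centralizerIn.mp c.2).2 x x.2
  have hfinC₀ : Finite ↥(centralizerIn S P₀) := finite_of_le' (centralizerIn_le_left S P₀)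
  have hfbij : Function.Bijective
      (fun c : ↥(centralizerIn S P) => (⟨α ⟨c, hCN c.2⟩, hαC c⟩ : ↥(centralizerIn S P₀))) := by
    apply Function.Injective.bijective_of_nat_card_le _ (hfull P₀ hPP₀)
    intro c₁ c₂ h
    have h1 := hαinj (congrArg Subtype.val h)
    apply Subtype.ext
    exact congrArg (fun t : ↥(normalizerIn S P) => (t : Ω)) h1
  have hCsurj : ∀ c ∈ centralizerIn S P₀, ∃ k : ↥(centralizerIn S P), α ⟨k, hCN k.2⟩ = c := by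
    intro c hc
    obtain ⟨k, hk⟩ := hfbij.2 ⟨c, hc⟩
    exact ⟨k, congrArg Subtype.val hk⟩
  refine ⟨hPS, ?_⟩
  intro Q φ hφ hφr
  have hQS : Q ≤ S := (F.le_of_mem hφ).1
  have hφP : ∀ x : Q, φ x ∈ P := fun x => by
    have : φ x ∈ φ.range := ⟨x, rfl⟩
    rw [hφr] at this; exact this
  have hφN : ∀ x : Q, φ x ∈ normalizerIn S P := fun x => hPN (hφP x)
  have hθ := F.comp_mem hφ hα hφN
  obtain ⟨θ, hθdef⟩ : ∃ θ : Q →* Ω, θ = α.comp (φ.codRestrict (normalizerIn S P) hφN) := ⟨_, rfl⟩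
  rw [← hθdef] at hθ
  have hθval : ∀ x : Q, θ x = α ⟨φ x, hφN x⟩ := fun x => by rw [hθdef]; rfl
  have hθr : θ.range = P₀ := by
    ext y
    constructor
    · rintro ⟨x, rfl⟩
      rw [hθval]
      exact hαP₀ ⟨φ x, hφP x⟩
    · intro hy
      obtain ⟨x, rfl⟩ := hP₀α y hy
      have hx : (x : Ω) ∈ φ.range := by rw [hφr]; exact x.2
      obtain ⟨q, hq⟩ := hx
      refine ⟨q, ?_⟩
      rw [hθval]
      congr 1
      exact Subtype.ext hq
  have hθS : ∀ x : Q, θ x ∈ S := (F.le_of_mem hθ).2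
  -- generators of the extender of φ are generators of the extender of θ, with χ-value in range α
  obtain ⟨χ, hχ, hχθ⟩ := hrec.2 Q θ hθ hθr
  have hQe : Q ≤ extender S Q θ := le_extender hQS θ hθS
  have hgen : ∀ g, (g ∈ S ∧ g ∈ Subgroup.normalizer (Q : Set Ω) ∧
      ∃ h ∈ S, ∀ (x : Q) (hx : g * (x : Ω) * g⁻¹ ∈ Q), φ ⟨g * x * g⁻¹, hx⟩ = h * φ x * h⁻¹) →
      ∃ hg : g ∈ extender S Q θ, χ ⟨g, hg⟩ ∈ α.range := by
    rintro g ⟨hgS, hgN, h, hhS, hh⟩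
    have hhN : h ∈ Subgroup.normalizer (P : Set Ω) := by
      have := normalizer_of_extender_gen hgN hh
      rw [hφr] at this; exact this
    have hhNS : h ∈ normalizerIn S P := Subgroup.mem_inf.mpr ⟨hhS, hhN⟩
    have hθh : ∀ (x : Q) (hx : g * (x : Ω) * g⁻¹ ∈ Q),
        θ ⟨g * x * g⁻¹, hx⟩ = α ⟨h, hhNS⟩ * θ x * (α ⟨h, hhNS⟩)⁻¹ := by
      intro x hx
      rw [hθval, hθval, ← map_inv, ← map_mul, ← map_mul]
      congr 1
      exact Subtype.ext (hh x hx)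
    have hg : g ∈ extender S Q θ :=
      Subgroup.subset_closure ⟨hgS, hgN, α ⟨h, hhNS⟩, hαS _, hθh⟩
    refine ⟨hg, ?_⟩
    have hconj : ∀ y : Q, g * (y : Ω) * g⁻¹ ∈ Q := fun y =>
      (Subgroup.mem_normalizer_iff.mp hgN y).mp y.2
    -- c := α(h)⁻¹ χ(g) centralizes P₀
    have hc : (α ⟨h, hhNS⟩)⁻¹ * χ ⟨g, hg⟩ ∈ centralizerIn S P₀ := by
      rw [mem_centralizerIn]
      refine ⟨S.mul_mem (S.inv_mem (hαS _)) ((F.le_of_mem hχ).2 _), ?_⟩
      intro y hy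
      have hy' : y ∈ θ.range := by rw [hθr]; exact hy
      obtain ⟨x, rfl⟩ := hy'
      have h1 : χ ⟨g, hg⟩ * θ x * (χ ⟨g, hg⟩)⁻¹ = θ ⟨g * x * g⁻¹, hconj x⟩ := by
        rw [← hχθ x x.2 (hQe x.2), ← hχθ _ (hconj x) (hQe (hconj x)), ← map_inv, ← map_mul, ← map_mul]
        congr 1
      rw [hθh x (hconj x)] at h1
      -- χ(g) θx χ(g)⁻¹ = α(h) θx α(h)⁻¹
      have h2 : θ x * ((α ⟨h, hhNS⟩)⁻¹ * χ ⟨g, hg⟩) =
          (α ⟨h, hhNS⟩)⁻¹ * (α ⟨h, hhNS⟩ * θ x * (α ⟨h, hhNS⟩)⁻¹) * χ ⟨g, hg⟩ := by group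
      rw [h2, ← h1]
      group
    obtain ⟨k, hk⟩ := hCsurj _ hc
    refine ⟨⟨h, hhNS⟩ * ⟨k, hCN k.2⟩, ?_⟩
    rw [map_mul, hk]
    group
  have hext : extender S Q φ ≤ ((α.range).comap χ).map (extender S Q θ).subtype := by
    unfold extender
    rw [Subgroup.closure_le]
    intro g hg
    obtain ⟨hg', hχg⟩ := hgen g hg
    exact ⟨⟨g, hg'⟩, hχg, rfl⟩
  have hext' : extender S Q φ ≤ extender S Q θ := by
    intro g hg
    obtain ⟨y, -, rfl⟩ := hext hg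
    exact y.2
  have hval : ∀ g : ↥(extender S Q φ), (χ.comp (Subgroup.inclusion hext')) g ∈ α.range := by
    intro g
    obtain ⟨y, hy, hyg⟩ := hext g.2
    have : Subgroup.inclusion hext' g = y := Subtype.ext hyg.symm
    show χ (Subgroup.inclusion hext' g) ∈ α.range
    rw [this]
    exact hy
  have hχ₁ := restrict_mem F hχ hext'
  obtain ⟨αi, hαi, hαiα, -⟩ := exists_inv_hom F hα rfl
  refine ⟨αi.comp ((χ.comp (Subgroup.inclusion hext')).codRestrict α.range hval),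
    F.comp_mem hχ₁ hαi hval, ?_⟩
  intro x hxQ hxN
  show αi ⟨χ (Subgroup.inclusion hext' ⟨x, hxN⟩), _⟩ = φ ⟨x, hxQ⟩
  have h1 := hχθ x hxQ (hext' hxN)
  rw [hθval] at h1
  have h2 : αi ⟨α ⟨φ ⟨x, hxQ⟩, hφN _⟩, ⟨_, rfl⟩⟩ = φ ⟨x, hxQ⟩ := hαiα ⟨φ ⟨x, hxQ⟩, hφN _⟩ ⟨_, rfl⟩
  rw [← h2]
  congr 1
  exact Subtype.ext h1

end Cfsg.Agent.Lib.Helper9
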