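import Cfsg.Agent.Lib.Helper9.FusionAlpInd
import Cfsg.Agent.Lib.Helper9.FusionChain2
import Cfsg.Agent.Lib.Helper9.Frattini

set_option autoImplicit false

namespace Cfsg.Agent.Lib.Helper9

open Cfsg Cfsg.FusionSystem

variable {Ω : Type*} [Group Ω] {S : Subgroup Ω}

/-- Maps of `F` preserve a strongly closed subgroup. -/
theorem map_mem_of_stronglyClosed (F : FusionSystem S) {T P : Subgroup Ω} (hT : F.StronglyClosed T)
    {ψ : P →* Ω} (hψ : ψ ∈ F.Hom P) (x : P) (hx : (x : Ω) ∈ T) : ψ x ∈ T := by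
  have hle : P ⊓ T ≤ P := inf_le_left
  exact hT.2 (P ⊓ T) inf_le_right _ (restrict_mem F hψ hle) ⟨x, ⟨x.2, hx⟩⟩

theorem exists_preimage_of_stronglyClosed [Finite S] (F : FusionSystem S) {T P : Subgroup Ω}
    (hT : F.StronglyClosed T) (hTP : T ≤ P) {ψ : P →* Ω} (hψ : ψ ∈ F.Hom P) (t : Ω) (ht : t ∈ T) :
    ∃ x : P, (x : Ω) ∈ T ∧ ψ x = t := by
  have hfin : Finite T := finite_of_le' hT.1
  obtain ⟨f, hf⟩ : ∃ f : T → T, ∀ y : T, ((f y : T) : Ω) = ψ ⟨y, hTP y.2⟩ :=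
    ⟨fun y => ⟨ψ ⟨y, hTP y.2⟩, map_mem_of_stronglyClosed F hT hψ _ y.2⟩, fun y => rfl⟩
  have hinj : Function.Injective f := by
    intro a b hab
    have h1 : ψ ⟨a, hTP a.2⟩ = ψ ⟨b, hTP b.2⟩ := by rw [← hf, ← hf, hab]
    have h2 := F.injective_of_mem hψ h1
    exact Subtype.ext (congrArg (fun z : P => (z : Ω)) h2)
  obtain ⟨y, hy⟩ := Finite.surjective_of_injective hinj ⟨t, ht⟩
  refine ⟨⟨y, hTP y.2⟩, y.2, ?_⟩
  rw [← hf, hy]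

/-- `φ` has an extension to `P ⊔ T` up to elements of `T`. -/
def TExt (F : FusionSystem S) (T : Subgroup Ω) (P : Subgroup Ω) (φ : P →* Ω) : Prop :=
  ∃ ψ ∈ F.Hom (P ⊔ T), ∀ x : P, (φ x)⁻¹ * ψ (Subgroup.inclusion le_sup_left x) ∈ T

theorem text_map_le (F : FusionSystem S) {T : Subgroup Ω} (hT : F.StronglyClosed T)
    {P Q : Subgroup Ω} {φ : P →* Ω} (h : ∀ x : P, φ x ∈ Q) {ψ : ↥(P ⊔ T) →* Ω}
    (hψ : ψ ∈ F.Hom (P ⊔ T))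
    (hψx : ∀ x : P, (φ x)⁻¹ * ψ (Subgroup.inclusion le_sup_left x) ∈ T) :
    ∀ z : ↥(P ⊔ T), ψ z ∈ Q ⊔ T := by
  have hK : P ⊔ T ≤ ((Q ⊔ T).comap ψ).map (P ⊔ T).subtype := by
    apply sup_le
    · intro x hx
      refine ⟨Subgroup.inclusion le_sup_left ⟨x, hx⟩, ?_, rfl⟩
      show ψ (Subgroup.inclusion le_sup_left ⟨x, hx⟩) ∈ Q ⊔ T
      have h1 : ψ (Subgroup.inclusion le_sup_left ⟨x, hx⟩) =
          φ ⟨x, hx⟩ * ((φ ⟨x, hx⟩)⁻¹ * ψ (Subgroup.inclusion le_sup_left ⟨x, hx⟩)) := by group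
      rw [h1]
      exact Subgroup.mul_mem _ ((le_sup_left : Q ≤ Q ⊔ T) (h _))
        ((le_sup_right : T ≤ Q ⊔ T) (hψx _))
    · intro t ht
      refine ⟨Subgroup.inclusion le_sup_right ⟨t, ht⟩, ?_, rfl⟩
      show ψ (Subgroup.inclusion le_sup_right ⟨t, ht⟩) ∈ Q ⊔ T
      exact (le_sup_right : T ≤ Q ⊔ T) (map_mem_of_stronglyClosed F hT hψ _ ht)
  intro z
  obtain ⟨y, hy, hyz⟩ := hK z.2
  have : y = z := Subtype.ext hyz
  rw [← this]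
  exact hy

theorem text_conj (F : FusionSystem S) {T : Subgroup Ω} (hT : F.StronglyClosed T)
    (P : Subgroup Ω) (hP : P ≤ S) (g : Ω) (hg : g ∈ S) : TExt F T P (conjHom P g) := by
  refine ⟨conjHom (P ⊔ T) g, F.conj_mem (sup_le hP hT.1) hg, fun x => ?_⟩
  have : (conjHom P g x)⁻¹ * conjHom (P ⊔ T) g (Subgroup.inclusion le_sup_left x) = 1 := by
    simp only [conjHom, MonoidHom.coe_comp, MulEquiv.coe_toMonoidHom, Function.comp_apply,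
      Subgroup.coe_subtype, MulAut.conj_apply, Subgroup.coe_inclusion]
    group
  rw [this]
  exact T.one_mem

theorem text_comp (F : FusionSystem S) {T : Subgroup Ω} (hT : F.StronglyClosed T)
    (P Q : Subgroup Ω) (φ : P →* Ω) (φ' : Q →* Ω) (_hφ : φ ∈ F.Hom P) (_hφ' : φ' ∈ F.Hom Q)
    (h : ∀ x : P, φ x ∈ Q) (h1 : TExt F T P φ) (h2 : TExt F T Q φ') :
    TExt F T P (φ'.comp (φ.codRestrict Q h)) := by
  obtain ⟨ψ₁, hψ₁, hψ₁x⟩ := h1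
  obtain ⟨ψ₂, hψ₂, hψ₂x⟩ := h2
  have hmap := text_map_le F hT h hψ₁ hψ₁x
  refine ⟨ψ₂.comp (ψ₁.codRestrict (Q ⊔ T) hmap), F.comp_mem hψ₁ hψ₂ hmap, fun x => ?_⟩
  have ht := hψ₁x x
  have e : ψ₁.codRestrict (Q ⊔ T) hmap (Subgroup.inclusion le_sup_left x) =
      Subgroup.inclusion le_sup_left ⟨φ x, h x⟩ * Subgroup.inclusion le_sup_right ⟨_, ht⟩ := by
    apply Subtype.ext
    show ψ₁ (Subgroup.inclusion le_sup_left x) =
      φ x * ((φ x)⁻¹ * ψ₁ (Subgroup.inclusion le_sup_left x))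
    group
  show (φ' ⟨φ x, h x⟩)⁻¹ * ψ₂ (ψ₁.codRestrict (Q ⊔ T) hmap (Subgroup.inclusion le_sup_left x)) ∈ T
  rw [e, map_mul, ← mul_assoc]
  exact T.mul_mem (hψ₂x ⟨φ x, h x⟩) (map_mem_of_stronglyClosed F hT hψ₂ _ ht)

theorem text_inv [Finite S] (F : FusionSystem S) {T : Subgroup Ω} (hT : F.StronglyClosed T)
    (P : Subgroup Ω) (φ : P →* Ω) (_hφ : φ ∈ F.Hom P) (h1 : TExt F T P φ) (χ : φ.range →* Ω)
    (_hχ : χ ∈ F.Hom φ.range) (hχx : ∀ x : P, χ ⟨φ x, ⟨x, rfl⟩⟩ = (x : Ω)) :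
    TExt F T φ.range χ := by
  obtain ⟨ψ₁, hψ₁, hψ₁x⟩ := h1
  obtain ⟨ψ', hψ', hψ'x⟩ := F.inv_mem hψ₁
  have hpre : ∀ x : P, ∃ z : ↥(P ⊔ T), ψ₁ z = φ x ∧ (x : Ω)⁻¹ * (z : Ω) ∈ T := by
    intro x
    have ht := hψ₁x x
    obtain ⟨t', ht'T, ht'⟩ := exists_preimage_of_stronglyClosed F hT le_sup_right hψ₁ _ ht
    refine ⟨Subgroup.inclusion le_sup_left x * t'⁻¹, ?_, ?_⟩
    · rw [map_mul, map_inv, ht']; group
    · have : (x : Ω)⁻¹ * ((Subgroup.inclusion le_sup_left x * t'⁻¹ : ↥(P ⊔ T)) : Ω) = (t' : Ω)⁻¹ := by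
        push_cast
        simp
      rw [this]
      exact T.inv_mem ht'T
  have hle : φ.range ⊔ T ≤ ψ₁.range := by
    apply sup_le
    · rintro _ ⟨x, rfl⟩
      obtain ⟨z, hz, -⟩ := hpre x
      exact ⟨z, hz⟩
    · intro t ht
      obtain ⟨t', -, ht'⟩ := exists_preimage_of_stronglyClosed F hT le_sup_right hψ₁ _ ht
      exact ⟨t', ht'⟩
  refine ⟨ψ'.comp (Subgroup.inclusion hle), restrict_mem F hψ' hle, ?_⟩
  rintro ⟨_, ⟨x, rfl⟩⟩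
  obtain ⟨z, hz, hzT⟩ := hpre x
  have e1 : χ ⟨φ x, ⟨x, rfl⟩⟩ = x := hχx x
  have e2 : (ψ'.comp (Subgroup.inclusion hle))
      (Subgroup.inclusion le_sup_left ⟨φ x, ⟨x, rfl⟩⟩) = (z : Ω) := by
    have : (Subgroup.inclusion hle (Subgroup.inclusion le_sup_left ⟨φ x, ⟨x, rfl⟩⟩) : ψ₁.range) =
        ⟨ψ₁ z, ⟨z, rfl⟩⟩ := Subtype.ext hz.symm
    show ψ' (Subgroup.inclusion hle _) = _
    rw [this, hψ'x]
  rw [e1, e2]
  exact hzT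

end Cfsg.Agent.Lib.Helper9
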