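import Cfsg.Agent.Lib.Helper9.FusionMorph
import Cfsg.Agent.Lib.Helper9.FusionCalc
import Cfsg.Agent.Lib.Helper9.FusionTExt
import Cfsg.Agent.Lib.Helper9.FusionSat4

set_option autoImplicit false

namespace Cfsg.Agent.Lib.Helper9

open Cfsg Cfsg.FusionSystem

variable {Ω : Type*} [Group Ω] {S : Subgroup Ω} {Ω' : Type*} [Group Ω'] {S' : Subgroup Ω'}

/-- The range of a lift of an isomorphism onto `α(Q)` is `Q`, when `Q` contains the kernel. -/
theorem lift_range_eq [Finite S] (F : FusionSystem S) (F' : FusionSystem S') (α : S →* Ω')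
    (hrange : α.range = S')
    (hT : F.StronglyClosed ((α.ker).map S.subtype)) {Q : Subgroup Ω} (hQS : Q ≤ S)
    (hTQ : (α.ker).map S.subtype ≤ Q) {R' : Subgroup Ω'} (hR'S' : R' ≤ S') {φ' : R' →* Ω'}
    (hr' : φ'.range = imageAlong α Q)
    {φ : ↥(preimageAlong α R') →* Ω} (hφ : φ ∈ F.Hom (preimageAlong α R'))
    (hφS : ∀ x : ↥(preimageAlong α R'), φ x ∈ S)
    (hind : ∀ x : ↥(preimageAlong α R'),
      φ' ⟨α ⟨x, preimageAlong_le α R' x.2⟩, map_preimageAlong_mem x⟩ = α ⟨φ x, hφS x⟩) :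
    φ.range = Q := by
  have hTR : (α.ker).map S.subtype ≤ preimageAlong α R' := by
    rintro _ ⟨k, hk, rfl⟩
    show (k : Ω) ∈ preimageAlong α R'
    rw [mem_preimageAlong k.2]
    have : α ⟨(k : Ω), k.2⟩ = 1 := hk
    rw [this]; exact R'.one_mem
  apply le_antisymm
  · rintro _ ⟨x, rfl⟩
    apply mem_of_map_mem_imageAlong α hQS hTQ (hφS x)
    rw [← hind x, ← hr']
    exact ⟨_, rfl⟩
  · intro q hq
    have h1 : α ⟨q, hQS hq⟩ ∈ φ'.range := by rw [hr']; exact mem_imageAlong hQS ⟨q, hq⟩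
    obtain ⟨r', hr'q⟩ := h1
    obtain ⟨r, hr⟩ := exists_preimageAlong hrange hR'S' r'
    have h2 : α ⟨φ r, hφS r⟩ = α ⟨q, hQS hq⟩ := by
      rw [← hind r, ← hr'q]
      congr 1
      exact Subtype.ext hr
    have h3 : (⟨φ r, hφS r⟩ : S)⁻¹ * ⟨q, hQS hq⟩ ∈ α.ker := by
      rw [MonoidHom.mem_ker, map_mul, map_inv, h2, inv_mul_cancel]
    have h4 : (φ r)⁻¹ * q ∈ (α.ker).map S.subtype := ⟨_, h3, rfl⟩
    obtain ⟨x, -, hx⟩ := exists_preimage_of_stronglyClosed F hT hTR hφ _ h4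
    have : q = φ (r * x) := by rw [map_mul, hx]; group
    rw [this]
    exact ⟨_, rfl⟩

/-- The image of a fully automized receptive subgroup containing the kernel is receptive. -/
theorem receptive_image [Finite S] (p : ℕ) [Fact p.Prime] (hS : IsPGroup p S)
    (F : FusionSystem S) (F' : FusionSystem S') (α : S →* Ω')
    (hα : F.IsSurjectiveMorphism F' α)
    (hT : F.StronglyClosed ((α.ker).map S.subtype)) {Q : Subgroup Ω} (hQS : Q ≤ S)
    (hTQ : (α.ker).map S.subtype ≤ Q) (hfa : F.IsFullyAutomized p Q) (hrec : F.IsReceptive Q) :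
    F'.IsReceptive (imageAlong α Q) := by
  have hrange := hα.2.1
  haveI : Finite S' := finite_of_range_eq hrange
  haveI hfinQ : Finite Q := finite_of_le' hQS
  have hQ'S' := imageAlong_le_range α hrange Q
  refine ⟨hQ'S', ?_⟩
  intro R' φ' hφ' hr'
  have hR'S' : R' ≤ S' := (F'.le_of_mem hφ').1
  obtain ⟨φ, hφ, hRS, hφS, hRR', hind⟩ := hα.2.2 R' hR'S' φ' hφ'
  have hφr : φ.range = Q :=
    lift_range_eq F F' α hrange hT hQS hTQ hR'S' hr' hφ hφS (fun x => hind x)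
  obtain ⟨θ, θi, hθ, hθi, hθi', hθir⟩ := exists_iso_data F hφ hφr
  haveI hfinR : Finite ↥(preimageAlong α R') := finite_of_le' hRS
  -- the extender of φ' and its preimage
  have hN'S' : extender S' R' φ' ≤ S' := (extender_le S' R' φ').trans (normalizerIn_le_left S' R')
  have hNS : preimageAlong α (extender S' R' φ') ≤ S := preimageAlong_le α _
  have hN : ∀ g ∈ preimageAlong α (extender S' R' φ'),
      ∃ hgN : g ∈ Subgroup.normalizer ((preimageAlong α R' : Subgroup Ω) : Set Ω),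
        ∃ h' ∈ S', ∀ r : ↥(preimageAlong α R'),
          α ⟨φ (⟨g * (r : Ω) * g⁻¹, (Subgroup.mem_normalizer_iff.mp hgN r).mp r.2⟩ :
            ↥(preimageAlong α R')), hφS _⟩ = h' * α ⟨φ r, hφS r⟩ * h'⁻¹ := by
    intro g hg
    have hgS : g ∈ S := hNS hg
    have hg' := (mem_preimageAlong hgS).mp hg
    rw [mem_extender_iff] at hg'
    obtain ⟨-, hgN', h', hh', hgh'⟩ := hg'
    have hgN : g ∈ Subgroup.normalizer ((preimageAlong α R' : Subgroup Ω) : Set Ω) := by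
      apply mem_normalizer_of_conj_mem_of_finite
      intro x hx
      have hxS : x ∈ S := hRS hx
      have hmemS : g * x * g⁻¹ ∈ S := S.mul_mem (S.mul_mem hgS hxS) (S.inv_mem hgS)
      rw [mem_preimageAlong hmemS]
      have e : (⟨g * x * g⁻¹, hmemS⟩ : S) = ⟨g, hgS⟩ * ⟨x, hxS⟩ * ⟨g, hgS⟩⁻¹ := Subtype.ext rfl
      rw [e, map_mul, map_mul, map_inv]
      exact (Subgroup.mem_normalizer_iff.mp hgN' _).mp ((mem_preimageAlong hxS).mp hx)
    refine ⟨hgN, h', hh', fun r => ?_⟩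
    have hrS : (r : Ω) ∈ S := hRS r.2
    have hmemS : g * (r : Ω) * g⁻¹ ∈ S := S.mul_mem (S.mul_mem hgS hrS) (S.inv_mem hgS)
    have hconj : α ⟨g, hgS⟩ * ((⟨α ⟨r, hRS r.2⟩, hRR' r⟩ : R') : Ω') * (α ⟨g, hgS⟩)⁻¹ ∈ R' :=
      (Subgroup.mem_normalizer_iff.mp hgN' _).mp (hRR' r)
    have h1 := hgh' ⟨α ⟨r, hRS r.2⟩, hRR' r⟩ hconj
    rw [hind r] at h1
    rw [← h1, ← hind]
    congr 1
    apply Subtype.ext
    show α ⟨g * (r : Ω) * g⁻¹, _⟩ = α ⟨g, hgS⟩ * α ⟨r, hRS r.2⟩ * (α ⟨g, hgS⟩)⁻¹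
    rw [← map_inv, ← map_mul, ← map_mul]
    rfl
  -- the Sylow subgroup and the induced homomorphism
  obtain ⟨Rs, hRs⟩ := hfa.2
  obtain ⟨π, hπ⟩ := exists_ind_hom F F' α hα hQS
  have hmap := ind_hom_map_autS F F' α hα hQS hTQ π hπ
  have hξA : ∀ n : ↥(Subgroup.normalizer ((preimageAlong α R' : Subgroup Ω) : Set Ω)),
      (n : Ω) ∈ S → (MulAut.congr θ) (normConj (preimageAlong α R') n) ∈ F.autGroup Q := by
    intro n hn
    apply map_congr_autGroup_le F hφ θ θi hθ hθi hθi'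
    refine ⟨_, autInducedBy_le_autGroup F hRS ?_, rfl⟩
    rw [autInducedBy_eq_map]
    exact ⟨n, Subgroup.mem_subgroupOf.mpr hn, rfl⟩
  have hξval : ∀ (n : ↥(Subgroup.normalizer ((preimageAlong α R' : Subgroup Ω) : Set Ω)))
      (r : ↥(preimageAlong α R')),
      ((((MulAut.congr θ) (normConj (preimageAlong α R') n)) (θ r) : Q) : Ω) =
        φ ⟨(n : Ω) * (r : Ω) * (n : Ω)⁻¹, (Subgroup.mem_normalizer_iff.mp n.2 r).mp r.2⟩ := by
    intro n r
    show ((θ (normConj (preimageAlong α R') n (θ.symm (θ r))) : Q) : Ω) = _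
    rw [MulEquiv.symm_apply_apply, hθ]
    congr 1
  -- the p-group X of transported conjugations
  have hXp : IsPGroup p (((((preimageAlong α (extender S' R' φ')).subgroupOf
      (Subgroup.normalizer ((preimageAlong α R' : Subgroup Ω) : Set Ω))).map
      (normConj (preimageAlong α R'))).map (MulAut.congr θ).toMonoidHom).subgroupOf
      (F.autGroup Q)) :=
    ((((hS.to_le hNS).comap_subtype).map _).map _).comap_subtype
  have hXle : (((((preimageAlong α (extender S' R' φ')).subgroupOf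
      (Subgroup.normalizer ((preimageAlong α R' : Subgroup Ω) : Set Ω))).map
      (normConj (preimageAlong α R'))).map (MulAut.congr θ).toMonoidHom).subgroupOf
      (F.autGroup Q)) ≤ (Rs : Subgroup ↥(F.autGroup Q)) ⊔ π.ker := by
    intro ξ hξ
    obtain ⟨_, ⟨n, hn, rfl⟩, hnξ⟩ := Subgroup.mem_subgroupOf.mp hξ
    have hnN : (n : Ω) ∈ preimageAlong α (extender S' R' φ') := Subgroup.mem_subgroupOf.mp hn
    obtain ⟨hgN, h', hh', hgh'⟩ := hN (n : Ω) hnN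
    have hπξ : π ξ ∈ (autInducedBy S' (imageAlong α Q)).subgroupOf
        (F'.autGroup (imageAlong α Q)) := by
      rw [Subgroup.mem_subgroupOf]
      apply Subgroup.subset_closure
      refine ⟨h', hh', ?_⟩
      rintro ⟨_, s, hs, rfl⟩
      have hsQ : (s : Ω) ∈ Q := Subgroup.mem_subgroupOf.mp hs
      have hθr : θ (θ.symm ⟨s, hsQ⟩) = ⟨s, hsQ⟩ := θ.apply_symm_apply _
      have h1 := hπ ξ ⟨s, hsQ⟩
      have e : (⟨α s, ⟨s, hs, rfl⟩⟩ : ↥(imageAlong α Q)) =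
          ⟨α ⟨((⟨s, hsQ⟩ : Q) : Ω), hQS hsQ⟩, mem_imageAlong hQS ⟨s, hsQ⟩⟩ := rfl
      rw [e, h1]
      have h2 := hξval n (θ.symm ⟨s, hsQ⟩)
      rw [hθr] at h2
      have h3 := hgh' (θ.symm ⟨s, hsQ⟩)
      have h4 : φ (θ.symm ⟨s, hsQ⟩) = (s : Ω) := by
        rw [← hθ, hθr]
      have e2 : (⟨((((ξ : ↥(F.autGroup Q)) : MulAut Q) ⟨s, hsQ⟩ : Q) : Ω),
          hQS (((ξ : ↥(F.autGroup Q)) : MulAut Q) ⟨s, hsQ⟩).2⟩ : S) =
          ⟨φ ⟨(n : Ω) * ((θ.symm ⟨s, hsQ⟩ : ↥(preimageAlong α R')) : Ω) * (n : Ω)⁻¹,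
            (Subgroup.mem_normalizer_iff.mp hgN (θ.symm ⟨s, hsQ⟩)).mp (θ.symm ⟨s, hsQ⟩).2⟩,
            hφS _⟩ := by
        apply Subtype.ext
        show ((((ξ : ↥(F.autGroup Q)) : MulAut Q) ⟨s, hsQ⟩ : Q) : Ω) = _
        rw [← hnξ]
        exact h2
      rw [e2, h3]
      have e3 : (⟨φ (θ.symm ⟨s, hsQ⟩), hφS _⟩ : S) = s := Subtype.ext h4
      rw [e3]
    rw [← hmap] at hπξ
    obtain ⟨s, hs, hsξ⟩ := hπξ
    have e : ξ = s * (s⁻¹ * ξ) := by group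
    rw [e]
    apply Subgroup.mul_mem_sup
    · rw [hRs]; exact hs
    · rw [MonoidHom.mem_ker, map_mul, map_inv, hsξ, inv_mul_cancel]
  obtain ⟨k, hk, hkX⟩ := exists_conj_mod_normal' p Rs π.ker _ hXp hXle
  -- k acts trivially modulo the kernel
  have hkα : ∀ y : Q, α ⟨(((k : MulAut Q) y : Q) : Ω), hQS ((k : MulAut Q) y).2⟩ =
      α ⟨y, hQS y.2⟩ := by
    intro y
    rw [← hπ k y, MonoidHom.mem_ker.mp hk]
    rfl
  -- the corrected lift
  obtain ⟨φ₂, hφ₂, hφ₂def⟩ := comp_spec F hφ ((mem_autGroup_iff F hQS (k : MulAut Q)).mp k.2)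
    (fun x => by rw [← hφr]; exact ⟨x, rfl⟩)
  have hφ₂θ : ∀ r : ↥(preimageAlong α R'), φ₂ r = (((k : MulAut Q) (θ r) : Q) : Ω) := by
    intro r
    rw [hφ₂def]
    show (((k : MulAut Q) _ : Q) : Ω) = _
    congr 2
    exact Subtype.ext (hθ r).symm
  have hφ₂r : φ₂.range = Q := by
    apply le_antisymm
    · rintro _ ⟨r, rfl⟩
      rw [hφ₂θ]
      exact ((k : MulAut Q) (θ r)).2
    · intro q hq
      refine ⟨θ.symm ((k : MulAut Q)⁻¹ ⟨q, hq⟩), ?_⟩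
      rw [hφ₂θ, MulEquiv.apply_symm_apply]
      have e0 : (k : MulAut Q) ((k : MulAut Q)⁻¹ ⟨q, hq⟩) = ⟨q, hq⟩ :=
        MulEquiv.apply_symm_apply _ _
      rw [e0]
  -- N lies in the extender of φ₂
  have hNext : preimageAlong α (extender S' R' φ') ≤ extender S (preimageAlong α R') φ₂ := by
    intro g hg
    obtain ⟨hgN, -, -, -⟩ := hN g hg
    rw [mem_extender_iff]
    refine ⟨hNS hg, hgN, ?_⟩
    have hξX : (⟨(MulAut.congr θ) (normConj (preimageAlong α R') ⟨g, hgN⟩), hξA ⟨g, hgN⟩ (hNS hg)⟩ :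
        ↥(F.autGroup Q)) ∈ ((((preimageAlong α (extender S' R' φ')).subgroupOf
      (Subgroup.normalizer ((preimageAlong α R' : Subgroup Ω) : Set Ω))).map
      (normConj (preimageAlong α R'))).map (MulAut.congr θ).toMonoidHom).subgroupOf
      (F.autGroup Q) := by
      rw [Subgroup.mem_subgroupOf]
      exact ⟨_, ⟨⟨g, hgN⟩, Subgroup.mem_subgroupOf.mpr hg, rfl⟩, rfl⟩
    have h1 := hkX _ hξX
    have h2 : (k * ⟨(MulAut.congr θ) (normConj (preimageAlong α R') ⟨g, hgN⟩),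
        hξA ⟨g, hgN⟩ (hNS hg)⟩ * k⁻¹ : ↥(F.autGroup Q)) ∈ (Rs : Subgroup ↥(F.autGroup Q)) := h1
    rw [hRs, Subgroup.mem_subgroupOf, autInducedBy_eq_map] at h2
    obtain ⟨m, hm, hmk⟩ := h2
    refine ⟨(m : Ω), Subgroup.mem_subgroupOf.mp hm, fun x hx => ?_⟩
    rw [hφ₂θ, hφ₂θ]
    have h3 := hξval ⟨g, hgN⟩ x
    have h4 : θ ⟨g * (x : Ω) * g⁻¹, hx⟩ =
        ((MulAut.congr θ) (normConj (preimageAlong α R') ⟨g, hgN⟩)) (θ x) := by
      apply Subtype.ext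
      rw [h3, hθ]
    rw [h4]
    have h5 : (k : MulAut Q) (((MulAut.congr θ) (normConj (preimageAlong α R') ⟨g, hgN⟩)) (θ x)) =
        (normConj Q m) ((k : MulAut Q) (θ x)) := by
      rw [hmk]
      show _ = (k : MulAut Q) (((MulAut.congr θ) (normConj (preimageAlong α R') ⟨g, hgN⟩))
        ((k : MulAut Q)⁻¹ ((k : MulAut Q) (θ x))))
      have e0 : (k : MulAut Q)⁻¹ ((k : MulAut Q) (θ x)) = θ x := MulEquiv.symm_apply_apply _ _
      rw [e0]
    rw [h5, normConj_apply]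
  -- extend and push forward
  obtain ⟨ψ, hψ, hψext⟩ := hrec.2 _ φ₂ hφ₂ hφ₂r
  obtain ⟨ψN, hψN, hψNdef⟩ := restrict_spec F hψ hNext
  obtain ⟨ψ', hψ', hψ'ind⟩ := morph_push_preimage F F' α hα.1 hrange hN'S' hψN
  refine ⟨ψ', hψ', ?_⟩
  intro x' hx'R' hx'N'
  obtain ⟨x, hx⟩ := exists_preimageAlong hrange hR'S' ⟨x', hx'R'⟩
  have hxS : (x : Ω) ∈ S := hRS x.2
  have hxN : (x : Ω) ∈ preimageAlong α (extender S' R' φ') := by
    rw [mem_preimageAlong hxS]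
    have : α ⟨x, hxS⟩ = x' := hx
    rw [this]
    exact hx'N'
  have h1 := hψ'ind ⟨x, hxN⟩
  have e1 : (⟨x', hx'N'⟩ : ↥(extender S' R' φ')) =
      ⟨α ⟨((⟨(x : Ω), hxN⟩ : ↥(preimageAlong α (extender S' R' φ'))) : Ω),
        preimageAlong_le α _ hxN⟩, map_preimageAlong_mem ⟨(x : Ω), hxN⟩⟩ :=
    Subtype.ext hx.symm
  rw [e1, h1]
  have h2 : ψN ⟨(x : Ω), hxN⟩ = φ₂ x := by
    rw [hψNdef]
    exact hψext (x : Ω) x.2 _
  have e2 : (⟨ψN ⟨(x : Ω), hxN⟩, (F.le_of_mem hψN).2 _⟩ : S) =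
      ⟨(((k : MulAut Q) (θ x) : Q) : Ω), hQS ((k : MulAut Q) (θ x)).2⟩ := by
    apply Subtype.ext
    show ψN ⟨(x : Ω), hxN⟩ = _
    rw [h2, hφ₂θ]
  rw [e2, hkα (θ x)]
  have e3 : (⟨((θ x : Q) : Ω), hQS (θ x).2⟩ : S) = ⟨φ x, hφS x⟩ := Subtype.ext (hθ x)
  rw [e3, ← hind x]
  congr 1
  exact Subtype.ext hx

end Cfsg.Agent.Lib.Helper9
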