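import Cfsg.Agent.Lib.Helper9.FusionMorph

set_option autoImplicit false

namespace Cfsg.Agent.Lib.Helper9

open Cfsg Cfsg.FusionSystem

variable {Ω : Type*} [Group Ω] {S : Subgroup Ω}
variable {Ω' : Type*} [Group Ω'] {S' : Subgroup Ω'}

theorem imageAlong_mono (θ : S →* Ω') {P Q : Subgroup Ω} (h : P ≤ Q) :
    imageAlong θ P ≤ imageAlong θ Q := by
  rintro _ ⟨s, hs, rfl⟩
  exact ⟨s, Subgroup.mem_subgroupOf.mpr (h (Subgroup.mem_subgroupOf.mp hs)), rfl⟩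

/-- The image of a subgroup normal in the system under a surjective morphism is normal in the
target system. -/
theorem isNormal_imageAlong (F : FusionSystem S) (F' : FusionSystem S') (θ : S →* Ω')
    (hθ : F.IsSurjectiveMorphism F' θ) {Q : Subgroup Ω} (hQ : F.IsNormal Q) :
    F'.IsNormal (imageAlong θ Q) := by
  refine ⟨imageAlong_le_range θ hθ.2.1 Q, ?_⟩
  intro P' φ' hφ'
  have hP'S' : P' ≤ S' := (F'.le_of_mem hφ').1
  obtain ⟨φ, hφ, hP, hφS, hPP', hind⟩ := hθ.2.2 P' hP'S' φ' hφ'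
  obtain ⟨ψ, hψ, hext, hmap⟩ := hQ.2 _ φ hφ
  obtain ⟨ψ', hψ', hind'⟩ := morph_push F F' θ hθ.1 hψ
  have hsupS : preimageAlong θ P' ⊔ Q ≤ S := (F.le_of_mem hψ).1
  have hle : P' ⊔ imageAlong θ Q ≤ imageAlong θ (preimageAlong θ P' ⊔ Q) := by
    apply sup_le
    · intro y hy
      obtain ⟨x, hx⟩ := exists_preimageAlong hθ.2.1 hP'S' ⟨y, hy⟩
      exact ⟨⟨x, hP x.2⟩, Subgroup.mem_subgroupOf.mpr ((le_sup_left : preimageAlong θ P' ≤
        preimageAlong θ P' ⊔ Q) x.2), hx⟩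
    · exact imageAlong_mono θ le_sup_right
  refine ⟨ψ'.comp (Subgroup.inclusion hle), restrict_mem F' hψ' hle, ?_, ?_⟩
  · intro x'
    obtain ⟨x, hx⟩ := exists_preimageAlong hθ.2.1 hP'S' x'
    have e1 : Subgroup.inclusion hle (Subgroup.inclusion le_sup_left x') =
        ⟨θ ⟨((Subgroup.inclusion (le_sup_left : preimageAlong θ P' ≤ preimageAlong θ P' ⊔ Q) x :
          ↥(preimageAlong θ P' ⊔ Q)) : Ω), hsupS (Subgroup.inclusion le_sup_left x).2⟩,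
          mem_imageAlong hsupS (Subgroup.inclusion le_sup_left x)⟩ := Subtype.ext hx.symm
    have e2 : x' = ⟨θ ⟨x, hP x.2⟩, hPP' x⟩ := Subtype.ext hx.symm
    show ψ' (Subgroup.inclusion hle (Subgroup.inclusion le_sup_left x')) = φ' x'
    rw [e1, hind', e2, hind x]
    congr 2
    exact hext x
  · apply le_antisymm
    · rintro _ ⟨y', hy', rfl⟩
      obtain ⟨q, hq, hqy⟩ : (y' : Ω') ∈ imageAlong θ Q := Subgroup.mem_subgroupOf.mp hy'
      have hqQ : (q : Ω) ∈ Q := Subgroup.mem_subgroupOf.mp hq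
      have hqm : (q : Ω) ∈ preimageAlong θ P' ⊔ Q := (le_sup_right : Q ≤ _) hqQ
      have e1 : Subgroup.inclusion hle y' =
          ⟨θ ⟨((⟨q, hqm⟩ : ↥(preimageAlong θ P' ⊔ Q)) : Ω), hsupS hqm⟩,
            mem_imageAlong hsupS ⟨q, hqm⟩⟩ := Subtype.ext hqy.symm
      show ψ' (Subgroup.inclusion hle y') ∈ imageAlong θ Q
      rw [e1, hind']
      have h1 : ψ ⟨q, hqm⟩ ∈ Q :=
        hmap.le ⟨⟨q, hqm⟩, Subgroup.mem_subgroupOf.mpr hqQ, rfl⟩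
      exact ⟨⟨ψ ⟨q, hqm⟩, (F.le_of_mem hψ).2 _⟩, Subgroup.mem_subgroupOf.mpr h1, rfl⟩
    · rintro _ ⟨z, hz, rfl⟩
      have hzQ : (z : Ω) ∈ Q := Subgroup.mem_subgroupOf.mp hz
      obtain ⟨q', hq', hq'z⟩ := hmap.ge hzQ
      have hq'Q : (q' : Ω) ∈ Q := Subgroup.mem_subgroupOf.mp hq'
      have hmem : θ ⟨q', hsupS q'.2⟩ ∈ P' ⊔ imageAlong θ Q :=
        (le_sup_right : imageAlong θ Q ≤ _) ⟨⟨q', hsupS q'.2⟩, Subgroup.mem_subgroupOf.mpr hq'Q, rfl⟩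
      refine ⟨⟨θ ⟨q', hsupS q'.2⟩, hmem⟩, Subgroup.mem_subgroupOf.mpr
        ⟨⟨q', hsupS q'.2⟩, Subgroup.mem_subgroupOf.mpr hq'Q, rfl⟩, ?_⟩
      have e1 : Subgroup.inclusion hle ⟨θ ⟨q', hsupS q'.2⟩, hmem⟩ =
          ⟨θ ⟨q', hsupS q'.2⟩, mem_imageAlong hsupS q'⟩ := rfl
      show ψ' (Subgroup.inclusion hle ⟨θ ⟨q', hsupS q'.2⟩, hmem⟩) = θ z
      rw [e1, hind']
      congr 1
      exact Subtype.ext hq'z

end Cfsg.Agent.Lib.Helper9
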