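import Cfsg.Agent.Lib.Helper9.FusionMorph3

set_option autoImplicit false

namespace Cfsg.Agent.Lib.Helper9

open Cfsg Cfsg.FusionSystem

variable {Ω : Type*} [Group Ω] {S : Subgroup Ω}
variable {Ω' : Type*} [Group Ω'] {S' : Subgroup Ω'}
variable {Ω'' : Type*} [Group Ω''] {S'' : Subgroup Ω''}

/-- Lifting a map along a surjective morphism, in spec form. -/
theorem morph_lift_preimage (F : FusionSystem S) (F' : FusionSystem S') (θ : S →* Ω')
    (hθ : F.IsSurjectiveMorphism F' θ) {P' : Subgroup Ω'} {φ' : P' →* Ω'} (hφ' : φ' ∈ F'.Hom P') :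
    ∃ (φ : ↥(preimageAlong θ P') →* Ω) (hφ : φ ∈ F.Hom (preimageAlong θ P')),
      ∀ x : ↥(preimageAlong θ P'),
      φ' ⟨θ ⟨x, preimageAlong_le θ P' x.2⟩, map_preimageAlong_mem x⟩ =
        θ ⟨φ x, (F.le_of_mem hφ).2 x⟩ := by
  obtain ⟨φ, hφ, hP, hφS, hPP', hind⟩ := hθ.2.2 P' (F'.le_of_mem hφ').1 φ' hφ'
  exact ⟨φ, hφ, fun x => hind x⟩

/-- If a surjective morphism `ρ` factors as `σ ∘ π` through a surjective morphism `π`, then `σ` is
a surjective morphism. -/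
theorem isSurjectiveMorphism_of_factor (F : FusionSystem S) (F' : FusionSystem S')
    (F'' : FusionSystem S'') (π : S →* Ω') (ρ : S →* Ω'') (σ : S' →* Ω'')
    (hπ : F.IsSurjectiveMorphism F' π) (hρ : F.IsSurjectiveMorphism F'' ρ)
    (hσ : ∀ s : S, σ ⟨π s, hπ.1.1 s⟩ = ρ s) : F'.IsSurjectiveMorphism F'' σ := by
  have hsurj : ∀ s' : S', ∃ s : S, π s = s' := by
    intro s'
    have : (s' : Ω') ∈ π.range := by rw [hπ.2.1]; exact s'.2
    exact this
  have hσ' : ∀ (s : S) (h : π s ∈ S'), σ ⟨π s, h⟩ = ρ s := fun s h => hσ s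
  have hσS : ∀ s' : S', σ s' ∈ S'' := by
    intro s'
    obtain ⟨s, hs⟩ := hsurj s'
    have : s' = ⟨π s, hπ.1.1 s⟩ := Subtype.ext hs.symm
    rw [this, hσ]
    exact hρ.1.1 s
  refine ⟨⟨hσS, ?_⟩, ?_, ?_⟩
  · intro P' φ' hφ'
    have hP'S' : P' ≤ S' := (F'.le_of_mem hφ').1
    obtain ⟨φ, hφ, hind⟩ := morph_lift_preimage F F' π hπ hφ'
    obtain ⟨φ'', hφ'', hind''⟩ := morph_push F F'' ρ hρ.1 hφ
    have hpre : preimageAlong π P' ≤ S := preimageAlong_le π P'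
    have hle : imageAlong σ P' ≤ imageAlong ρ (preimageAlong π P') := by
      rintro _ ⟨x', hx', rfl⟩
      obtain ⟨x, hx⟩ := exists_preimageAlong hπ.2.1 hP'S' ⟨x', Subgroup.mem_subgroupOf.mp hx'⟩
      refine ⟨⟨x, hpre x.2⟩, Subgroup.mem_subgroupOf.mpr x.2, ?_⟩
      have : x' = ⟨π ⟨x, hpre x.2⟩, hπ.1.1 _⟩ := Subtype.ext hx.symm
      rw [this, hσ]
    refine ⟨φ''.comp (Subgroup.inclusion hle), restrict_mem F'' hφ'' hle, hP'S',
      (F'.le_of_mem hφ').2, fun x' => mem_imageAlong hP'S' x', ?_⟩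
    intro x'
    obtain ⟨x, hx⟩ := exists_preimageAlong hπ.2.1 hP'S' x'
    have e1 : Subgroup.inclusion hle ⟨σ ⟨x', hP'S' x'.2⟩, mem_imageAlong hP'S' x'⟩ =
        ⟨ρ ⟨x, hpre x.2⟩, mem_imageAlong hpre x⟩ := by
      apply Subtype.ext
      show σ ⟨x', hP'S' x'.2⟩ = ρ ⟨x, hpre x.2⟩
      have : (⟨x', hP'S' x'.2⟩ : S') = ⟨π ⟨x, hpre x.2⟩, hπ.1.1 _⟩ := Subtype.ext hx.symm
      rw [this, hσ]
    show φ'' (Subgroup.inclusion hle ⟨σ ⟨x', hP'S' x'.2⟩, mem_imageAlong hP'S' x'⟩) = _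
    rw [e1, hind'' x, ← hσ]
    congr 1
    apply Subtype.ext
    show π ⟨φ x, _⟩ = φ' x'
    rw [← hind x]
    congr 1
    exact Subtype.ext hx
  · ext y
    constructor
    · rintro ⟨s', rfl⟩
      exact hσS s'
    · intro hy
      have : y ∈ ρ.range := by rw [hρ.2.1]; exact hy
      obtain ⟨s, rfl⟩ := this
      exact ⟨⟨π s, hπ.1.1 s⟩, hσ s⟩
  · intro P'' hP'' φ'' hφ''
    obtain ⟨φ, hφ, hind⟩ := morph_lift_preimage F F'' ρ hρ hφ''
    have heq : preimageAlong π (preimageAlong σ P'') = preimageAlong ρ P'' := by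
      ext x
      constructor
      · intro hx
        have hxS : x ∈ S := preimageAlong_le π _ hx
        have h1 := (mem_preimageAlong hxS).mp hx
        have h2 := (mem_preimageAlong (hπ.1.1 ⟨x, hxS⟩)).mp h1
        rw [hσ] at h2
        exact (mem_preimageAlong hxS).mpr h2
      · intro hx
        have hxS : x ∈ S := preimageAlong_le ρ _ hx
        have h1 := (mem_preimageAlong hxS).mp hx
        rw [mem_preimageAlong hxS, mem_preimageAlong (hπ.1.1 ⟨x, hxS⟩), hσ]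
        exact h1
    have hle : preimageAlong π (preimageAlong σ P'') ≤ preimageAlong ρ P'' := heq.le
    have hφ₁ : φ.comp (Subgroup.inclusion hle) ∈ F.Hom (preimageAlong π (preimageAlong σ P'')) :=
      restrict_mem F hφ hle
    have hσP : preimageAlong σ P'' ≤ S' := preimageAlong_le σ P''
    obtain ⟨φ', hφ', hind'⟩ := morph_push_preimage F F' π hπ.1 hπ.2.1 hσP hφ₁
    refine ⟨φ', hφ', hσP, (F'.le_of_mem hφ').2,
      fun x' => (mem_preimageAlong (hσP x'.2)).mp x'.2, ?_⟩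
    intro x'
    obtain ⟨x, hx⟩ := exists_preimageAlong hπ.2.1 hσP x'
    have hxS : (x : Ω) ∈ S := preimageAlong_le π _ x.2
    have e1 : x' = ⟨π ⟨x, hxS⟩, map_preimageAlong_mem x⟩ := Subtype.ext hx.symm
    have h1 := hind' x
    have h2 := hind (Subgroup.inclusion hle x)
    have e2 : (⟨σ ⟨x', hσP x'.2⟩, (mem_preimageAlong (hσP x'.2)).mp x'.2⟩ : P'') =
        ⟨ρ ⟨(Subgroup.inclusion hle x : ↥(preimageAlong ρ P'')), preimageAlong_le ρ P''
          (Subgroup.inclusion hle x).2⟩, map_preimageAlong_mem (Subgroup.inclusion hle x)⟩ := by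
      apply Subtype.ext
      show σ ⟨x', hσP x'.2⟩ = ρ ⟨x, hxS⟩
      have : (⟨x', hσP x'.2⟩ : S') = ⟨π ⟨x, hxS⟩, hπ.1.1 _⟩ := Subtype.ext hx.symm
      rw [this, hσ]
    rw [e2, h2, ← hσ]
    congr 1
    apply Subtype.ext
    show π ⟨φ (Subgroup.inclusion hle x), _⟩ = φ' x'
    rw [e1, h1]
    rfl

/-- The composite of two surjective morphisms is a surjective morphism. -/
theorem isSurjectiveMorphism_comp (F : FusionSystem S) (F' : FusionSystem S')
    (F'' : FusionSystem S'') (θ : S →* Ω') (θ' : S' →* Ω'')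
    (hθ : F.IsSurjectiveMorphism F' θ) (hθ' : F'.IsSurjectiveMorphism F'' θ') :
    F.IsSurjectiveMorphism F'' (θ'.comp (θ.codRestrict S' hθ.1.1)) := by
  have hρ : ∀ s : S, (θ'.comp (θ.codRestrict S' hθ.1.1)) s = θ' ⟨θ s, hθ.1.1 s⟩ := fun s => rfl
  refine ⟨⟨fun s => hθ'.1.1 _, ?_⟩, ?_, ?_⟩
  · intro P φ hφ
    have hPS : P ≤ S := (F.le_of_mem hφ).1
    obtain ⟨φ', hφ', hind'⟩ := morph_push F F' θ hθ.1 hφ
    obtain ⟨φ'', hφ'', hind''⟩ := morph_push F' F'' θ' hθ'.1 hφ'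
    have hP'S' : imageAlong θ P ≤ S' := (F'.le_of_mem hφ').1
    have hle : imageAlong (θ'.comp (θ.codRestrict S' hθ.1.1)) P ≤
        imageAlong θ' (imageAlong θ P) := by
      rintro _ ⟨x, hx, rfl⟩
      refine ⟨⟨θ x, hθ.1.1 x⟩, Subgroup.mem_subgroupOf.mpr ⟨x, hx, rfl⟩, rfl⟩
    refine ⟨φ''.comp (Subgroup.inclusion hle), restrict_mem F'' hφ'' hle, hPS,
      (F.le_of_mem hφ).2, fun x => mem_imageAlong hPS x, ?_⟩
    intro x
    have e1 : Subgroup.inclusion hle ⟨(θ'.comp (θ.codRestrict S' hθ.1.1)) ⟨x, hPS x.2⟩,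
        mem_imageAlong hPS x⟩ =
        ⟨θ' ⟨((⟨θ ⟨x, hPS x.2⟩, mem_imageAlong hPS x⟩ : ↥(imageAlong θ P)) : Ω'),
          hP'S' (mem_imageAlong hPS x)⟩,
          mem_imageAlong hP'S' ⟨θ ⟨x, hPS x.2⟩, mem_imageAlong hPS x⟩⟩ := rfl
    show φ'' (Subgroup.inclusion hle ⟨(θ'.comp (θ.codRestrict S' hθ.1.1)) ⟨x, hPS x.2⟩,
        mem_imageAlong hPS x⟩) = _
    rw [e1, hind'', hρ]
    congr 1
    apply Subtype.ext
    exact hind' x
  · ext y
    constructor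
    · rintro ⟨s, rfl⟩
      exact hθ'.1.1 _
    · intro hy
      have h1 : y ∈ θ'.range := by rw [hθ'.2.1]; exact hy
      obtain ⟨s', rfl⟩ := h1
      have h2 : (s' : Ω') ∈ θ.range := by rw [hθ.2.1]; exact s'.2
      obtain ⟨s, hs⟩ := h2
      refine ⟨s, ?_⟩
      rw [hρ]
      congr 1
      exact Subtype.ext hs
  · intro P'' hP'' φ'' hφ''
    obtain ⟨φ', hφ', hind'⟩ := morph_lift_preimage F' F'' θ' hθ' hφ''
    obtain ⟨φ, hφ, hind⟩ := morph_lift_preimage F F' θ hθ hφ'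
    have hle : preimageAlong (θ'.comp (θ.codRestrict S' hθ.1.1)) P'' ≤
        preimageAlong θ (preimageAlong θ' P'') := by
      intro x hx
      have hxS : x ∈ S := preimageAlong_le _ _ hx
      have h1 := (mem_preimageAlong hxS).mp hx
      rw [mem_preimageAlong hxS, mem_preimageAlong (hθ.1.1 ⟨x, hxS⟩)]
      exact h1
    have hpre : preimageAlong (θ'.comp (θ.codRestrict S' hθ.1.1)) P'' ≤ S :=
      preimageAlong_le _ _
    refine ⟨φ.comp (Subgroup.inclusion hle), restrict_mem F hφ hle, hpre,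
      fun x => (F.le_of_mem hφ).2 _, fun x => (mem_preimageAlong (hpre x.2)).mp x.2, ?_⟩
    intro x
    have h1 := hind (Subgroup.inclusion hle x)
    have h2 := hind' ⟨θ ⟨(Subgroup.inclusion hle x : ↥(preimageAlong θ (preimageAlong θ' P''))),
      preimageAlong_le θ _ (Subgroup.inclusion hle x).2⟩,
      map_preimageAlong_mem (Subgroup.inclusion hle x)⟩
    show φ'' ⟨θ' ⟨θ ⟨x, hpre x.2⟩, hθ.1.1 _⟩, _⟩ =
      θ' ⟨θ ⟨φ (Subgroup.inclusion hle x), _⟩, hθ.1.1 _⟩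
    refine h2.trans ?_
    congr 1
    exact Subtype.ext h1

end Cfsg.Agent.Lib.Helper9
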