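import Cfsg.Agent.Lib.Helper9.FusionRealized
import Cfsg.Agent.Lib.Helper9.SylowConj2
import Cfsg.Agent.Lib.Helper9.Frattini
import Cfsg.Agent.Lib.Helper9.FusionGroup2
import Cfsg.Agent.Lib.Helper9.FusionAut

set_option autoImplicit false

namespace Cfsg.Agent.Lib.Helper9

open Cfsg Cfsg.FusionSystem

variable {G : Type*} [Group G]

/-- The fusion system of a finite subgroup `H` on a subgroup `T ≤ H` of Sylow order is saturated. -/
theorem fusionSystemOfSubgroup_saturated [Finite G] (p : ℕ) [Fact p.Prime] (H T : Subgroup G)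
    (hTH : T ≤ H) (hT : Nat.card T = p ^ (Nat.card H).factorization p) :
    (fusionSystemOfSubgroup H T hTH).IsSaturated p := by
  have hfinT : Finite T := inferInstance
  obtain ⟨T', hT'⟩ := (exists_sylow_eq_subgroupOf_iff p hTH).mpr hT
  have hTp : IsPGroup p T := by
    have h1 : IsPGroup p (T.subgroupOf H) := hT' ▸ T'.isPGroup'
    exact h1.of_equiv (Subgroup.subgroupOfEquivOfLe hTH)
  refine saturated_of_isRealizedBy p hTp _ (Subgroup.inclusion hTH) ⟨?_, ?_⟩ T' ?_
  · exact Subgroup.inclusion_injective hTH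
  · intro P hP φ hφ
    constructor
    · rintro ⟨-, -, g, hgH, hg⟩
      exact ⟨⟨g, hgH⟩, fun x => Subtype.ext (hg x)⟩
    · rintro ⟨g, hg⟩
      exact ⟨hP, hφ, g, g.2, fun x => congrArg Subtype.val (hg x)⟩
  · rw [hT']
    ext x
    rw [Subgroup.mem_subgroupOf]
    constructor
    · intro hx
      exact ⟨⟨x, hx⟩, rfl⟩
    · rintro ⟨t, rfl⟩
      exact t.2

end Cfsg.Agent.Lib.Helper9
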