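import Cfsg.Agent.Lib.Helper9.FusionGroup2
import Cfsg.Agent.Lib.Helper9.FusionAut
import Cfsg.Agent.Lib.Helper9.FusionSat2

set_option autoImplicit false

namespace Cfsg.Agent.Lib.Helper9

open Cfsg Cfsg.FusionSystem

variable {Ω : Type*} [Group Ω]

/-- Automorphisms of `U` preserving the subgroup `X` (in both directions). -/
def autStab (U X : Subgroup Ω) : Subgroup (MulAut U) where
  carrier := {a | ∀ x : U, ((a x : U) : Ω) ∈ X ↔ (x : Ω) ∈ X}
  one_mem' := fun _ => Iff.rfl
  mul_mem' := by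
    intro a b ha hb x
    exact (ha (b x)).trans (hb x)
  inv_mem' := by
    intro a ha x
    have h := ha (a⁻¹ x)
    rw [MulAut.apply_inv_self] at h
    exact h.symm

theorem mem_autStab {U X : Subgroup Ω} {a : MulAut U} :
    a ∈ autStab U X ↔ ∀ x : U, ((a x : U) : Ω) ∈ X ↔ (x : Ω) ∈ X := Iff.rfl

/-- Automorphisms of `U ≥ Q` whose restriction to `Q` lies in `K`. -/
def autFix {Q : Subgroup Ω} (K : Subgroup (MulAut Q)) (U : Subgroup Ω) (hQU : Q ≤ U) :
    Subgroup (MulAut U) where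
  carrier := {a | ∃ κ ∈ K, ∀ x : Q, ((a (Subgroup.inclusion hQU x) : U) : Ω) = ((κ x : Q) : Ω)}
  one_mem' := ⟨1, K.one_mem, fun _ => rfl⟩
  mul_mem' := by
    rintro a b ⟨κa, hκa, ha⟩ ⟨κb, hκb, hb⟩
    refine ⟨κa * κb, K.mul_mem hκa hκb, fun x => ?_⟩
    have e : b (Subgroup.inclusion hQU x) = Subgroup.inclusion hQU (κb x) := Subtype.ext (hb x)
    show ((a (b (Subgroup.inclusion hQU x)) : U) : Ω) = ((κa (κb x) : Q) : Ω)
    rw [e, ha]
  inv_mem' := by
    rintro a ⟨κ, hκ, ha⟩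
    refine ⟨κ⁻¹, K.inv_mem hκ, fun x => ?_⟩
    have e : a (Subgroup.inclusion hQU (κ⁻¹ x)) = Subgroup.inclusion hQU x := by
      apply Subtype.ext
      rw [ha, MulAut.apply_inv_self]
      rfl
    have e2 : a⁻¹ (Subgroup.inclusion hQU x) = Subgroup.inclusion hQU (κ⁻¹ x) := by
      rw [← e, MulAut.inv_apply_self]
    rw [e2]
    rfl

theorem mem_autFix {Q : Subgroup Ω} {K : Subgroup (MulAut Q)} {U : Subgroup Ω} {hQU : Q ≤ U}
    {a : MulAut U} : a ∈ autFix K U hQU ↔
      ∃ κ ∈ K, ∀ x : Q, ((a (Subgroup.inclusion hQU x) : U) : Ω) = ((κ x : Q) : Ω) := Iff.rfl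

/-- Restriction of the automorphisms preserving `P` to `P`. -/
def autRes {U P : Subgroup Ω} (hPU : P ≤ U) : ↥(autStab U P) →* MulAut P where
  toFun a :=
    { toFun := fun x => ⟨(a : MulAut U) (Subgroup.inclusion hPU x), (a.2 _).mpr x.2⟩
      invFun := fun x => ⟨(a : MulAut U)⁻¹ (Subgroup.inclusion hPU x),
        (((autStab U P).inv_mem a.2) _).mpr x.2⟩
      left_inv := by
        intro x
        apply Subtype.ext
        show (((a : MulAut U)⁻¹ (Subgroup.inclusion hPU
          ⟨(a : MulAut U) (Subgroup.inclusion hPU x), _⟩) : U) : Ω) = x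
        have e : Subgroup.inclusion hPU
            ⟨(((a : MulAut U) (Subgroup.inclusion hPU x) : U) : Ω), (a.2 _).mpr x.2⟩ =
            (a : MulAut U) (Subgroup.inclusion hPU x) := Subtype.ext rfl
        rw [e, MulAut.inv_apply_self]
        rfl
      right_inv := by
        intro x
        apply Subtype.ext
        show (((a : MulAut U) (Subgroup.inclusion hPU
          ⟨(a : MulAut U)⁻¹ (Subgroup.inclusion hPU x), _⟩) : U) : Ω) = x
        have e : Subgroup.inclusion hPU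
            ⟨(((a : MulAut U)⁻¹ (Subgroup.inclusion hPU x) : U) : Ω),
              (((autStab U P).inv_mem a.2) _).mpr x.2⟩ =
            (a : MulAut U)⁻¹ (Subgroup.inclusion hPU x) := Subtype.ext rfl
        rw [e, MulAut.apply_inv_self]
        rfl
      map_mul' := by
        intro x y
        apply Subtype.ext
        show (((a : MulAut U) (Subgroup.inclusion hPU (x * y)) : U) : Ω) =
          (((a : MulAut U) (Subgroup.inclusion hPU x) : U) : Ω) *
            (((a : MulAut U) (Subgroup.inclusion hPU y) : U) : Ω)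
        rw [map_mul, map_mul]
        rfl }
  map_one' := by
    ext x
    rfl
  map_mul' := by
    intro a b
    ext x
    show ((((a * b : ↥(autStab U P)) : MulAut U) (Subgroup.inclusion hPU x) : U) : Ω) =
      (((a : MulAut U) (Subgroup.inclusion hPU
        ⟨((b : MulAut U) (Subgroup.inclusion hPU x) : U), _⟩) : U) : Ω)
    rfl

theorem autRes_apply {U P : Subgroup Ω} (hPU : P ≤ U) (a : ↥(autStab U P)) (x : P) :
    ((autRes hPU a x : P) : Ω) = (((a : MulAut U) (Subgroup.inclusion hPU x) : U) : Ω) := rfl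

/-- `N_S^K(Q)`: the elements of `S` normalizing `Q` and inducing an automorphism in `K`. -/
noncomputable def kNormalizer (S Q : Subgroup Ω) (K : Subgroup (MulAut Q)) : Subgroup Ω :=
  ((K.comap (normConj Q)).map (Subgroup.normalizer (Q : Set Ω)).subtype) ⊓ S

theorem mem_kNormalizer {S Q : Subgroup Ω} {K : Subgroup (MulAut Q)} {g : Ω} :
    g ∈ kNormalizer S Q K ↔ g ∈ S ∧ ∃ hN : g ∈ Subgroup.normalizer (Q : Set Ω),
      normConj Q ⟨g, hN⟩ ∈ K := by
  unfold kNormalizer
  rw [Subgroup.mem_inf]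
  constructor
  · rintro ⟨⟨n, hn, rfl⟩, hS⟩
    exact ⟨hS, n.2, hn⟩
  · rintro ⟨hS, hN, hK⟩
    exact ⟨⟨⟨g, hN⟩, hK, rfl⟩, hS⟩

theorem kNormalizer_le (S Q : Subgroup Ω) (K : Subgroup (MulAut Q)) : kNormalizer S Q K ≤ S :=
  inf_le_right

theorem kNormalizer_top (S Q : Subgroup Ω) : kNormalizer S Q ⊤ = normalizerIn S Q := by
  ext g
  rw [mem_kNormalizer]
  unfold normalizerIn
  rw [Subgroup.mem_inf]
  constructor
  · rintro ⟨hS, hN, -⟩
    exact ⟨hS, hN⟩
  · rintro ⟨hS, hN⟩
    exact ⟨hS, hN, Subgroup.mem_top _⟩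

theorem kNormalizer_bot (S Q : Subgroup Ω) : kNormalizer S Q ⊥ = centralizerIn S Q := by
  ext g
  rw [mem_kNormalizer, mem_centralizerIn]
  constructor
  · rintro ⟨hS, hN, hK⟩
    refine ⟨hS, fun x hx => ?_⟩
    rw [Subgroup.mem_bot] at hK
    have h1 : ((normConj Q ⟨g, hN⟩ ⟨x, hx⟩ : Q) : Ω) = x := by rw [hK]; rfl
    rw [normConj_apply] at h1
    calc x * g = (g * x * g⁻¹) * g := by rw [h1]
      _ = g * x := by group
  · rintro ⟨hS, hc⟩
    have hN : g ∈ Subgroup.normalizer (Q : Set Ω) :=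
      centralizer_le_normalizer' Q (Subgroup.mem_centralizer_iff.mpr hc)
    refine ⟨hS, hN, ?_⟩
    rw [Subgroup.mem_bot]
    ext x
    rw [normConj_apply]
    show g * (x : Ω) * g⁻¹ = x
    rw [← hc x x.2]
    group

end Cfsg.Agent.Lib.Helper9
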