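import Cfsg.Agent.Lib.Helper9.FusionChain
import Cfsg.Agent.Lib.Helper9.PAutFix
import Cfsg.Agent.Lib.Helper9.KNorm1
import Cfsg.Prelude.Def_PLocal

set_option autoImplicit false
set_option maxHeartbeats 1600000

namespace Cfsg.Agent.Lib.Helper9

open Cfsg Cfsg.FusionSystem
open scoped commutatorElement

variable {Ω : Type*} [Group Ω] {S : Subgroup Ω}

/-- A strongly closed subgroup `Q` all of whose elements normalizing `P` lie in `P` is
contained in `P`. -/
theorem le_of_normalizer_mem [Finite S] (p : ℕ) [Fact p.Prime] (hS : IsPGroup p S)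
    (F : FusionSystem S) {P Q : Subgroup Ω} (hPS : P ≤ S) (hQsc : F.StronglyClosed Q)
    (hNQP : ∀ b ∈ Q, b ∈ Subgroup.normalizer (P : Set Ω) → b ∈ P) : Q ≤ P := by
  have hQS : Q ≤ S := hQsc.1
  have hfinP : Finite P := finite_of_le' hPS
  have hTS : P ⊔ Q ≤ S := sup_le hPS hQS
  have hfinT : Finite ↥(P ⊔ Q) := finite_of_le' hTS
  have hTp : IsPGroup p ↥(P ⊔ Q) := hS.to_le hTS
  have hPT : P = P ⊔ Q := by
    by_contra hne
    have hlt := lt_normalizerIn (S := P ⊔ Q) p hTp le_sup_left hne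
    obtain ⟨g, hgN, hgP⟩ := SetLike.exists_of_lt hlt
    have hfinQ : Finite Q := finite_of_le' hQS
    have hPNQ' : P ≤ Subgroup.normalizer (Q : Set Ω) := by
      intro y hy
      exact mem_normalizer_of_conj_mem_of_finite
        (fun q hq => conj_mem_of_stronglyClosed F hQsc (hPS hy) hq)
    obtain ⟨y, hy, b, hb, rfl⟩ :=
      exists_mul_of_mem_sup_of_le_normalizer hPNQ' (Subgroup.mem_inf.mp hgN).1
    have hbN : b ∈ Subgroup.normalizer (P : Set Ω) := by
      have h1 : y * b ∈ Subgroup.normalizer (P : Set Ω) := (Subgroup.mem_inf.mp hgN).2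
      have h2 : b = y⁻¹ * (y * b) := by group
      rw [h2]
      exact Subgroup.mul_mem _ (Subgroup.inv_mem _ (Subgroup.le_normalizer hy)) h1
    exact hgP (P.mul_mem hy (hNQP b hb hbN))
  rw [hPT]
  exact le_sup_right

/-- A finite subgroup of automorphisms all of whose `p'`-elements are trivial is a `p`-group. -/
theorem isPGroup_of_coprime_trivial {G : Type*} [Group G] [Finite G] (p : ℕ) [hp : Fact p.Prime]
    (X : Subgroup G) (h : ∀ a ∈ X, (orderOf a).Coprime p → a = 1) : IsPGroup p X := by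
  intro a
  have hpos : 0 < orderOf (a : G) := orderOf_pos _
  obtain ⟨k, m, hm, hkm⟩ := Nat.exists_eq_pow_mul_and_not_dvd hpos.ne' p hp.out.ne_one
  refine ⟨k, ?_⟩
  have h1 : orderOf ((a : G) ^ p ^ k) = m := by
    rw [orderOf_pow' _ (pow_ne_zero k hp.out.ne_zero), hkm, Nat.gcd_eq_right (Dvd.intro _ rfl)]
    exact Nat.mul_div_cancel_left m (pow_pos hp.out.pos k)
  have h2 : (orderOf ((a : G) ^ p ^ k)).Coprime p := by
    rw [h1]
    exact ((Nat.Prime.coprime_iff_not_dvd hp.out).mpr hm).symm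
  have h3 := h _ (X.pow_mem a.2 _) h2
  exact Subtype.ext h3

/-- Key step for the `Ω₁`-series criterion: a strongly closed subgroup `P` (for `p` odd) such that
`Ω₁(P)` has a chain of strongly closed subgroups with `[Qᵢ₊₁, P] ≤ Qᵢ` lies in every centric
radical subgroup. -/
theorem le_centric_radical_of_omega_chain [Finite S] (p : ℕ) [hp : Fact p.Prime]
    (hS : IsPGroup p S) (F : FusionSystem S) (hp2 : p ≠ 2) (P : Subgroup Ω)
    (hP : F.StronglyClosed P) (n : ℕ)
    (Qs : Fin (n + 1) → Subgroup Ω) (h0 : Qs 0 = ⊥) (hlast : Qs (Fin.last n) = omegaOne p P)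
    (hsc : ∀ i : Fin (n + 1), F.StronglyClosed (Qs i))
    (hstep : ∀ i : Fin n, ⁅Qs i.succ, P⁆ ≤ Qs (Fin.castSucc i))
    {R : Subgroup Ω} (hcen : F.IsCentric R) (hrad : F.IsRadical p R) : P ≤ R := by
  have hRS := hcen.1
  have hfinR : Finite R := finite_of_le' hRS
  have hRp : IsPGroup p R := hS.to_le hRS
  have hPS : P ≤ S := hP.1
  -- the two chains in `R`
  obtain ⟨C₁, hC₁def⟩ : ∃ C : ℕ → Subgroup R,
      C = fun j => if h : j < n + 1 then (Qs ⟨j, h⟩).subgroupOf R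
        else (Qs (Fin.last n)).subgroupOf R := ⟨_, rfl⟩
  have hC₁lt : ∀ j (h : j < n + 1), C₁ j = (Qs ⟨j, h⟩).subgroupOf R := by
    intro j h; rw [hC₁def]; simp [h]
  have hC₁ge : ∀ j, ¬ j < n + 1 → C₁ j = (Qs (Fin.last n)).subgroupOf R := by
    intro j h; rw [hC₁def]; simp [h]
  obtain ⟨C₂, hC₂def⟩ : ∃ C : ℕ → Subgroup R,
      C = fun j => if j = 0 then P.subgroupOf R else ⊤ := ⟨_, rfl⟩
  have hC₂0 : C₂ 0 = P.subgroupOf R := by rw [hC₂def]; simp
  have hC₂pos : ∀ j, j ≠ 0 → C₂ j = ⊤ := by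
    intro j h; rw [hC₂def]; simp [h]
  have hC₁inv : ∀ α ∈ F.autGroup R, ∀ j, ∀ x ∈ C₁ j, α x ∈ C₁ j := by
    intro α hα j x hx
    by_cases h : j < n + 1
    · rw [hC₁lt j h] at hx ⊢
      exact Subgroup.mem_subgroupOf.mpr
        (aut_mem_of_stronglyClosed F hRS (hsc _) hα x (Subgroup.mem_subgroupOf.mp hx))
    · rw [hC₁ge j h] at hx ⊢
      exact Subgroup.mem_subgroupOf.mpr
        (aut_mem_of_stronglyClosed F hRS (hsc _) hα x (Subgroup.mem_subgroupOf.mp hx))
  have hC₂inv : ∀ α ∈ F.autGroup R, ∀ j, ∀ x ∈ C₂ j, α x ∈ C₂ j := by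
    intro α hα j x hx
    by_cases h : j = 0
    · subst h
      rw [hC₂0] at hx ⊢
      exact Subgroup.mem_subgroupOf.mpr
        (aut_mem_of_stronglyClosed F hRS hP hα x (Subgroup.mem_subgroupOf.mp hx))
    · rw [hC₂pos j h]; exact Subgroup.mem_top _
  have hX₁n := stabSub_normal (F.autGroup R) C₁ hC₁inv
  have hX₂n := stabSub_normal (F.autGroup R) C₂ hC₂inv
  have hXA : stabSub (F.autGroup R) C₁ hC₁inv ⊓ stabSub (F.autGroup R) C₂ hC₂inv ≤
      F.autGroup R := inf_le_left.trans (stabSub_le _ _ _)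
  have hXn : ((stabSub (F.autGroup R) C₁ hC₁inv ⊓ stabSub (F.autGroup R) C₂ hC₂inv).subgroupOf
      (F.autGroup R)).Normal := by
    constructor
    intro a ha g
    rw [Subgroup.mem_subgroupOf] at ha ⊢
    have h1 := hX₁n.conj_mem a (Subgroup.mem_subgroupOf.mpr ha.1) g
    have h2 := hX₂n.conj_mem a (Subgroup.mem_subgroupOf.mpr ha.2) g
    exact ⟨Subgroup.mem_subgroupOf.mp h1, Subgroup.mem_subgroupOf.mp h2⟩
  -- every `p'`-element of `X` is trivial
  have hTR : P ⊓ R ≤ R := inf_le_right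
  haveI hfinT : Finite ↥(P ⊓ R) := finite_of_le' (hTR.trans hRS)
  have hTp : IsPGroup p ↥(P ⊓ R) := hS.to_le (hTR.trans hRS)
  have hpk : ∀ t : R, ∃ k : ℕ, t ^ p ^ k = 1 := fun t => hRp t
  have hXp : IsPGroup p ↥(stabSub (F.autGroup R) C₁ hC₁inv ⊓ stabSub (F.autGroup R) C₂ hC₂inv) := by
    apply isPGroup_of_coprime_trivial
    intro α hαX hαo
    obtain ⟨hα1, hα2⟩ := Subgroup.mem_inf.mp hαX
    rw [mem_stabSub] at hα1 hα2
    obtain ⟨hαA, hα1⟩ := hα1
    obtain ⟨-, hα2⟩ := hα2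
    -- (i) `α` fixes the chain on `Ω₁(P) ∩ R`
    have hfixC : ∀ j, ∀ x ∈ C₁ j, α x = x := by
      intro j
      induction j with
      | zero =>
        intro x hx
        rw [hC₁lt 0 (Nat.succ_pos n)] at hx
        have hx' : (x : Ω) ∈ Qs 0 := Subgroup.mem_subgroupOf.mp hx
        rw [h0] at hx'
        have : x = 1 := Subtype.ext (Subgroup.mem_bot.mp hx')
        rw [this, map_one]
      | succ j ih =>
        intro x hx
        have ht := hα1 j x hx
        obtain ⟨k, hk⟩ := hpk (x⁻¹ * α x)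
        exact fix_of_fix_comm p α hαo (ih _ ht) hk
    -- (ii) `α` fixes the elements of order `p` of `P ∩ R`
    have hfixsmall : ∀ x : R, (x : Ω) ∈ P → x ^ p = 1 → α x = x := by
      intro x hxP hxp
      apply hfixC n x
      rw [hC₁lt n (Nat.lt_succ_self n)]
      rw [Subgroup.mem_subgroupOf]
      have : (⟨n, Nat.lt_succ_self n⟩ : Fin (n + 1)) = Fin.last n := rfl
      rw [this, hlast]
      apply Subgroup.subset_closure
      refine ⟨hxP, ?_⟩
      have := congrArg Subtype.val hxp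
      simpa using this
    -- (iii) restrict to `P ∩ R`
    have hstab : α ∈ autStab R (P ⊓ R) := by
      rw [mem_autStab]
      intro x
      constructor
      · intro hx
        have h1 := aut_mem_of_stronglyClosed F hRS hP ((F.autGroup R).inv_mem hαA) (α x)
          (Subgroup.mem_inf.mp hx).1
        rw [MulAut.inv_apply_self] at h1
        exact Subgroup.mem_inf.mpr ⟨h1, x.2⟩
      · intro hx
        exact Subgroup.mem_inf.mpr
          ⟨aut_mem_of_stronglyClosed F hRS hP hαA x (Subgroup.mem_inf.mp hx).1, (α x).2⟩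
    have hβo : (orderOf (autRes hTR ⟨α, hstab⟩)).Coprime p := by
      have h1 : orderOf (autRes hTR ⟨α, hstab⟩) ∣ orderOf (⟨α, hstab⟩ : ↥(autStab R (P ⊓ R))) :=
        orderOf_map_dvd _ _
      have h2 : orderOf (⟨α, hstab⟩ : ↥(autStab R (P ⊓ R))) = orderOf α :=
        Subgroup.orderOf_mk α hstab
      rw [h2] at h1
      exact Nat.Coprime.coprime_dvd_left h1 hαo
    have hβ1 : autRes hTR ⟨α, hstab⟩ = 1 := by
      apply aut_eq_one_of_fix_small p hTp _ hβo
      intro y hy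
      rcases hy with hy | ⟨h2, -⟩
      · apply Subtype.ext
        rw [autRes_apply]
        have hyp : (Subgroup.inclusion hTR y) ^ p = 1 := by
          rw [← map_pow, hy, map_one]
        have := hfixsmall (Subgroup.inclusion hTR y) (Subgroup.mem_inf.mp y.2).1 hyp
        show ((α (Subgroup.inclusion hTR y) : R) : Ω) = (y : Ω)
        rw [this]
        rfl
      · exact absurd h2 hp2
    have hfixT : ∀ x : R, (x : Ω) ∈ P → α x = x := by
      intro x hx
      have h1 : autRes hTR ⟨α, hstab⟩ ⟨(x : Ω), Subgroup.mem_inf.mpr ⟨hx, x.2⟩⟩ =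
          ⟨(x : Ω), Subgroup.mem_inf.mpr ⟨hx, x.2⟩⟩ := by
        rw [hβ1]; rfl
      have h2 := congrArg Subtype.val h1
      rw [autRes_apply] at h2
      apply Subtype.ext
      exact h2
    -- (iv) `α` is trivial
    ext x
    have ht := hα2 0 x (by rw [hC₂pos 1 one_ne_zero]; exact Subgroup.mem_top _)
    rw [hC₂0, Subgroup.mem_subgroupOf] at ht
    obtain ⟨k, hk⟩ := hpk (x⁻¹ * α x)
    have := fix_of_fix_comm p α hαo (hfixT _ ht) hk
    rw [this]
    rfl
  -- elements of `N_P(R)` lie in `R`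
  apply le_of_normalizer_mem p hS F hRS hP
  intro b hbP hbN
  apply mem_of_centric_radical_of_normal_pgroup p F hcen hrad _ hXA hXn hXp (hPS hbP) hbN
  have hbA : normConj R ⟨b, hbN⟩ ∈ F.autGroup R :=
    autInducedBy_le_autGroup F hRS (Subgroup.subset_closure ⟨b, hPS hbP, fun x => rfl⟩)
  refine Subgroup.mem_inf.mpr ⟨?_, ?_⟩
  · rw [mem_stabSub]
    refine ⟨hbA, ?_⟩
    intro j x hx
    by_cases hj' : j + 1 < n + 1
    · have hj : j < n + 1 := by omega
      rw [hC₁lt j hj, Subgroup.mem_subgroupOf]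
      show (x : Ω)⁻¹ * (b * (x : Ω) * b⁻¹) ∈ Qs ⟨j, hj⟩
      rw [hC₁lt (j + 1) hj'] at hx
      have hx' : (x : Ω) ∈ Qs ⟨j + 1, hj'⟩ := Subgroup.mem_subgroupOf.mp hx
      have hjn : j < n := by omega
      have h1 := hstep ⟨j, hjn⟩
      have h2 : ⁅(x : Ω)⁻¹, b⁆ ∈ ⁅Qs (Fin.succ ⟨j, hjn⟩), P⁆ :=
        Subgroup.commutator_mem_commutator (Subgroup.inv_mem _ hx') hbP
      have h3 := h1 h2
      have h4 : (x : Ω)⁻¹ * (b * (x : Ω) * b⁻¹) = ⁅(x : Ω)⁻¹, b⁆ := by
        rw [commutatorElement_def]; group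
      rw [h4]
      exact h3
    · -- `j ≥ n`: both terms are `Ω₁(P) ∩ R`
      have hx2 : (x : Ω) ∈ Qs (Fin.last n) := by
        rw [hC₁ge (j + 1) hj'] at hx
        exact Subgroup.mem_subgroupOf.mp hx
      have hgoal : (x : Ω)⁻¹ * (b * (x : Ω) * b⁻¹) ∈ Qs (Fin.last n) := by
        have h5 := conj_mem_of_stronglyClosed F (hsc (Fin.last n)) (hPS hbP) hx2
        exact Subgroup.mul_mem _ (Subgroup.inv_mem _ hx2) h5
      by_cases hj : j < n + 1
      · have hjn : j = n := by omega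
        subst hjn
        rw [hC₁lt j hj, Subgroup.mem_subgroupOf]
        exact hgoal
      · rw [hC₁ge j hj, Subgroup.mem_subgroupOf]
        exact hgoal
  · rw [mem_stabSub]
    refine ⟨hbA, ?_⟩
    intro j x _
    by_cases hj : j = 0
    · subst hj
      rw [hC₂0, Subgroup.mem_subgroupOf]
      show (x : Ω)⁻¹ * (b * (x : Ω) * b⁻¹) ∈ P
      have h5 := conj_mem_of_stronglyClosed F hP (hRS (Subgroup.inv_mem _ x.2)) hbP
      have h6 : (x : Ω)⁻¹ * (b * (x : Ω) * b⁻¹) = ((x : Ω)⁻¹ * b * ((x : Ω)⁻¹)⁻¹) * b⁻¹ := by group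
      rw [h6]
      exact P.mul_mem h5 (P.inv_mem hbP)
    · rw [hC₂pos j hj]; exact Subgroup.mem_top _

end Cfsg.Agent.Lib.Helper9
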