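import Cfsg.Agent.Lib.Helper9.FusionEss2
import Cfsg.Agent.Lib.Helper9.FusionCalc
import Cfsg.Agent.Lib.Helper9.FusionFactorAut

set_option autoImplicit false

namespace Cfsg.Agent.Lib.Helper9

open Cfsg Cfsg.FusionSystem

variable {Ω : Type*} [Group Ω] {S : Subgroup Ω}

/-- A good identification of `P'` with `Q`: an isomorphism onto `Q` that extends to a map of the
system on `N_S(P')`. -/
def GoodId (F : FusionSystem S) (Q P' : Subgroup Ω) (θ : P' →* Ω) : Prop :=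
  θ.range = Q ∧ ∃ (hle : P' ≤ normalizerIn S P') (θ' : ↥(normalizerIn S P') →* Ω),
    θ' ∈ F.Hom (normalizerIn S P') ∧ ∀ x : P', θ' (Subgroup.inclusion hle x) = θ x

/-- The automorphism `α` of `Q` is `θ₁ ∘ φ ∘ θ₀⁻¹`. -/
def Compat {Q P P₀ P₁ : Subgroup Ω} (φ : P →* Ω) (hP₀ : P₀ ≤ P) (θ₀ : P₀ →* Ω) (θ₁ : P₁ →* Ω)
    (α : MulAut Q) : Prop :=
  ∀ (x : P₀) (q : Q) (y : P₁), (q : Ω) = θ₀ x → (y : Ω) = φ (Subgroup.inclusion hP₀ x) →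
    ((α q : Q) : Ω) = θ₁ y

theorem GoodId.mem {F : FusionSystem S} {Q P' : Subgroup Ω} {θ : P' →* Ω} (h : GoodId F Q P' θ) :
    θ ∈ F.Hom P' := by
  obtain ⟨-, hle, θ', hθ', hs⟩ := h
  have := restrict_mem F hθ' hle
  have e : θ'.comp (Subgroup.inclusion hle) = θ := by
    ext x; exact hs x
  rw [← e]; exact this

theorem goodId_subtype (F : FusionSystem S) {Q : Subgroup Ω} (hQS : Q ≤ S) :
    GoodId F Q Q Q.subtype :=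
  ⟨Subgroup.range_subtype Q, le_normalizerIn hQS, (normalizerIn S Q).subtype,
    subtype_mem F (normalizerIn_le_left S Q), fun _ => rfl⟩

/-- Good identifications exist for every conjugate of a fully automized receptive subgroup. -/
theorem exists_goodId [Finite S] (p : ℕ) [Fact p.Prime] (hS : IsPGroup p S) (F : FusionSystem S)
    {Q P' : Subgroup Ω} (hauto : F.IsFullyAutomized p Q) (hrec : F.IsReceptive Q)
    (hconj : F.IsConj Q P') : ∃ θ : P' →* Ω, GoodId F Q P' θ := by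
  obtain ⟨φ, hφ, -, himg⟩ := Cfsg.Agent.S5079.result p hS F Q P' hauto hrec (isConj_symm F hconj)
  have hP'S : P' ≤ S := (isConj_le F hconj).2
  have hle : P' ≤ normalizerIn S P' := le_normalizerIn hP'S
  refine ⟨φ.comp (Subgroup.inclusion hle), ?_, hle, φ, hφ, fun _ => rfl⟩
  rw [← himg]
  ext y
  constructor
  · rintro ⟨x, rfl⟩
    exact ⟨Subgroup.inclusion hle x, Subgroup.mem_subgroupOf.mpr x.2, rfl⟩
  · rintro ⟨x, hx, rfl⟩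
    exact ⟨⟨x, Subgroup.mem_subgroupOf.mp hx⟩, rfl⟩

/-- If `ψ` is defined on a subgroup strictly containing `P₀`, the automorphism `θ₁ ∘ ψ ∘ θ₀⁻¹` of `Q`
extends to a strictly larger subgroup. -/
theorem mem_extGens_of_compat [Finite S] (p : ℕ) [Fact p.Prime] (hS : IsPGroup p S)
    (F : FusionSystem S) {Q P₀ P₁ U : Subgroup Ω} (hU : P₀ < U) {ψ : U →* Ω} (hψ : ψ ∈ F.Hom U)
    (himg : (P₀.subgroupOf U).map ψ = P₁) {θ₀ : P₀ →* Ω} {θ₁ : P₁ →* Ω}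
    (h₀ : GoodId F Q P₀ θ₀) (h₁ : GoodId F Q P₁ θ₁) (α : MulAut Q)
    (hc : Compat ψ hU.le θ₀ θ₁ α) : α ∈ extGens F Q := by
  have hUS : U ≤ S := (F.le_of_mem hψ).1
  have hψS : ∀ u : U, ψ u ∈ S := (F.le_of_mem hψ).2
  have hfinU : Finite U := finite_of_le' hUS
  have hUp : IsPGroup p U := hS.to_le hUS
  have hlt : P₀ < normalizerIn U P₀ := lt_normalizerIn p hUp hU.le hU.ne
  obtain ⟨hθ₀r, hle₀, θ₀', hθ₀', hθ₀s⟩ := h₀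
  obtain ⟨hθ₁r, hle₁, θ₁', hθ₁', hθ₁s⟩ := h₁
  have hU₁N : normalizerIn U P₀ ≤ normalizerIn S P₀ := fun u hu => ⟨hUS hu.1, hu.2⟩
  have hU₁U : normalizerIn U P₀ ≤ U := normalizerIn_le_left U P₀
  have hρ₀ := restrict_mem F hθ₀' hU₁N
  obtain ⟨ι₀, hι₀, hι₀s, hι₀r⟩ := exists_inv_hom F hρ₀ rfl
  have hι₀U₁ : ∀ y : (θ₀'.comp (Subgroup.inclusion hU₁N)).range, ι₀ y ∈ normalizerIn U P₀ :=
    fun y => hι₀r.le ⟨y, rfl⟩
  have hψ₁ := restrict_mem F hψ hU₁U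
  obtain ⟨β₁, hβ₁, hβ₁s⟩ := comp_spec F hι₀ hψ₁ hι₀U₁
  have hP₁S : P₁ ≤ S := by
    rw [← himg]
    rintro _ ⟨u, -, rfl⟩
    exact hψS u
  have hfinP₁ : Finite P₁ := finite_of_le' hP₁S
  have hψN : ∀ u : ↥(normalizerIn U P₀), ψ (Subgroup.inclusion hU₁U u) ∈ normalizerIn S P₁ := by
    intro u
    refine ⟨hψS _, ?_⟩
    apply mem_normalizer_of_conj_mem_of_finite
    intro z hz
    rw [← himg] at hz ⊢
    obtain ⟨w, hw, rfl⟩ := hz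
    have hwP₀ : (w : Ω) ∈ P₀ := Subgroup.mem_subgroupOf.mp hw
    have huN : (u : Ω) ∈ Subgroup.normalizer (P₀ : Set Ω) := u.2.2
    have hconj : (u : Ω) * w * (u : Ω)⁻¹ ∈ P₀ := (Subgroup.mem_normalizer_iff.mp huN w).mp hwP₀
    refine ⟨Subgroup.inclusion hU₁U u * w * (Subgroup.inclusion hU₁U u)⁻¹,
      Subgroup.mem_subgroupOf.mpr hconj, ?_⟩
    rw [map_mul, map_mul, map_inv]
  have hβ₁N : ∀ y : (θ₀'.comp (Subgroup.inclusion hU₁N)).range, β₁ y ∈ normalizerIn S P₁ := by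
    intro y
    rw [hβ₁s]
    exact hψN _
  obtain ⟨Ψ, hΨ, hΨs⟩ := comp_spec F hβ₁ hθ₁' hβ₁N
  have hQQ' : Q ≤ (θ₀'.comp (Subgroup.inclusion hU₁N)).range := by
    intro q hq
    obtain ⟨x, hx⟩ : (q : Ω) ∈ θ₀.range := hθ₀r.ge hq
    refine ⟨⟨x, hlt.le x.2⟩, ?_⟩
    rw [← hx, ← hθ₀s x]
    rfl
  have hne : Q ≠ (θ₀'.comp (Subgroup.inclusion hU₁N)).range := by
    intro heq
    obtain ⟨u, huU₁, huP₀⟩ := SetLike.exists_of_lt hlt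
    have h1 : (θ₀'.comp (Subgroup.inclusion hU₁N)) ⟨u, huU₁⟩ ∈ Q := by
      rw [heq]; exact ⟨_, rfl⟩
    obtain ⟨x, hx⟩ : ((θ₀'.comp (Subgroup.inclusion hU₁N)) ⟨u, huU₁⟩ : Ω) ∈ θ₀.range :=
      hθ₀r.ge h1
    have h2 : (θ₀'.comp (Subgroup.inclusion hU₁N)) ⟨x, hlt.le x.2⟩ =
        (θ₀'.comp (Subgroup.inclusion hU₁N)) ⟨u, huU₁⟩ := by
      rw [← hx, ← hθ₀s x]
      rfl
    have h3 := F.injective_of_mem hρ₀ h2
    apply huP₀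
    have : (x : Ω) = u := congrArg Subtype.val h3
    rw [← this]; exact x.2
  refine ⟨_, lt_of_le_of_ne hQQ' hne, Ψ, hΨ, fun q => ?_⟩
  obtain ⟨x, hx⟩ : (q : Ω) ∈ θ₀.range := hθ₀r.ge q.2
  have hxmem : (θ₀'.comp (Subgroup.inclusion hU₁N)) ⟨x, hlt.le x.2⟩ ∈
      (θ₀'.comp (Subgroup.inclusion hU₁N)).range := ⟨_, rfl⟩
  have e1 : Subgroup.inclusion hQQ' q =
      ⟨(θ₀'.comp (Subgroup.inclusion hU₁N)) ⟨x, hlt.le x.2⟩, hxmem⟩ := by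
    apply Subtype.ext
    show (q : Ω) = θ₀' (Subgroup.inclusion hU₁N ⟨x, hlt.le x.2⟩)
    rw [← hx, ← hθ₀s x]
    rfl
  have hb : β₁ ⟨(θ₀'.comp (Subgroup.inclusion hU₁N)) ⟨x, hlt.le x.2⟩, hxmem⟩ =
      ψ (Subgroup.inclusion hU.le x) := by
    rw [hβ₁s]
    have : (⟨ι₀ ⟨(θ₀'.comp (Subgroup.inclusion hU₁N)) ⟨x, hlt.le x.2⟩, hxmem⟩, hι₀U₁ _⟩ :
        ↥(normalizerIn U P₀)) = ⟨x, hlt.le x.2⟩ := Subtype.ext (hι₀s ⟨x, hlt.le x.2⟩ hxmem)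
    rw [this]
    rfl
  have hyP₁ : ψ (Subgroup.inclusion hU.le x) ∈ P₁ := by
    rw [← himg]
    exact ⟨Subgroup.inclusion hU.le x, Subgroup.mem_subgroupOf.mpr x.2, rfl⟩
  rw [e1, hΨs]
  have e2 : (⟨β₁ ⟨(θ₀'.comp (Subgroup.inclusion hU₁N)) ⟨x, hlt.le x.2⟩, hxmem⟩, hβ₁N _⟩ :
      ↥(normalizerIn S P₁)) = Subgroup.inclusion hle₁ ⟨ψ (Subgroup.inclusion hU.le x), hyP₁⟩ :=
    Subtype.ext hb
  rw [e2, hθ₁s]
  exact (hc x q ⟨ψ (Subgroup.inclusion hU.le x), hyP₁⟩ hx.symm rfl).symm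

/-- Existence of the automorphism `θ₁ ∘ φ ∘ θ₀⁻¹` of `Q`. -/
theorem exists_compat_aut [Finite S] (F : FusionSystem S) {Q P P₀ P₁ : Subgroup Ω} {φ : P →* Ω}
    (hφ : φ ∈ F.Hom P) (hP₀ : P₀ ≤ P) (himg : (P₀.subgroupOf P).map φ = P₁)
    {θ₀ : P₀ →* Ω} {θ₁ : P₁ →* Ω} (hθ₀ : θ₀ ∈ F.Hom P₀) (hθ₀r : θ₀.range = Q)
    (hθ₁ : θ₁ ∈ F.Hom P₁) (hθ₁r : θ₁.range = Q) :
    ∃ α ∈ F.autGroup Q, Compat φ hP₀ θ₀ θ₁ α := by
  obtain ⟨ι, hι, hιs, hιr⟩ := exists_inv_hom F hθ₀ hθ₀r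
  have hιP₀ : ∀ q : Q, ι q ∈ P₀ := fun q => hιr.le ⟨q, rfl⟩
  have hφ₀ := restrict_mem F hφ hP₀
  obtain ⟨γ₁, hγ₁, hγ₁s⟩ := comp_spec F hι hφ₀ hιP₀
  have hγ₁P₁ : ∀ q : Q, γ₁ q ∈ P₁ := by
    intro q
    rw [hγ₁s, ← himg]
    exact ⟨Subgroup.inclusion hP₀ ⟨ι q, hιP₀ q⟩, Subgroup.mem_subgroupOf.mpr (hιP₀ q), rfl⟩
  obtain ⟨γ, hγ, hγs⟩ := comp_spec F hγ₁ hθ₁ hγ₁P₁
  have hval : ∀ q : Q, γ q ∈ Q := by
    intro q
    rw [hγs]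
    exact hθ₁r.le ⟨_, rfl⟩
  obtain ⟨α, hα, hαs⟩ := exists_aut_of_hom_self F hγ hval
  refine ⟨α, hα, ?_⟩
  intro x q y hq hy
  rw [hαs, hγs]
  congr 1
  apply Subtype.ext
  show γ₁ q = (y : Ω)
  rw [hγ₁s, hy]
  have hq' : q = ⟨θ₀ x, hθ₀r.le ⟨x, rfl⟩⟩ := Subtype.ext hq
  have : (⟨ι q, hιP₀ q⟩ : P₀) = x := by
    apply Subtype.ext
    show ι q = x
    rw [hq']
    exact hιs x _
  rw [this]
  rfl

end Cfsg.Agent.Lib.Helper9
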