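import Cfsg.Agent.Lib.Helper9.FusionOmit

set_option autoImplicit false

namespace Cfsg.Agent.Lib.Helper9

open Cfsg Cfsg.FusionSystem

variable {Ω : Type*} [Group Ω] {S : Subgroup Ω}

/-- The condition cutting out the subsystem that omits part of `Aut_F(Q)`. -/
def OmitCond (F : FusionSystem S) (Q : Subgroup Ω) (H : Subgroup (MulAut Q)) (P : Subgroup Ω)
    (φ : P →* Ω) : Prop :=
  ∀ (P₀ P₁ : Subgroup Ω) (hP₀ : P₀ ≤ P), F.IsConj Q P₀ → (P₀.subgroupOf P).map φ = P₁ →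
    ∀ (θ₀ : P₀ →* Ω) (θ₁ : P₁ →* Ω), GoodId F Q P₀ θ₀ → GoodId F Q P₁ θ₁ →
      ∀ α : MulAut Q, Compat φ hP₀ θ₀ θ₁ α → α ∈ H

theorem ne_top_of_isConj [Finite S] (F : FusionSystem S) {Q P₀ : Subgroup Ω} (hQne : Q ≠ S)
    (hconj : F.IsConj Q P₀) : P₀ ≠ S := by
  intro h
  apply hQne
  have hQS := (isConj_le F hconj).1
  apply Subgroup.eq_of_le_of_card_ge hQS
  have := card_eq_of_isConj F hconj
  rw [h] at this
  exact this.le

/-- The subsystem of `F` of the maps whose restrictions to the conjugates of `Q`, read as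
automorphisms of `Q` through good identifications, lie in `H`. -/
def omitSystem [Finite S] (p : ℕ) [Fact p.Prime] (hS : IsPGroup p S) (F : FusionSystem S)
    (Q : Subgroup Ω) (H : Subgroup (MulAut Q)) (hauto : F.IsFullyAutomized p Q)
    (hrec : F.IsReceptive Q) (hQne : Q ≠ S) (hH : extGens F Q ⊆ H) : FusionSystem S where
  Hom P := {φ | φ ∈ F.Hom P ∧ OmitCond F Q H P φ}
  le_of_mem h := F.le_of_mem h.1
  injective_of_mem h := F.injective_of_mem h.1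
  conj_mem := by
    intro P g hP hg
    refine ⟨F.conj_mem hP hg, ?_⟩
    intro P₀ P₁ hP₀ hconj himg θ₀ θ₁ h₀ h₁ α hc
    apply hH
    have hP₀S : P₀ ≤ S := hP₀.trans hP
    have hlt : P₀ < S := lt_of_le_of_ne hP₀S (ne_top_of_isConj F hQne hconj)
    have himg' : (P₀.subgroupOf S).map (conjHom S g) = P₁ := by
      rw [← himg]
      ext z
      constructor
      · rintro ⟨x, hx, rfl⟩
        exact ⟨⟨x, hP₀ (Subgroup.mem_subgroupOf.mp hx)⟩, Subgroup.mem_subgroupOf.mpr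
          (Subgroup.mem_subgroupOf.mp hx), rfl⟩
      · rintro ⟨x, hx, rfl⟩
        exact ⟨⟨x, hP x.2⟩, Subgroup.mem_subgroupOf.mpr (Subgroup.mem_subgroupOf.mp hx), rfl⟩
    exact mem_extGens_of_compat p hS F hlt (F.conj_mem le_rfl hg) himg' h₀ h₁ α
      (fun x q y hq hy => hc x q y hq hy)
  comp_mem := by
    intro P P₂ φ ψ hφ hψ h
    refine ⟨F.comp_mem hφ.1 hψ.1 h, ?_⟩
    intro P₀ P₂' hP₀ hconj himg θ₀ θ₂ h₀ h₂ α hc
    -- the intermediate subgroup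
    obtain ⟨P₁, hP₁def⟩ : ∃ P₁ : Subgroup Ω, (P₀.subgroupOf P).map φ = P₁ := ⟨_, rfl⟩
    have hP₁P₂ : P₁ ≤ P₂ := by
      rw [← hP₁def]
      rintro _ ⟨x, -, rfl⟩
      exact h x
    have hφ₀ := restrict_mem F hφ.1 hP₀
    have hconj₁ : F.IsConj Q P₁ := by
      refine isConj_trans F hconj ⟨_, hφ₀, ?_⟩
      rw [← hP₁def]
      ext y
      constructor
      · rintro ⟨x, rfl⟩
        exact ⟨Subgroup.inclusion hP₀ x, Subgroup.mem_subgroupOf.mpr x.2, rfl⟩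
      · rintro ⟨x, hx, rfl⟩
        exact ⟨⟨x, Subgroup.mem_subgroupOf.mp hx⟩, rfl⟩
    obtain ⟨θ₁, h₁⟩ := exists_goodId p hS F hauto hrec hconj₁
    obtain ⟨α₁, -, hc₁⟩ := exists_compat_aut F hφ.1 hP₀ hP₁def h₀.mem h₀.1 h₁.mem h₁.1
    have hα₁ : α₁ ∈ H := hφ.2 P₀ P₁ hP₀ hconj hP₁def θ₀ θ₁ h₀ h₁ α₁ hc₁
    have himg₂ : (P₁.subgroupOf P₂).map ψ = P₂' := by
      rw [← himg, ← hP₁def]
      ext z
      constructor
      · rintro ⟨y, hy, rfl⟩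
        obtain ⟨x, hx, hxy⟩ := Subgroup.mem_subgroupOf.mp hy
        refine ⟨x, hx, ?_⟩
        show ψ (φ.codRestrict P₂ h x) = ψ y
        congr 1
        exact Subtype.ext hxy
      · rintro ⟨x, hx, rfl⟩
        exact ⟨φ.codRestrict P₂ h x, Subgroup.mem_subgroupOf.mpr ⟨x, hx, rfl⟩, rfl⟩
    have hc₂ : Compat ψ hP₁P₂ θ₁ θ₂ (α * α₁⁻¹) := by
      intro x₁ q y hq hy
      have hx₁ : (x₁ : Ω) ∈ (P₀.subgroupOf P).map φ := by rw [hP₁def]; exact x₁.2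
      obtain ⟨x, hx, hxx₁⟩ := hx₁
      have hxP₀ : (x : Ω) ∈ P₀ := Subgroup.mem_subgroupOf.mp hx
      have hq₀mem : θ₀ ⟨x, hxP₀⟩ ∈ Q := h₀.1.le ⟨_, rfl⟩
      have h3 := hc₁ ⟨x, hxP₀⟩ ⟨θ₀ ⟨x, hxP₀⟩, hq₀mem⟩ x₁ rfl hxx₁.symm
      have h4 : α₁ ⟨θ₀ ⟨x, hxP₀⟩, hq₀mem⟩ = q := Subtype.ext (h3.trans hq.symm)
      have h5 : α₁⁻¹ q = ⟨θ₀ ⟨x, hxP₀⟩, hq₀mem⟩ := by
        rw [← h4]
        exact MulEquiv.symm_apply_apply α₁ _
      show ((α (α₁⁻¹ q) : Q) : Ω) = θ₂ y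
      rw [h5]
      apply hc ⟨x, hxP₀⟩ _ y rfl
      rw [hy]
      show ψ (Subgroup.inclusion hP₁P₂ x₁) = ψ (φ.codRestrict P₂ h (Subgroup.inclusion hP₀ ⟨x, hxP₀⟩))
      congr 1
      exact Subtype.ext hxx₁.symm
    have hα₂ : α * α₁⁻¹ ∈ H := hψ.2 P₁ P₂' hP₁P₂ hconj₁ himg₂ θ₁ θ₂ h₁ h₂ _ hc₂
    have : α = (α * α₁⁻¹) * α₁ := by group
    rw [this]
    exact H.mul_mem hα₂ hα₁
  inv_mem := by
    intro P φ hφ
    obtain ⟨ψ, hψ, hψs⟩ := F.inv_mem hφ.1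
    refine ⟨ψ, ⟨hψ, ?_⟩, hψs⟩
    intro P₀' P₁' hP₀' hconj himg θ₀' θ₁' h₀' h₁' α hc
    have hP₁'P : P₁' ≤ P := by
      rw [← himg]
      rintro _ ⟨⟨_, x, rfl⟩, -, rfl⟩
      rw [hψs x]
      exact x.2
    have hψ₀ := restrict_mem F hψ hP₀'
    have hconj₁ : F.IsConj Q P₁' := by
      refine isConj_trans F hconj ⟨_, hψ₀, ?_⟩
      rw [← himg]
      ext y
      constructor
      · rintro ⟨x, rfl⟩
        exact ⟨Subgroup.inclusion hP₀' x, Subgroup.mem_subgroupOf.mpr x.2, rfl⟩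
      · rintro ⟨x, hx, rfl⟩
        exact ⟨⟨x, Subgroup.mem_subgroupOf.mp hx⟩, rfl⟩
    have himg' : (P₁'.subgroupOf P).map φ = P₀' := by
      ext z
      constructor
      · rintro ⟨x, hx, rfl⟩
        have hx' : (x : Ω) ∈ (P₀'.subgroupOf φ.range).map ψ := by
          rw [himg]; exact Subgroup.mem_subgroupOf.mp hx
        obtain ⟨⟨_, w, rfl⟩, hw, hwx⟩ := hx'
        have hw' : φ w ∈ P₀' := Subgroup.mem_subgroupOf.mp hw
        rw [hψs w] at hwx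
        have : x = w := Subtype.ext hwx.symm
        rw [this]; exact hw'
      · intro hz
        have hzr : z ∈ φ.range := hP₀' hz
        obtain ⟨w, rfl⟩ := hzr
        refine ⟨w, ?_, rfl⟩
        rw [SetLike.mem_coe, Subgroup.mem_subgroupOf, ← himg]
        exact ⟨⟨φ w, ⟨w, rfl⟩⟩, Subgroup.mem_subgroupOf.mpr hz, hψs w⟩
    have hc' : Compat φ hP₁'P θ₁' θ₀' α⁻¹ := by
      intro x q y hq hy
      have hqmem : θ₀' y ∈ Q := h₀'.1.le ⟨_, rfl⟩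
      have hx : (x : Ω) = ψ (Subgroup.inclusion hP₀' y) := by
        have e : Subgroup.inclusion hP₀' y =
            ⟨φ (Subgroup.inclusion hP₁'P x), ⟨_, rfl⟩⟩ := Subtype.ext hy
        rw [e, hψs]
        rfl
      have h3 := hc y ⟨θ₀' y, hqmem⟩ x rfl hx
      have h4 : α ⟨θ₀' y, hqmem⟩ = q := Subtype.ext (h3.trans hq.symm)
      have h5 : α⁻¹ q = ⟨θ₀' y, hqmem⟩ := by
        rw [← h4]
        exact MulEquiv.symm_apply_apply α _
      rw [h5]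
    have := hφ.2 P₁' P₀' hP₁'P hconj₁ himg' θ₁' θ₀' h₁' h₀' α⁻¹ hc'
    exact (Subgroup.inv_mem_iff H).mp this

end Cfsg.Agent.Lib.Helper9
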