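import Cfsg.Agent.Lib.Helper9.FusionAlpInd
import Cfsg.Agent.Lib.Helper9.FusionHyp
import Cfsg.Agent.Lib.Helper9.FusionSat2
import Cfsg.Agent.Lib.Helper9.PResidual
import Cfsg.Agent.S5077

set_option autoImplicit false

namespace Cfsg.Agent.Lib.Helper9

open Cfsg Cfsg.FusionSystem

variable {Ω : Type*} [Group Ω] {S : Subgroup Ω}

/-- A saturated subsystem of `F` over `T` is contained in every system over `T` whose automorphism
groups contain the `O^p(Aut_F(P))`. -/
theorem le_of_pPowerIndex {T T' : Subgroup Ω} [Finite T] (p : ℕ) [Fact p.Prime] (hTT' : T = T')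
    (hTp : IsPGroup p T) (F : FusionSystem S) (E : FusionSystem T) (E' : FusionSystem T')
    (hEsat : E.IsSaturated p) (hEF : E.IsSubsystemOf F)
    (hE' : ∀ P : Subgroup Ω, P ≤ T' →
      (pResidual p (F.autGroup P)).map (F.autGroup P).subtype ≤ E'.autGroup P) :
    ∀ P : Subgroup Ω, E.Hom P ⊆ E'.Hom P := by
  subst hTT'
  have hTS : T ≤ S := (F.le_of_mem (hEF T (subtype_mem E le_rfl))).1
  intro P φ hφ
  refine alperin_induction p hTp E hEsat (fun P φ => φ ∈ E'.Hom P) ?_ ?_ ?_ ?_ P φ hφ
  · intro P hP g hg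
    exact E'.conj_mem hP hg
  · intro P Q φ ψ _ _ h hφ' hψ'
    exact E'.comp_mem hφ' hψ' h
  · intro P φ _ hφ' ψ _ hψs
    obtain ⟨ψ', hψ', hψ's⟩ := E'.inv_mem hφ'
    have : ψ = ψ' := by
      ext ⟨_, x, rfl⟩
      rw [hψs x, hψ's x]
    rw [this]; exact hψ'
  · intro U hU _ α hα
    have hUn : E.IsFullyNormalized U := by
      rcases hU with rfl | hess
      · exact isFullyNormalized_top E
      · exact hess.2.1
    have hUT : U ≤ T := hUn.1
    have hfinU : Finite U := finite_of_le' hUT
    obtain ⟨-, R, hR⟩ := (((Cfsg.Agent.S5077.result p hTp E).mp hEsat).1 U hUn).2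
    obtain ⟨r, hr, s, hs, hrs⟩ := exists_mul_pResidual_sylow p R ⟨α, hα⟩
    have hs' : (s : MulAut U) ∈ E'.autGroup U := by
      rw [hR] at hs
      exact autInducedBy_le_autGroup E' hUT (Subgroup.mem_subgroupOf.mp hs)
    have hr' : ∀ ρ : E.autGroup U, ρ ∈ pResidual p (E.autGroup U) →
        (ρ : MulAut U) ∈ E'.autGroup U := by
      intro ρ hρ
      unfold pResidual at hρ
      induction hρ using Subgroup.closure_induction with
      | mem ρ' hρ' =>
        have hρF : (ρ' : MulAut U) ∈ F.autGroup U := by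
          rw [mem_autGroup_iff F (hUT.trans hTS)]
          exact hEF U ((mem_autGroup_iff E hUT _).mp ρ'.2)
        apply hE' U hUT
        refine ⟨⟨ρ', hρF⟩, ?_, rfl⟩
        apply Subgroup.subset_closure
        show Nat.Coprime (orderOf (⟨(ρ' : MulAut U), hρF⟩ : F.autGroup U)) p
        have h1 : orderOf (⟨(ρ' : MulAut U), hρF⟩ : F.autGroup U) = orderOf (ρ' : MulAut U) :=
          (Subgroup.orderOf_coe _).symm
        have h2 : orderOf ρ' = orderOf (ρ' : MulAut U) := (Subgroup.orderOf_coe _).symm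
        rw [h1, ← h2]
        exact hρ'
      | one => exact Subgroup.one_mem _
      | mul a b _ _ iha ihb => exact Subgroup.mul_mem _ iha ihb
      | inv a _ iha => exact Subgroup.inv_mem _ iha
    have : α = (r : MulAut U) * (s : MulAut U) := by
      have := congrArg Subtype.val hrs
      exact this
    show U.subtype.comp α.toMonoidHom ∈ E'.Hom U
    rw [← mem_autGroup_iff E' hUT, this]
    exact Subgroup.mul_mem _ (hr' r hr) hs'

end Cfsg.Agent.Lib.Helper9
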