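import Cfsg.Prelude.Def_FusionComponents
import Cfsg.Agent.Lib.Helper9.Fusion3

set_option autoImplicit false

namespace Cfsg.Agent.Lib.Helper9

open Cfsg Cfsg.FusionSystem

variable {Ω₁ Ω₂ : Type*} [Group Ω₁] [Group Ω₂] {S₁ : Subgroup Ω₁} {S₂ : Subgroup Ω₂}

theorem fst_mem_map {P : Subgroup (Ω₁ × Ω₂)} (x : P) :
    (x : Ω₁ × Ω₂).1 ∈ P.map (MonoidHom.fst Ω₁ Ω₂) := ⟨x, x.2, rfl⟩

theorem snd_mem_map {P : Subgroup (Ω₁ × Ω₂)} (x : P) :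
    (x : Ω₁ × Ω₂).2 ∈ P.map (MonoidHom.snd Ω₁ Ω₂) := ⟨x, x.2, rfl⟩

/-- The direct product of two fusion systems. -/
def prodSystem (F₁ : FusionSystem S₁) (F₂ : FusionSystem S₂) : FusionSystem (S₁.prod S₂) where
  Hom P := {φ | P ≤ S₁.prod S₂ ∧
    ∃ φ₁ ∈ F₁.Hom (P.map (MonoidHom.fst Ω₁ Ω₂)), ∃ φ₂ ∈ F₂.Hom (P.map (MonoidHom.snd Ω₁ Ω₂)),
      ∀ (x : P) (h₁ : (x : Ω₁ × Ω₂).1 ∈ P.map (MonoidHom.fst Ω₁ Ω₂))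
        (h₂ : (x : Ω₁ × Ω₂).2 ∈ P.map (MonoidHom.snd Ω₁ Ω₂)),
        φ x = (φ₁ ⟨(x : Ω₁ × Ω₂).1, h₁⟩, φ₂ ⟨(x : Ω₁ × Ω₂).2, h₂⟩)}
  le_of_mem := by
    rintro P φ ⟨hP, φ₁, hφ₁, φ₂, hφ₂, h⟩
    refine ⟨hP, fun x => ?_⟩
    rw [h x (fst_mem_map x) (snd_mem_map x)]
    exact Subgroup.mem_prod.mpr ⟨(F₁.le_of_mem hφ₁).2 _, (F₂.le_of_mem hφ₂).2 _⟩
  injective_of_mem := by
    rintro P φ ⟨hP, φ₁, hφ₁, φ₂, hφ₂, h⟩ x y hxy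
    rw [h x (fst_mem_map x) (snd_mem_map x), h y (fst_mem_map y) (snd_mem_map y)] at hxy
    have h1 := F₁.injective_of_mem hφ₁ (congrArg Prod.fst hxy)
    have h2 := F₂.injective_of_mem hφ₂ (congrArg Prod.snd hxy)
    apply Subtype.ext
    exact Prod.ext (congrArg Subtype.val h1) (congrArg Subtype.val h2)
  conj_mem := by
    intro P g hP hg
    have hP₁ : P.map (MonoidHom.fst Ω₁ Ω₂) ≤ S₁ := by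
      rintro _ ⟨x, hx, rfl⟩; exact (Subgroup.mem_prod.mp (hP hx)).1
    have hP₂ : P.map (MonoidHom.snd Ω₁ Ω₂) ≤ S₂ := by
      rintro _ ⟨x, hx, rfl⟩; exact (Subgroup.mem_prod.mp (hP hx)).2
    refine ⟨hP, conjHom _ g.1, F₁.conj_mem hP₁ (Subgroup.mem_prod.mp hg).1,
      conjHom _ g.2, F₂.conj_mem hP₂ (Subgroup.mem_prod.mp hg).2, ?_⟩
    intro x h₁ h₂
    rfl
  comp_mem := by
    rintro P Q φ ψ ⟨hP, φ₁, hφ₁, φ₂, hφ₂, hφ⟩ ⟨hQ, ψ₁, hψ₁, ψ₂, hψ₂, hψ⟩ h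
    have hv₁ : ∀ x₁ : ↥(P.map (MonoidHom.fst Ω₁ Ω₂)), φ₁ x₁ ∈ Q.map (MonoidHom.fst Ω₁ Ω₂) := by
      rintro ⟨_, x, hx, rfl⟩
      refine ⟨φ ⟨x, hx⟩, h ⟨x, hx⟩, ?_⟩
      rw [hφ ⟨x, hx⟩ (fst_mem_map _) (snd_mem_map _)]
      rfl
    have hv₂ : ∀ x₂ : ↥(P.map (MonoidHom.snd Ω₁ Ω₂)), φ₂ x₂ ∈ Q.map (MonoidHom.snd Ω₁ Ω₂) := by
      rintro ⟨_, x, hx, rfl⟩
      refine ⟨φ ⟨x, hx⟩, h ⟨x, hx⟩, ?_⟩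
      rw [hφ ⟨x, hx⟩ (fst_mem_map _) (snd_mem_map _)]
      rfl
    refine ⟨hP, _, F₁.comp_mem hφ₁ hψ₁ hv₁, _, F₂.comp_mem hφ₂ hψ₂ hv₂, ?_⟩
    intro x h₁ h₂
    show ψ ⟨φ x, h x⟩ = (ψ₁ ⟨φ₁ ⟨_, h₁⟩, _⟩, ψ₂ ⟨φ₂ ⟨_, h₂⟩, _⟩)
    rw [hψ ⟨φ x, h x⟩ (fst_mem_map _) (snd_mem_map _)]
    have e := hφ x h₁ h₂
    congr 1
    · congr 1
      apply Subtype.ext
      show (φ x).1 = _
      rw [e]
    · congr 1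
      apply Subtype.ext
      show (φ x).2 = _
      rw [e]
  inv_mem := by
    rintro P φ ⟨hP, φ₁, hφ₁, φ₂, hφ₂, hφ⟩
    obtain ⟨ψ₁, hψ₁, hψ₁φ⟩ := F₁.inv_mem hφ₁
    obtain ⟨ψ₂, hψ₂, hψ₂φ⟩ := F₂.inv_mem hφ₂
    have hle₁ : φ.range.map (MonoidHom.fst Ω₁ Ω₂) ≤ φ₁.range := by
      rintro _ ⟨_, ⟨x, rfl⟩, rfl⟩
      refine ⟨⟨_, fst_mem_map x⟩, ?_⟩
      rw [hφ x (fst_mem_map _) (snd_mem_map _)]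
      rfl
    have hle₂ : φ.range.map (MonoidHom.snd Ω₁ Ω₂) ≤ φ₂.range := by
      rintro _ ⟨_, ⟨x, rfl⟩, rfl⟩
      refine ⟨⟨_, snd_mem_map x⟩, ?_⟩
      rw [hφ x (fst_mem_map _) (snd_mem_map _)]
      rfl
    have hφS : ∀ x : P, φ x ∈ S₁.prod S₂ := by
      intro x
      rw [hφ x (fst_mem_map x) (snd_mem_map x)]
      exact Subgroup.mem_prod.mpr ⟨(F₁.le_of_mem hφ₁).2 _, (F₂.le_of_mem hφ₂).2 _⟩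
    refine ⟨MonoidHom.prod
        ((ψ₁.comp (Subgroup.inclusion hle₁)).comp ((MonoidHom.fst Ω₁ Ω₂).subgroupMap φ.range))
        ((ψ₂.comp (Subgroup.inclusion hle₂)).comp ((MonoidHom.snd Ω₁ Ω₂).subgroupMap φ.range)),
      ⟨?_, ψ₁.comp (Subgroup.inclusion hle₁), restrict_mem F₁ hψ₁ hle₁,
        ψ₂.comp (Subgroup.inclusion hle₂), restrict_mem F₂ hψ₂ hle₂, ?_⟩, ?_⟩
    · rintro _ ⟨x, rfl⟩
      exact hφS x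
    · intro y h₁ h₂
      rfl
    · intro x
      have e := hφ x (fst_mem_map x) (snd_mem_map x)
      apply Prod.ext
      · show ψ₁ (Subgroup.inclusion hle₁ ⟨(φ x).1, _⟩) = (x : Ω₁ × Ω₂).1
        have h5 : ψ₁ ⟨φ₁ ⟨_, fst_mem_map x⟩, ⟨_, rfl⟩⟩ = (x : Ω₁ × Ω₂).1 := hψ₁φ ⟨_, fst_mem_map x⟩
        rw [← h5]
        congr 1
        apply Subtype.ext
        show (φ x).1 = _
        rw [e]
      · show ψ₂ (Subgroup.inclusion hle₂ ⟨(φ x).2, _⟩) = (x : Ω₁ × Ω₂).2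
        have h5 : ψ₂ ⟨φ₂ ⟨_, snd_mem_map x⟩, ⟨_, rfl⟩⟩ = (x : Ω₁ × Ω₂).2 := hψ₂φ ⟨_, snd_mem_map x⟩
        rw [← h5]
        congr 1
        apply Subtype.ext
        show (φ x).2 = _
        rw [e]

end Cfsg.Agent.Lib.Helper9
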