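import Cfsg.Agent.Lib.Helper9.FusionSat4

set_option autoImplicit false

namespace Cfsg.Agent.Lib.Helper9

open Cfsg Cfsg.FusionSystem

/-- In a finite group, a `p`-subgroup that is not of Sylow order is normalized by a `p`-element outside
it. -/
theorem exists_normalizing_of_not_sylow {G : Type*} [Group G] [Finite G] (p : ℕ) [hp : Fact p.Prime]
    {B : Subgroup G} (hB : IsPGroup p B) (hne : Nat.card B ≠ p ^ (Nat.card G).factorization p) :
    ∃ t : G, t ∉ B ∧ (∀ b ∈ B, t * b * t⁻¹ ∈ B) ∧ ∃ k : ℕ, orderOf t = p ^ k := by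
  obtain ⟨T, hBT⟩ := hB.exists_le_sylow
  have hTcard := T.card_eq_multiplicity
  have hTp : IsPGroup p (T : Subgroup G) := T.isPGroup'
  have hnil : Group.IsNilpotent (T : Subgroup G) := hTp.isNilpotent
  have hnc : NormalizerCondition (T : Subgroup G) := Group.normalizerCondition_of_isNilpotent
  have hlt : B.subgroupOf (T : Subgroup G) < ⊤ := by
    rw [lt_top_iff_ne_top]
    intro h
    apply hne
    have hTB : (T : Subgroup G) ≤ B := by
      intro x hx
      have : (⟨x, hx⟩ : (T : Subgroup G)) ∈ B.subgroupOf (T : Subgroup G) := by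
        rw [h]; exact Subgroup.mem_top _
      exact Subgroup.mem_subgroupOf.mp this
    rw [le_antisymm hBT hTB]
    exact hTcard
  have h1 := hnc _ hlt
  obtain ⟨t, htN, htB⟩ := SetLike.exists_of_lt h1
  refine ⟨t, fun h => htB (Subgroup.mem_subgroupOf.mpr h), ?_, ?_⟩
  · intro b hb
    have := (Subgroup.mem_normalizer_iff.mp htN ⟨b, hBT hb⟩).mp (Subgroup.mem_subgroupOf.mpr hb)
    exact Subgroup.mem_subgroupOf.mp this
  · obtain ⟨k, hk⟩ := hTp t
    have hk' : (t : G) ^ p ^ k = 1 := by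
      have := congrArg Subtype.val hk
      simpa using this
    have hdvd : orderOf (t : G) ∣ p ^ k := orderOf_dvd_of_pow_eq_one hk'
    obtain ⟨j, -, hj⟩ := (Nat.dvd_prime_pow hp.out).mp hdvd
    exact ⟨j, hj⟩

/-- For a finite subgroup, conjugation into the subgroup gives membership in the normalizer. -/
theorem mem_normalizer_of_conj_mem_of_finite {Ω : Type*} [Group Ω] {P : Subgroup Ω} [Finite P] {s : Ω}
    (h : ∀ x ∈ P, s * x * s⁻¹ ∈ P) : s ∈ Subgroup.normalizer (P : Set Ω) := by
  rw [Subgroup.mem_normalizer_iff]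
  intro z
  refine ⟨h z, ?_⟩
  intro hz
  have hinj : Function.Injective (fun x : P => (⟨s * x * s⁻¹, h x x.2⟩ : P)) := by
    intro x y hxy
    have h1 : s * (x : Ω) * s⁻¹ = s * (y : Ω) * s⁻¹ := congrArg Subtype.val hxy
    exact Subtype.ext (mul_left_cancel (mul_right_cancel h1))
  have hsurj := (Finite.injective_iff_surjective.mp hinj) ⟨s * z * s⁻¹, hz⟩
  obtain ⟨x, hx⟩ := hsurj
  have h1 : s * (x : Ω) * s⁻¹ = s * z * s⁻¹ := congrArg Subtype.val hx
  have h2 : (x : Ω) = z := mul_left_cancel (mul_right_cancel h1)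
  rw [← h2]; exact x.2

/-- Restriction of automorphisms commutes with powers. -/
theorem restrict_pow {Ω : Type*} [Group Ω] {P R : Subgroup Ω} (hPR : P ≤ R) (α : MulAut R)
    (φ : MulAut P) (h : ∀ x : P, ((α (Subgroup.inclusion hPR x) : R) : Ω) = φ x) (k : ℕ) :
    ∀ x : P, (((α ^ k) (Subgroup.inclusion hPR x) : R) : Ω) = (φ ^ k) x := by
  induction k with
  | zero => intro x; rfl
  | succ k ih =>
    intro x
    rw [pow_succ, pow_succ]
    show (((α ^ k) (α (Subgroup.inclusion hPR x)) : R) : Ω) = (φ ^ k) (φ x)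
    have h1 : α (Subgroup.inclusion hPR x) = Subgroup.inclusion hPR (φ x) := Subtype.ext (h x)
    rw [h1]
    exact ih (φ x)

end Cfsg.Agent.Lib.Helper9
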