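import Cfsg.Agent.Lib.Helper9.KNorm2
import Cfsg.Agent.Lib.Helper9.SylowConj
import Cfsg.Agent.Lib.Helper9.FusionCalc

set_option autoImplicit false

namespace Cfsg.Agent.Lib.Helper9

open Cfsg Cfsg.FusionSystem

variable {Ω : Type*} [Group Ω] {S : Subgroup Ω}

/-- Step 1a: a `p`-subgroup `Y` of `Aut_F(U)` can be moved into `Aut_S(V)` for a fully automized
receptive conjugate `V` of `U`. -/
theorem exists_iso_sylow_conj [Finite S] (p : ℕ) [Fact p.Prime] (F : FusionSystem S)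
    (hF : F.IsSaturated p) {U : Subgroup Ω} (hU : U ≤ S) (Y : Subgroup (MulAut U))
    (hYF : Y ≤ F.autGroup U) (hYp : IsPGroup p Y) :
    ∃ (V : Subgroup Ω) (ψ₁ : U →* Ω), ψ₁ ∈ F.Hom U ∧ ψ₁.range = V ∧ F.IsFullyAutomized p V ∧
      F.IsReceptive V ∧ ∀ y ∈ Y, ∃ s ∈ S, s ∈ Subgroup.normalizer (V : Set Ω) ∧
        ∀ u : U, ψ₁ (y u) = s * ψ₁ u * s⁻¹ := by
  obtain ⟨V, ⟨ψ₀, hψ₀, hψ₀r⟩, hauto, hrec⟩ := hF U hU
  obtain ⟨hVS, Syl, hSyl⟩ := hauto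
  have hfinV : Finite V := finite_of_le' hVS
  obtain ⟨ψ₀', ψ₀i, hψ₀', hψ₀i, hψ₀i', -⟩ := exists_iso_data F hψ₀ hψ₀r
  have hmap := map_congr_autGroup_le F hψ₀ ψ₀' ψ₀i hψ₀' hψ₀i hψ₀i'
  -- the transported subgroup
  have hY₀le : Y.map (MulAut.congr ψ₀').toMonoidHom ≤ F.autGroup V :=
    (Subgroup.map_mono hYF).trans hmap
  have hY₀p : IsPGroup p ((Y.map (MulAut.congr ψ₀').toMonoidHom).subgroupOf (F.autGroup V)) :=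
    (hYp.map _).comap_subtype
  obtain ⟨β, hβ⟩ := exists_conj_le_sylow p Syl hY₀p
  have hβF : V.subtype.comp (β : MulAut V).toMonoidHom ∈ F.Hom V :=
    (mem_autGroup_iff F hVS _).mp β.2
  have hψ₀V : ∀ x : U, ψ₀ x ∈ V := fun x => by rw [← hψ₀r]; exact ⟨x, rfl⟩
  have hψ₁ := F.comp_mem hψ₀ hβF hψ₀V
  refine ⟨V, _, hψ₁, ?_, ⟨hVS, Syl, hSyl⟩, hrec, ?_⟩
  · ext z
    constructor
    · rintro ⟨x, rfl⟩
      exact ((β : MulAut V) _).2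
    · intro hz
      have h1 : (((β : MulAut V)⁻¹ ⟨z, hz⟩ : V) : Ω) ∈ ψ₀.range := by
        rw [hψ₀r]; exact ((β : MulAut V)⁻¹ ⟨z, hz⟩).2
      obtain ⟨x, hx⟩ := h1
      refine ⟨x, ?_⟩
      show (((β : MulAut V) ⟨ψ₀ x, hψ₀V x⟩ : V) : Ω) = z
      have e : (⟨ψ₀ x, hψ₀V x⟩ : V) = (β : MulAut V)⁻¹ ⟨z, hz⟩ := Subtype.ext hx
      rw [e, MulAut.apply_inv_self]
  · intro y hy
    have hy₀ : MulAut.congr ψ₀' y ∈ F.autGroup V := hY₀le ⟨y, hy, rfl⟩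
    have hmem : β * ⟨MulAut.congr ψ₀' y, hy₀⟩ * β⁻¹ ∈ (Syl : Subgroup (F.autGroup V)) :=
      hβ ⟨_, Subgroup.mem_subgroupOf.mpr ⟨y, hy, rfl⟩, rfl⟩
    rw [hSyl, Subgroup.mem_subgroupOf, autInducedBy_eq_map] at hmem
    obtain ⟨n, hn, hne⟩ := hmem
    refine ⟨n, Subgroup.mem_subgroupOf.mp hn, n.2, fun u => ?_⟩
    show (((β : MulAut V) ⟨ψ₀ (y u), hψ₀V _⟩ : V) : Ω) =
      (n : Ω) * (((β : MulAut V) ⟨ψ₀ u, hψ₀V u⟩ : V) : Ω) * (n : Ω)⁻¹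
    have h1 : (normConj V n) ((β : MulAut V) ⟨ψ₀ u, hψ₀V u⟩) =
        ((β : MulAut V) * MulAut.congr ψ₀' y * (β : MulAut V)⁻¹)
          ((β : MulAut V) ⟨ψ₀ u, hψ₀V u⟩) := by
      rw [hne]
      rfl
    rw [MulAut.mul_apply, MulAut.mul_apply, MulAut.inv_apply_self] at h1
    have h2 : MulAut.congr ψ₀' y ⟨ψ₀ u, hψ₀V u⟩ = ⟨ψ₀ (y u), hψ₀V _⟩ := by
      have e : (⟨ψ₀ u, hψ₀V u⟩ : V) = ψ₀' u := Subtype.ext (hψ₀' u).symm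
      rw [e]
      show ψ₀' (y (ψ₀'.symm (ψ₀' u))) = _
      rw [MulEquiv.symm_apply_apply]
      exact Subtype.ext (hψ₀' _)
    rw [h2] at h1
    rw [← h1, normConj_apply]

end Cfsg.Agent.Lib.Helper9
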