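import Cfsg.Agent.Lib.Helper9.FusionProd
import Cfsg.Agent.Lib.Helper9.KNorm3
import Cfsg.Agent.Lib.Helper9.FusionFactorAut
import Cfsg.Agent.Lib.Helper9.FusionSat5
import Cfsg.Agent.Lib.Helper9.FusionMorph

set_option autoImplicit false
set_option maxHeartbeats 1600000

namespace Cfsg.Agent.Lib.Helper9

open Cfsg Cfsg.FusionSystem

section Push

variable {Ω Ω' : Type*} [Group Ω] [Group Ω']

/-- `α'` is induced by `y` along `f`. -/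
def PushRel (f : Ω →* Ω') {P : Subgroup Ω} (y : MulAut P) (α' : MulAut ↥(P.map f)) : Prop :=
  ∀ x : P, f ((y x : P) : Ω) = ((α' ⟨f x, Subgroup.mem_map_of_mem f x.2⟩ : ↥(P.map f)) : Ω')

variable {f : Ω →* Ω'} {P : Subgroup Ω}

theorem PushRel.one : PushRel f (1 : MulAut P) 1 := fun _ => rfl

theorem PushRel.mul {y y' : MulAut P} {α α' : MulAut ↥(P.map f)} (h : PushRel f y α)
    (h' : PushRel f y' α') : PushRel f (y * y') (α * α') := by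
  intro x
  show f ((y (y' x) : P) : Ω) = ((α (α' ⟨f x, _⟩) : ↥(P.map f)) : Ω')
  rw [h (y' x)]
  have e : (⟨f ((y' x : P) : Ω), Subgroup.mem_map_of_mem f (y' x).2⟩ : ↥(P.map f)) =
      α' ⟨f x, Subgroup.mem_map_of_mem f x.2⟩ := Subtype.ext (h' x)
  rw [e]

theorem PushRel.inv {y : MulAut P} {α : MulAut ↥(P.map f)} (h : PushRel f y α) :
    PushRel f y⁻¹ α⁻¹ := by
  intro x
  have h1 := h (y⁻¹ x)
  rw [MulAut.apply_inv_self] at h1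
  have e : α ⟨f ((y⁻¹ x : P) : Ω), Subgroup.mem_map_of_mem f (y⁻¹ x).2⟩ =
      ⟨f x, Subgroup.mem_map_of_mem f x.2⟩ := Subtype.ext h1.symm
  have e2 : α⁻¹ ⟨f x, Subgroup.mem_map_of_mem f x.2⟩ =
      ⟨f ((y⁻¹ x : P) : Ω), Subgroup.mem_map_of_mem f (y⁻¹ x).2⟩ := by
    rw [← e, MulAut.inv_apply_self]
  rw [e2]

theorem PushRel.pow {y : MulAut P} {α : MulAut ↥(P.map f)} (h : PushRel f y α) (n : ℕ) :
    PushRel f (y ^ n) (α ^ n) := by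
  induction n with
  | zero =>
    rw [pow_zero, pow_zero]
    exact PushRel.one
  | succ n ih =>
    rw [pow_succ, pow_succ]
    exact ih.mul h

theorem PushRel.unique {y : MulAut P} {α α' : MulAut ↥(P.map f)} (h : PushRel f y α)
    (h' : PushRel f y α') : α = α' := by
  ext ⟨_, x, hx, rfl⟩
  exact (h ⟨x, hx⟩).symm.trans (h' ⟨x, hx⟩)

/-- The automorphisms of `f(P)` induced by the elements of `Y`. -/
def pushAut (f : Ω →* Ω') {P : Subgroup Ω} (Y : Subgroup (MulAut P)) :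
    Subgroup (MulAut ↥(P.map f)) where
  carrier := {α | ∃ y ∈ Y, PushRel f y α}
  one_mem' := ⟨1, Y.one_mem, PushRel.one⟩
  mul_mem' := by
    rintro a b ⟨y, hy, h⟩ ⟨y', hy', h'⟩
    exact ⟨y * y', Y.mul_mem hy hy', h.mul h'⟩
  inv_mem' := by
    rintro a ⟨y, hy, h⟩
    exact ⟨y⁻¹, Y.inv_mem hy, h.inv⟩

theorem isPGroup_pushAut (p : ℕ) {Y : Subgroup (MulAut P)} (hY : IsPGroup p Y) :
    IsPGroup p (pushAut f Y) := by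
  rintro ⟨α, y, hy, h⟩
  obtain ⟨k, hk⟩ := hY ⟨y, hy⟩
  have hk' : y ^ p ^ k = 1 := by
    have := congrArg Subtype.val hk
    simpa using this
  refine ⟨k, Subtype.ext ?_⟩
  rw [Subgroup.coe_pow, Subgroup.coe_one]
  show α ^ p ^ k = 1
  have h1 := h.pow (p ^ k)
  rw [hk'] at h1
  exact h1.unique PushRel.one

end Push

variable {Ω₁ Ω₂ : Type*} [Group Ω₁] [Group Ω₂] {S₁ : Subgroup Ω₁} {S₂ : Subgroup Ω₂}

/-- The product of two maps, restricted to a subgroup of the product of their sources. -/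
def prodMap {A₁ : Subgroup Ω₁} {A₂ : Subgroup Ω₂} (f₁ : A₁ →* Ω₁) (f₂ : A₂ →* Ω₂)
    (P : Subgroup (Ω₁ × Ω₂)) (hP : P ≤ A₁.prod A₂) : P →* Ω₁ × Ω₂ :=
  MonoidHom.prod
    (f₁.comp (((MonoidHom.fst Ω₁ Ω₂).comp P.subtype).codRestrict A₁
      (fun x => (Subgroup.mem_prod.mp (hP x.2)).1)))
    (f₂.comp (((MonoidHom.snd Ω₁ Ω₂).comp P.subtype).codRestrict A₂
      (fun x => (Subgroup.mem_prod.mp (hP x.2)).2)))

theorem prodMap_apply {A₁ : Subgroup Ω₁} {A₂ : Subgroup Ω₂} (f₁ : A₁ →* Ω₁) (f₂ : A₂ →* Ω₂)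
    (P : Subgroup (Ω₁ × Ω₂)) (hP : P ≤ A₁.prod A₂) (x : P) :
    prodMap f₁ f₂ P hP x = (f₁ ⟨(x : Ω₁ × Ω₂).1, (Subgroup.mem_prod.mp (hP x.2)).1⟩,
      f₂ ⟨(x : Ω₁ × Ω₂).2, (Subgroup.mem_prod.mp (hP x.2)).2⟩) := rfl

theorem le_prod_map (P : Subgroup (Ω₁ × Ω₂)) :
    P ≤ (P.map (MonoidHom.fst Ω₁ Ω₂)).prod (P.map (MonoidHom.snd Ω₁ Ω₂)) :=
  fun x hx => Subgroup.mem_prod.mpr ⟨⟨x, hx, rfl⟩, ⟨x, hx, rfl⟩⟩

theorem map_fst_le {P : Subgroup (Ω₁ × Ω₂)} {A₁ : Subgroup Ω₁} {A₂ : Subgroup Ω₂}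
    (hP : P ≤ A₁.prod A₂) : P.map (MonoidHom.fst Ω₁ Ω₂) ≤ A₁ := by
  rintro _ ⟨x, hx, rfl⟩
  exact (Subgroup.mem_prod.mp (hP hx)).1

theorem map_snd_le {P : Subgroup (Ω₁ × Ω₂)} {A₁ : Subgroup Ω₁} {A₂ : Subgroup Ω₂}
    (hP : P ≤ A₁.prod A₂) : P.map (MonoidHom.snd Ω₁ Ω₂) ≤ A₂ := by
  rintro _ ⟨x, hx, rfl⟩
  exact (Subgroup.mem_prod.mp (hP hx)).2

theorem prodMap_mem {F₁ : FusionSystem S₁} {F₂ : FusionSystem S₂}
    {E : FusionSystem (S₁.prod S₂)} (hE : IsProductSystem F₁ F₂ E)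
    {A₁ : Subgroup Ω₁} {A₂ : Subgroup Ω₂} {f₁ : A₁ →* Ω₁} {f₂ : A₂ →* Ω₂}
    (hf₁ : f₁ ∈ F₁.Hom A₁) (hf₂ : f₂ ∈ F₂.Hom A₂) (P : Subgroup (Ω₁ × Ω₂))
    (hP : P ≤ A₁.prod A₂) : prodMap f₁ f₂ P hP ∈ E.Hom P := by
  rw [hE]
  exact ⟨hP.trans (Subgroup.prod_mono (F₁.le_of_mem hf₁).1 (F₂.le_of_mem hf₂).1),
    f₁.comp (Subgroup.inclusion (map_fst_le hP)), restrict_mem F₁ hf₁ _,
    f₂.comp (Subgroup.inclusion (map_snd_le hP)), restrict_mem F₂ hf₂ _, fun x h₁ h₂ => rfl⟩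

theorem exists_of_mem_prod {F₁ : FusionSystem S₁} {F₂ : FusionSystem S₂}
    {E : FusionSystem (S₁.prod S₂)} (hE : IsProductSystem F₁ F₂ E)
    {P : Subgroup (Ω₁ × Ω₂)} {φ : P →* Ω₁ × Ω₂} (hφ : φ ∈ E.Hom P) :
    ∃ f₁ ∈ F₁.Hom (P.map (MonoidHom.fst Ω₁ Ω₂)), ∃ f₂ ∈ F₂.Hom (P.map (MonoidHom.snd Ω₁ Ω₂)),
      ∀ x : P, φ x = (f₁ ⟨(x : Ω₁ × Ω₂).1, fst_mem_map x⟩, f₂ ⟨(x : Ω₁ × Ω₂).2, snd_mem_map x⟩) := by
  rw [hE] at hφ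
  obtain ⟨-, f₁, hf₁, f₂, hf₂, h⟩ := hφ
  exact ⟨f₁, hf₁, f₂, hf₂, fun x => h x _ _⟩

theorem isPGroup_prod' (p : ℕ) (h₁ : IsPGroup p S₁) (h₂ : IsPGroup p S₂) :
    IsPGroup p ↥(S₁.prod S₂) := by
  intro g
  obtain ⟨a, ha⟩ := h₁ ⟨(g : Ω₁ × Ω₂).1, (Subgroup.mem_prod.mp g.2).1⟩
  obtain ⟨b, hb⟩ := h₂ ⟨(g : Ω₁ × Ω₂).2, (Subgroup.mem_prod.mp g.2).2⟩
  have ha' : (g : Ω₁ × Ω₂).1 ^ p ^ a = 1 := by
    have := congrArg Subtype.val ha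
    simpa using this
  have hb' : (g : Ω₁ × Ω₂).2 ^ p ^ b = 1 := by
    have := congrArg Subtype.val hb
    simpa using this
  refine ⟨a + b, Subtype.ext ?_⟩
  rw [Subgroup.coe_pow, Subgroup.coe_one]
  apply Prod.ext
  · show (g : Ω₁ × Ω₂).1 ^ p ^ (a + b) = 1
    rw [pow_add, pow_mul, ha', one_pow]
  · show (g : Ω₁ × Ω₂).2 ^ p ^ (a + b) = 1
    rw [pow_add, mul_comm, pow_mul, hb', one_pow]

theorem finite_prod' [Finite S₁] [Finite S₂] : Finite ↥(S₁.prod S₂) :=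
  Finite.of_equiv (S₁ × S₂) (Subgroup.prodEquiv S₁ S₂).symm.toEquiv

end Cfsg.Agent.Lib.Helper9
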