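import Cfsg.Agent.Lib.Helper9.FusionProdSat

set_option autoImplicit false
set_option maxHeartbeats 1600000

namespace Cfsg.Agent.Lib.Helper9

open Cfsg Cfsg.FusionSystem

variable {Ω₁ Ω₂ : Type*} [Group Ω₁] [Group Ω₂] {S₁ : Subgroup Ω₁} {S₂ : Subgroup Ω₂}

theorem exists_pushRel_fst [Finite S₁] {F₁ : FusionSystem S₁} {F₂ : FusionSystem S₂}
    {E : FusionSystem (S₁.prod S₂)} (hE : IsProductSystem F₁ F₂ E)
    {P : Subgroup (Ω₁ × Ω₂)} (hPS : P ≤ S₁.prod S₂) {y : MulAut P} (hy : y ∈ E.autGroup P) :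
    ∃ α₁ ∈ F₁.autGroup (P.map (MonoidHom.fst Ω₁ Ω₂)), PushRel (MonoidHom.fst Ω₁ Ω₂) y α₁ := by
  have hyE := (mem_autGroup_iff E hPS y).mp hy
  obtain ⟨f₁, hf₁, f₂, hf₂, h⟩ := exists_of_mem_prod hE hyE
  have hval : ∀ u : ↥(P.map (MonoidHom.fst Ω₁ Ω₂)), f₁ u ∈ P.map (MonoidHom.fst Ω₁ Ω₂) := by
    rintro ⟨_, x, hx, rfl⟩
    refine ⟨((y ⟨x, hx⟩ : P) : Ω₁ × Ω₂), (y ⟨x, hx⟩).2, ?_⟩
    exact congrArg Prod.fst (h ⟨x, hx⟩)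
  obtain ⟨α₁, hα₁, hα₁f⟩ := exists_aut_of_hom_self F₁ hf₁ hval
  refine ⟨α₁, hα₁, fun x => ?_⟩
  rw [hα₁f]
  exact congrArg Prod.fst (h x)

theorem exists_pushRel_snd [Finite S₂] {F₁ : FusionSystem S₁} {F₂ : FusionSystem S₂}
    {E : FusionSystem (S₁.prod S₂)} (hE : IsProductSystem F₁ F₂ E)
    {P : Subgroup (Ω₁ × Ω₂)} (hPS : P ≤ S₁.prod S₂) {y : MulAut P} (hy : y ∈ E.autGroup P) :
    ∃ α₂ ∈ F₂.autGroup (P.map (MonoidHom.snd Ω₁ Ω₂)), PushRel (MonoidHom.snd Ω₁ Ω₂) y α₂ := by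
  have hyE := (mem_autGroup_iff E hPS y).mp hy
  obtain ⟨f₁, hf₁, f₂, hf₂, h⟩ := exists_of_mem_prod hE hyE
  have hval : ∀ u : ↥(P.map (MonoidHom.snd Ω₁ Ω₂)), f₂ u ∈ P.map (MonoidHom.snd Ω₁ Ω₂) := by
    rintro ⟨_, x, hx, rfl⟩
    refine ⟨((y ⟨x, hx⟩ : P) : Ω₁ × Ω₂), (y ⟨x, hx⟩).2, ?_⟩
    exact congrArg Prod.snd (h ⟨x, hx⟩)
  obtain ⟨α₂, hα₂, hα₂f⟩ := exists_aut_of_hom_self F₂ hf₂ hval
  refine ⟨α₂, hα₂, fun x => ?_⟩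
  rw [hα₂f]
  exact congrArg Prod.snd (h x)

theorem pushAut_fst_le [Finite S₁] {F₁ : FusionSystem S₁} {F₂ : FusionSystem S₂}
    {E : FusionSystem (S₁.prod S₂)} (hE : IsProductSystem F₁ F₂ E)
    {P : Subgroup (Ω₁ × Ω₂)} (hPS : P ≤ S₁.prod S₂) {Y : Subgroup (MulAut P)}
    (hY : Y ≤ E.autGroup P) :
    pushAut (MonoidHom.fst Ω₁ Ω₂) Y ≤ F₁.autGroup (P.map (MonoidHom.fst Ω₁ Ω₂)) := by
  rintro α ⟨y, hy, h⟩
  obtain ⟨α₁, hα₁, h₁⟩ := exists_pushRel_fst hE hPS (hY hy)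
  rw [h.unique h₁]
  exact hα₁

theorem pushAut_snd_le [Finite S₂] {F₁ : FusionSystem S₁} {F₂ : FusionSystem S₂}
    {E : FusionSystem (S₁.prod S₂)} (hE : IsProductSystem F₁ F₂ E)
    {P : Subgroup (Ω₁ × Ω₂)} (hPS : P ≤ S₁.prod S₂) {Y : Subgroup (MulAut P)}
    (hY : Y ≤ E.autGroup P) :
    pushAut (MonoidHom.snd Ω₁ Ω₂) Y ≤ F₂.autGroup (P.map (MonoidHom.snd Ω₁ Ω₂)) := by
  rintro α ⟨y, hy, h⟩
  obtain ⟨α₂, hα₂, h₂⟩ := exists_pushRel_snd hE hPS (hY hy)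
  rw [h.unique h₂]
  exact hα₂

/-- The direct product of two saturated fusion systems is saturated. -/
theorem prod_saturated [Finite S₁] [Finite S₂] (p : ℕ) [Fact p.Prime] (h₁ : IsPGroup p S₁)
    (h₂ : IsPGroup p S₂) (F₁ : FusionSystem S₁) (F₂ : FusionSystem S₂) (hF₁ : F₁.IsSaturated p)
    (hF₂ : F₂.IsSaturated p) (E : FusionSystem (S₁.prod S₂)) (hE : IsProductSystem F₁ F₂ E) :
    E.IsSaturated p := by
  haveI : Finite ↥(S₁.prod S₂) := finite_prod'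
  have hS := isPGroup_prod' p h₁ h₂
  intro P hPS
  have hP₁S : P.map (MonoidHom.fst Ω₁ Ω₂) ≤ S₁ := map_fst_le hPS
  have hP₂S : P.map (MonoidHom.snd Ω₁ Ω₂) ≤ S₂ := map_snd_le hPS
  haveI hfinP : Finite P := finite_of_le' hPS
  obtain ⟨Y₀⟩ : Nonempty (Sylow p ↥(E.autGroup P)) := inferInstance
  have hYle : (Y₀ : Subgroup ↥(E.autGroup P)).map (E.autGroup P).subtype ≤ E.autGroup P := by
    rintro _ ⟨a, -, rfl⟩
    exact a.2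
  have hYp : IsPGroup p ((Y₀ : Subgroup ↥(E.autGroup P)).map (E.autGroup P).subtype) :=
    Y₀.2.map _
  have hYcard : Nat.card ((Y₀ : Subgroup ↥(E.autGroup P)).map (E.autGroup P).subtype) =
      p ^ (Nat.card (E.autGroup P)).factorization p := by
    rw [Subgroup.card_map_of_injective (Subgroup.subtype_injective _)]
    exact Y₀.card_eq_multiplicity
  obtain ⟨V₁, ψ₁, hψ₁, hψ₁r, hauto₁, hrec₁, hconj₁⟩ := exists_iso_sylow_conj p F₁ hF₁ hP₁S _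
    (pushAut_fst_le hE hPS hYle) (isPGroup_pushAut p hYp)
  obtain ⟨V₂, ψ₂, hψ₂, hψ₂r, hauto₂, hrec₂, hconj₂⟩ := exists_iso_sylow_conj p F₂ hF₂ hP₂S _
    (pushAut_snd_le hE hPS hYle) (isPGroup_pushAut p hYp)
  subst hψ₁r
  subst hψ₂r
  obtain ⟨ψ, hψdef⟩ : ∃ ψ : P →* Ω₁ × Ω₂, ψ = prodMap ψ₁ ψ₂ P (le_prod_map P) := ⟨_, rfl⟩
  have hψE : ψ ∈ E.Hom P := by
    rw [hψdef]
    exact prodMap_mem hE hψ₁ hψ₂ P (le_prod_map P)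
  have hψval : ∀ x : P, ψ x = (ψ₁ ⟨(x : Ω₁ × Ω₂).1, fst_mem_map x⟩,
      ψ₂ ⟨(x : Ω₁ × Ω₂).2, snd_mem_map x⟩) := by
    intro x
    rw [hψdef]
    rfl
  obtain ⟨Q, hψr⟩ : ∃ Q, ψ.range = Q := ⟨_, rfl⟩
  have hQ₁ : Q.map (MonoidHom.fst Ω₁ Ω₂) = ψ₁.range := by
    rw [← hψr]
    ext v
    constructor
    · rintro ⟨_, ⟨x, rfl⟩, rfl⟩
      exact ⟨⟨_, fst_mem_map x⟩, by rw [hψval x]; rfl⟩
    · rintro ⟨⟨_, x, hx, rfl⟩, rfl⟩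
      exact ⟨ψ ⟨x, hx⟩, ⟨_, rfl⟩, by rw [hψval]; rfl⟩
  have hQ₂ : Q.map (MonoidHom.snd Ω₁ Ω₂) = ψ₂.range := by
    rw [← hψr]
    ext v
    constructor
    · rintro ⟨_, ⟨x, rfl⟩, rfl⟩
      exact ⟨⟨_, snd_mem_map x⟩, by rw [hψval x]; rfl⟩
    · rintro ⟨⟨_, x, hx, rfl⟩, rfl⟩
      exact ⟨ψ ⟨x, hx⟩, ⟨_, rfl⟩, by rw [hψval]; rfl⟩
  have hQS : Q ≤ S₁.prod S₂ := by
    rw [← hψr]
    rintro _ ⟨x, rfl⟩
    exact (E.le_of_mem hψE).2 x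
  haveI hfinQ : Finite Q := finite_of_le' hQS
  refine ⟨Q, ⟨ψ, hψE, hψr⟩, ?_, ?_⟩
  · -- fully automized
    obtain ⟨ψ', ψi, hψ', hψi, hψi', -⟩ := exists_iso_data E hψE hψr
    have hle : autInducedBy (S₁.prod S₂) Q ≤ E.autGroup Q := autInducedBy_le_autGroup E hQS
    have hDp : IsPGroup p (autInducedBy (S₁.prod S₂) Q) := isPGroup_autInducedBy p hS Q
    have hY' : (((Y₀ : Subgroup ↥(E.autGroup P)).map (E.autGroup P).subtype).map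
        (MulAut.congr ψ').toMonoidHom) ≤ autInducedBy (S₁.prod S₂) Q := by
      rintro _ ⟨y, hy, rfl⟩
      obtain ⟨α₁, hα₁, hr₁⟩ := exists_pushRel_fst hE hPS (hYle hy)
      obtain ⟨α₂, hα₂, hr₂⟩ := exists_pushRel_snd hE hPS (hYle hy)
      obtain ⟨s₁, hs₁S, hs₁N, hs₁⟩ := hconj₁ α₁ ⟨y, hy, hr₁⟩
      obtain ⟨s₂, hs₂S, hs₂N, hs₂⟩ := hconj₂ α₂ ⟨y, hy, hr₂⟩
      apply Subgroup.subset_closure
      refine ⟨(s₁, s₂), Subgroup.mem_prod.mpr ⟨hs₁S, hs₂S⟩, fun z => ?_⟩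
      show ((ψ' (y (ψ'.symm z)) : Q) : Ω₁ × Ω₂) = (s₁, s₂) * (z : Ω₁ × Ω₂) * (s₁, s₂)⁻¹
      have hz : (z : Ω₁ × Ω₂) = ψ (ψ'.symm z) := by rw [← hψ', MulEquiv.apply_symm_apply]
      rw [hψ', hψval, hz, hψval (ψ'.symm z)]
      apply Prod.ext
      · show ψ₁ ⟨((y (ψ'.symm z) : P) : Ω₁ × Ω₂).1, _⟩ =
          s₁ * ψ₁ ⟨((ψ'.symm z : P) : Ω₁ × Ω₂).1, _⟩ * s₁⁻¹
        rw [← hs₁]
        congr 1
        exact Subtype.ext (hr₁ (ψ'.symm z))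
      · show ψ₂ ⟨((y (ψ'.symm z) : P) : Ω₁ × Ω₂).2, _⟩ =
          s₂ * ψ₂ ⟨((ψ'.symm z : P) : Ω₁ × Ω₂).2, _⟩ * s₂⁻¹
        rw [← hs₂]
        congr 1
        exact Subtype.ext (hr₂ (ψ'.symm z))
    have hcard : Nat.card (autInducedBy (S₁.prod S₂) Q) =
        p ^ (Nat.card (E.autGroup Q)).factorization p := by
      apply le_antisymm (card_le_of_isPGroup_le p hDp hle)
      have hinj : Function.Injective (MulAut.congr ψ').toMonoidHom := (MulAut.congr ψ').injective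
      have hc : Nat.card (((Y₀ : Subgroup ↥(E.autGroup P)).map (E.autGroup P).subtype).map
          (MulAut.congr ψ').toMonoidHom) =
          Nat.card ((Y₀ : Subgroup ↥(E.autGroup P)).map (E.autGroup P).subtype) :=
        Subgroup.card_map_of_injective hinj
      rw [← card_autGroup_eq_of_isConj E ⟨ψ, hψE, hψr⟩, ← hYcard, ← hc]
      exact Subgroup.card_le_of_le hY'
    exact ⟨hQS, (exists_sylow_eq_subgroupOf_iff p hle).mpr hcard⟩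
  · -- receptive
    refine ⟨hQS, fun P' φ hφ hφr => ?_⟩
    obtain ⟨f₁, hf₁, f₂, hf₂, hφval⟩ := exists_of_mem_prod hE hφ
    have hP'S := (E.le_of_mem hφ).1
    have hf₁r : f₁.range = ψ₁.range := by
      rw [← hQ₁, ← hφr]
      ext v
      constructor
      · rintro ⟨⟨_, x, hx, rfl⟩, rfl⟩
        exact ⟨φ ⟨x, hx⟩, ⟨_, rfl⟩, by rw [hφval]; rfl⟩
      · rintro ⟨_, ⟨x, rfl⟩, rfl⟩
        exact ⟨⟨_, fst_mem_map x⟩, by rw [hφval x]; rfl⟩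
    have hf₂r : f₂.range = ψ₂.range := by
      rw [← hQ₂, ← hφr]
      ext v
      constructor
      · rintro ⟨⟨_, x, hx, rfl⟩, rfl⟩
        exact ⟨φ ⟨x, hx⟩, ⟨_, rfl⟩, by rw [hφval]; rfl⟩
      · rintro ⟨_, ⟨x, rfl⟩, rfl⟩
        exact ⟨⟨_, snd_mem_map x⟩, by rw [hφval x]; rfl⟩
    obtain ⟨g₁, hg₁, hg₁f⟩ := hrec₁.2 _ f₁ hf₁ hf₁r
    obtain ⟨g₂, hg₂, hg₂f⟩ := hrec₂.2 _ f₂ hf₂ hf₂r
    have hN : extender (S₁.prod S₂) P' φ ≤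
        (extender S₁ (P'.map (MonoidHom.fst Ω₁ Ω₂)) f₁).prod
          (extender S₂ (P'.map (MonoidHom.snd Ω₁ Ω₂)) f₂) := by
      intro g hg
      obtain ⟨hgS, hgN, h, hhS, hh⟩ := (mem_extender_iff _ _ _ _).mp hg
      have hconj : ∀ x : P', g * (x : Ω₁ × Ω₂) * g⁻¹ ∈ P' := fun x =>
        (Subgroup.mem_normalizer_iff.mp hgN x).mp x.2
      refine Subgroup.mem_prod.mpr ⟨?_, ?_⟩
      · rw [mem_extender_iff]
        haveI : Finite ↥(P'.map (MonoidHom.fst Ω₁ Ω₂)) := finite_of_le' (map_fst_le hP'S)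
        refine ⟨(Subgroup.mem_prod.mp hgS).1, ?_, h.1, (Subgroup.mem_prod.mp hhS).1, ?_⟩
        · apply mem_normalizer_of_conj_mem_of_finite
          rintro _ ⟨x, hx, rfl⟩
          exact ⟨g * x * g⁻¹, hconj ⟨x, hx⟩, rfl⟩
        · rintro ⟨_, x, hx, rfl⟩ hu
          have h1 := hh ⟨x, hx⟩ (hconj ⟨x, hx⟩)
          rw [hφval, hφval] at h1
          exact congrArg Prod.fst h1
      · rw [mem_extender_iff]
        haveI : Finite ↥(P'.map (MonoidHom.snd Ω₁ Ω₂)) := finite_of_le' (map_snd_le hP'S)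
        refine ⟨(Subgroup.mem_prod.mp hgS).2, ?_, h.2, (Subgroup.mem_prod.mp hhS).2, ?_⟩
        · apply mem_normalizer_of_conj_mem_of_finite
          rintro _ ⟨x, hx, rfl⟩
          exact ⟨g * x * g⁻¹, hconj ⟨x, hx⟩, rfl⟩
        · rintro ⟨_, x, hx, rfl⟩ hu
          have h1 := hh ⟨x, hx⟩ (hconj ⟨x, hx⟩)
          rw [hφval, hφval] at h1
          exact congrArg Prod.snd h1
    refine ⟨prodMap g₁ g₂ _ hN, prodMap_mem hE hg₁ hg₂ _ hN, fun x hxP hxN => ?_⟩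
    rw [prodMap_apply, hφval]
    apply Prod.ext
    · exact hg₁f x.1 (fst_mem_map ⟨x, hxP⟩) _
    · exact hg₂f x.2 (snd_mem_map ⟨x, hxP⟩) _

end Cfsg.Agent.Lib.Helper9
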