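import Cfsg.Agent.Lib.Helper9.FusionSat2
import Cfsg.Agent.S5078
import Cfsg.Agent.S5079

set_option autoImplicit false

namespace Cfsg.Agent.Lib.Helper9

open Cfsg Cfsg.FusionSystem

variable {Ω : Type*} [Group Ω] {S : Subgroup Ω}

/-- The element `h` attached to a generator `g` of the extender normalizes the image. -/
theorem normalizer_of_extender_gen {Q : Subgroup Ω} {φ : Q →* Ω} {g h : Ω}
    (hgN : g ∈ Subgroup.normalizer (Q : Set Ω))
    (hh : ∀ (x : Q) (hx : g * (x : Ω) * g⁻¹ ∈ Q), φ ⟨g * x * g⁻¹, hx⟩ = h * φ x * h⁻¹) :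
    h ∈ Subgroup.normalizer ((φ.range : Subgroup Ω) : Set Ω) := by
  have hconj : ∀ y : Q, g * (y : Ω) * g⁻¹ ∈ Q := fun y =>
    (Subgroup.mem_normalizer_iff.mp hgN y).mp y.2
  have hconj' : ∀ y : Q, g⁻¹ * (y : Ω) * g ∈ Q := fun y => by
    have := (Subgroup.mem_normalizer_iff.mp (Subgroup.inv_mem _ hgN) y).mp y.2
    simpa using this
  rw [Subgroup.mem_normalizer_iff]
  intro z
  constructor
  · rintro ⟨y, rfl⟩
    rw [← hh y (hconj y)]
    exact ⟨_, rfl⟩
  · rintro ⟨y', hy'⟩
    have hy'' := hconj' y'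
    have hmem : g * (g⁻¹ * (y' : Ω) * g) * g⁻¹ ∈ Q := by
      have : g * (g⁻¹ * (y' : Ω) * g) * g⁻¹ = y' := by group
      rw [this]; exact y'.2
    have h1 := hh ⟨g⁻¹ * y' * g, hy''⟩ hmem
    have h2 : (⟨g * (g⁻¹ * (y' : Ω) * g) * g⁻¹, hmem⟩ : Q) = y' := by
      apply Subtype.ext
      show g * (g⁻¹ * (y' : Ω) * g) * g⁻¹ = y'
      group
    rw [h2, hy'] at h1
    have h3 : z = φ ⟨g⁻¹ * y' * g, hy''⟩ := mul_left_cancel (mul_right_cancel h1)
    rw [h3]
    exact ⟨_, rfl⟩

/-- In a saturated fusion system, a fully normalized subgroup is fully centralized and fully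
automized. -/
theorem sat_fullyNormalized [Finite S] (p : ℕ) [Fact p.Prime] (hS : IsPGroup p S)
    (F : FusionSystem S) (hF : F.IsSaturated p) {P : Subgroup Ω} (hP : F.IsFullyNormalized P) :
    F.IsFullyCentralized P ∧ F.IsFullyAutomized p P := by
  obtain ⟨hPS, hfull⟩ := hP
  obtain ⟨P₀, hPP₀, hauto, hrec⟩ := hF P hPS
  have hP₀S := hauto.1
  obtain ⟨α, hα, hαN, hαP⟩ := Cfsg.Agent.S5079.result p hS F P₀ P hauto hrec hPP₀
  have hαinj := F.injective_of_mem hα
  have hcardN := hfull P₀ hPP₀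
  have hfinN₀ : Finite ↥(normalizerIn S P₀) := finite_of_le' (normalizerIn_le_left S P₀)
  have hfbij : Function.Bijective (fun g : ↥(normalizerIn S P) => (⟨α g, hαN g⟩ : ↥(normalizerIn S P₀))) := by
    apply Function.Injective.bijective_of_nat_card_le _ hcardN
    intro g₁ g₂ h
    exact hαinj (congrArg Subtype.val h)
  have hsurj : ∀ n ∈ normalizerIn S P₀, ∃ g : ↥(normalizerIn S P), α g = n := by
    intro n hn
    obtain ⟨g, hg⟩ := hfbij.2 ⟨n, hn⟩
    exact ⟨g, congrArg Subtype.val hg⟩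
  have hPN : P ≤ normalizerIn S P := le_normalizerIn hPS
  have hαP₀ : ∀ x : P, α ⟨x, hPN x.2⟩ ∈ P₀ := by
    intro x
    have : α ⟨x, hPN x.2⟩ ∈ (P.subgroupOf (normalizerIn S P)).map α :=
      ⟨⟨x, hPN x.2⟩, Subgroup.mem_subgroupOf.mpr x.2, rfl⟩
    rw [hαP] at this; exact this
  constructor
  · -- fully centralized
    refine ⟨hPS, ?_⟩
    intro Q hPQ
    have hP₀fc := Cfsg.Agent.S5078.result F P₀ hrec
    have h1 := hP₀fc.2 Q (isConj_trans F (isConj_symm F hPP₀) hPQ)
    refine h1.trans ?_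
    -- card C_S(P₀) ≤ card C_S(P)
    have hC₀N : centralizerIn S P₀ ≤ normalizerIn S P₀ := by
      intro c hc
      exact Subgroup.mem_inf.mpr ⟨(Subgroup.mem_inf.mp hc).1,
        centralizer_le_normalizer' P₀ (Subgroup.mem_inf.mp hc).2⟩
    have hex : ∀ c : ↥(centralizerIn S P₀), ∃ g : ↥(centralizerIn S P),
        ∃ hg : (g : Ω) ∈ normalizerIn S P, α ⟨g, hg⟩ = c := by
      intro c
      obtain ⟨g, hg⟩ := hsurj c (hC₀N c.2)
      have hgC : (g : Ω) ∈ centralizerIn S P := by
        rw [mem_centralizerIn]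
        refine ⟨normalizerIn_le_left S P g.2, ?_⟩
        intro x hx
        have hgx : (g : Ω) * x * (g : Ω)⁻¹ ∈ P :=
          (Subgroup.mem_normalizer_iff.mp (normalizerIn_le_normalizer S P g.2) x).mp hx
        have h2 : α (g * ⟨x, hPN hx⟩ * g⁻¹) = α ⟨x, hPN hx⟩ := by
          rw [map_mul, map_mul, map_inv, hg]
          have h3 := (mem_centralizerIn.mp c.2).2 _ (hαP₀ ⟨x, hx⟩)
          rw [← h3, mul_assoc, mul_inv_cancel, mul_one]
        have h4 := hαinj h2
        have h5 : (g : Ω) * x * (g : Ω)⁻¹ = x := congrArg Subtype.val h4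
        calc x * (g : Ω) = ((g : Ω) * x * (g : Ω)⁻¹) * g := by rw [h5]
          _ = g * x := by group
      exact ⟨⟨g, hgC⟩, g.2, hg⟩
    choose k hk using hex
    have hkinj : Function.Injective k := by
      intro c₁ c₂ h
      obtain ⟨hg₁, h₁⟩ := hk c₁
      obtain ⟨hg₂, h₂⟩ := hk c₂
      apply Subtype.ext
      rw [← h₁, ← h₂]
      congr 2
      exact congrArg Subtype.val h
    have hfinC : Finite ↥(centralizerIn S P) := finite_of_le' (centralizerIn_le_left S P)
    exact Nat.card_le_card_of_injective k hkinj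
  · -- fully automized
    rw [fullyAutomized_iff_card p F hPS]
    have h0 := (fullyAutomized_iff_card p F hP₀S).mp hauto
    have h1 := card_autGroup_eq_of_isConj F hPP₀
    have hfinP : Finite P := finite_of_le' hPS
    have hfinP₀ : Finite P₀ := finite_of_le' hP₀S
    have hfinA : Finite (MulAut P) := inferInstance
    have hfinA₀ : Finite (MulAut P₀) := inferInstance
    have h2 := card_le_of_isPGroup_le p (isPGroup_autInducedBy p hS P) (autInducedBy_le_autGroup F hPS)
    -- the isomorphism P ≃ P₀ induced by α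
    have hθ := restrict_mem F hα hPN
    have hθr : (α.comp (Subgroup.inclusion hPN)).range = P₀ := by
      rw [← hαP]
      ext y
      constructor
      · rintro ⟨x, rfl⟩
        exact ⟨Subgroup.inclusion hPN x, Subgroup.mem_subgroupOf.mpr x.2, rfl⟩
      · rintro ⟨x, hx, rfl⟩
        exact ⟨⟨x, Subgroup.mem_subgroupOf.mp hx⟩, rfl⟩
    obtain ⟨θ', θi, hθ', hθi, hθi', -⟩ := exists_iso_data F hθ hθr
    have hle : autInducedBy S P₀ ≤ (autInducedBy S P).map (MulAut.congr θ').toMonoidHom := by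
      unfold autInducedBy
      rw [Subgroup.closure_le]
      rintro γ ⟨n, hnS, hn⟩
      have hnN := mem_normalizer_of_aut γ hn
      obtain ⟨g, hg⟩ := hsurj n (Subgroup.mem_inf.mpr ⟨hnS, hnN⟩)
      have hgN : (g : Ω) ∈ Subgroup.normalizer (P : Set Ω) := normalizerIn_le_normalizer S P g.2
      refine ⟨normConj P ⟨g, hgN⟩, Subgroup.subset_closure ⟨g, normalizerIn_le_left S P g.2, fun x => rfl⟩, ?_⟩
      ext y
      show ((θ' (normConj P ⟨g, hgN⟩ (θ'.symm y)) : P₀) : Ω) = ((γ y : P₀) : Ω)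
      rw [hn, hθ']
      have hy : (y : Ω) = α (Subgroup.inclusion hPN (θ'.symm y)) := by
        have := hθ' (θ'.symm y)
        rw [MulEquiv.apply_symm_apply] at this
        exact this
      rw [hy, ← hg, ← map_inv, ← map_mul, ← map_mul]
      show α (Subgroup.inclusion hPN (normConj P ⟨g, hgN⟩ (θ'.symm y))) = _
      congr 1
    have hc : Nat.card ((autInducedBy S P).map (MulAut.congr θ').toMonoidHom) = Nat.card (autInducedBy S P) :=
      Subgroup.card_map_of_injective (f := (MulAut.congr θ').toMonoidHom) (MulAut.congr θ').injective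
    have h3 : Nat.card (autInducedBy S P₀) ≤ Nat.card (autInducedBy S P) := by
      rw [← hc]
      exact Nat.card_le_card_of_injective _ (Subgroup.inclusion_injective hle)
    rw [← h1] at h0
    rw [h0] at h3
    exact le_antisymm h2 h3

end Cfsg.Agent.Lib.Helper9
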