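import Cfsg.Agent.S5076
import Cfsg.Agent.S5133
import Cfsg.Agent.Lib.Helper9.FusionMorph

set_option autoImplicit false

namespace Cfsg.Agent.Lib.Helper9

open Cfsg Cfsg.FusionSystem

variable {Ω : Type*} [Group Ω] {S : Subgroup Ω}
variable {G : Type*} [Group G]

/-- An inverse of an injective homomorphism on its range. -/
theorem exists_inv_on_range (ι : S →* G) (hinj : Function.Injective ι) (T : Subgroup G)
    (hT : T = ι.range) :
    ∃ α : ↥T →* Ω, ∃ hαS : ∀ t, α t ∈ S, (∀ t : T, ι ⟨α t, hαS t⟩ = t) ∧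
      ∀ (s : S) (hs : ι s ∈ T), α ⟨ι s, hs⟩ = s := by
  subst hT
  refine ⟨S.subtype.comp (MonoidHom.ofInjective hinj).symm.toMonoidHom,
    fun t => ((MonoidHom.ofInjective hinj).symm t).2, ?_, ?_⟩
  · intro t
    have h1 := (MonoidHom.ofInjective hinj).apply_symm_apply t
    have h2 : ((MonoidHom.ofInjective hinj) ((MonoidHom.ofInjective hinj).symm t) : G) = t := by
      rw [h1]
    exact h2
  · intro s hs
    have : (⟨ι s, hs⟩ : ι.range) = (MonoidHom.ofInjective hinj) s := rfl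
    show (((MonoidHom.ofInjective hinj).symm ⟨ι s, hs⟩ : S) : Ω) = s
    rw [this, MulEquiv.symm_apply_apply]

/-- In a realized system, conjugation by `g` on a subgroup `R ≤ S` whose conjugate lies in the
image of `S` gives a map of the system. -/
theorem exists_hom_of_conj (F : FusionSystem S) (ι : S →* G) (hreal : F.IsRealizedBy ι)
    {R : Subgroup Ω} (hRS : R ≤ S) (g : G)
    (h : ∀ y : R, g * ι ⟨y, hRS y.2⟩ * g⁻¹ ∈ ι.range) :
    ∃ ψ ∈ F.Hom R, ∃ hψS : ∀ y, ψ y ∈ S, ∀ y : R, ι ⟨ψ y, hψS y⟩ = g * ι ⟨y, hRS y.2⟩ * g⁻¹ := by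
  obtain ⟨α, hαS, hια, -⟩ := exists_inv_on_range ι hreal.1 ι.range rfl
  have hψS : ∀ y : R, (α.comp (((MulAut.conj g).toMonoidHom.comp
      (ι.comp (Subgroup.inclusion hRS))).codRestrict ι.range h)) y ∈ S := fun y => hαS _
  have hspec : ∀ y : R, ι ⟨(α.comp (((MulAut.conj g).toMonoidHom.comp
      (ι.comp (Subgroup.inclusion hRS))).codRestrict ι.range h)) y, hψS y⟩ =
      g * ι ⟨y, hRS y.2⟩ * g⁻¹ := by
    intro y
    exact hια _
  refine ⟨_, ?_, hψS, hspec⟩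
  rw [hreal.2 R hRS _ hψS]
  exact ⟨g, hspec⟩

/-- A system realized by a finite group on a Sylow `p`-subgroup is saturated. -/
theorem saturated_of_isRealizedBy [Finite S] [Finite G] (p : ℕ) [Fact p.Prime] (hS : IsPGroup p S)
    (F : FusionSystem S) (ι : S →* G) (hreal : F.IsRealizedBy ι) (T : Sylow p G)
    (hT : (T : Subgroup G) = ι.range) : F.IsSaturated p := by
  obtain ⟨α, hαS, hια, hαι⟩ := exists_inv_on_range ι hreal.1 (T : Subgroup G) hT
  have hsat := Cfsg.Agent.S5076.result p T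
  have hTp : IsPGroup p (T : Subgroup G) := T.isPGroup'
  refine Cfsg.Agent.S5133.result p hTp _ hsat F α ⟨⟨hαS, ?_⟩, ?_, ?_⟩
  · -- morphism
    rintro P φ ⟨hPT, hφT, g, hg⟩
    have hle : imageAlong α P ≤ S := by
      rintro _ ⟨t, -, rfl⟩
      exact hαS t
    have hconj : ∀ y : ↥(imageAlong α P), g * ι ⟨y, hle y.2⟩ * g⁻¹ ∈ ι.range := by
      rintro ⟨_, t, ht, rfl⟩
      rw [hια t]
      have h1 := hφT ⟨t, Subgroup.mem_subgroupOf.mp ht⟩
      rw [hg] at h1
      rw [← hT]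
      exact h1
    obtain ⟨ψ, hψ, hψS, hspec⟩ := exists_hom_of_conj F ι hreal hle g hconj
    refine ⟨ψ, hψ, hPT, hφT, fun x => mem_imageAlong hPT x, ?_⟩
    intro x
    have key : (⟨ψ ⟨α ⟨x, hPT x.2⟩, mem_imageAlong hPT x⟩, hψS _⟩ : S) =
        ⟨α ⟨φ x, hφT x⟩, hαS _⟩ := by
      apply hreal.1
      rw [hspec, hια, hια]
      exact (hg x).symm
    exact congrArg Subtype.val key
  · -- range
    ext y
    constructor
    · rintro ⟨t, rfl⟩
      exact hαS t
    · intro hy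
      have h1 : ι ⟨y, hy⟩ ∈ (T : Subgroup G) := by rw [hT]; exact ⟨_, rfl⟩
      exact ⟨⟨ι ⟨y, hy⟩, h1⟩, hαι ⟨y, hy⟩ h1⟩
  · -- lifting
    intro P' hP' φ' hφ'
    obtain ⟨g, hg⟩ := (hreal.2 P' hP' φ' (F.le_of_mem hφ').2).mp hφ'
    have hpre : preimageAlong α P' ≤ (T : Subgroup G) := preimageAlong_le α P'
    have hval : ∀ x : ↥(preimageAlong α P'), conjHom (preimageAlong α P') g x ∈ (T : Subgroup G) := by
      intro x
      have hx := (mem_preimageAlong (hpre x.2)).mp x.2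
      have h1 := hg ⟨α ⟨x, hpre x.2⟩, hx⟩
      have h2 : ι ⟨α ⟨x, hpre x.2⟩, hP' hx⟩ = (x : G) := hια ⟨x, hpre x.2⟩
      have h3 : g * (x : G) * g⁻¹ ∈ ι.range := by
        rw [← h2, ← h1]
        exact ⟨_, rfl⟩
      exact hT.ge h3
    refine ⟨conjHom (preimageAlong α P') g, ⟨hpre, hval, g, fun x => rfl⟩, hpre, hval,
      fun x => (mem_preimageAlong (hpre x.2)).mp x.2, ?_⟩
    intro x
    have hx := (mem_preimageAlong (hpre x.2)).mp x.2
    have key : (⟨φ' ⟨α ⟨x, hpre x.2⟩, hx⟩, (F.le_of_mem hφ').2 _⟩ : S) =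
        ⟨α ⟨conjHom (preimageAlong α P') g x, hval x⟩, hαS _⟩ := by
      apply hreal.1
      rw [hg, hια, hια]
      rfl
    exact congrArg Subtype.val key

end Cfsg.Agent.Lib.Helper9
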