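import Cfsg.Agent.S5118
import Cfsg.Agent.Lib.Helper9.FusionRealized
import Cfsg.Agent.Lib.Helper9.FusionFactorAut
import Cfsg.Agent.Lib.Helper9.FusionFactor
import Cfsg.Agent.Lib.Helper9.SylowConj

set_option autoImplicit false

namespace Cfsg.Agent.Lib.Helper9

open Cfsg Cfsg.FusionSystem

variable {Ω : Type*} [Group Ω] {S : Subgroup Ω} {G : Type*} [Group G]

/-- The subsystem of a realized system induced by a normal subgroup `N` of the realizing group,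
over the preimage of `N` in `S`. -/
def realNormalSub (F : FusionSystem S) (ι : S →* G) (N : Subgroup G) [hN : N.Normal] :
    FusionSystem (preimageAlong ι N) where
  Hom P := {φ | φ ∈ F.Hom P ∧ P ≤ preimageAlong ι N ∧ ∃ g ∈ N,
    ∀ (x : P) (hx : (x : Ω) ∈ S) (hφx : φ x ∈ S), ι ⟨φ x, hφx⟩ = g * ι ⟨x, hx⟩ * g⁻¹}
  le_of_mem := by
    rintro P φ ⟨hφF, hP, g, hgN, hg⟩
    refine ⟨hP, fun x => ?_⟩
    have hxS : (x : Ω) ∈ S := preimageAlong_le ι N (hP x.2)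
    have hφS : φ x ∈ S := (F.le_of_mem hφF).2 x
    rw [mem_preimageAlong hφS, hg x hxS hφS]
    exact hN.conj_mem _ ((mem_preimageAlong hxS).mp (hP x.2)) g
  injective_of_mem := fun h => F.injective_of_mem h.1
  conj_mem := by
    intro P g hP hg
    have hgS : g ∈ S := preimageAlong_le ι N hg
    refine ⟨F.conj_mem (hP.trans (preimageAlong_le ι N)) hgS, hP, ι ⟨g, hgS⟩,
      (mem_preimageAlong hgS).mp hg, ?_⟩
    intro x hx hφx
    have e : (⟨conjHom P g x, hφx⟩ : S) = ⟨g, hgS⟩ * ⟨x, hx⟩ * (⟨g, hgS⟩ : S)⁻¹ :=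
      Subtype.ext rfl
    rw [e, map_mul, map_mul, map_inv]
  comp_mem := by
    rintro P Q φ ψ ⟨hφF, hP, g₁, hg₁N, hg₁⟩ ⟨hψF, hQ, g₂, hg₂N, hg₂⟩ h
    refine ⟨F.comp_mem hφF hψF h, hP, g₂ * g₁, N.mul_mem hg₂N hg₁N, ?_⟩
    intro x hx hφx
    have hφS : φ x ∈ S := (F.le_of_mem hφF).2 x
    have h1 := hg₂ ⟨φ x, h x⟩ hφS hφx
    have h2 := hg₁ x hx hφS
    show ι ⟨ψ ⟨φ x, h x⟩, hφx⟩ = _
    rw [h1, h2]
    group
  inv_mem := by
    rintro P φ ⟨hφF, hP, g, hgN, hg⟩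
    obtain ⟨ψ, hψ, hψs⟩ := F.inv_mem hφF
    have hPS : P ≤ S := hP.trans (preimageAlong_le ι N)
    have hφS := (F.le_of_mem hφF).2
    refine ⟨ψ, ⟨hψ, ?_, g⁻¹, N.inv_mem hgN, ?_⟩, hψs⟩
    · rintro _ ⟨x, rfl⟩
      rw [mem_preimageAlong (hφS x), hg x (hPS x.2) (hφS x)]
      exact hN.conj_mem _ ((mem_preimageAlong (hPS x.2)).mp (hP x.2)) g
    · rintro ⟨_, x, rfl⟩ hx hφx
      have e : (⟨ψ ⟨φ x, ⟨x, rfl⟩⟩, hφx⟩ : S) = ⟨x, hPS x.2⟩ := Subtype.ext (hψs x)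
      rw [e, hg x (hPS x.2) hx]
      group

variable (F : FusionSystem S) (ι : S →* G) (N : Subgroup G) [hN : N.Normal]

theorem realNormalSub_isSubsystemOf : (realNormalSub F ι N).IsSubsystemOf F :=
  fun _ _ h => h.1

/-- The restriction of `ι` to the preimage of `N`, with values in `N`. -/
def restrictToNormal : ↥(preimageAlong ι N) →* ↥N :=
  (ι.comp (Subgroup.inclusion (preimageAlong_le ι N))).codRestrict N
    (fun x => map_preimageAlong_mem x)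

theorem realNormalSub_isRealizedBy (hreal : F.IsRealizedBy ι) :
    (realNormalSub F ι N).IsRealizedBy (restrictToNormal ι N) := by
  refine ⟨?_, ?_⟩
  · intro x y hxy
    have h1 : ι ⟨x, preimageAlong_le ι N x.2⟩ = ι ⟨y, preimageAlong_le ι N y.2⟩ :=
      congrArg Subtype.val hxy
    have h2 : ((⟨(x : Ω), preimageAlong_le ι N x.2⟩ : S) : Ω) = ((⟨(y : Ω), preimageAlong_le ι N y.2⟩ : S) : Ω) :=
      congrArg Subtype.val (hreal.1 h1)
    exact Subtype.ext h2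
  · intro P hP φ hφ
    have hPS : P ≤ S := hP.trans (preimageAlong_le ι N)
    have hφS : ∀ x : P, φ x ∈ S := fun x => preimageAlong_le ι N (hφ x)
    constructor
    · rintro ⟨-, -, g, hgN, hg⟩
      exact ⟨⟨g, hgN⟩, fun x => Subtype.ext (hg x (hPS x.2) (hφS x))⟩
    · rintro ⟨g, hg⟩
      have hg' : ∀ x : P, ι ⟨φ x, hφS x⟩ = (g : G) * ι ⟨x, hPS x.2⟩ * (g : G)⁻¹ :=
        fun x => congrArg Subtype.val (hg x)
      refine ⟨(hreal.2 P hPS φ hφS).mpr ⟨g, hg'⟩, hP, g, g.2, fun x hx hφx => hg' x⟩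

omit hN in
theorem map_mem_inf_of_mem (T₀ : Subgroup G) (hT₀ : T₀ = ι.range)
    (x : ↥(preimageAlong ι N)) : ι ⟨x, preimageAlong_le ι N x.2⟩ ∈ T₀ ⊓ N := by
  refine ⟨?_, map_preimageAlong_mem x⟩
  rw [hT₀]
  exact ⟨_, rfl⟩

omit hN in
theorem exists_of_mem_inf (T₀ : Subgroup G) (hT₀ : T₀ = ι.range) {t : G} (ht : t ∈ T₀ ⊓ N) :
    ∃ (x : Ω) (hx : x ∈ S), x ∈ preimageAlong ι N ∧ ι ⟨x, hx⟩ = t := by
  have h1 : t ∈ ι.range := by rw [← hT₀]; exact ht.1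
  obtain ⟨s, hs⟩ := h1
  refine ⟨s, s.2, (mem_preimageAlong s.2).mpr ?_, hs⟩
  rw [hs]
  exact ht.2

theorem restrictToNormal_range (T₀ : Subgroup G) (hT₀ : T₀ = ι.range) :
    (restrictToNormal ι N).range = (T₀ ⊓ N).subgroupOf N := by
  ext y
  constructor
  · rintro ⟨x, rfl⟩
    exact Subgroup.mem_subgroupOf.mpr (map_mem_inf_of_mem ι N T₀ hT₀ x)
  · intro hy
    obtain ⟨x, hx, hxN, hxy⟩ := exists_of_mem_inf ι N T₀ hT₀ (Subgroup.mem_subgroupOf.mp hy)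
    exact ⟨⟨x, hxN⟩, Subtype.ext hxy⟩

theorem realNormalSub_saturated [Finite S] [Finite G] (p : ℕ) [Fact p.Prime] (hS : IsPGroup p S)
    (hreal : F.IsRealizedBy ι) (T₀ : Sylow p G) (hT₀ : (T₀ : Subgroup G) = ι.range) :
    (realNormalSub F ι N).IsSaturated p := by
  have hfin : Finite ↥(preimageAlong ι N) := finite_of_le' (preimageAlong_le ι N)
  obtain ⟨T, hT⟩ := (exists_sylow_eq_subgroupOf_iff p (inf_le_right :
    (T₀ : Subgroup G) ⊓ N ≤ N)).mpr (card_sylow_inf_normal p T₀ N)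
  refine saturated_of_isRealizedBy p (hS.to_le (preimageAlong_le ι N)) _ (restrictToNormal ι N)
    (realNormalSub_isRealizedBy F ι N hreal) T ?_
  rw [hT, restrictToNormal_range ι N _ hT₀]

end Cfsg.Agent.Lib.Helper9
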