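import Cfsg.Agent.Lib.Helper9.FusionRealNormal
import Cfsg.Agent.Lib.Helper9.Frattini

set_option autoImplicit false

namespace Cfsg.Agent.Lib.Helper9

open Cfsg Cfsg.FusionSystem

variable {Ω : Type*} [Group Ω] {S : Subgroup Ω} {G : Type*} [Group G]
variable (F : FusionSystem S) (ι : S →* G) (N : Subgroup G) [hN : N.Normal]

theorem realNormalSub_stronglyClosed (hreal : F.IsRealizedBy ι) :
    F.StronglyClosed (preimageAlong ι N) := by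
  refine ⟨preimageAlong_le ι N, ?_⟩
  intro R hR φ hφ x
  have hRS : R ≤ S := hR.trans (preimageAlong_le ι N)
  have hφS := (F.le_of_mem hφ).2
  obtain ⟨g, hg⟩ := (hreal.2 R hRS φ hφS).mp hφ
  rw [mem_preimageAlong (hφS x), hg x]
  exact hN.conj_mem _ ((mem_preimageAlong (hRS x.2)).mp (hR x.2)) g

theorem realNormalSub_invariant [Finite S] [Finite G] (p : ℕ) [Fact p.Prime]
    (hreal : F.IsRealizedBy ι) (T₀ : Sylow p G) (hT₀ : (T₀ : Subgroup G) = ι.range) :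
    (realNormalSub F ι N).IsInvariantIn F := by
  have hSNS : preimageAlong ι N ≤ S := preimageAlong_le ι N
  have hsc := realNormalSub_stronglyClosed F ι N hreal
  refine ⟨realNormalSub_isSubsystemOf F ι N, hsc, ?_, ?_⟩
  · rintro P hPT φ ⟨hφF, -, g, hgN, hg⟩ α hα
    have hαF := (mem_autGroup_iff F hSNS α).mp hα
    obtain ⟨k, hk⟩ := (hreal.2 _ hSNS _ (fun x => hSNS (α x).2)).mp hαF
    have hk' : ∀ x : ↥(preimageAlong ι N), ι ⟨((α x : ↥(preimageAlong ι N)) : Ω), hSNS (α x).2⟩ =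
        k * ι ⟨x, hSNS x.2⟩ * k⁻¹ := hk
    have hPS : P ≤ S := hPT.trans hSNS
    have hφS := (F.le_of_mem hφF).2
    have hφSN : ∀ x : P, φ x ∈ preimageAlong ι N := fun x => hsc.2 P hPT φ hφF x
    have hP'SN : (P.subgroupOf (preimageAlong ι N)).map
        ((preimageAlong ι N).subtype.comp α.toMonoidHom) ≤ preimageAlong ι N := by
      rintro _ ⟨t, -, rfl⟩
      exact (α t).2
    have hconj : ∀ y : ↥((P.subgroupOf (preimageAlong ι N)).map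
        ((preimageAlong ι N).subtype.comp α.toMonoidHom)),
        (k * g * k⁻¹) * ι ⟨y, (hP'SN.trans hSNS) y.2⟩ * (k * g * k⁻¹)⁻¹ ∈ ι.range := by
      rintro ⟨_, t, ht, rfl⟩
      have htP : (t : Ω) ∈ P := Subgroup.mem_subgroupOf.mp ht
      refine ⟨⟨((α ⟨φ ⟨t, htP⟩, hφSN _⟩ : ↥(preimageAlong ι N)) : Ω), hSNS (α _).2⟩, ?_⟩
      rw [hk' ⟨φ ⟨t, htP⟩, hφSN _⟩]
      show k * ι ⟨φ ⟨t, htP⟩, _⟩ * k⁻¹ = k * g * k⁻¹ * ι ⟨((α t : ↥(preimageAlong ι N)) : Ω), _⟩ *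
        (k * g * k⁻¹)⁻¹
      rw [hk' t, hg ⟨t, htP⟩ (hPS htP) (hφS _)]
      group
    obtain ⟨χ, hχ, hχS, hχs⟩ := exists_hom_of_conj F ι hreal (hP'SN.trans hSNS) (k * g * k⁻¹) hconj
    refine ⟨χ, ⟨hχ, hP'SN, k * g * k⁻¹, hN.conj_mem g hgN k, fun y hy hχy => hχs y⟩, ?_⟩
    intro x hφx hαx
    have key : (⟨χ ⟨((α ⟨x, hPT x.2⟩ : ↥(preimageAlong ι N)) : Ω), hαx⟩, hχS _⟩ : S) =
        ⟨((α ⟨φ x, hφx⟩ : ↥(preimageAlong ι N)) : Ω), hSNS (α _).2⟩ := by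
      apply hreal.1
      rw [hχs, hk' ⟨φ x, hφx⟩]
      show k * g * k⁻¹ * ι ⟨((α ⟨x, hPT x.2⟩ : ↥(preimageAlong ι N)) : Ω), _⟩ * (k * g * k⁻¹)⁻¹ =
        k * ι ⟨φ x, _⟩ * k⁻¹
      rw [hk' ⟨x, hPT x.2⟩, hg x (hPS x.2) (hφS x)]
      group
    exact congrArg Subtype.val key
  · rintro P hPT φ hφ
    have hPS : P ≤ S := hPT.trans hSNS
    have hφS := (F.le_of_mem hφ).2
    have hφSN : ∀ x : P, φ x ∈ preimageAlong ι N := fun x => hsc.2 P hPT φ hφ x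
    obtain ⟨g, hg⟩ := (hreal.2 P hPS φ hφS).mp hφ
    obtain ⟨n, hnN, k, hgk, hk⟩ := frattini_inf p T₀ N g
    have hfinI : Finite ↥((T₀ : Subgroup G) ⊓ N) := inferInstance
    have hkN : k ∈ Subgroup.normalizer ((((T₀ : Subgroup G) ⊓ N : Subgroup G)) : Set G) :=
      mem_normalizer_of_conj_mem_of_finite hk
    have hkinv : ∀ y ∈ (T₀ : Subgroup G) ⊓ N, k⁻¹ * y * k ∈ (T₀ : Subgroup G) ⊓ N := by
      intro y hy
      have := (Subgroup.mem_normalizer_iff.mp (Subgroup.inv_mem _ hkN) y).mp hy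
      simpa using this
    have hkconj : ∀ y : ↥(preimageAlong ι N), k * ι ⟨y, hSNS y.2⟩ * k⁻¹ ∈ ι.range := by
      intro y
      rw [← hT₀]
      exact (hk _ (map_mem_inf_of_mem ι N _ hT₀ y)).1
    obtain ⟨ψ, hψ, hψS, hψs⟩ := exists_hom_of_conj F ι hreal hSNS k hkconj
    have hψSN : ∀ y : ↥(preimageAlong ι N), ψ y ∈ preimageAlong ι N := by
      intro y
      rw [mem_preimageAlong (hψS y), hψs]
      exact (hk _ (map_mem_inf_of_mem ι N _ hT₀ y)).2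
    obtain ⟨α, hα, hαs⟩ := exists_aut_of_hom_self F hψ hψSN
    have hnx : ∀ y : P, n * ι ⟨y, hPS y.2⟩ * n⁻¹ = k⁻¹ * ι ⟨φ y, hφS y⟩ * k := by
      intro y
      rw [hg y, hgk]
      group
    have hnconj : ∀ y : P, n * ι ⟨y, hPS y.2⟩ * n⁻¹ ∈ ι.range := by
      intro y
      rw [hnx y, ← hT₀]
      exact (hkinv _ (map_mem_inf_of_mem ι N _ hT₀ ⟨φ y, hφSN y⟩)).1
    obtain ⟨φ₀, hφ₀, hφ₀S, hφ₀s⟩ := exists_hom_of_conj F ι hreal hPS n hnconj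
    refine ⟨α, hα, φ₀, ⟨hφ₀, hPT, n, hnN, fun x hx hφx => hφ₀s x⟩, fun x hx => ?_⟩
    have key : (⟨φ x, hφS x⟩ : S) = ⟨((α ⟨φ₀ x, hx⟩ : ↥(preimageAlong ι N)) : Ω),
        hSNS (α _).2⟩ := by
      apply hreal.1
      have e : (⟨((α ⟨φ₀ x, hx⟩ : ↥(preimageAlong ι N)) : Ω), hSNS (α _).2⟩ : S) =
          ⟨ψ ⟨φ₀ x, hx⟩, hψS _⟩ := Subtype.ext (hαs _)
      rw [e, hψs, hg x]
      show _ = k * ι ⟨φ₀ x, _⟩ * k⁻¹
      rw [hφ₀s x, hgk]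
      group
    exact congrArg Subtype.val key

end Cfsg.Agent.Lib.Helper9
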