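import Cfsg.Agent.Lib.Helper9.FusionRealNormal2

set_option autoImplicit false

namespace Cfsg.Agent.Lib.Helper9

open Cfsg Cfsg.FusionSystem

variable {Ω : Type*} [Group Ω] {S : Subgroup Ω} {G : Type*} [Group G]
variable (F : FusionSystem S) (ι : S →* G) (N : Subgroup G) [hN : N.Normal]

omit hN in
theorem mem_centralizerIn' {S' P : Subgroup G} {g : G} :
    g ∈ centralizerIn S' P ↔ g ∈ S' ∧ g ∈ Subgroup.centralizer (P : Set G) := Subgroup.mem_inf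

omit hN in
theorem map_centralizerIn_mem (hinj : Function.Injective ι) (T₀ : Subgroup G) (hT₀ : T₀ = ι.range)
    {c : Ω} (hc : c ∈ centralizerIn S (preimageAlong ι N)) :
    ι ⟨c, (mem_centralizerIn.mp hc).1⟩ ∈ centralizerIn T₀ (T₀ ⊓ N) := by
  refine mem_centralizerIn.mpr ⟨by rw [hT₀]; exact ⟨_, rfl⟩, ?_⟩
  intro t ht
  obtain ⟨x, hx, hxN, rfl⟩ := exists_of_mem_inf ι N T₀ hT₀ ht
  have h1 : x * c = c * x := (mem_centralizerIn.mp hc).2 x hxN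
  rw [← map_mul, ← map_mul]
  congr 1
  exact Subtype.ext h1

omit hN in
theorem exists_of_mem_centralizerIn (hinj : Function.Injective ι) (T₀ : Subgroup G)
    (hT₀ : T₀ = ι.range) {c' : G} (hc' : c' ∈ centralizerIn T₀ (T₀ ⊓ N)) :
    ∃ (c : Ω) (hc : c ∈ S), c ∈ centralizerIn S (preimageAlong ι N) ∧ ι ⟨c, hc⟩ = c' := by
  have h1 : c' ∈ ι.range := by rw [← hT₀]; exact (mem_centralizerIn.mp hc').1
  obtain ⟨s, hs⟩ := h1
  refine ⟨s, s.2, mem_centralizerIn.mpr ⟨s.2, ?_⟩, hs⟩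
  intro x hx
  have hxS : x ∈ S := preimageAlong_le ι N hx
  have h2 := (mem_centralizerIn.mp hc').2 _
    (map_mem_inf_of_mem ι N T₀ hT₀ ⟨x, hx⟩)
  have h3 : ι (⟨x, hxS⟩ * s) = ι (s * ⟨x, hxS⟩) := by
    rw [map_mul, map_mul, hs]
    exact h2
  exact congrArg Subtype.val (hinj h3)

theorem realNormalSub_isNormalIn [Finite S] [Finite G] (p : ℕ) [Fact p.Prime] (hS : IsPGroup p S)
    (hreal : F.IsRealizedBy ι) (T₀ : Sylow p G) (hT₀ : (T₀ : Subgroup G) = ι.range) :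
    (realNormalSub F ι N).IsNormalIn F p := by
  have hSNS : preimageAlong ι N ≤ S := preimageAlong_le ι N
  have hFsat := saturated_of_isRealizedBy p hS F ι hreal T₀ hT₀
  refine ⟨⟨realNormalSub_saturated F ι N p hS hreal T₀ hT₀, hFsat,
    realNormalSub_invariant F ι N p hreal T₀ hT₀⟩, ?_⟩
  intro α hα
  rw [mem_autGroup_iff _ le_rfl] at hα
  obtain ⟨hαF, -, h, hhN, hh⟩ := hα
  have hh' : ∀ x : ↥(preimageAlong ι N), ι ⟨((α x : ↥(preimageAlong ι N)) : Ω), hSNS (α x).2⟩ =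
      h * ι ⟨x, hSNS x.2⟩ * h⁻¹ := fun x => hh x _ _
  have hfinI : Finite ↥((T₀ : Subgroup G) ⊓ N) := inferInstance
  have hhnorm : h ∈ Subgroup.normalizer ((((T₀ : Subgroup G) ⊓ N : Subgroup G)) : Set G) := by
    refine mem_normalizer_of_conj_mem_of_finite (fun t ht => ?_)
    obtain ⟨x, hx, hxN, rfl⟩ := exists_of_mem_inf ι N _ hT₀ ht
    rw [← hh' ⟨x, hxN⟩]
    exact map_mem_inf_of_mem ι N _ hT₀ (α ⟨x, hxN⟩)
  obtain ⟨g, hgN, hgNT, hgNC, hgt⟩ := Cfsg.Agent.S5118.extension_aux p T₀ N h hhN hhnorm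
  have hUS : preimageAlong ι N ⊔ centralizerIn S (preimageAlong ι N) ≤ S :=
    sup_le hSNS (centralizerIn_le_left _ _)
  -- the image of `U`
  have hU1 : ∀ (u : Ω) (hu : u ∈ preimageAlong ι N ⊔ centralizerIn S (preimageAlong ι N)),
      ι ⟨u, hUS hu⟩ ∈ ((T₀ : Subgroup G) ⊓ N) ⊔
        centralizerIn (T₀ : Subgroup G) ((T₀ : Subgroup G) ⊓ N) := by
    have hle : preimageAlong ι N ⊔ centralizerIn S (preimageAlong ι N) ≤
        preimageAlong ι (((T₀ : Subgroup G) ⊓ N) ⊔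
          centralizerIn (T₀ : Subgroup G) ((T₀ : Subgroup G) ⊓ N)) := by
      refine sup_le ?_ ?_
      · intro x hx
        rw [mem_preimageAlong (hSNS hx)]
        exact Subgroup.mem_sup_left (map_mem_inf_of_mem ι N _ hT₀ ⟨x, hx⟩)
      · intro c hc
        rw [mem_preimageAlong (mem_centralizerIn.mp hc).1]
        exact Subgroup.mem_sup_right (map_centralizerIn_mem ι N hreal.1 _ hT₀ hc)
    intro u hu
    exact (mem_preimageAlong (hUS hu)).mp (hle hu)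
  have hU2 : ∀ u' ∈ ((T₀ : Subgroup G) ⊓ N) ⊔
      centralizerIn (T₀ : Subgroup G) ((T₀ : Subgroup G) ⊓ N),
      ∃ (u : Ω) (huS : u ∈ S), u ∈ preimageAlong ι N ⊔ centralizerIn S (preimageAlong ι N) ∧
        ι ⟨u, huS⟩ = u' := by
    have hle : ((T₀ : Subgroup G) ⊓ N) ⊔
        centralizerIn (T₀ : Subgroup G) ((T₀ : Subgroup G) ⊓ N) ≤
        imageAlong ι (preimageAlong ι N ⊔ centralizerIn S (preimageAlong ι N)) := by
      refine sup_le ?_ ?_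
      · intro t ht
        obtain ⟨x, hx, hxN, rfl⟩ := exists_of_mem_inf ι N _ hT₀ ht
        exact ⟨⟨x, hx⟩, Subgroup.mem_subgroupOf.mpr (Subgroup.mem_sup_left hxN), rfl⟩
      · intro c' hc'
        obtain ⟨c, hc, hcC, rfl⟩ := exists_of_mem_centralizerIn ι N hreal.1 _ hT₀ hc'
        exact ⟨⟨c, hc⟩, Subgroup.mem_subgroupOf.mpr (Subgroup.mem_sup_right hcC), rfl⟩
    intro u' hu'
    obtain ⟨s, hs, rfl⟩ := hle hu'
    exact ⟨s, s.2, Subgroup.mem_subgroupOf.mp hs, rfl⟩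
  have hgNU : g ∈ Subgroup.normalizer (((((T₀ : Subgroup G) ⊓ N) ⊔
      centralizerIn (T₀ : Subgroup G) ((T₀ : Subgroup G) ⊓ N) : Subgroup G)) : Set G) :=
    Subgroup.normalizer_inf_normalizer_le_normalizer_sup _ _ ⟨hgNT, hgNC⟩
  have hU'T : ((T₀ : Subgroup G) ⊓ N) ⊔
      centralizerIn (T₀ : Subgroup G) ((T₀ : Subgroup G) ⊓ N) ≤ (T₀ : Subgroup G) :=
    sup_le inf_le_left (centralizerIn_le_left _ _)
  have hgconj : ∀ y : ↥(preimageAlong ι N ⊔ centralizerIn S (preimageAlong ι N)),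
      g * ι ⟨y, hUS y.2⟩ * g⁻¹ ∈ ι.range := by
    intro y
    rw [← hT₀]
    exact hU'T ((Subgroup.mem_normalizer_iff.mp hgNU _).mp (hU1 y y.2))
  obtain ⟨ψ, hψ, hψS, hψs⟩ := exists_hom_of_conj F ι hreal hUS g hgconj
  have hψU : ∀ y : ↥(preimageAlong ι N ⊔ centralizerIn S (preimageAlong ι N)),
      ψ y ∈ preimageAlong ι N ⊔ centralizerIn S (preimageAlong ι N) := by
    intro y
    obtain ⟨u, huS, huU, hu⟩ := hU2 _ ((Subgroup.mem_normalizer_iff.mp hgNU _).mp (hU1 y y.2))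
    have h1 : (⟨ψ y, hψS y⟩ : S) = ⟨u, huS⟩ := hreal.1 (by rw [hψs, hu])
    have h2 : ψ y = u := congrArg Subtype.val h1
    rw [h2]
    exact huU
  obtain ⟨β, hβ, hβs⟩ := exists_aut_of_hom_self F hψ hψU
  refine ⟨β, hβ, ?_, ?_⟩
  · intro x
    rw [hβs]
    have key : (⟨ψ (Subgroup.inclusion le_sup_left x), hψS _⟩ : S) =
        ⟨((α x : ↥(preimageAlong ι N)) : Ω), hSNS (α x).2⟩ := by
      apply hreal.1
      rw [hψs, hh' x]
      exact hgt _ (map_mem_inf_of_mem ι N _ hT₀ x)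
    exact congrArg Subtype.val key
  · intro c hc
    rw [hβs]
    have hψcC : ψ c ∈ centralizerIn S (preimageAlong ι N) := by
      have h1 : g * ι ⟨c, hUS c.2⟩ * g⁻¹ ∈
          centralizerIn (T₀ : Subgroup G) ((T₀ : Subgroup G) ⊓ N) :=
        (Subgroup.mem_normalizer_iff.mp hgNC _).mp
          (map_centralizerIn_mem ι N hreal.1 _ hT₀ hc)
      obtain ⟨c₂, hc₂S, hc₂C, hc₂⟩ := exists_of_mem_centralizerIn ι N hreal.1 _ hT₀ h1
      have h2 : (⟨ψ c, hψS c⟩ : S) = ⟨c₂, hc₂S⟩ := hreal.1 (by rw [hψs, hc₂])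
      have h3 : ψ c = c₂ := congrArg Subtype.val h2
      rw [h3]
      exact hc₂C
    refine Subgroup.mem_inf.mpr ⟨?_, Subgroup.mul_mem _ (Subgroup.inv_mem _
      (Subgroup.mem_inf.mp hc).2) (Subgroup.mem_inf.mp hψcC).2⟩
    have hmemS : (c : Ω)⁻¹ * ψ c ∈ S := S.mul_mem (S.inv_mem (hUS c.2)) (hψS c)
    rw [mem_preimageAlong hmemS]
    have e1 : (⟨(c : Ω)⁻¹ * ψ c, hmemS⟩ : S) = (⟨c, hUS c.2⟩ : S)⁻¹ * ⟨ψ c, hψS c⟩ :=
      Subtype.ext rfl
    rw [e1, map_mul, map_inv, hψs]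
    have e2 : (ι ⟨c, hUS c.2⟩)⁻¹ * (g * ι ⟨c, hUS c.2⟩ * g⁻¹) =
        ((ι ⟨c, hUS c.2⟩)⁻¹ * g * (ι ⟨c, hUS c.2⟩)⁻¹⁻¹) * g⁻¹ := by group
    rw [e2]
    exact N.mul_mem (hN.conj_mem g hgN _) (N.inv_mem hgN)

end Cfsg.Agent.Lib.Helper9
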