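import Cfsg.Agent.Lib.Helper9.FusionChain2

set_option autoImplicit false

namespace Cfsg.Agent.Lib.Helper9

open Cfsg Cfsg.FusionSystem

variable {Ω : Type*} [Group Ω] {S : Subgroup Ω}

/-- Restriction of an `F`-automorphism of `P` to an invariant subgroup `P₀` is an `F`-automorphism
of `P₀`. -/
theorem exists_restrict_aut [Finite S] (F : FusionSystem S) {P P₀ : Subgroup Ω} (hPS : P ≤ S)
    (hle : P₀ ≤ P) {α : MulAut P} (hα : α ∈ F.autGroup P)
    (hinv : ∀ x : P, (x : Ω) ∈ P₀ → ((α x : P) : Ω) ∈ P₀) :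
    ∃ β ∈ F.autGroup P₀, ∀ x : P₀, ((β x : P₀) : Ω) = ((α (Subgroup.inclusion hle x) : P) : Ω) := by
  have hφ := (mem_autGroup_iff F hPS α).mp hα
  have hθ := restrict_mem F hφ hle
  have hP₀S : P₀ ≤ S := hle.trans hPS
  have hfin : Finite P₀ := finite_of_le' hP₀S
  have hrle : ((P.subtype.comp α.toMonoidHom).comp (Subgroup.inclusion hle)).range ≤ P₀ := by
    rintro _ ⟨x, rfl⟩
    exact hinv _ x.2
  have hcard : Nat.card ((P.subtype.comp α.toMonoidHom).comp (Subgroup.inclusion hle)).range =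
      Nat.card P₀ :=
    (Nat.card_congr (Equiv.ofInjective _ (F.injective_of_mem hθ))).symm
  have hr : ((P.subtype.comp α.toMonoidHom).comp (Subgroup.inclusion hle)).range = P₀ :=
    Subgroup.eq_of_le_of_card_ge hrle hcard.ge
  obtain ⟨θ', θi, hθ', -, -, -⟩ := exists_iso_data F hθ hr
  refine ⟨θ', ?_, fun x => hθ' x⟩
  rw [mem_autGroup_iff F hP₀S]
  have : P₀.subtype.comp (MulEquiv.toMonoidHom θ') =
      (P.subtype.comp α.toMonoidHom).comp (Subgroup.inclusion hle) := by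
    ext x
    exact hθ' x
  rw [this]
  exact hθ

theorem restrict_aut_pow {P P₀ : Subgroup Ω} (hle : P₀ ≤ P) (α : MulAut P) (β : MulAut P₀)
    (h : ∀ x : P₀, ((β x : P₀) : Ω) = ((α (Subgroup.inclusion hle x) : P) : Ω)) (n : ℕ) :
    ∀ x : P₀, (((β ^ n) x : P₀) : Ω) = (((α ^ n) (Subgroup.inclusion hle x) : P) : Ω) := by
  induction n with
  | zero => intro x; rfl
  | succ n ih =>
    intro x
    rw [pow_succ, pow_succ]
    show (((β ^ n) (β x) : P₀) : Ω) = (((α ^ n) (α (Subgroup.inclusion hle x)) : P) : Ω)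
    rw [ih]
    have : Subgroup.inclusion hle (β x) = α (Subgroup.inclusion hle x) := Subtype.ext (h x)
    rw [this]

end Cfsg.Agent.Lib.Helper9
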