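import Cfsg.Agent.Lib.Helper9.FusionSat5

set_option autoImplicit false

namespace Cfsg.Agent.Lib.Helper9

open Cfsg Cfsg.FusionSystem

variable {Ω : Type*} [Group Ω] {S : Subgroup Ω}

/-- If `P` is receptive and `φ ∈ Aut_F(P)` normalizes `Aut_S(P)`, then `φ` extends to an element of
`Aut_F(N_S(P))`. -/
theorem exists_aut_extension [Finite S] (F : FusionSystem S) {P : Subgroup Ω} (hPS : P ≤ S)
    (hrec : F.IsReceptive P) (φ : MulAut P) (hφ : φ ∈ F.autGroup P)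
    (hnorm : ∀ b ∈ autInducedBy S P, φ * b * φ⁻¹ ∈ autInducedBy S P) :
    ∃ φ' : MulAut ↥(normalizerIn S P), φ' ∈ F.autGroup (normalizerIn S P) ∧
      ∀ x : P, ((φ' (Subgroup.inclusion (le_normalizerIn hPS) x) : ↥(normalizerIn S P)) : Ω) = φ x := by
  have hφ₁ := (mem_autGroup_iff F hPS φ).mp hφ
  obtain ⟨φ₁, hφ₁def⟩ : ∃ φ₁ : P →* Ω, φ₁ = P.subtype.comp φ.toMonoidHom := ⟨_, rfl⟩
  rw [← hφ₁def] at hφ₁
  have hφ₁val : ∀ x : P, φ₁ x = ((φ x : P) : Ω) := fun x => by rw [hφ₁def]; rfl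
  have hφ₁r : φ₁.range = P := by
    ext y
    constructor
    · rintro ⟨x, rfl⟩; rw [hφ₁val]; exact (φ x).2
    · intro hy
      refine ⟨φ.symm ⟨y, hy⟩, ?_⟩
      rw [hφ₁val, MulEquiv.apply_symm_apply]
  have hNN : normalizerIn S P ≤ Subgroup.normalizer (P : Set Ω) := normalizerIn_le_normalizer S P
  have hext : normalizerIn S P ≤ extender S P φ₁ := by
    intro g hg
    apply Subgroup.subset_closure
    have hcg : normConj P ⟨g, hNN hg⟩ ∈ autInducedBy S P :=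
      Subgroup.subset_closure ⟨g, normalizerIn_le_left S P hg, fun x => rfl⟩
    have h1 := hnorm _ hcg
    rw [autInducedBy_eq_map] at h1
    obtain ⟨n, hnS, hn⟩ := h1
    refine ⟨normalizerIn_le_left S P hg, hNN hg, (n : Ω), Subgroup.mem_subgroupOf.mp hnS, ?_⟩
    intro x hx
    have h2 : ((normConj P n (φ x) : P) : Ω) = (((φ * normConj P ⟨g, hNN hg⟩ * φ⁻¹) (φ x) : P) : Ω) := by
      rw [hn]
    rw [normConj_apply] at h2
    have h3 : (φ * normConj P ⟨g, hNN hg⟩ * φ⁻¹) (φ x) = φ (normConj P ⟨g, hNN hg⟩ x) := by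
      show φ (normConj P ⟨g, hNN hg⟩ (φ.symm (φ x))) = _
      rw [MulEquiv.symm_apply_apply]
    rw [h3] at h2
    rw [hφ₁val, hφ₁val, h2]
    congr 2
  obtain ⟨χ, hχ, hχφ⟩ := hrec.2 P φ₁ hφ₁ hφ₁r
  have hPN : P ≤ normalizerIn S P := le_normalizerIn hPS
  have hχS := (F.le_of_mem hχ).2
  obtain ⟨ψ, hψdef⟩ : ∃ ψ : ↥(normalizerIn S P) →* Ω, ψ = χ.comp (Subgroup.inclusion hext) := ⟨_, rfl⟩
  have hψ : ψ ∈ F.Hom (normalizerIn S P) := by rw [hψdef]; exact restrict_mem F hχ hext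
  have hψP : ∀ x : P, ψ ⟨x, hPN x.2⟩ = ((φ x : P) : Ω) := by
    intro x
    rw [hψdef, ← hφ₁val, ← hχφ x x.2 (hext (hPN x.2))]
    rfl
  have hψinj := F.injective_of_mem hψ
  have hψN : ∀ g : ↥(normalizerIn S P), ψ g ∈ normalizerIn S P := by
    intro g
    refine Subgroup.mem_inf.mpr ⟨by rw [hψdef]; exact hχS _, ?_⟩
    have hle : (⊤ : Subgroup ↥(normalizerIn S P)).map ψ ≤ Subgroup.normalizer (P : Set Ω) := by
      rw [Subgroup.le_normalizer_iff]
      rintro _ ⟨k, -, rfl⟩ y hy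
      obtain ⟨x, hx⟩ : ∃ x : P, ((φ x : P) : Ω) = y := ⟨φ.symm ⟨y, hy⟩, by rw [MulEquiv.apply_symm_apply]⟩
      have hkx : (k : Ω) * x * (k : Ω)⁻¹ ∈ P := (Subgroup.mem_normalizer_iff.mp (hNN k.2) _).mp x.2
      have h7 : ψ k * y * (ψ k)⁻¹ = ψ ⟨(k : Ω) * x * (k : Ω)⁻¹, hPN hkx⟩ := by
        rw [← hx, ← hψP x, ← map_inv, ← map_mul, ← map_mul]
        congr 1
      rw [h7, hψP ⟨_, hkx⟩]
      exact (φ _).2
    exact hle ⟨g, Subgroup.mem_top g, rfl⟩
  have hfinN : Finite ↥(normalizerIn S P) := finite_of_le' (normalizerIn_le_left S P)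
  have hbij : Function.Bijective (ψ.codRestrict (normalizerIn S P) hψN) := by
    rw [← Finite.injective_iff_bijective]
    intro x y hxy
    exact hψinj (congrArg Subtype.val hxy)
  refine ⟨MulEquiv.ofBijective (ψ.codRestrict (normalizerIn S P) hψN) hbij, ?_, ?_⟩
  · apply Subgroup.subset_closure
    have : (normalizerIn S P).subtype.comp
        (MulEquiv.ofBijective (ψ.codRestrict (normalizerIn S P) hψN) hbij).toMonoidHom = ψ := by
      ext y; rfl
    show (normalizerIn S P).subtype.comp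
        (MulEquiv.ofBijective (ψ.codRestrict (normalizerIn S P) hψN) hbij).toMonoidHom ∈ F.Hom _
    rw [this]; exact hψ
  · intro x
    exact hψP x

end Cfsg.Agent.Lib.Helper9
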