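import Cfsg.Agent.S5119
import Cfsg.Agent.Lib.Helper9.FusionCentric4
import Cfsg.Agent.Lib.Helper9.FusionSat3
import Cfsg.Agent.Lib.Helper9.SylowConj

set_option autoImplicit false

namespace Cfsg.Agent.Lib.Helper9

open Cfsg Cfsg.FusionSystem

variable {Ω : Type*} [Group Ω] {S : Subgroup Ω}

/-- An invariant subsystem over the same group containing `Aut_F(S)` is everything. -/
theorem hom_le_of_autGroup_le (F E : FusionSystem S) (hinv : E.IsInvariantIn F)
    (hAut : F.autGroup S ≤ E.autGroup S) (P : Subgroup Ω) (φ : P →* Ω) (hφ : φ ∈ F.Hom P) :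
    φ ∈ E.Hom P := by
  obtain ⟨-, hsc, -, hfrat⟩ := hinv
  have hPS := (F.le_of_mem hφ).1
  obtain ⟨α, hα, φ₀, hφ₀, hs⟩ := hfrat P hPS φ hφ
  have hαE : S.subtype.comp α.toMonoidHom ∈ E.Hom S :=
    (mem_autGroup_iff E le_rfl α).mp (hAut hα)
  have hφ₀S := (E.le_of_mem hφ₀).2
  have h1 := E.comp_mem hφ₀ hαE hφ₀S
  have : (S.subtype.comp α.toMonoidHom).comp (φ₀.codRestrict S hφ₀S) = φ := by
    ext x
    exact (hs x (hφ₀S x)).symm
  rw [← this]
  exact h1

/-- For an invariant subsystem `E` of a saturated system `F`, `Aut_E(R)` is normalized by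
`Aut_F(R)`. -/
theorem autGroup_conj_mem [Finite S] (p : ℕ) [Fact p.Prime] (hS : IsPGroup p S)
    (F : FusionSystem S) (hF : F.IsSaturated p) {T : Subgroup Ω} (E : FusionSystem T)
    (hinv : E.IsInvariantIn F) {R : Subgroup Ω} (hRT : R ≤ T) {a g : MulAut R}
    (ha : a ∈ E.autGroup R) (hg : g ∈ F.autGroup R) : g * a * g⁻¹ ∈ E.autGroup R := by
  have hstrong := (Cfsg.Agent.S5119.result p hS F hF E hinv.1 hinv.2.1).mp hinv
  have hRS : R ≤ S := hRT.trans hinv.2.1.1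
  have haE := (mem_autGroup_iff E hRT a).mp ha
  have hgF := (mem_autGroup_iff F hRS g).mp hg
  obtain ⟨χ, hχ, hχs⟩ := hstrong R R le_rfl hRT (R.subtype.comp a.toMonoidHom) haE
    (fun x => (a x).2) (R.subtype.comp g.toMonoidHom) hgF
  have hle : R ≤ (R.subgroupOf R).map (R.subtype.comp g.toMonoidHom) := by
    intro y hy
    refine ⟨g⁻¹ ⟨y, hy⟩, Subgroup.mem_subgroupOf.mpr (g⁻¹ ⟨y, hy⟩).2, ?_⟩
    show ((g (g⁻¹ ⟨y, hy⟩) : R) : Ω) = y
    rw [MulAut.apply_inv_self]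
  have hEq : χ.comp (Subgroup.inclusion hle) = R.subtype.comp (g * a * g⁻¹).toMonoidHom := by
    ext y
    show χ ⟨y, hle y.2⟩ = ((g (a (g⁻¹ y)) : R) : Ω)
    have hmem : (R.subtype.comp g.toMonoidHom) (Subgroup.inclusion le_rfl (g⁻¹ y)) ∈
        (R.subgroupOf R).map (R.subtype.comp g.toMonoidHom) :=
      ⟨_, Subgroup.mem_subgroupOf.mpr (g⁻¹ y).2, rfl⟩
    have hx := hχs (g⁻¹ y) hmem
    have e : (⟨(y : Ω), hle y.2⟩ : ↥((R.subgroupOf R).map (R.subtype.comp g.toMonoidHom))) =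
        ⟨(R.subtype.comp g.toMonoidHom) (Subgroup.inclusion le_rfl (g⁻¹ y)), hmem⟩ := by
      apply Subtype.ext
      show (y : Ω) = ((g (g⁻¹ y) : R) : Ω)
      rw [MulAut.apply_inv_self]
    rw [e, hx]
    rfl
  apply Subgroup.subset_closure
  show R.subtype.comp (g * a * g⁻¹).toMonoidHom ∈ E.Hom R
  rw [← hEq]
  exact restrict_mem E hχ hle

/-- For an invariant subsystem `E` over the same `S`, the `p`-elements of `Aut_F(R)` lie in
`Aut_E(R)` when `R` is fully normalized. -/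
theorem pElem_mem_autGroup [Finite S] (p : ℕ) [Fact p.Prime] (hS : IsPGroup p S)
    (F : FusionSystem S) (hF : F.IsSaturated p) (E : FusionSystem S) (hinv : E.IsInvariantIn F)
    {R : Subgroup Ω} (hR : F.IsFullyNormalized R) {a : MulAut R} (ha : a ∈ F.autGroup R) {k : ℕ}
    (hk : a ^ p ^ k = 1) : a ∈ E.autGroup R := by
  have hRS := hR.1
  obtain ⟨-, -, Syl, hSyl⟩ := sat_fullyNormalized p hS F hF hR
  have hfinR : Finite R := finite_of_le' hRS
  have hpow : (⟨a, ha⟩ : F.autGroup R) ^ p ^ k = 1 := Subtype.ext hk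
  have hpz := isPGroup_zpowers_of_pow_eq_one hpow
  obtain ⟨g, hg⟩ := exists_conj_le_sylow p Syl hpz
  have hmem : g * ⟨a, ha⟩ * g⁻¹ ∈ (Syl : Subgroup (F.autGroup R)) :=
    hg ⟨_, Subgroup.mem_zpowers _, rfl⟩
  rw [hSyl, Subgroup.mem_subgroupOf] at hmem
  have h1 : (g : MulAut R) * a * (g : MulAut R)⁻¹ ∈ E.autGroup R :=
    autInducedBy_le_autGroup E hRS hmem
  have h2 := autGroup_conj_mem p hS F hF E hinv hRS h1 (Subgroup.inv_mem _ g.2)
  have e : (g : MulAut R)⁻¹ * ((g : MulAut R) * a * (g : MulAut R)⁻¹) * ((g : MulAut R)⁻¹)⁻¹ = a := by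
    group
  rw [e] at h2
  exact h2

end Cfsg.Agent.Lib.Helper9
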