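import Cfsg.Agent.Lib.Helper9.PAutFix
import Cfsg.Agent.Lib.Helper9.KNorm1
import Cfsg.Agent.Lib.Helper9.FusionAlp2
import Cfsg.Agent.Lib.Helper9.FusionSat3
import Cfsg.Agent.S5080

set_option autoImplicit false
set_option maxHeartbeats 1600000

namespace Cfsg.Agent.Lib.Helper9

open Cfsg Cfsg.FusionSystem

/-- A `p`-element normalizing a cyclic group of order dividing `p` centralizes it. -/
theorem conj_eq_self_of_conj_mem_zpowers {G : Type*} [Group G] (p : ℕ) [hp : Fact p.Prime]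
    {y s : G} (hy : y ^ p = 1) {k : ℕ} (hs : s ^ p ^ k = 1)
    (h : s * y * s⁻¹ ∈ Subgroup.zpowers y) : s * y * s⁻¹ = y := by
  obtain ⟨j, hj⟩ := Subgroup.mem_zpowers_iff.mp h
  by_cases hy1 : y = 1
  · rw [hy1]; group
  have hord : orderOf y = p := orderOf_eq_prime hy hy1
  have hpow : ∀ n : ℕ, s ^ n * y * (s ^ n)⁻¹ = y ^ (j ^ n) := by
    intro n
    induction n with
    | zero => simp
    | succ n ih =>
      calc s ^ (n + 1) * y * (s ^ (n + 1))⁻¹ = s * (s ^ n * y * (s ^ n)⁻¹) * s⁻¹ := by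
            rw [pow_succ']; group
        _ = s * y ^ (j ^ n) * s⁻¹ := by rw [ih]
        _ = (s * y * s⁻¹) ^ (j ^ n) := by rw [conj_zpow]
        _ = (y ^ j) ^ (j ^ n) := by rw [hj]
        _ = y ^ (j ^ (n + 1)) := by rw [← zpow_mul, pow_succ']
  have h1 := hpow (p ^ k)
  rw [hs] at h1
  simp only [one_mul, inv_one, mul_one] at h1
  have h2 : y ^ (j ^ p ^ k - 1) = 1 := by rw [zpow_sub, ← h1, zpow_one, mul_inv_cancel]
  have h3 : ((orderOf y : ℕ) : ℤ) ∣ j ^ p ^ k - 1 := orderOf_dvd_iff_zpow_eq_one.mpr h2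
  rw [hord] at h3
  have h4 : ((j ^ p ^ k - 1 : ℤ) : ZMod p) = 0 := (ZMod.intCast_zmod_eq_zero_iff_dvd _ p).mpr h3
  push_cast at h4
  rw [ZMod.pow_card_pow] at h4
  have h5 : (p : ℤ) ∣ j - 1 := by
    rw [← ZMod.intCast_zmod_eq_zero_iff_dvd]
    push_cast
    exact h4
  obtain ⟨m, hm⟩ := h5
  have hjm : j = 1 + p * m := by omega
  rw [← hj, hjm, zpow_add, zpow_one, zpow_mul, zpow_natCast, hy, one_zpow, mul_one]

variable {Ω : Type*} [Group Ω] {S : Subgroup Ω}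

/-- The subgroup of `Aut(P)` of the automorphisms normalizing the small cyclic subgroups of the
focal subgroup and centralizing its elements of order `p`. -/
def smallStab (F : FusionSystem S) (p : ℕ) (P : Subgroup Ω) : Subgroup (MulAut P) where
  carrier := {a | ∀ y : P, (y : Ω) ∈ F.focalSubgroup → (y ^ p = 1 ∨ (p = 2 ∧ y ^ 4 = 1)) →
    (∃ k : ℤ, a y = y ^ k) ∧ (∃ k : ℤ, a⁻¹ y = y ^ k) ∧ (y ^ p = 1 → a y = y)}
  one_mem' := fun y _ _ => ⟨⟨1, by simp⟩, ⟨1, by simp⟩, fun _ => rfl⟩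
  mul_mem' := by
    intro a b ha hb y hy hs
    obtain ⟨⟨k, hk⟩, ⟨k', hk'⟩, h3⟩ := ha y hy hs
    obtain ⟨⟨j, hj⟩, ⟨j', hj'⟩, h3'⟩ := hb y hy hs
    refine ⟨⟨j * k, ?_⟩, ⟨k' * j', ?_⟩, fun hyp => ?_⟩
    · rw [MulAut.mul_apply, hj, map_zpow, hk, ← zpow_mul, mul_comm]
    · rw [mul_inv_rev, MulAut.mul_apply, hk', map_zpow, hj', ← zpow_mul, mul_comm]
    · rw [MulAut.mul_apply, h3' hyp, h3 hyp]
  inv_mem' := by
    intro a ha y hy hs
    obtain ⟨h1, h2, h3⟩ := ha y hy hs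
    refine ⟨h2, by rw [inv_inv]; exact h1, fun hyp => ?_⟩
    have := h3 hyp
    rw [← this, MulAut.inv_apply_self, this]

theorem not_isEssential_of_small_normal [Finite S] (p : ℕ) [hp : Fact p.Prime] (hS : IsPGroup p S)
    (F : FusionSystem S) (hF : F.IsSaturated p)
    (hnorm : ∀ x ∈ F.focalSubgroup, (x ^ p = 1 ∨ (p = 2 ∧ x ^ 4 = 1)) →
      ∀ s ∈ S, s * x * s⁻¹ ∈ Subgroup.zpowers x) (P : Subgroup Ω) : ¬ F.IsEssential p P := by
  intro hess
  have hrad := Cfsg.Agent.S5080.result p hS F hF P hess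
  obtain ⟨hcen, hfn, hInn, E, hE⟩ := hess
  have hPS : P ≤ S := hcen.1
  haveI hfinP : Finite P := finite_of_le' hPS
  haveI : Finite (MulAut P) := inferInstance
  obtain ⟨-, hfa⟩ := sat_fullyNormalized p hS F hF hfn
  obtain ⟨-, R, hR⟩ := hfa
  have hPp : IsPGroup p P := hS.to_le hPS
  have hfocS : F.focalSubgroup ≤ S := by
    unfold focalSubgroup
    rw [Subgroup.closure_le]
    rintro _ ⟨Q, φ, x, hφ, rfl⟩
    exact S.mul_mem (S.inv_mem ((F.le_of_mem hφ).1 x.2)) ((F.le_of_mem hφ).2 x)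
  -- the focal subgroup is closed under the maps of the system
  have hfocmap : ∀ a ∈ F.autGroup P, ∀ y : P, (y : Ω) ∈ F.focalSubgroup →
      ((a y : P) : Ω) ∈ F.focalSubgroup := by
    intro a ha y hy
    have h1 : (y : Ω)⁻¹ * ((a y : P) : Ω) ∈ F.focalSubgroup :=
      Subgroup.subset_closure ⟨P, _, y, (mem_autGroup_iff F hPS a).mp ha, rfl⟩
    have := Subgroup.mul_mem _ hy h1
    rwa [mul_inv_cancel_left] at this
  have hsmallmap : ∀ (a : MulAut P) (y : P), (y ^ p = 1 ∨ (p = 2 ∧ y ^ 4 = 1)) →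
      ((a y) ^ p = 1 ∨ (p = 2 ∧ (a y) ^ 4 = 1)) := by
    intro a y hy
    rcases hy with h | ⟨h2, h4⟩
    · left
      rw [← map_pow, h, map_one]
    · right
      exact ⟨h2, by rw [← map_pow, h4, map_one]⟩
  -- (1) `Aut_S(P) ≤ smallStab`
  have hconjS : ∀ s ∈ S, ∀ y : P, (y : Ω) ∈ F.focalSubgroup →
      (y ^ p = 1 ∨ (p = 2 ∧ y ^ 4 = 1)) → ∀ hy' : s * (y : Ω) * s⁻¹ ∈ P,
      (∃ k : ℤ, (⟨s * (y : Ω) * s⁻¹, hy'⟩ : P) = y ^ k) ∧
        (y ^ p = 1 → (⟨s * (y : Ω) * s⁻¹, hy'⟩ : P) = y) := by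
    intro s hs y hy hsm hy'
    have hsmΩ : ((y : Ω) ^ p = 1 ∨ (p = 2 ∧ (y : Ω) ^ 4 = 1)) := by
      rcases hsm with h | ⟨h2, h4⟩
      · left
        have := congrArg Subtype.val h
        simpa using this
      · right
        refine ⟨h2, ?_⟩
        have := congrArg Subtype.val h4
        simpa using this
    have h1 := hnorm _ hy hsmΩ s hs
    constructor
    · obtain ⟨k, hk⟩ := Subgroup.mem_zpowers_iff.mp h1
      refine ⟨k, Subtype.ext ?_⟩
      rw [Subgroup.coe_zpow]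
      exact hk.symm
    · intro hyp
      have hypΩ : (y : Ω) ^ p = 1 := by
        have := congrArg Subtype.val hyp
        simpa using this
      obtain ⟨k, hk⟩ := hS ⟨s, hs⟩
      have hk' : s ^ p ^ k = 1 := by
        have := congrArg Subtype.val hk
        simpa using this
      exact Subtype.ext (conj_eq_self_of_conj_mem_zpowers p hypΩ hk' h1)
  have hSle : autInducedBy S P ≤ smallStab F p P := by
    unfold autInducedBy
    rw [Subgroup.closure_le]
    rintro a ⟨s, hs, hsa⟩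
    intro y hy hsm
    have hy1 : s * (y : Ω) * s⁻¹ ∈ P := by rw [← hsa]; exact (a y).2
    have e1 : a y = ⟨s * (y : Ω) * s⁻¹, hy1⟩ := Subtype.ext (hsa y)
    have hy2 : s⁻¹ * (y : Ω) * s⁻¹⁻¹ ∈ P := by
      have h := hsa (a⁻¹ y)
      rw [MulAut.apply_inv_self] at h
      have : s⁻¹ * (y : Ω) * s⁻¹⁻¹ = ((a⁻¹ y : P) : Ω) := by
        rw [h]; group
      rw [this]
      exact (a⁻¹ y).2
    have e2 : a⁻¹ y = ⟨s⁻¹ * (y : Ω) * s⁻¹⁻¹, hy2⟩ := by
      apply Subtype.ext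
      have h := hsa (a⁻¹ y)
      rw [MulAut.apply_inv_self] at h
      show ((a⁻¹ y : P) : Ω) = s⁻¹ * (y : Ω) * s⁻¹⁻¹
      rw [h]; group
    obtain ⟨h1, h1'⟩ := hconjS s hs y hy hsm hy1
    obtain ⟨h2, -⟩ := hconjS s⁻¹ (S.inv_mem hs) y hy hsm hy2
    rw [e1, e2]
    exact ⟨h1, h2, h1'⟩
  -- (2) `smallStab` is normalized by `Aut_F(P)`
  have hLnorm : ∀ c ∈ F.autGroup P, ∀ a ∈ smallStab F p P, c * a * c⁻¹ ∈ smallStab F p P := by
    intro c hc a ha y hy hsm
    have hc' := (F.autGroup P).inv_mem hc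
    obtain ⟨⟨k, hk⟩, ⟨k', hk'⟩, h3⟩ := ha (c⁻¹ y) (hfocmap _ hc' y hy) (hsmallmap c⁻¹ y hsm)
    refine ⟨⟨k, ?_⟩, ⟨k', ?_⟩, fun hyp => ?_⟩
    · rw [MulAut.mul_apply, MulAut.mul_apply, hk, map_zpow, MulAut.apply_inv_self]
    · rw [mul_inv_rev, mul_inv_rev, inv_inv, ← mul_assoc, MulAut.mul_apply, MulAut.mul_apply, hk',
        map_zpow, MulAut.apply_inv_self]
    · have hyp' : (c⁻¹ y) ^ p = 1 := by rw [← map_pow, hyp, map_one]
      rw [MulAut.mul_apply, MulAut.mul_apply, h3 hyp', MulAut.apply_inv_self]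
  -- (3) the `p'`-elements of `smallStab ⊓ Aut_F(P)` are trivial
  have hD : F.focalSubgroup ⊓ P ≤ P := inf_le_right
  haveI hfinD : Finite ↥(F.focalSubgroup ⊓ P) := finite_of_le' (hD.trans hPS)
  have hDp : IsPGroup p ↥(F.focalSubgroup ⊓ P) := hS.to_le (hD.trans hPS)
  have hpp : ∀ b ∈ smallStab F p P, b ∈ F.autGroup P → (orderOf b).Coprime p → b = 1 := by
    intro b hbL hbA hbo
    -- `b` fixes the small elements of the focal subgroup
    have hfixsmall : ∀ y : P, (y : Ω) ∈ F.focalSubgroup → (y ^ p = 1 ∨ (p = 2 ∧ y ^ 4 = 1)) →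
        b y = y := by
      intro y hy hsm
      obtain ⟨⟨k, hk⟩, -, h3⟩ := hbL y hy hsm
      rcases hsm with hyp | ⟨h2, h4⟩
      · exact h3 hyp
      · -- `p = 2`, `y ^ 4 = 1`
        have hy2foc : ((y ^ 2 : P) : Ω) ∈ F.focalSubgroup := by
          rw [Subgroup.coe_pow]
          exact Subgroup.pow_mem _ hy 2
        have hy2p : (y ^ 2) ^ p = 1 := by rw [h2, ← pow_mul]; exact h4
        have hby2 : b (y ^ 2) = y ^ 2 := (hbL (y ^ 2) hy2foc (Or.inl hy2p)).2.2 hy2p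
        -- `w = y⁻¹ * b y` has order dividing `2`
        have hw2 : (y⁻¹ * b y) ^ 2 = 1 := by
          have hcomm : Commute y⁻¹ (b y) := by
            rw [hk]
            exact ((Commute.refl y).inv_left).zpow_right k
          rw [hcomm.mul_pow, ← map_pow, hby2, inv_pow, inv_mul_cancel]
        have hwfoc : ((y⁻¹ * b y : P) : Ω) ∈ F.focalSubgroup := by
          have := hfocmap b hbA y hy
          exact Subgroup.mul_mem _ (Subgroup.inv_mem _ hy) this
        have hwp : (y⁻¹ * b y) ^ p = 1 := by rw [h2]; exact hw2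
        have hbw : b (y⁻¹ * b y) = y⁻¹ * b y := (hbL _ hwfoc (Or.inl hwp)).2.2 hwp
        have hk1 : (y⁻¹ * b y) ^ p ^ 1 = 1 := by rw [pow_one]; exact hwp
        exact fix_of_fix_comm p b hbo hbw hk1
    -- the restriction of `b` to the focal part
    have hstab : b ∈ autStab P (F.focalSubgroup ⊓ P) := by
      intro x
      constructor
      · intro hx
        have h1 := hfocmap b⁻¹ ((F.autGroup P).inv_mem hbA) (b x) (Subgroup.mem_inf.mp hx).1
        rw [MulAut.inv_apply_self] at h1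
        exact Subgroup.mem_inf.mpr ⟨h1, x.2⟩
      · intro hx
        exact Subgroup.mem_inf.mpr ⟨hfocmap b hbA x (Subgroup.mem_inf.mp hx).1, (b x).2⟩
    have hβo : (orderOf (autRes hD ⟨b, hstab⟩)).Coprime p := by
      apply Nat.Coprime.coprime_dvd_left _ hbo
      apply orderOf_dvd_of_pow_eq_one
      rw [← map_pow]
      have : (⟨b, hstab⟩ : ↥(autStab P (F.focalSubgroup ⊓ P))) ^ orderOf b = 1 :=
        Subtype.ext (pow_orderOf_eq_one b)
      rw [this, map_one]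
    have hβ1 := aut_eq_one_of_fix_small p hDp (autRes hD ⟨b, hstab⟩) hβo (by
      intro x hx
      apply Subtype.ext
      rw [autRes_apply]
      have hxfoc : ((Subgroup.inclusion hD x : P) : Ω) ∈ F.focalSubgroup :=
        (Subgroup.mem_inf.mp x.2).1
      have hxs : ((Subgroup.inclusion hD x) ^ p = 1 ∨ (p = 2 ∧ (Subgroup.inclusion hD x) ^ 4 = 1)) := by
        rcases hx with h | ⟨h2, h4⟩
        · left
          rw [← map_pow, h, map_one]
        · right
          exact ⟨h2, by rw [← map_pow, h4, map_one]⟩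
      have := hfixsmall _ hxfoc hxs
      rw [this]
      rfl)
    ext x
    have hwD : ((x⁻¹ * b x : P) : Ω) ∈ F.focalSubgroup ⊓ P := by
      refine Subgroup.mem_inf.mpr ⟨?_, (x⁻¹ * b x).2⟩
      exact Subgroup.subset_closure ⟨P, _, x, (mem_autGroup_iff F hPS b).mp hbA, rfl⟩
    have hbw : b (x⁻¹ * b x) = x⁻¹ * b x := by
      apply Subtype.ext
      have h1 := autRes_apply hD ⟨b, hstab⟩ ⟨_, hwD⟩
      rw [hβ1] at h1
      exact h1.symm
    obtain ⟨k, hk⟩ := hPp (x⁻¹ * b x)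
    rw [fix_of_fix_comm p b hbo hbw hk]
    rfl
  -- (4) `smallStab ⊓ Aut_F(P)` is a `p`-group
  have hLp : IsPGroup p ↥(smallStab F p P ⊓ F.autGroup P) := by
    rintro ⟨a, ha⟩
    have hm0 : orderOf a ≠ 0 := (orderOf_pos a).ne'
    have hp1 : p ≠ 1 := hp.out.one_lt.ne'
    obtain ⟨e, m, hm, hn⟩ := Nat.exists_eq_pow_mul_and_not_dvd hm0 p hp1
    have hmp : Nat.Coprime m p := ((Nat.Prime.coprime_iff_not_dvd hp.out).mpr hm).symm
    refine ⟨e, Subtype.ext ?_⟩
    rw [Subgroup.coe_pow, Subgroup.coe_one]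
    show a ^ p ^ e = 1
    have hb1 : (a ^ p ^ e) ^ m = 1 := by
      rw [← pow_mul, ← hn, pow_orderOf_eq_one]
    have hbo : (orderOf (a ^ p ^ e)).Coprime p :=
      Nat.Coprime.coprime_dvd_left (orderOf_dvd_of_pow_eq_one hb1) hmp
    exact hpp _ (Subgroup.pow_mem _ (Subgroup.mem_inf.mp ha).1 _)
      (Subgroup.pow_mem _ (Subgroup.mem_inf.mp ha).2 _) hbo
  -- (5) it lies in `O_p(Aut_F(P)) = Inn(P)`
  have hLnormal : ((smallStab F p P ⊓ F.autGroup P).subgroupOf (F.autGroup P)).Normal := by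
    constructor
    intro d hd c
    rw [Subgroup.mem_subgroupOf] at hd ⊢
    refine Subgroup.mem_inf.mpr ⟨?_, (c * d * c⁻¹).2⟩
    exact hLnorm c c.2 d (Subgroup.mem_inf.mp hd).1
  have hLcore : (smallStab F p P ⊓ F.autGroup P).subgroupOf (F.autGroup P) ≤
      pCore p ↥(F.autGroup P) := le_sSup ⟨hLnormal, hLp.comap_subtype⟩
  have hLInn : smallStab F p P ⊓ F.autGroup P ≤ Inn P := by
    rw [← hrad.2, ← Subgroup.map_subgroupOf_eq_of_le (inf_le_right :
      smallStab F p P ⊓ F.autGroup P ≤ F.autGroup P)]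
    exact Subgroup.map_mono hLcore
  -- (6) contradiction
  have hSInn : autInducedBy S P = Inn P :=
    le_antisymm ((le_inf hSle (autInducedBy_le_autGroup F hPS)).trans hLInn)
      (inn_le_autInducedBy hPS)
  rw [hSInn] at hR
  have hdvd := hE.1
  rw [← Subgroup.index_eq_card, ← hR] at hdvd
  exact R.not_dvd_index hdvd

end Cfsg.Agent.Lib.Helper9
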