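import Cfsg.Agent.Lib.Helper9.FusionTExt

set_option autoImplicit false

namespace Cfsg.Agent.Lib.Helper9

open Cfsg Cfsg.FusionSystem

variable {Ω : Type*} [Group Ω] {S : Subgroup Ω}

theorem text_step [Finite S] (p : ℕ) [Fact p.Prime] (hS : IsPGroup p S) (F : FusionSystem S)
    (hF : F.IsSaturated p) {T : Subgroup Ω} (hT : F.StronglyClosed T) (U : Subgroup Ω)
    (hU : U = S ∨ F.IsEssential p U)
    (IH : ∀ P : Subgroup Ω, Nat.card U < Nat.card P → ∀ φ ∈ F.Hom P, TExt F T P φ)
    (α : MulAut U) (hα : α ∈ F.autGroup U) : TExt F T U (U.subtype.comp α.toMonoidHom) := by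
  have hUS : U ≤ S := by
    rcases hU with rfl | hess
    · exact le_rfl
    · exact hess.1.1
  have hφ := (mem_autGroup_iff F hUS α).mp hα
  by_cases hTU : T ≤ U
  · have hle : U ⊔ T ≤ U := sup_le le_rfl hTU
    refine ⟨(U.subtype.comp α.toMonoidHom).comp (Subgroup.inclusion hle), restrict_mem F hφ hle,
      fun x => ?_⟩
    have : Subgroup.inclusion hle (Subgroup.inclusion le_sup_left x) = x := Subtype.ext rfl
    show ((U.subtype.comp α.toMonoidHom) x)⁻¹ * (U.subtype.comp α.toMonoidHom)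
      (Subgroup.inclusion hle (Subgroup.inclusion le_sup_left x)) ∈ T
    rw [this, inv_mul_cancel]
    exact T.one_mem
  · have hess : F.IsEssential p U := by
      rcases hU with rfl | h
      · exact absurd hT.1 hTU
      · exact h
    have hfn := hess.2.1
    obtain ⟨hfc, hfa⟩ := sat_fullyNormalized p hS F hF hfn
    have hrec := sat_fullyCentralized_receptive p hS F hF hfc
    have hfinU : Finite U := finite_of_le' hUS
    have hSNT := le_normalizer_of_stronglyClosed F hT
    obtain ⟨b, hbT, hbN, hbU⟩ : ∃ b ∈ T, b ∈ Subgroup.normalizer (U : Set Ω) ∧ b ∉ U := by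
      by_contra hcon
      push_neg at hcon
      exact hTU (le_of_forall_mem_normalizer_mem p hS hUS hT.1 (hUS.trans hSNT) hcon)
    -- the chain
    obtain ⟨R, hRdef⟩ : ∃ R : ℕ → Subgroup U, R = fun j => if j = 0 then T.subgroupOf U else ⊤ :=
      ⟨_, rfl⟩
    have hR0 : R 0 = T.subgroupOf U := by rw [hRdef]; simp
    have hRge : ∀ j, 1 ≤ j → R j = ⊤ := by
      intro j hj
      have : j ≠ 0 := by omega
      rw [hRdef]; simp [this]
    have hRinv : ∀ γ ∈ F.autGroup U, ∀ j, ∀ x ∈ R j, γ x ∈ R j := by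
      intro γ hγ j x hx
      rcases Nat.eq_zero_or_pos j with rfl | hj
      · rw [hR0] at hx ⊢
        exact Subgroup.mem_subgroupOf.mpr
          (aut_mem_of_stronglyClosed F hUS hT hγ x (Subgroup.mem_subgroupOf.mp hx))
      · rw [hRge j hj]; exact Subgroup.mem_top _
    haveI hLn := stabSub_normal (F.autGroup U) R hRinv
    obtain ⟨Rs, hRs⟩ := hfa.2
    have hfinA : Finite (MulAut U) := inferInstance
    obtain ⟨n, hnL, h, hαeq, hnorm⟩ :=
      frattini_inf p Rs ((stabSub (F.autGroup U) R hRinv).subgroupOf (F.autGroup U)) ⟨α, hα⟩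
    have hαeq' : α = (h : MulAut U) * (n : MulAut U) := congrArg Subtype.val hαeq
    have hnT : ∀ x : U, ((x⁻¹ * (n : MulAut U) x : U) : Ω) ∈ T := by
      intro x
      have h1 := (mem_stabSub.mp (Subgroup.mem_subgroupOf.mp hnL)).2 0 x
        (by rw [hRge 1 le_rfl]; exact Subgroup.mem_top _)
      rw [hR0] at h1
      exact Subgroup.mem_subgroupOf.mp h1
    -- conjugation by b
    have hcbS : normConj U ⟨b, hbN⟩ ∈ autInducedBy S U :=
      Subgroup.subset_closure ⟨b, hT.1 hbT, fun x => rfl⟩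
    have hcbA : normConj U ⟨b, hbN⟩ ∈ F.autGroup U := autInducedBy_le_autGroup F hUS hcbS
    have hcbL : normConj U ⟨b, hbN⟩ ∈ stabSub (F.autGroup U) R hRinv := by
      rw [mem_stabSub]
      refine ⟨hcbA, fun j x _ => ?_⟩
      rcases Nat.eq_zero_or_pos j with rfl | hj
      · rw [hR0, Subgroup.mem_subgroupOf]
        show (x : Ω)⁻¹ * (b * (x : Ω) * b⁻¹) ∈ T
        have h5 := conj_mem_of_stronglyClosed F hT (hUS (Subgroup.inv_mem _ x.2)) hbT
        have h6 : (x : Ω)⁻¹ * (b * (x : Ω) * b⁻¹) = ((x : Ω)⁻¹ * b * ((x : Ω)⁻¹)⁻¹) * b⁻¹ := by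
          group
        rw [h6]
        exact T.mul_mem h5 (T.inv_mem hbT)
      · rw [hRge j hj]; exact Subgroup.mem_top _
    have hmem : (⟨normConj U ⟨b, hbN⟩, hcbA⟩ : F.autGroup U) ∈ (Rs : Subgroup (F.autGroup U)) ⊓
        (stabSub (F.autGroup U) R hRinv).subgroupOf (F.autGroup U) := by
      refine Subgroup.mem_inf.mpr ⟨?_, Subgroup.mem_subgroupOf.mpr hcbL⟩
      rw [hRs]
      exact Subgroup.mem_subgroupOf.mpr hcbS
    have h1 := (Subgroup.mem_inf.mp (hnorm _ hmem)).1
    rw [hRs, Subgroup.mem_subgroupOf] at h1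
    have h2 : (h : MulAut U) * normConj U ⟨b, hbN⟩ * (h : MulAut U)⁻¹ ∈ autInducedBy S U := h1
    have hbE := mem_extender_of_conj_mem F (h : MulAut U) (hT.1 hbT) hbN h2
    obtain ⟨hβ₁, hβ₁r⟩ := aut_hom_mem F hUS h.2
    obtain ⟨χ, hχ, hχβ⟩ := hrec.2 U _ hβ₁ hβ₁r
    have hle : U ≤ extender S U (U.subtype.comp (h : MulAut U).toMonoidHom) :=
      le_extender hUS _ (fun x => hUS ((h : MulAut U) x).2)
    have hES : extender S U (U.subtype.comp (h : MulAut U).toMonoidHom) ≤ S :=
      (extender_le S U _).trans (normalizerIn_le_left S U)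
    have hfinE : Finite ↥(extender S U (U.subtype.comp (h : MulAut U).toMonoidHom)) :=
      finite_of_le' hES
    have hcard : Nat.card U <
        Nat.card ↥(extender S U (U.subtype.comp (h : MulAut U).toMonoidHom)) := by
      by_contra hcon
      push_neg at hcon
      have := Subgroup.eq_of_le_of_card_ge hle hcon
      rw [← this] at hbE
      exact hbU hbE
    obtain ⟨ψ, hψ, hψx⟩ := IH _ hcard χ hχ
    have hle2 : U ⊔ T ≤ extender S U (U.subtype.comp (h : MulAut U).toMonoidHom) ⊔ T :=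
      sup_le_sup_right hle T
    refine ⟨ψ.comp (Subgroup.inclusion hle2), restrict_mem F hψ hle2, fun x => ?_⟩
    have e1 : Subgroup.inclusion hle2 (Subgroup.inclusion le_sup_left x) =
        Subgroup.inclusion le_sup_left (Subgroup.inclusion hle x) := Subtype.ext rfl
    have h3 := hψx (Subgroup.inclusion hle x)
    have e2 : χ (Subgroup.inclusion hle x) = (((h : MulAut U) x : U) : Ω) :=
      hχβ (x : Ω) x.2 (hle x.2)
    rw [e2] at h3
    show ((U.subtype.comp α.toMonoidHom) x)⁻¹ *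
      ψ (Subgroup.inclusion hle2 (Subgroup.inclusion le_sup_left x)) ∈ T
    rw [e1]
    have e3 : (U.subtype.comp α.toMonoidHom) x =
        (((h : MulAut U) x : U) : Ω) * (((h : MulAut U) (x⁻¹ * (n : MulAut U) x) : U) : Ω) := by
      show ((α x : U) : Ω) = _
      rw [hαeq']
      show (((h : MulAut U) ((n : MulAut U) x) : U) : Ω) = _
      rw [← Subgroup.coe_mul, ← map_mul, mul_inv_cancel_left]
    have h4 : (((h : MulAut U) (x⁻¹ * (n : MulAut U) x) : U) : Ω) ∈ T :=
      aut_mem_of_stronglyClosed F hUS hT h.2 _ (hnT x)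
    rw [e3, mul_inv_rev, mul_assoc]
    exact T.mul_mem (T.inv_mem h4) h3

/-- **Extension modulo a strongly closed subgroup.** In a saturated fusion system with `T` strongly
closed, every map `φ : P → S` admits a map `ψ : PT → S` with `ψ(x) ∈ φ(x)T` for all `x ∈ P`. -/
theorem exists_ext_mod_stronglyClosed [Finite S] (p : ℕ) [Fact p.Prime] (hS : IsPGroup p S)
    (F : FusionSystem S) (hF : F.IsSaturated p) {T : Subgroup Ω} (hT : F.StronglyClosed T)
    {P : Subgroup Ω} {φ : P →* Ω} (hφ : φ ∈ F.Hom P) :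
    ∃ ψ ∈ F.Hom (P ⊔ T), ∀ x : P, (φ x)⁻¹ * ψ (Subgroup.inclusion le_sup_left x) ∈ T :=
  alperin_induction p hS F hF (TExt F T) (text_conj F hT) (text_comp F hT) (text_inv F hT)
    (text_step p hS F hF hT) P φ hφ

end Cfsg.Agent.Lib.Helper9
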