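import Cfsg.Agent.Lib.Helper9.FusionMorph
import Cfsg.Agent.Lib.Helper9.FusionTExt2

set_option autoImplicit false

namespace Cfsg.Agent.Lib.Helper9

open Cfsg Cfsg.FusionSystem

variable {Ω : Type*} [Group Ω] {S : Subgroup Ω}
variable {Ω' : Type*} [Group Ω'] {S' : Subgroup Ω'}

/-- The image of a strongly closed subgroup under a surjective morphism is strongly closed. -/
theorem stronglyClosed_imageAlong (F : FusionSystem S) (F' : FusionSystem S') (α : S →* Ω')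
    (hα : F.IsSurjectiveMorphism F' α) {T : Subgroup Ω} (hT : F.StronglyClosed T) :
    F'.StronglyClosed (imageAlong α T) := by
  refine ⟨imageAlong_le_range α hα.2.1 T, ?_⟩
  intro R' hR' φ' hφ' x'
  have hR'S : R' ≤ S' := hR'.trans (imageAlong_le_range α hα.2.1 T)
  obtain ⟨φ, hφ, hP, hφS, hPP', hind⟩ := hα.2.2 R' hR'S φ' hφ'
  obtain ⟨t, ht, htx⟩ := hR' x'.2
  have htT : (t : Ω) ∈ T := Subgroup.mem_subgroupOf.mp ht
  have htpre : (t : Ω) ∈ preimageAlong α R' := by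
    rw [mem_preimageAlong t.2]
    have : (⟨(t : Ω), t.2⟩ : S) = t := rfl
    rw [this, htx]
    exact x'.2
  have h1 := hind ⟨t, htpre⟩
  have h2 : (⟨α ⟨((⟨t, htpre⟩ : ↥(preimageAlong α R')) : Ω), hP htpre⟩, hPP' ⟨t, htpre⟩⟩ : R') = x' :=
    Subtype.ext htx
  rw [h2] at h1
  rw [h1]
  exact ⟨⟨φ ⟨t, htpre⟩, hφS _⟩, Subgroup.mem_subgroupOf.mpr
    (map_mem_of_stronglyClosed F hT hφ ⟨t, htpre⟩ htT), rfl⟩

/-- The full preimage of a strongly closed subgroup under a morphism whose kernel is a strongly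
closed subgroup is strongly closed. -/
theorem stronglyClosed_preimageAlong [Finite S] (p : ℕ) [Fact p.Prime] (hS : IsPGroup p S)
    (F : FusionSystem S) (hF : F.IsSaturated p) (F' : FusionSystem S') (α : S →* Ω')
    (hα : F.IsMorphism F' α) {R : Subgroup Ω} (hR : F.StronglyClosed R)
    (hker : ∀ s : S, α s = 1 ↔ (s : Ω) ∈ R) {A' : Subgroup Ω'} (hA' : F'.StronglyClosed A') :
    F.StronglyClosed (preimageAlong α A') := by
  refine ⟨preimageAlong_le α A', ?_⟩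
  intro P hP φ hφ x
  obtain ⟨ψ, hψ, hψx⟩ := exists_ext_mod_stronglyClosed p hS F hF hR hφ
  obtain ⟨ψ', hψ', hind⟩ := morph_push F F' α hα hψ
  have hPS : P ≤ S := (F.le_of_mem hφ).1
  have hφS : φ x ∈ S := (F.le_of_mem hφ).2 x
  rw [mem_preimageAlong hφS]
  have hxA : α ⟨x, hPS x.2⟩ ∈ A' := (mem_preimageAlong (hPS x.2)).mp (hP x.2)
  have h1 := hind (Subgroup.inclusion le_sup_left x)
  have h2 := map_mem_of_stronglyClosed F' hA' hψ'
    ⟨α ⟨(Subgroup.inclusion (le_sup_left : P ≤ P ⊔ R) x : Ω), (F.le_of_mem hψ).1 (Subgroup.inclusion (le_sup_left : P ≤ P ⊔ R) x).2⟩,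
      mem_imageAlong (F.le_of_mem hψ).1 (Subgroup.inclusion (le_sup_left : P ≤ P ⊔ R) x)⟩ hxA
  rw [h1] at h2
  have h3 := hψx x
  have hrS : (φ x)⁻¹ * ψ (Subgroup.inclusion le_sup_left x) ∈ S :=
    S.mul_mem (S.inv_mem hφS) ((F.le_of_mem hψ).2 _)
  have h4 : α ⟨(φ x)⁻¹ * ψ (Subgroup.inclusion le_sup_left x), hrS⟩ = 1 := (hker _).mpr h3
  have h5 : (⟨(φ x)⁻¹ * ψ (Subgroup.inclusion le_sup_left x), hrS⟩ : S) =
      (⟨φ x, hφS⟩ : S)⁻¹ * ⟨ψ (Subgroup.inclusion le_sup_left x), (F.le_of_mem hψ).2 _⟩ := rfl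
  rw [h5, map_mul, map_inv, inv_mul_eq_one] at h4
  rw [h4]
  exact h2

end Cfsg.Agent.Lib.Helper9
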