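import Cfsg.Agent.Lib.Helper9.FusionSolv
import Cfsg.Agent.Lib.Helper9.Fusion3
import Cfsg.Agent.Lib.Helper9.FusionChain3

set_option autoImplicit false

namespace Cfsg.Agent.Lib.Helper9

open Cfsg Cfsg.FusionSystem
open scoped commutatorElement

variable {Ω : Type*} [Group Ω] {S : Subgroup Ω}

/-- The centralizer in `S` of a subgroup normal in the system is strongly closed. -/
theorem stronglyClosed_centralizerIn_of_isNormal (F : FusionSystem S) {Q : Subgroup Ω}
    (hQ : F.IsNormal Q) : F.StronglyClosed (centralizerIn S Q) := by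
  refine ⟨inf_le_left, ?_⟩
  intro R hR φ hφ x
  obtain ⟨ψ, hψ, hext, hmap⟩ := hQ.2 R φ hφ
  rw [mem_centralizerIn]
  refine ⟨(F.le_of_mem hφ).2 x, ?_⟩
  intro q hq
  rw [← hmap] at hq
  obtain ⟨y, hy, rfl⟩ := hq
  rw [← hext x, ← map_mul, ← map_mul]
  congr 1
  apply Subtype.ext
  have hxC := (mem_centralizerIn.mp (hR x.2)).2 (y : Ω) (Subgroup.mem_subgroupOf.mp hy)
  exact hxC

/-- The intersection of two strongly closed subgroups is strongly closed. -/
theorem stronglyClosed_inf (F : FusionSystem S) {A B : Subgroup Ω} (hA : F.StronglyClosed A)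
    (hB : F.StronglyClosed B) : F.StronglyClosed (A ⊓ B) := by
  refine ⟨inf_le_left.trans hA.1, ?_⟩
  intro R hR φ hφ x
  exact Subgroup.mem_inf.mpr ⟨hA.2 R (hR.trans inf_le_left) φ hφ x,
    hB.2 R (hR.trans inf_le_right) φ hφ x⟩

/-- The product of a strongly closed subgroup `A` with a strongly closed subgroup `Z` contained in a
subgroup `Q` normal in the system is strongly closed, provided `A` normalizes `Z`. -/
theorem stronglyClosed_sup_of_le_isNormal (F : FusionSystem S) {A Z Q : Subgroup Ω}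
    (hA : F.StronglyClosed A) (hZ : F.StronglyClosed Z) (hQ : F.IsNormal Q) (hZQ : Z ≤ Q)
    (hAZ : A ≤ Subgroup.normalizer (Z : Set Ω)) : F.StronglyClosed (A ⊔ Z) := by
  refine ⟨sup_le hA.1 hZ.1, ?_⟩
  intro R hR φ hφ x
  obtain ⟨ψ, hψ, hext, -⟩ := hQ.2 R φ hφ
  have hx : (x : Ω) ∈ ((A ⊔ Z : Subgroup Ω) : Set Ω) := hR x.2
  rw [Subgroup.coe_mul_of_left_le_normalizer_right A Z hAZ] at hx
  obtain ⟨a, ha, z, hz, haz⟩ := hx
  have hRle : R ≤ R ⊔ Q := le_sup_left
  have hQle : Q ≤ R ⊔ Q := le_sup_right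
  have hzm : z ∈ R ⊔ Q := hQle (hZQ hz)
  have ham : a ∈ R ⊔ Q := by
    have : a = (x : Ω) * z⁻¹ := by rw [← haz]; group
    rw [this]
    exact Subgroup.mul_mem _ (hRle x.2) (Subgroup.inv_mem _ hzm)
  have e : Subgroup.inclusion hRle x = (⟨a, ham⟩ : ↥(R ⊔ Q)) * ⟨z, hzm⟩ :=
    Subtype.ext haz.symm
  rw [← hext x, e, map_mul]
  exact Subgroup.mul_mem_sup (map_mem_of_stronglyClosed F hA hψ ⟨a, ham⟩ ha)
    (map_mem_of_stronglyClosed F hZ hψ ⟨z, hzm⟩ hz)

end Cfsg.Agent.Lib.Helper9
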