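import Cfsg.Agent.S5132
import Cfsg.Agent.S5133
import Cfsg.Agent.S5134
import Cfsg.Agent.S5085
import Cfsg.Agent.S5086
import Cfsg.Agent.Lib.Helper9.FusionAbelian
import Cfsg.Agent.Lib.Helper9.FusionSolv
import Cfsg.Agent.Lib.Helper9.FusionMorph4
import Cfsg.Agent.Lib.Helper9.ChainTo
import Cfsg.Agent.Lib.Helper9.Fusion2
import Cfsg.Agent.Lib.Helper9.FusionChain2

set_option autoImplicit false

namespace Cfsg.Agent.Lib.Helper9

open Cfsg Cfsg.FusionSystem
open scoped commutatorElement

universe u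

theorem imageAlong_bot {Ω : Type*} [Group Ω] {S : Subgroup Ω} {Ω' : Type*} [Group Ω']
    (θ : S →* Ω') : imageAlong θ ⊥ = ⊥ := by
  unfold imageAlong
  rw [Subgroup.bot_subgroupOf, Subgroup.map_bot]

theorem imageAlong_self {Ω : Type*} [Group Ω] {S : Subgroup Ω} {Ω' : Type*} [Group Ω']
    (θ : S →* Ω') : imageAlong θ S = θ.range := by
  unfold imageAlong
  rw [Subgroup.subgroupOf_self, MonoidHom.range_eq_map]

theorem commutator_imageAlong_le {Ω : Type*} [Group Ω] {S : Subgroup Ω} {Ω' : Type*} [Group Ω']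
    (θ : S →* Ω') {A B : Subgroup Ω} (h : ⁅A, A⁆ ≤ B) :
    ⁅imageAlong θ A, imageAlong θ A⁆ ≤ imageAlong θ B := by
  rw [Subgroup.commutator_le]
  rintro _ ⟨a, ha, rfl⟩ _ ⟨b, hb, rfl⟩
  rw [← map_commutatorElement]
  refine ⟨⁅a, b⁆, Subgroup.mem_subgroupOf.mpr ?_, rfl⟩
  exact h (Subgroup.commutator_mem_commutator (Subgroup.mem_subgroupOf.mp ha)
    (Subgroup.mem_subgroupOf.mp hb))

theorem preimageAlong_mono {Ω : Type*} [Group Ω] {S : Subgroup Ω} {Ω' : Type*} [Group Ω']
    (θ : S →* Ω') {A B : Subgroup Ω'} (h : A ≤ B) : preimageAlong θ A ≤ preimageAlong θ B := by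
  intro x hx
  have hxS := preimageAlong_le θ A hx
  rw [mem_preimageAlong hxS] at hx ⊢
  exact h hx

theorem commutator_preimageAlong_le {Ω : Type*} [Group Ω] {S : Subgroup Ω} {Ω' : Type*}
    [Group Ω'] (θ : S →* Ω') {A B : Subgroup Ω'} (h : ⁅A, A⁆ ≤ B) :
    ⁅preimageAlong θ A, preimageAlong θ A⁆ ≤ preimageAlong θ B := by
  rw [Subgroup.commutator_le]
  intro x hx y hy
  have hxS : x ∈ S := preimageAlong_le _ _ hx
  have hyS : y ∈ S := preimageAlong_le _ _ hy
  have hxyS : ⁅x, y⁆ ∈ S := by
    rw [commutatorElement_def]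
    exact S.mul_mem (S.mul_mem (S.mul_mem hxS hyS) (S.inv_mem hxS)) (S.inv_mem hyS)
  rw [mem_preimageAlong hxyS]
  have h1 : (⟨⁅x, y⁆, hxyS⟩ : S) = ⁅(⟨x, hxS⟩ : S), (⟨y, hyS⟩ : S)⁆ := Subtype.ext rfl
  rw [h1, map_commutatorElement]
  exact h (Subgroup.commutator_mem_commutator ((mem_preimageAlong hxS).mp hx)
    ((mem_preimageAlong hyS).mp hy))

/-- A strongly closed subgroup of the system gives a normal subgroup of `T`. -/
theorem normal_subgroupOf_of_stronglyClosed {Ω : Type*} [Group Ω] {T : Subgroup Ω} [Finite T]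
    (E : FusionSystem T) {V : Subgroup Ω} (hV : E.StronglyClosed V) : (V.subgroupOf T).Normal := by
  constructor
  intro n hn g
  rw [Subgroup.mem_subgroupOf] at hn ⊢
  have hg := le_normalizer_of_stronglyClosed E hV g.2
  rw [Subgroup.mem_normalizer_iff] at hg
  exact (hg _).mp hn

/-- A surjective endomorphism of a finite subgroup is injective. -/
theorem injective_of_range_eq {Ω : Type*} [Group Ω] {T : Subgroup Ω} [Finite T] (θ : T →* Ω)
    (hrange : θ.range = T) : Function.Injective θ := by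
  have hmem : ∀ t : T, θ t ∈ T := fun t => hrange.le ⟨t, rfl⟩
  have hsurj : Function.Surjective (θ.codRestrict T hmem) := by
    intro t
    have : (t : Ω) ∈ θ.range := by rw [hrange]; exact t.2
    obtain ⟨s, hs⟩ := this
    exact ⟨s, Subtype.ext hs⟩
  have hinj := Finite.injective_iff_surjective.mpr hsurj
  intro a b hab
  exact hinj (Subtype.ext hab)

/-- The centre of a subgroup `Q` with `θ(Q) ≤ Q` is carried into itself by an injective `θ`. -/
theorem imageAlong_center_le {Ω : Type*} [Group Ω] {T : Subgroup Ω} [Finite T] (θ : T →* Ω)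
    (hinj : Function.Injective θ) {Q : Subgroup Ω} (hQT : Q ≤ T) (hQ : imageAlong θ Q ≤ Q) :
    imageAlong θ ((Subgroup.center Q).map Q.subtype) ≤ (Subgroup.center Q).map Q.subtype := by
  have hfinQ : Finite Q := finite_of_le' hQT
  have hθQ : ∀ q : Q, θ ⟨q, hQT q.2⟩ ∈ Q := fun q =>
    hQ ⟨⟨q, hQT q.2⟩, Subgroup.mem_subgroupOf.mpr q.2, rfl⟩
  have hf : Function.Injective (fun q : Q => (⟨θ ⟨q, hQT q.2⟩, hθQ q⟩ : Q)) := by
    intro a b hab
    have h1 : θ ⟨a, hQT a.2⟩ = θ ⟨b, hQT b.2⟩ := congrArg Subtype.val hab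
    have h2 := hinj h1
    exact Subtype.ext (congrArg (fun t : T => (t : Ω)) h2)
  have hsurj := Finite.surjective_of_injective hf
  rintro _ ⟨t, ht, rfl⟩
  obtain ⟨z, hz, hzt⟩ := Subgroup.mem_subgroupOf.mp ht
  have hzt' : (z : Ω) = t := hzt
  have ht' : t = ⟨z, hQT z.2⟩ := Subtype.ext hzt'.symm
  refine ⟨⟨θ t, by rw [ht']; exact hθQ z⟩, ?_, rfl⟩
  rw [SetLike.mem_coe] at hz ⊢
  rw [Subgroup.mem_center_iff]
  intro g
  obtain ⟨q', hq'⟩ := hsurj g
  have hg : g = ⟨θ ⟨q', hQT q'.2⟩, hθQ q'⟩ := hq'.symm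
  have hzc := Subgroup.mem_center_iff.mp hz q'
  apply Subtype.ext
  show (g : Ω) * θ t = θ t * (g : Ω)
  rw [hg, ht']
  show θ ⟨q', hQT q'.2⟩ * θ ⟨z, hQT z.2⟩ = θ ⟨z, hQT z.2⟩ * θ ⟨q', hQT q'.2⟩
  rw [← map_mul, ← map_mul]
  congr 1
  apply Subtype.ext
  exact congrArg (fun q : Q => (q : Ω)) hzc

/-- A saturated fusion system with a chain of strongly closed subgroups with abelian quotients has
such a chain all of whose members are invariant under a given set of surjective self-morphisms. -/
theorem exists_invariant_chain (p : ℕ) [Fact p.Prime] :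
    ∀ (n : ℕ) {Ω : Type u} [Group Ω] (T : Subgroup Ω) [Finite T] (_ : IsPGroup p T)
      (E : FusionSystem T), E.IsSaturated p → ChainTo E.StronglyClosed ⊥ T → Nat.card T ≤ n →
      ∀ (𝒜 : Set (T →* Ω)), (∀ θ ∈ 𝒜, E.IsSurjectiveMorphism E θ) →
      ChainTo (fun U => E.StronglyClosed U ∧ ∀ θ ∈ 𝒜, imageAlong θ U ≤ U) ⊥ T := by
  intro n
  induction n with
  | zero =>
    intro Ω _ T _ hT E hE hch hn
    exfalso
    have : 0 < Nat.card T := Nat.card_pos
    omega
  | succ n ih =>
    intro Ω _ T _ hT E hE hch hn 𝒜 h𝒜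
    have hgoodbot : E.StronglyClosed ⊥ ∧ ∀ θ ∈ 𝒜, imageAlong θ ⊥ ≤ ⊥ :=
      ⟨stronglyClosed_bot E, fun θ _ => by rw [imageAlong_bot]⟩
    by_cases hT1 : T = ⊥
    · exact ⟨0, fun _ => ⊥, rfl, hT1.symm, fun _ _ _ => le_rfl, fun _ => hgoodbot,
        fun i => i.elim0⟩
    · -- an abelian strongly closed subgroup, hence the core is nontrivial
      obtain ⟨A, hAsc, hA1, hAT, hAab⟩ := chainTo_exists_abelian hch hT1
      have hAnorm : E.IsNormal A := isNormal_of_abelian_stronglyClosed p hT E hE hAsc (by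
        intro x hx y hy
        have := hAab (Subgroup.commutator_mem_commutator hx hy)
        rw [Subgroup.mem_bot, commutatorElement_eq_one_iff_mul_comm] at this
        exact this)
      have hQ := isNormal_core E
      have hAQ : A ≤ E.core := le_sSup hAnorm
      have hQT : E.core ≤ T := hQ.1
      have hQ1 : E.core ≠ ⊥ := fun h => hA1 (le_bot_iff.mp (h ▸ hAQ))
      have hfinQ : Finite E.core := finite_of_le' hQT
      have hQp : IsPGroup p E.core := hT.to_le hQT
      have hQnt : Nontrivial E.core := (Subgroup.nontrivial_iff_ne_bot _).mpr hQ1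
      obtain ⟨V, hVdef⟩ : ∃ V : Subgroup Ω, V = (Subgroup.center E.core).map E.core.subtype :=
        ⟨_, rfl⟩
      have hVQ : V ≤ E.core := by
        rw [hVdef]; rintro _ ⟨x, -, rfl⟩; exact x.2
      have hV1 : V ≠ ⊥ := by
        have hnt := hQp.center_nontrivial
        obtain ⟨z, hz⟩ := exists_ne (1 : Subgroup.center E.core)
        intro hV
        have hmem : ((z : E.core) : Ω) ∈ V := by
          rw [hVdef]; exact ⟨z, z.2, rfl⟩
        rw [hV, Subgroup.mem_bot] at hmem
        apply hz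
        apply Subtype.ext
        apply Subtype.ext
        exact hmem
      have hVchar : (V.subgroupOf E.core).Characteristic := by
        have : V.subgroupOf E.core = Subgroup.center E.core := by
          ext x
          rw [Subgroup.mem_subgroupOf, hVdef]
          constructor
          · rintro ⟨y, hy, hyx⟩
            have : y = x := Subtype.ext hyx
            rw [← this]; exact hy
          · intro hx
            exact ⟨x, hx, rfl⟩
        rw [this]
        infer_instance
      have hVnorm := Cfsg.Agent.S5085.result E E.core V hQ hVQ hVchar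
      have hVsc := ((Cfsg.Agent.S5086.result p hT E hE V).mp hVnorm).1
      have hVab : ⁅V, V⁆ ≤ ⊥ := by
        rw [Subgroup.commutator_le]
        intro x hx y hy
        rw [Subgroup.mem_bot, commutatorElement_eq_one_iff_mul_comm]
        rw [hVdef] at hx hy
        obtain ⟨a, ha, rfl⟩ := hx
        obtain ⟨b, hb, rfl⟩ := hy
        have := Subgroup.mem_center_iff.mp hb a
        exact congrArg (fun q : E.core => (q : Ω)) this
      have hQinv : ∀ θ ∈ 𝒜, imageAlong θ E.core ≤ E.core := fun θ hθ =>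
        le_sSup (isNormal_imageAlong E E θ (h𝒜 θ hθ) hQ)
      have hVinv : ∀ θ ∈ 𝒜, imageAlong θ V ≤ V := by
        intro θ hθ
        rw [hVdef]
        exact imageAlong_center_le θ (injective_of_range_eq θ (h𝒜 θ hθ).2.1) hQT (hQinv θ hθ)
      -- the quotient system
      haveI hN : (V.subgroupOf T).Normal := normal_subgroupOf_of_stronglyClosed E hVsc
      obtain ⟨Ebar, hEbar⟩ := Cfsg.Agent.S5132.result p hT E V hVsc
      have hπ := Cfsg.Agent.S5134.result p hT E hE V hVsc _ Ebar hEbar
      have hEbarsat := Cfsg.Agent.S5133.result p hT E hE Ebar _ hπ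
      have hker := hEbar.2.1
      have hTbar : IsPGroup p (⊤ : Subgroup (T ⧸ V.subgroupOf T)) :=
        (hT.to_quotient (V.subgroupOf T)).to_subgroup ⊤
      have hchbar : ChainTo Ebar.StronglyClosed ⊥ (⊤ : Subgroup (T ⧸ V.subgroupOf T)) := by
        have h1 := chainTo_image (Good' := Ebar.StronglyClosed)
          (imageAlong (QuotientGroup.mk' (V.subgroupOf T)))
          (fun _ _ h => imageAlong_mono _ h)
          (fun Q hQ' => stronglyClosed_imageAlong E Ebar _ hπ hQ')
          (fun A B h => commutator_imageAlong_le _ h) hch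
        rw [imageAlong_bot, imageAlong_self, hπ.2.1] at h1
        exact h1
      have hcard : Nat.card (⊤ : Subgroup (T ⧸ V.subgroupOf T)) ≤ n := by
        rw [Subgroup.card_top]
        have h1 := Subgroup.card_eq_card_quotient_mul_card_subgroup (V.subgroupOf T)
        have h2 : 2 ≤ Nat.card (V.subgroupOf T) := by
          have hnt : Nontrivial (V.subgroupOf T) := by
            rw [Subgroup.nontrivial_iff_ne_bot]
            intro h
            apply hV1
            rw [eq_bot_iff]
            intro x hx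
            have hxT : x ∈ T := hQT (hVQ hx)
            have : (⟨x, hxT⟩ : T) ∈ V.subgroupOf T := Subgroup.mem_subgroupOf.mpr hx
            rw [h, Subgroup.mem_bot] at this
            rw [Subgroup.mem_bot]
            exact congrArg Subtype.val this
          exact Finite.one_lt_card
        have h3 : 0 < Nat.card (T ⧸ V.subgroupOf T) := Nat.card_pos
        nlinarith
      -- the induced morphisms
      have hind : ∀ (θ : T →* Ω) (hθ : θ ∈ 𝒜),
          ∃ σ : ↥(⊤ : Subgroup (T ⧸ V.subgroupOf T)) →* (T ⧸ V.subgroupOf T),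
          ∀ t : T, σ ⟨QuotientGroup.mk' (V.subgroupOf T) t, Subgroup.mem_top _⟩ =
            QuotientGroup.mk' (V.subgroupOf T) ⟨θ t, (h𝒜 θ hθ).1.1 t⟩ := by
        intro θ hθ
        have hle : V.subgroupOf T ≤ (V.subgroupOf T).comap (θ.codRestrict T (h𝒜 θ hθ).1.1) := by
          intro t ht
          rw [Subgroup.mem_comap, Subgroup.mem_subgroupOf]
          exact hVinv θ hθ ⟨t, ht, rfl⟩
        exact ⟨(QuotientGroup.map (V.subgroupOf T) (V.subgroupOf T)
          (θ.codRestrict T (h𝒜 θ hθ).1.1) hle).comp (⊤ : Subgroup (T ⧸ V.subgroupOf T)).subtype,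
          fun t => rfl⟩
      have hsurjσ : ∀ σ ∈ {σ : ↥(⊤ : Subgroup (T ⧸ V.subgroupOf T)) →* (T ⧸ V.subgroupOf T) |
          ∃ θ, ∃ hθ : θ ∈ 𝒜, ∀ t : T, σ ⟨QuotientGroup.mk' (V.subgroupOf T) t, Subgroup.mem_top _⟩ =
            QuotientGroup.mk' (V.subgroupOf T) ⟨θ t, (h𝒜 θ hθ).1.1 t⟩},
          Ebar.IsSurjectiveMorphism Ebar σ := by
        rintro σ ⟨θ, hθ, hσ⟩
        have hρ := isSurjectiveMorphism_comp E E Ebar θ _ (h𝒜 θ hθ) hπ
        exact isSurjectiveMorphism_of_factor E Ebar Ebar _ _ σ hπ hρ (fun s => hσ s)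
      have hchain := ih (⊤ : Subgroup (T ⧸ V.subgroupOf T)) hTbar Ebar hEbarsat hchbar hcard _ hsurjσ
      -- pull back
      have hpull := chainTo_image
        (Good' := fun U => E.StronglyClosed U ∧ ∀ θ ∈ 𝒜, imageAlong θ U ≤ U)
        (preimageAlong (QuotientGroup.mk' (V.subgroupOf T)))
        (fun _ _ h => preimageAlong_mono _ h)
        (fun W hW => ⟨stronglyClosed_preimageAlong p hT E hE Ebar _ hπ.1 hVsc hker hW.1, by
          intro θ hθ
          obtain ⟨σ, hσ⟩ := hind θ hθ
          have hWσ := hW.2 σ ⟨θ, hθ, hσ⟩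
          rintro _ ⟨t, ht, rfl⟩
          have htW := (mem_preimageAlong t.2).mp (Subgroup.mem_subgroupOf.mp ht)
          rw [mem_preimageAlong ((h𝒜 θ hθ).1.1 t), ← hσ]
          apply hWσ
          exact ⟨⟨QuotientGroup.mk' (V.subgroupOf T) t, Subgroup.mem_top _⟩,
            Subgroup.mem_subgroupOf.mpr htW, rfl⟩⟩)
        (fun A B h => commutator_preimageAlong_le _ h) hchain
      have hpre_bot : preimageAlong (QuotientGroup.mk' (V.subgroupOf T)) ⊥ = V := by
        ext x
        constructor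
        · intro hx
          have hxT := preimageAlong_le _ _ hx
          have := (mem_preimageAlong hxT).mp hx
          rw [Subgroup.mem_bot] at this
          exact (hker ⟨x, hxT⟩).mp this
        · intro hx
          have hxT : x ∈ T := hQT (hVQ hx)
          rw [mem_preimageAlong hxT, Subgroup.mem_bot]
          exact (hker ⟨x, hxT⟩).mpr hx
      have hpre_top : preimageAlong (QuotientGroup.mk' (V.subgroupOf T)) ⊤ = T := by
        apply le_antisymm (preimageAlong_le _ _)
        intro x hx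
        rw [mem_preimageAlong hx]
        exact Subgroup.mem_top _
      rw [hpre_bot, hpre_top] at hpull
      exact chainTo_cons hgoodbot bot_le hVab hpull

end Cfsg.Agent.Lib.Helper9
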