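import Cfsg.Agent.Lib.Helper9.FusionAlp4
import Cfsg.Agent.Lib.Helper9.FusionChain2
import Cfsg.Agent.Lib.Helper9.FusionFactor

set_option autoImplicit false

namespace Cfsg.Agent.Lib.Helper9

open Cfsg Cfsg.FusionSystem

variable {Ω : Type*} [Group Ω] {S : Subgroup Ω}

/-- The automorphisms in `Aut_F(P)` acting trivially on `P ∩ T` and on `P / (P ∩ T)`, for a strongly
closed subgroup `T`. -/
def stabChain (F : FusionSystem S) (T P : Subgroup Ω) (hT : F.StronglyClosed T) (hPS : P ≤ S) :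
    Subgroup ↥(F.autGroup P) where
  carrier := {a | (∀ x : P, (x : Ω) ∈ T → (a : MulAut P) x = x) ∧
    ∀ x : P, (x : Ω)⁻¹ * (((a : MulAut P) x : P) : Ω) ∈ T}
  one_mem' := by
    refine ⟨fun x _ => rfl, fun x => ?_⟩
    show (x : Ω)⁻¹ * (x : Ω) ∈ T
    rw [inv_mul_cancel]; exact T.one_mem
  mul_mem' := by
    rintro a b ⟨ha1, ha2⟩ ⟨hb1, hb2⟩
    refine ⟨fun x hx => ?_, fun x => ?_⟩
    · show (a : MulAut P) ((b : MulAut P) x) = x
      rw [hb1 x hx, ha1 x hx]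
    · show (x : Ω)⁻¹ * (((a : MulAut P) ((b : MulAut P) x) : P) : Ω) ∈ T
      have e : (x : Ω)⁻¹ * (((a : MulAut P) ((b : MulAut P) x) : P) : Ω) =
          ((x : Ω)⁻¹ * (((b : MulAut P) x : P) : Ω)) *
            ((((b : MulAut P) x : P) : Ω)⁻¹ * (((a : MulAut P) ((b : MulAut P) x) : P) : Ω)) := by
        group
      rw [e]
      exact T.mul_mem (hb2 x) (ha2 _)
  inv_mem' := by
    rintro a ⟨ha1, ha2⟩
    refine ⟨fun x hx => ?_, fun x => ?_⟩
    · show (a : MulAut P)⁻¹ x = x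
      have := ha1 x hx
      calc (a : MulAut P)⁻¹ x = (a : MulAut P)⁻¹ ((a : MulAut P) x) := by rw [this]
        _ = x := MulEquiv.symm_apply_apply _ x
    · show (x : Ω)⁻¹ * ((((a : MulAut P)⁻¹ x : P)) : Ω) ∈ T
      have h := ha2 ((a : MulAut P)⁻¹ x)
      have e0 : (a : MulAut P) ((a : MulAut P)⁻¹ x) = x := MulEquiv.apply_symm_apply _ x
      rw [e0] at h
      have e : (x : Ω)⁻¹ * ((((a : MulAut P)⁻¹ x : P)) : Ω) =
          (((((a : MulAut P)⁻¹ x : P)) : Ω)⁻¹ * (x : Ω))⁻¹ := by group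
      rw [e]
      exact T.inv_mem h

theorem mem_stabChain_iff (F : FusionSystem S) (T P : Subgroup Ω) (hT : F.StronglyClosed T)
    (hPS : P ≤ S) (a : ↥(F.autGroup P)) :
    a ∈ stabChain F T P hT hPS ↔ (∀ x : P, (x : Ω) ∈ T → (a : MulAut P) x = x) ∧
      ∀ x : P, (x : Ω)⁻¹ * (((a : MulAut P) x : P) : Ω) ∈ T := Iff.rfl

/-- Elements of `Aut_F(P)` map `T`-elements to `T`-elements. -/
theorem aut_mem_stronglyClosed (F : FusionSystem S) {T P : Subgroup Ω} (hT : F.StronglyClosed T)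
    (hPS : P ≤ S) {b : MulAut P} (hb : b ∈ F.autGroup P) (x : P) (hx : (x : Ω) ∈ T) :
    ((b x : P) : Ω) ∈ T := by
  have hb' := (mem_autGroup_iff F hPS b).mp hb
  have hle : P ⊓ T ≤ P := inf_le_left
  have := hT.2 (P ⊓ T) inf_le_right _ (restrict_mem F hb' hle) ⟨x, ⟨x.2, hx⟩⟩
  exact this

theorem stabChain_normal (F : FusionSystem S) (T P : Subgroup Ω) (hT : F.StronglyClosed T)
    (hPS : P ≤ S) : (stabChain F T P hT hPS).Normal := by
  constructor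
  rintro a ⟨ha1, ha2⟩ b
  have hbinv : ((b⁻¹ : ↥(F.autGroup P)) : MulAut P) ∈ F.autGroup P := (b⁻¹).2
  refine ⟨fun x hx => ?_, fun x => ?_⟩
  · show (b : MulAut P) ((a : MulAut P) ((b : MulAut P)⁻¹ x)) = x
    have h1 : ((((b : MulAut P)⁻¹ x : P)) : Ω) ∈ T :=
      aut_mem_stronglyClosed F hT hPS hbinv x hx
    rw [ha1 _ h1]
    exact MulEquiv.apply_symm_apply _ x
  · show (x : Ω)⁻¹ * (((b : MulAut P) ((a : MulAut P) ((b : MulAut P)⁻¹ x)) : P) : Ω) ∈ T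
    have h2 := ha2 ((b : MulAut P)⁻¹ x)
    -- y⁻¹ a(y) ∈ P ∩ T, apply b
    have hmem : (((b : MulAut P)⁻¹ x)⁻¹ * (a : MulAut P) ((b : MulAut P)⁻¹ x) : P) ∈
        (⊤ : Subgroup P) := Subgroup.mem_top _
    have h3 := aut_mem_stronglyClosed F hT hPS b.2
      (((b : MulAut P)⁻¹ x)⁻¹ * (a : MulAut P) ((b : MulAut P)⁻¹ x)) h2
    rw [map_mul, map_inv] at h3
    have e0 : (b : MulAut P) ((b : MulAut P)⁻¹ x) = x := MulEquiv.apply_symm_apply _ x
    rw [e0] at h3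
    exact h3

theorem stabChain_pow_apply (F : FusionSystem S) (T P : Subgroup Ω) (hT : F.StronglyClosed T)
    (hPS : P ≤ S) (a : ↥(F.autGroup P)) (ha : a ∈ stabChain F T P hT hPS) (n : ℕ) (x : P) :
    ((((a : MulAut P) ^ n) x : P) : Ω) =
      (x : Ω) * ((x : Ω)⁻¹ * (((a : MulAut P) x : P) : Ω)) ^ n := by
  obtain ⟨ha1, ha2⟩ := ha
  induction n with
  | zero => simp
  | succ n ih =>
    rw [pow_succ' (a : MulAut P) n, MulAut.mul_apply]
    -- a (aⁿ x) where aⁿ x = x * zⁿ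
    have hz : (x⁻¹ * (a : MulAut P) x : P) = ⟨(x : Ω)⁻¹ * (((a : MulAut P) x : P) : Ω),
        P.mul_mem (P.inv_mem x.2) ((a : MulAut P) x).2⟩ := rfl
    have hzT : ((x⁻¹ * (a : MulAut P) x : P) : Ω) ∈ T := ha2 x
    have hzfix : (a : MulAut P) (x⁻¹ * (a : MulAut P) x) = x⁻¹ * (a : MulAut P) x := ha1 _ hzT
    have e1 : ((a : MulAut P) ^ n) x = x * (x⁻¹ * (a : MulAut P) x) ^ n := by
      apply Subtype.ext
      rw [ih]
      rfl
    rw [e1, map_mul, map_pow, hzfix]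
    show (((a : MulAut P) x : P) : Ω) * ((x : Ω)⁻¹ * (((a : MulAut P) x : P) : Ω)) ^ n = _
    rw [pow_succ', ← mul_assoc, ← mul_assoc, mul_inv_cancel, one_mul]

theorem stabChain_isPGroup [Finite S] (p : ℕ) [Fact p.Prime] (hS : IsPGroup p S)
    (F : FusionSystem S) (T P : Subgroup Ω) (hT : F.StronglyClosed T)
    (hPS : P ≤ S) : IsPGroup p (stabChain F T P hT hPS) := by
  have hTp : IsPGroup p T := hS.to_le hT.1
  have hfinT : Finite T := finite_of_le' hT.1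
  obtain ⟨k, hk⟩ := hTp.exists_card_eq
  intro a
  refine ⟨k, ?_⟩
  apply Subtype.ext
  apply Subtype.ext
  show ((a : ↥(F.autGroup P)) : MulAut P) ^ p ^ k = 1
  ext x
  rw [stabChain_pow_apply F T P hT hPS a.1 a.2]
  have hz : (x : Ω)⁻¹ * ((((a : ↥(F.autGroup P)) : MulAut P) x : P) : Ω) ∈ T := a.2.2 x
  have : ((x : Ω)⁻¹ * ((((a : ↥(F.autGroup P)) : MulAut P) x : P) : Ω)) ^ p ^ k = 1 := by
    have h1 : (⟨_, hz⟩ : T) ^ Nat.card T = 1 := pow_card_eq_one'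
    rw [hk] at h1
    exact congrArg Subtype.val h1
  rw [this, mul_one]
  rfl

theorem stabChain_le_pCore [Finite S] (p : ℕ) [Fact p.Prime] (hS : IsPGroup p S)
    (F : FusionSystem S) (T P : Subgroup Ω) (hT : F.StronglyClosed T)
    (hPS : P ≤ S) : stabChain F T P hT hPS ≤ pCore p ↥(F.autGroup P) := by
  unfold pCore
  exact le_sSup ⟨stabChain_normal F T P hT hPS, stabChain_isPGroup p hS F T P hT hPS⟩

end Cfsg.Agent.Lib.Helper9
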