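import Mathlib
import Cfsg.Prelude.Def_Sporadic_a
import Cfsg.Agent.Lib.Helper9.GolayInv

set_option autoImplicit false

namespace Cfsg.Agent.Lib.Helper9.GolayInv

open Cfsg Cfsg.Agent.Lib.Helper1 Cfsg.Agent.Lib.Helper9.GolayAbs
open scoped Pointwise

variable {W : Submodule (ZMod 2) (GolayPt → ZMod 2)}

theorem idx_facts2 : popc (combo 15) = 8 ∧ popc (combo 125) = 8 ∧ popc (combo 2162) = 8 ∧
    popc (combo 38) = 8 ∧ popc (combo 41) = 8 ∧ popc (combo 2063) = 16 ∧ popc (combo 2086) = 16 ∧
    (2048 : ℕ) = 15 ^^^ 125 ^^^ 2162 ∧ (41 : ℕ) = 2063 ^^^ 2086 ∧ combo 2048 = 16777215 := by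
  decide +kernel

theorem wordOf_2048 : wordOf 2048 = 1 := by
  apply mask_injective
  rw [mask_wordOf, mask_one]
  exact idx_facts2.2.2.2.2.2.2.2.2.2

/-- all words of a given weight class lie in `W` once one does (octads) -/
theorem octads_in (hinv : ∀ σ ∈ M24, ∀ w ∈ W, act σ w ∈ W) {w : GolayPt → ZMod 2} (hw : w ∈ W)
    (hwc : w ∈ golayCode) (h8 : (support₂ w).card = 8) :
    ∀ m : ℕ, popc (combo m) = 8 → wordOf m ∈ W := by
  intro m hm
  obtain ⟨g, hg⟩ := Cfsg.Agent.S0367.result (support₂ w) (support₂ (wordOf m))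
    ⟨⟨w, hwc, rfl⟩, h8⟩ (wordOf_mem_octads hm)
  have hg' : (g : Equiv.Perm GolayPt) • support₂ w = support₂ (wordOf m) := hg
  rw [← support₂_permWord] at hg'
  rw [← support₂_injective hg']
  exact hinv g g.2 w hw

theorem one_of_octad (hinv : ∀ σ ∈ M24, ∀ w ∈ W, act σ w ∈ W) {w : GolayPt → ZMod 2} (hw : w ∈ W)
    (hwc : w ∈ golayCode) (h8 : (support₂ w).card = 8) : (1 : GolayPt → ZMod 2) ∈ W := by
  have hoct := octads_in hinv hw hwc h8
  rw [← wordOf_2048, idx_facts2.2.2.2.2.2.2.2.1, GolayIrr.wordOf_xor, GolayIrr.wordOf_xor]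
  exact W.add_mem (W.add_mem (hoct 15 idx_facts2.1) (hoct 125 idx_facts2.2.1))
    (hoct 2162 idx_facts2.2.2.1)

theorem one_mem_of_ne_bot (hle : W ≤ golayCode) (hinv : ∀ σ ∈ M24, ∀ w ∈ W, act σ w ∈ W)
    {w : GolayPt → ZMod 2} (hw : w ∈ W) (hw0 : w ≠ 0) : (1 : GolayPt → ZMod 2) ∈ W := by
  have hwc := hle hw
  have hwt := Cfsg.Agent.S0359.result w hwc
  rw [wt_eq] at hwt
  rcases hwt with h | h | h | h | h
  · exfalso
    apply hw0
    rw [Finset.card_eq_zero] at h
    exact supp_eq_empty.mp h
  · exact one_of_octad hinv hw hwc h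
  · have hdod : ∀ m : ℕ, popc (combo m) = 12 → wordOf m ∈ W := by
      intro m hm
      have hmd : support₂ (wordOf m) ∈ dodecads := by
        refine ⟨⟨wordOf m, wordOf_mem m, rfl⟩, ?_⟩
        show (support₂ (wordOf m)).card = 12
        rw [card_support₂, mask_wordOf]
        exact hm
      obtain ⟨g, hg⟩ := M24_dodecad_transitive (d := support₂ w) (d' := support₂ (wordOf m))
        ⟨⟨w, hwc, rfl⟩, h⟩ hmd
      have hg' : (g : Equiv.Perm GolayPt) • support₂ w = support₂ (wordOf m) := hg
      rw [← support₂_permWord] at hg'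
      rw [← support₂_injective hg']
      exact hinv g g.2 w hw
    have h15 : wordOf 15 ∈ W := by
      rw [GolayIrr.idx_facts.2.2.2, GolayIrr.wordOf_xor]
      exact W.add_mem (hdod 1 GolayIrr.idx_facts.2.1) (hdod 14 GolayIrr.idx_facts.2.2.1)
    apply one_of_octad hinv h15 (wordOf_mem 15)
    rw [card_support₂, mask_wordOf]
    exact GolayIrr.idx_facts.1
  · -- weight 16
    have h16 : ∀ m : ℕ, popc (combo m) = 16 → wordOf m ∈ W := by
      intro m hm
      have hc1 : (support₂ (w + 1)).card = 8 := by
        have hc := card_supp_add w 1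
        rw [support₂_one, Finset.inter_univ, h, Finset.card_univ, Fintype.card_option,
          ZMod.card] at hc
        omega
      have hc2 : (support₂ (wordOf m + 1)).card = 8 := by
        have hc := card_supp_add (wordOf m) 1
        have hm' : (support₂ (wordOf m)).card = 16 := by
          rw [card_support₂, mask_wordOf]; exact hm
        rw [support₂_one, Finset.inter_univ, hm', Finset.card_univ, Fintype.card_option,
          ZMod.card] at hc
        omega
      obtain ⟨g, hg⟩ := Cfsg.Agent.S0367.result (support₂ (w + 1)) (support₂ (wordOf m + 1))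
        ⟨⟨w + 1, golayCode.add_mem hwc one_mem_golayCode, rfl⟩, hc1⟩
        ⟨⟨wordOf m + 1, golayCode.add_mem (wordOf_mem m) one_mem_golayCode, rfl⟩, hc2⟩
      have hg' : (g : Equiv.Perm GolayPt) • support₂ (w + 1) = support₂ (wordOf m + 1) := hg
      rw [← support₂_permWord] at hg'
      have h1 := support₂_injective hg'
      have h2 : permWord (g : Equiv.Perm GolayPt) (w + 1) = act g w + 1 := rfl
      rw [h2] at h1
      have h3 : act g w = wordOf m := add_right_cancel h1
      rw [← h3]
      exact hinv g g.2 w hw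
    have h41 : wordOf 41 ∈ W := by
      rw [idx_facts2.2.2.2.2.2.2.2.2.1, GolayIrr.wordOf_xor]
      exact W.add_mem (h16 2063 idx_facts2.2.2.2.2.2.1) (h16 2086 idx_facts2.2.2.2.2.2.2.1)
    apply one_of_octad hinv h41 (wordOf_mem 41)
    rw [card_support₂, mask_wordOf]
    exact idx_facts2.2.2.2.2.1
  · have : w = 1 := by
      apply support₂_injective
      rw [support₂_one]
      apply Finset.eq_univ_of_card
      rw [h, Fintype.card_option, ZMod.card]
    rw [← this]
    exact hw

theorem sub_code (hle : W ≤ golayCode) (hinv : ∀ σ ∈ M24, ∀ w ∈ W, act σ w ∈ W) :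
    W = ⊥ ∨ W = Submodule.span (ZMod 2) {(1 : GolayPt → ZMod 2)} ∨ W = golayCode := by
  by_cases hbot : W = ⊥
  · exact Or.inl hbot
  · right
    obtain ⟨w, hw, hw0⟩ := (Submodule.ne_bot_iff W).mp hbot
    exact GolayIrr.irr (one_mem_of_ne_bot hle hinv hw hw0) hle hinv

theorem golay_inv : ∀ σ ∈ M24, ∀ w ∈ golayCode, act σ w ∈ golayCode := fun _ hσ _ hw =>
  permWord_mem_of_mem_M24 hσ hw

/-- a vector of weight at most four in `W` (or its complement) gives a weight two vector -/
theorem pair_of_small (hinv : ∀ σ ∈ M24, ∀ w ∈ W, act σ w ∈ W) {a : GolayPt → ZMod 2}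
    (ha0 : a ≠ 0) (ha4 : hammingNorm a ≤ 4) (h : a ∈ W ∨ a + 1 ∈ W) :
    ∃ x y : GolayPt, x ≠ y ∧ ev x + ev y ∈ W := by
  classical
  rw [wt_eq] at ha4
  have hne : (support₂ a).Nonempty := by
    rw [Finset.nonempty_iff_ne_empty]
    intro h'
    exact ha0 (supp_eq_empty.mp h')
  obtain ⟨x, hx⟩ := hne
  obtain ⟨y, -, hy⟩ := Finset.exists_mem_notMem_of_card_lt_card
    (s := support₂ a) (t := Finset.univ) (by rw [Finset.card_univ, card_pt]; omega)
  have hxy : x ≠ y := fun h' => hy (h' ▸ hx)
  obtain ⟨σ, hσ, hfix, hσx⟩ := fix_move ((support₂ a).erase x)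
    (by rw [Finset.card_erase_of_mem hx]; omega) x y (by simp)
    (fun h' => hy (Finset.mem_of_mem_erase h'))
  have hact : act σ a + a = ev x + ev y := by
    funext p
    show a (σ.symm p) + a p = ev x p + ev y p
    have hmem : ∀ q, a q = if q ∈ support₂ a then 1 else 0 := by
      intro q
      by_cases hq : q ∈ support₂ a
      · rw [if_pos hq]; exact mem_supp.mp hq
      · rw [if_neg hq]
        rcases zmod2_cases (a q) with h0 | h1
        · exact h0
        · exact absurd (mem_supp.mpr h1) hq
    have hσfix : ∀ q ∈ support₂ a, q ≠ x → σ q = q := fun q hq hqx =>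
      hfix q (Finset.mem_erase.mpr ⟨hqx, hq⟩)
    -- z = σ.symm p
    have hz : σ (σ.symm p) = p := σ.apply_symm_apply p
    by_cases hpy : p = y
    · subst hpy
      have : σ.symm p = x := by
        rw [Equiv.symm_apply_eq]; exact hσx.symm
      rw [this, hmem x, hmem p, if_pos hx, if_neg hy]
      unfold ev
      rw [Pi.single_eq_of_ne (Ne.symm hxy), Pi.single_eq_same]
      decide
    · by_cases hpx : p = x
      · subst hpx
        have hzn : σ.symm p ∉ support₂ a := by
          intro hzm
          by_cases hzx : σ.symm p = p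
          · rw [hzx] at hz
            exact hxy (hz.symm.trans hσx)
          · have := hσfix _ hzm hzx
            rw [hz] at this
            exact hzx this.symm
        rw [hmem (σ.symm p), hmem p, if_neg hzn, if_pos hx]
        unfold ev
        rw [Pi.single_eq_same, Pi.single_eq_of_ne hpy]
        decide
      · by_cases hpa : p ∈ support₂ a
        · have : σ.symm p = p := by
            rw [Equiv.symm_apply_eq]; exact (hσfix p hpa hpx).symm
          rw [this]
          unfold ev
          rw [Pi.single_eq_of_ne hpx, Pi.single_eq_of_ne hpy, add_zero]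
          rcases zmod2_cases (a p) with h0 | h1
          · rw [h0]; decide
          · rw [h1]; decide
        · have hzn : σ.symm p ∉ support₂ a := by
            intro hzm
            by_cases hzx : σ.symm p = x
            · rw [hzx, hσx] at hz
              exact hpy hz.symm
            · have := hσfix _ hzm hzx
              rw [hz] at this
              exact hpa (this ▸ hzm)
          rw [hmem (σ.symm p), hmem p, if_neg hzn, if_neg hpa]
          unfold ev
          rw [Pi.single_eq_of_ne hpx, Pi.single_eq_of_ne hpy, add_zero]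
  refine ⟨x, y, hxy, ?_⟩
  rw [← hact]
  rcases h with h | h
  · exact W.add_mem (hinv σ hσ a h) h
  · have h1 := W.add_mem (hinv σ hσ _ h) h
    have h2 : act σ (a + 1) + (a + 1) = act σ a + a := by
      rw [act_add, act_one]
      funext p
      simp only [Pi.add_apply, Pi.one_apply]
      generalize act σ a p = s
      generalize a p = t
      revert s t
      decide
    rw [h2] at h1
    exact h1

end Cfsg.Agent.Lib.Helper9.GolayInv
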