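import Mathlib
import Cfsg.Prelude.Def_Sporadic_a
import Cfsg.Agent.Lib.Helper9.GolayInv2

set_option autoImplicit false

namespace Cfsg.Agent.Lib.Helper9.GolayInv

open Cfsg Cfsg.Agent.Lib.Helper1 Cfsg.Agent.Lib.Helper9.GolayAbs
open scoped Pointwise

variable {W : Submodule (ZMod 2) (GolayPt → ZMod 2)}

theorem act_fix {σ : Equiv.Perm GolayPt} {a : GolayPt → ZMod 2}
    (hfix : ∀ p ∈ support₂ a, σ p = p) : act σ a = a := by
  funext p
  show a (σ.symm p) = a p
  by_cases hp : p ∈ support₂ a
  · have : σ.symm p = p := by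
      rw [Equiv.symm_apply_eq]; exact (hfix p hp).symm
    rw [this]
  · have hzn : σ.symm p ∉ support₂ a := by
      intro hz
      have := hfix _ hz
      rw [Equiv.apply_symm_apply] at this
      exact hp (this ▸ hz)
    have h0 : ∀ q, q ∉ support₂ a → a q = 0 := by
      intro q hq
      rcases zmod2_cases (a q) with h | h
      · exact h
      · exact absurd (mem_supp.mpr h) hq
    rw [h0 _ hzn, h0 _ hp]

theorem small_code {c : GolayPt → ZMod 2} (hc : c ∈ golayCode) (S : Finset GolayPt)
    (hS : S.card ≤ 4) (h : ∀ p, p ∉ S → c p = 0) : c = 0 := by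
  by_contra h0
  have h8 := golay_min c hc h0
  rw [wt_eq] at h8
  have hsub : support₂ c ⊆ S := by
    intro p hp
    by_contra hpS
    have := h p hpS
    rw [mem_supp.mp hp] at this
    exact one_ne_zero this
  have := Finset.card_le_card hsub
  omega

theorem key (hinv : ∀ σ ∈ M24, ∀ w ∈ W, act σ w ∈ W) (hle : ¬ W ≤ golayCode) :
    ∃ a : GolayPt → ZMod 2, a ≠ 0 ∧ hammingNorm a ≤ 4 ∧ (a ∈ W ∨ a + 1 ∈ W) := by
  classical
  obtain ⟨w, hwW, hwc⟩ := SetLike.not_le_iff_exists.mp hle
  obtain ⟨a, ha4, hac⟩ := golay_leader w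
  have ha0 : a ≠ 0 := by
    intro h
    rw [h, zero_sub] at hac
    exact hwc (by simpa using golayCode.neg_mem hac)
  refine ⟨a, ha0, ha4, ?_⟩
  rw [sub_eq_add2] at hac
  set c := a + w with hc
  have hw : w = a + c := by
    rw [hc, ← add_assoc, add_self2, zero_add]
  have hinv0 : ∀ σ ∈ M24, ∀ v ∈ W ⊓ golayCode, act σ v ∈ W ⊓ golayCode := fun σ hσ v hv =>
    ⟨hinv σ hσ v hv.1, golay_inv σ hσ v hv.2⟩
  have h01 : (∀ v ∈ W ⊓ golayCode, v = 0 ∨ v = 1) → (a ∈ W ∨ a + 1 ∈ W) := by
    intro hv01
    have hne : (support₂ a).Nonempty := by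
      rw [Finset.nonempty_iff_ne_empty]
      intro h'
      exact ha0 (supp_eq_empty.mp h')
    obtain ⟨x, hx⟩ := hne
    have hcard4 : (support₂ a).card ≤ 4 := by rw [← wt_eq]; exact ha4
    -- invariance of c under the pointwise stabilizer
    have hcinv : ∀ σ ∈ M24, (∀ p ∈ support₂ a, σ p = p) → act σ c = c := by
      intro σ hσ hfix
      have h1 : act σ w + w ∈ W := W.add_mem (hinv σ hσ w hwW) hwW
      have h2 : act σ w + w = act σ c + c := by
        rw [hw, act_add, act_fix hfix]
        have h3 : a + act σ c + (a + c) = (a + a) + (act σ c + c) := by abel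
        rw [h3, add_self2, zero_add]
      rw [h2] at h1
      have h3 : act σ c + c ∈ golayCode := golayCode.add_mem (golay_inv σ hσ c hac) hac
      rcases hv01 _ ⟨h1, h3⟩ with h | h
      · have : act σ c = act σ c + (c + c) := by rw [add_self2, add_zero]
        rw [this, ← add_assoc, h, zero_add]
      · exfalso
        have hx' := congrFun h x
        have hsx : σ.symm x = x := by
          rw [Equiv.symm_apply_eq]; exact (hfix x hx).symm
        have : (act σ c + c) x = c x + c x := by
          show c (σ.symm x) + c x = _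
          rw [hsx]
        rw [this, Pi.one_apply] at hx'
        rcases zmod2_cases (c x) with h0 | h1
        · rw [h0] at hx'; revert hx'; decide
        · rw [h1] at hx'; revert hx'; decide
    -- c is constant off supp a
    have hconst : ∀ y y', y ∉ support₂ a → y' ∉ support₂ a → c y = c y' := by
      intro y y' hy hy'
      obtain ⟨σ, hσ, hfix, hσy⟩ := fix_move (support₂ a) hcard4 y y' hy hy'
      have := congrFun (hcinv σ hσ hfix) y'
      have h2 : act σ c y' = c y := by
        show c (σ.symm y') = c y
        rw [← hσy, Equiv.symm_apply_apply]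
      rw [h2] at this
      exact this
    obtain ⟨y, -, hy⟩ := Finset.exists_mem_notMem_of_card_lt_card
      (s := support₂ a) (t := Finset.univ) (by rw [Finset.card_univ, card_pt]; omega)
    rcases zmod2_cases (c y) with h0 | h1
    · left
      have : c = 0 := small_code hac (support₂ a) hcard4 (fun p hp => by
        rw [← hconst y p hy hp]; exact h0)
      rw [this, add_zero] at hw
      rw [← hw]; exact hwW
    · right
      have : c + 1 = 0 := small_code (golayCode.add_mem hac one_mem_golayCode) (support₂ a) hcard4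
        (fun p hp => by
          show c p + 1 = 0
          rw [← hconst y p hy hp, h1]; decide)
      have hc1 : c = 1 := by
        have h2 : c = (c + 1) + 1 := by
          rw [add_assoc, add_self2, add_zero]
        rw [h2, this, zero_add]
      rw [hc1] at hw
      rw [← hw]; exact hwW
  rcases sub_code (W := W ⊓ golayCode) inf_le_right hinv0 with h | h | h
  · apply h01
    intro v hv
    rw [h] at hv
    exact Or.inl ((Submodule.mem_bot _).mp hv)
  · apply h01
    intro v hv
    rw [h, Submodule.mem_span_singleton] at hv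
    obtain ⟨r, hr⟩ := hv
    rcases zmod2_cases r with h0 | h1
    · left; rw [← hr, h0, zero_smul]
    · right; rw [← hr, h1, one_smul]
  · left
    have hcW : c ∈ W := by
      have : c ∈ W ⊓ golayCode := by rw [h]; exact hac
      exact this.1
    have : a = w + c := by
      rw [hw, add_assoc, add_self2, add_zero]
    rw [this]
    exact W.add_mem hwW hcW

theorem inv_main (hinv : ∀ σ ∈ M24, ∀ w ∈ W, act σ w ∈ W) :
    W = ⊥ ∨ W = Submodule.span (ZMod 2) {(1 : GolayPt → ZMod 2)} ∨ W = golayCode ∨
      (W : Set (GolayPt → ZMod 2)) = {w | ∑ p, w p = 0} ∨ W = ⊤ := by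
  by_cases hle : W ≤ golayCode
  · rcases sub_code hle hinv with h | h | h
    · exact Or.inl h
    · exact Or.inr (Or.inl h)
    · exact Or.inr (Or.inr (Or.inl h))
  · right; right; right
    obtain ⟨a, ha0, ha4, hkey⟩ := key hinv hle
    obtain ⟨x, y, hxy, hp⟩ := pair_of_small hinv ha0 ha4 hkey
    have hpairs := pairs_of_pair hinv hxy hp
    have heven : ∀ v : GolayPt → ZMod 2, ∑ p, v p = 0 → v ∈ W := fun v hv =>
      even_le hpairs _ v rfl hv
    by_cases hodd : ∃ v ∈ W, ∑ p, v p ≠ 0
    · right
      obtain ⟨v, hvW, hv⟩ := hodd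
      have hv1 : ∑ p, v p = 1 := by
        rcases zmod2_cases (∑ p, v p) with h | h
        · exact absurd h hv
        · exact h
      rw [eq_top_iff]
      intro u _
      rcases zmod2_cases (∑ p, u p) with h | h
      · exact heven u h
      · have h2 : ∑ p, (u + v) p = 0 := by
          simp only [Pi.add_apply, Finset.sum_add_distrib, h, hv1]
          decide
        have h3 : u = (u + v) + v := by
          rw [add_assoc, add_self2, add_zero]
        rw [h3]
        exact W.add_mem (heven _ h2) hvW
    · left
      push_neg at hodd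
      ext v
      exact ⟨fun hv => hodd v hv, fun hv => heven v hv⟩

end Cfsg.Agent.Lib.Helper9.GolayInv
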