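import Mathlib
import Cfsg.Prelude.Def_Sporadic_a
import Cfsg.Agent.Lib.Helper1.M12Trans
import Cfsg.Agent.Lib.Helper1.M24OctFix

set_option autoImplicit false

namespace Cfsg.Agent.Lib.Helper9.OctTrans

open Cfsg Cfsg.Agent.Lib.Helper1
open scoped Pointwise

/-- the setwise stabilizer of the base octad -/
def Soct : Subgroup (Equiv.Perm GolayPt) :=
  M24 ⊓ MulAction.stabilizer (Equiv.Perm GolayPt) oct0

theorem evalW_mem_Soct (w : List ℕ)
    (h : ∀ i : Fin 24, (combo 2503).testBit i = true → (combo 2503).testBit (evalT w i) = true) :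
    evalW w ∈ Soct := by
  unfold Soct
  rw [Subgroup.mem_inf, MulAction.mem_stabilizer_iff]
  refine ⟨H0_le_M24 (evalW_mem w), ?_⟩
  apply smul_finset_eq_of_maps
  intro x hx
  obtain ⟨i, rfl⟩ := gpt_bij.surjective x
  rw [evalW_table w i, gpt_mem_oct0]
  exact h i ((gpt_mem_oct0 i).1 hx)

def wsA : List (List ℕ) := [[1, 3, 0], [0, 2, 3, 3, 1, 1, 1]]
def wsOut : List (List ℕ) := [[1, 3, 0, 3, 0, 3, 0, 0], [1, 4, 0, 3, 3, 1, 3, 3]]
def wsIn : List (List ℕ) := [[1, 3, 0], [3, 0, 3, 0, 0]]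

theorem certA : (∀ w ∈ wsA, ∀ i : Fin 24, (combo 2503).testBit i = true →
      (combo 2503).testBit (evalT w i) = true) ∧
    (∀ i : Fin 24, (combo 2503).testBit i = false → i ∈ bfs (wsA.map evalT) 5 [4]) ∧
    (∀ i : Fin 24, (combo 2503).testBit i = true → i ∈ bfs (wsA.map evalT) 5 [23]) := by
  decide +kernel

theorem certOut : (∀ w ∈ wsOut, ∀ i : Fin 24, (combo 2503).testBit i = true →
      (combo 2503).testBit (evalT w i) = true) ∧
    (∀ w ∈ wsOut, ∀ i ∈ ([4] : List (Fin 24)), evalT w i = i) ∧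
    (∀ i : Fin 24, (combo 2503).testBit i = false → i ≠ 4 →
      i ∈ bfs (wsOut.map evalT) 6 [6]) := by
  decide +kernel

theorem certIn : (∀ w ∈ wsIn, ∀ i : Fin 24, (combo 2503).testBit i = true →
      (combo 2503).testBit (evalT w i) = true) ∧
    (∀ w ∈ wsIn, ∀ i ∈ ([23] : List (Fin 24)), evalT w i = i) ∧
    (∀ i : Fin 24, (combo 2503).testBit i = true → i ≠ 23 →
      i ∈ bfs (wsIn.map evalT) 3 [0]) := by
  decide +kernel

/-- transitive with a point stabilizer transitive on the rest gives two-transitivity -/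
theorem trans2_of (K : Subgroup (Equiv.Perm GolayPt)) (P : GolayPt → Prop)
    (hP : ∀ g ∈ K, ∀ p, P p → P (g p)) (z0 x0 : GolayPt)
    (hA : ∀ p, P p → ∃ g ∈ K, g z0 = p)
    (hB : ∀ p, P p → p ≠ z0 → ∃ g ∈ K, g z0 = z0 ∧ g x0 = p)
    {z x y : GolayPt} (hz : P z) (hx : P x) (hy : P y) (hxz : x ≠ z) (hyz : y ≠ z) :
    ∃ g ∈ K, g z = z ∧ g x = y := by
  obtain ⟨a, ha, haz⟩ := hA z hz
  have hx' : P (a⁻¹ x) := hP _ (inv_mem ha) x hx
  have hy' : P (a⁻¹ y) := hP _ (inv_mem ha) y hy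
  have hxn : a⁻¹ x ≠ z0 := by
    intro h
    apply hxz
    rw [← haz, ← h, perm_apply_inv_self]
  have hyn : a⁻¹ y ≠ z0 := by
    intro h
    apply hyz
    rw [← haz, ← h, perm_apply_inv_self]
  obtain ⟨b, hb, hbz, hbx⟩ := hB _ hx' hxn
  obtain ⟨c, hc, hcz, hcx⟩ := hB _ hy' hyn
  refine ⟨a * c * b⁻¹ * a⁻¹, mul_mem (mul_mem (mul_mem ha hc) (inv_mem hb)) (inv_mem ha), ?_, ?_⟩
  · have h1 : a⁻¹ z = z0 := by rw [← haz, perm_inv_apply_self]
    have h2 : b⁻¹ z0 = z0 := by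
      rw [Equiv.Perm.inv_eq_iff_eq]; exact hbz.symm
    rw [Equiv.Perm.mul_apply, Equiv.Perm.mul_apply, Equiv.Perm.mul_apply, h1, h2, hcz, haz]
  · have h2 : b⁻¹ (a⁻¹ x) = x0 := by
      rw [Equiv.Perm.inv_eq_iff_eq]; exact hbx.symm
    rw [Equiv.Perm.mul_apply, Equiv.Perm.mul_apply, Equiv.Perm.mul_apply, h2, hcx,
      perm_apply_inv_self]

theorem Soct_mem_iff {g : Equiv.Perm GolayPt} (hg : g ∈ Soct) (p : GolayPt) :
    g p ∈ oct0 ↔ p ∈ oct0 := by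
  have h : g • oct0 = oct0 := MulAction.mem_stabilizer_iff.1 hg.2
  have h2 : g • p ∈ g • oct0 ↔ p ∈ oct0 := Finset.smul_mem_smul_finset_iff g
  rw [h] at h2
  exact h2

theorem hK_A : ∀ w ∈ wsA, evalW w ∈ Soct := fun w hw => evalW_mem_Soct w (certA.1 w hw)
theorem hK_Out : ∀ w ∈ wsOut, evalW w ∈ Soct := fun w hw => evalW_mem_Soct w (certOut.1 w hw)
theorem hK_In : ∀ w ∈ wsIn, evalW w ∈ Soct := fun w hw => evalW_mem_Soct w (certIn.1 w hw)

theorem oct0_trans2_in {z x y : GolayPt} (hz : z ∈ oct0) (hx : x ∈ oct0) (hy : y ∈ oct0)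
    (hxz : x ≠ z) (hyz : y ≠ z) : ∃ g ∈ Soct, g z = z ∧ g x = y := by
  apply trans2_of Soct (fun p => p ∈ oct0) (fun g hg p hp => (Soct_mem_iff hg p).2 hp)
    (gpt 23) (gpt 0) ?_ ?_ hz hx hy hxz hyz
  · intro p hp
    obtain ⟨i, rfl⟩ := gpt_bij.surjective p
    obtain ⟨g, hg, hgi⟩ := level_reach_gen Soct wsA [] hK_A (fun _ _ i hi => by simp at hi) 23 5 i
      (certA.2.2 i ((gpt_mem_oct0 i).1 hp))
    exact ⟨g, (mem_fixL.1 hg).1, hgi⟩
  · intro p hp hne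
    obtain ⟨i, rfl⟩ := gpt_bij.surjective p
    have hi23 : i ≠ 23 := fun h => hne (by rw [h])
    obtain ⟨g, hg, hgi⟩ := level_reach_gen Soct wsIn [23] hK_In certIn.2.1 0 3 i
      (certIn.2.2 i ((gpt_mem_oct0 i).1 hp) hi23)
    exact ⟨g, (mem_fixL.1 hg).1, (mem_fixL.1 hg).2 23 (by simp), hgi⟩

theorem oct0_trans2_out {z x y : GolayPt} (hz : z ∉ oct0) (hx : x ∉ oct0) (hy : y ∉ oct0)
    (hxz : x ≠ z) (hyz : y ≠ z) : ∃ g ∈ Soct, g z = z ∧ g x = y := by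
  apply trans2_of Soct (fun p => p ∉ oct0)
    (fun g hg p hp h => hp ((Soct_mem_iff hg p).1 h))
    (gpt 4) (gpt 6) ?_ ?_ hz hx hy hxz hyz
  · intro p hp
    obtain ⟨i, rfl⟩ := gpt_bij.surjective p
    have hb : (combo 2503).testBit i = false := by
      rw [← Bool.not_eq_true]
      exact fun h => hp ((gpt_mem_oct0 i).2 h)
    obtain ⟨g, hg, hgi⟩ := level_reach_gen Soct wsA [] hK_A (fun _ _ i hi => by simp at hi) 4 5 i
      (certA.2.1 i hb)
    exact ⟨g, (mem_fixL.1 hg).1, hgi⟩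
  · intro p hp hne
    obtain ⟨i, rfl⟩ := gpt_bij.surjective p
    have hb : (combo 2503).testBit i = false := by
      rw [← Bool.not_eq_true]
      exact fun h => hp ((gpt_mem_oct0 i).2 h)
    have hi4 : i ≠ 4 := fun h => hne (by rw [h])
    obtain ⟨g, hg, hgi⟩ := level_reach_gen Soct wsOut [4] hK_Out certOut.2.1 6 6 i
      (certOut.2.2 i hb hi4)
    exact ⟨g, (mem_fixL.1 hg).1, (mem_fixL.1 hg).2 4 (by simp), hgi⟩

/-- the stabilizer of an octad is two-transitive on the octad and on its complement -/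
theorem octad_trans2 {o : Finset GolayPt} (ho : o ∈ octads) {z x y : GolayPt}
    (hzx : z ∈ o ↔ x ∈ o) (hzy : z ∈ o ↔ y ∈ o) (hxz : x ≠ z) (hyz : y ≠ z) :
    ∃ g ∈ M24, g • o = o ∧ g z = z ∧ g x = y := by
  obtain ⟨t, ht, rfl⟩ := exists_smul_oct0 ho
  have hpre : ∀ p : GolayPt, p ∈ t • oct0 ↔ t⁻¹ p ∈ oct0 := by
    intro p
    have h2 : t • (t⁻¹ p) ∈ t • oct0 ↔ t⁻¹ p ∈ oct0 := Finset.smul_mem_smul_finset_iff t
    rw [Equiv.Perm.smul_def, perm_apply_inv_self] at h2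
    exact h2
  have hxz' : t⁻¹ x ≠ t⁻¹ z := fun h => hxz (t⁻¹.injective h)
  have hyz' : t⁻¹ y ≠ t⁻¹ z := fun h => hyz (t⁻¹.injective h)
  have key : ∃ g ∈ Soct, g (t⁻¹ z) = t⁻¹ z ∧ g (t⁻¹ x) = t⁻¹ y := by
    by_cases hz : z ∈ t • oct0
    · exact oct0_trans2_in ((hpre z).1 hz) ((hpre x).1 (hzx.1 hz)) ((hpre y).1 (hzy.1 hz))
        hxz' hyz'
    · exact oct0_trans2_out (fun h => hz ((hpre z).2 h))
        (fun h => hz (hzx.2 ((hpre x).2 h))) (fun h => hz (hzy.2 ((hpre y).2 h))) hxz' hyz'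
  obtain ⟨g, hg, hgz, hgx⟩ := key
  refine ⟨t * g * t⁻¹, mul_mem (mul_mem ht hg.1) (inv_mem ht), ?_, ?_, ?_⟩
  · have : g • oct0 = oct0 := MulAction.mem_stabilizer_iff.1 hg.2
    rw [mul_smul, inv_smul_smul, mul_smul, this]
  · rw [Equiv.Perm.mul_apply, Equiv.Perm.mul_apply, hgz, perm_apply_inv_self]
  · rw [Equiv.Perm.mul_apply, Equiv.Perm.mul_apply, hgx, perm_apply_inv_self]

end Cfsg.Agent.Lib.Helper9.OctTrans
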