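import Mathlib
import Cfsg.Prelude.Def_Sporadic_a
import Cfsg.Agent.Lib.Helper9.GolayInv3
import Cfsg.Agent.Lib.Helper9.OctTrans
import Cfsg.Agent.Lib.Helper1.M12Simple

set_option autoImplicit false

namespace Cfsg.Agent.Lib.Helper9.GolayInv

open Cfsg Cfsg.Agent.Lib.Helper1 Cfsg.Agent.Lib.Helper9.GolayAbs
open scoped Pointwise

theorem mem_supp_add_one {u : GolayPt → ZMod 2} {p : GolayPt} :
    p ∈ support₂ (u + 1) ↔ p ∉ support₂ u := by
  rw [mem_supp, mem_supp]
  show u p + 1 = 1 ↔ ¬ u p = 1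
  rcases zmod2_cases (u p) with h | h <;> rw [h] <;> decide

theorem card_supp_add_one (u : GolayPt → ZMod 2) :
    (support₂ (u + 1)).card + (support₂ u).card = 24 := by
  have hc := card_supp_add u 1
  rw [support₂_one, Finset.inter_univ, Finset.card_univ, card_pt] at hc
  omega

theorem stab_of_smul {u : GolayPt → ZMod 2} {σ : Equiv.Perm GolayPt}
    (h : σ • support₂ u = support₂ u) : act σ u = u := by
  apply support₂_injective
  rw [act_eq_permWord, support₂_permWord, h]

theorem side_aux {u : GolayPt → ZMod 2} (hu : u ∈ golayCode) {z x y : GolayPt}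
    (hzx : z ∈ support₂ u ↔ x ∈ support₂ u) (hzy : z ∈ support₂ u ↔ y ∈ support₂ u)
    (hxz : x ≠ z) (hyz : y ≠ z)
    (hcase : (support₂ u).card = 0 ∨ (support₂ u).card = 8 ∨
      ((support₂ u).card = 12 ∧ z ∈ support₂ u)) :
    ∃ σ ∈ M24, act σ u = u ∧ σ z = z ∧ σ x = y := by
  rcases hcase with h | h | ⟨h, hz⟩
  · have h0 : u = 0 := supp_eq_empty.mp (Finset.card_eq_zero.mp h)
    obtain ⟨σ, hσ, hfix, hσx⟩ := fix_move {z} (by simp) x y (by simpa using hxz)
      (by simpa using hyz)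
    refine ⟨σ, hσ, ?_, hfix z (by simp), hσx⟩
    rw [h0]; rfl
  · obtain ⟨g, hg, hgo, hgz, hgx⟩ := OctTrans.octad_trans2 (o := support₂ u)
      ⟨⟨u, hu, rfl⟩, h⟩ hzx hzy hxz hyz
    exact ⟨g, hg, stab_of_smul hgo, hgz, hgx⟩
  · obtain ⟨g, hg, hgo, hgz, hgx⟩ := dodecad_trans2 (support₂ u) ⟨⟨u, hu, rfl⟩, h⟩ hz
      (hzx.1 hz) hz (hzy.1 hz) hxz.symm hyz.symm
    exact ⟨g, hg, stab_of_smul hgo, hgz, hgx⟩

/-- the stabilizer of a codeword is two-transitive on its support and on the complement -/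
theorem side_trans2 {u : GolayPt → ZMod 2} (hu : u ∈ golayCode) {z x y : GolayPt}
    (hzx : z ∈ support₂ u ↔ x ∈ support₂ u) (hzy : z ∈ support₂ u ↔ y ∈ support₂ u)
    (hxz : x ≠ z) (hyz : y ≠ z) : ∃ σ ∈ M24, act σ u = u ∧ σ z = z ∧ σ x = y := by
  have hwt := Cfsg.Agent.S0359.result u hu
  rw [wt_eq] at hwt
  have hflip : ((support₂ (u + 1)).card = 0 ∨ (support₂ (u + 1)).card = 8 ∨
      ((support₂ (u + 1)).card = 12 ∧ z ∈ support₂ (u + 1))) →
      ∃ σ ∈ M24, act σ u = u ∧ σ z = z ∧ σ x = y := by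
    intro hc
    have hzx' : z ∈ support₂ (u + 1) ↔ x ∈ support₂ (u + 1) := by
      rw [mem_supp_add_one, mem_supp_add_one, hzx]
    have hzy' : z ∈ support₂ (u + 1) ↔ y ∈ support₂ (u + 1) := by
      rw [mem_supp_add_one, mem_supp_add_one, hzy]
    obtain ⟨σ, hσ, hσu, hσz, hσx⟩ := side_aux (golayCode.add_mem hu one_mem_golayCode)
      hzx' hzy' hxz hyz hc
    refine ⟨σ, hσ, ?_, hσz, hσx⟩
    have h2 : act σ (u + 1) = act σ u + 1 := rfl
    rw [h2] at hσu
    exact add_right_cancel hσu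
  have hc1 := card_supp_add_one u
  rcases hwt with h | h | h | h | h
  · exact side_aux hu hzx hzy hxz hyz (Or.inl h)
  · exact side_aux hu hzx hzy hxz hyz (Or.inr (Or.inl h))
  · by_cases hz : z ∈ support₂ u
    · exact side_aux hu hzx hzy hxz hyz (Or.inr (Or.inr ⟨h, hz⟩))
    · exact hflip (Or.inr (Or.inr ⟨by omega, mem_supp_add_one.mpr hz⟩))
  · exact hflip (Or.inr (Or.inl (by omega)))
  · exact hflip (Or.inl (by omega))

theorem side_card {u : GolayPt → ZMod 2} (hu : u ∈ golayCode) (z : GolayPt) :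
    8 ≤ (Finset.univ.filter (fun p => z ∈ support₂ u ↔ p ∈ support₂ u)).card := by
  classical
  by_cases hz : z ∈ support₂ u
  · have : Finset.univ.filter (fun p => z ∈ support₂ u ↔ p ∈ support₂ u) = support₂ u := by
      ext p
      simp [hz]
    rw [this, ← wt_eq]
    apply golay_min u hu
    intro h0
    rw [h0] at hz
    rw [mem_supp] at hz
    exact zero_ne_one hz
  · have : Finset.univ.filter (fun p => z ∈ support₂ u ↔ p ∈ support₂ u) =
        support₂ (u + 1) := by
      ext p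
      simp [hz, mem_supp_add_one]
    rw [this, ← wt_eq]
    apply golay_min _ (golayCode.add_mem hu one_mem_golayCode)
    intro h0
    have h1 := mem_supp_add_one.mpr hz
    rw [h0, mem_supp] at h1
    exact zero_ne_one h1

theorem not_mem_of_move {a : GolayPt → ZMod 2} (ha4 : (support₂ a).card ≤ 4)
    {σ : Equiv.Perm GolayPt} {x : GolayPt} (hx : x ∈ support₂ a) (hσx : σ x ∉ support₂ a)
    (h : (support₂ a).card ≤ 3 ∨ ∃ z ∈ support₂ a, σ z = z) :
    act σ a + a ∉ golayCode := by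
  classical
  intro hmem
  have hne : act σ a + a ≠ 0 := by
    intro h0
    have h1 := congrFun h0 (σ x)
    have h2 : (act σ a + a) (σ x) = a x + a (σ x) := by
      show a (σ.symm (σ x)) + a (σ x) = _
      rw [Equiv.symm_apply_apply]
    rw [h2, mem_supp.mp hx] at h1
    have h3 : a (σ x) = 0 := by
      rcases zmod2_cases (a (σ x)) with h' | h'
      · exact h'
      · exact absurd (mem_supp.mpr h') hσx
    rw [h3] at h1
    revert h1
    show ¬ ((1 : ZMod 2) + 0 = 0)
    decide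
  have h8 := golay_min _ hmem hne
  rw [wt_eq] at h8
  have hc := card_supp_add (act σ a) a
  have hs : support₂ (act σ a) = σ • support₂ a := by
    rw [act_eq_permWord, support₂_permWord]
  rw [hs, Finset.card_smul_finset] at hc
  rcases h with h | ⟨z, hz, hσz⟩
  · omega
  · have hzin : z ∈ σ • support₂ a ∩ support₂ a := by
      rw [Finset.mem_inter]
      refine ⟨?_, hz⟩
      have := Finset.smul_mem_smul_finset (a := σ) hz
      rw [Equiv.Perm.smul_def, hσz] at this
      exact this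
    have : 1 ≤ (σ • support₂ a ∩ support₂ a).card := Finset.card_pos.mpr ⟨z, hzin⟩
    omega

theorem stab_main (u : GolayPt → ZMod 2) (hu : u ∈ golayCode) (w : GolayPt → ZMod 2)
    (hw : w ∉ golayCode) : ∃ σ ∈ M24, act σ u = u ∧ act σ w - w ∉ golayCode := by
  classical
  obtain ⟨a, ha4, hac⟩ := golay_leader w
  have ha0 : a ≠ 0 := by
    intro h
    rw [h, zero_sub] at hac
    exact hw (by simpa using golayCode.neg_mem hac)
  rw [wt_eq] at ha4
  suffices h : ∃ σ ∈ M24, act σ u = u ∧ act σ a + a ∉ golayCode by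
    obtain ⟨σ, hσ, hσu, hσa⟩ := h
    refine ⟨σ, hσ, hσu, fun hcon => hσa ?_⟩
    have h1 : act σ (a - w) ∈ golayCode := golay_inv σ hσ _ hac
    have h2 : act σ a + a = (act σ w - w) + (act σ (a - w) + (a - w)) := by
      funext p
      show a (σ.symm p) + a p = (w (σ.symm p) - w p) + ((a (σ.symm p) - w (σ.symm p)) + (a p - w p))
      generalize a (σ.symm p) = s1
      generalize a p = s2
      generalize w (σ.symm p) = s3
      generalize w p = s4
      revert s1 s2 s3 s4
      decide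
    rw [h2]
    exact golayCode.add_mem hcon (golayCode.add_mem h1 hac)
  have hne : (support₂ a).Nonempty := by
    rw [Finset.nonempty_iff_ne_empty]
    intro h'
    exact ha0 (supp_eq_empty.mp h')
  by_cases hpair : ∃ x ∈ support₂ a, ∃ z ∈ support₂ a, x ≠ z ∧
      (z ∈ support₂ u ↔ x ∈ support₂ u)
  · obtain ⟨x, hx, z, hz, hxz, hside⟩ := hpair
    obtain ⟨y, hy, hyA⟩ := Finset.exists_mem_notMem_of_card_lt_card
      (s := support₂ a) (t := Finset.univ.filter (fun p => z ∈ support₂ u ↔ p ∈ support₂ u))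
      (lt_of_le_of_lt ha4 (lt_of_lt_of_le (by norm_num) (side_card hu z)))
    have hzy : z ∈ support₂ u ↔ y ∈ support₂ u := (Finset.mem_filter.mp hy).2
    have hyz : y ≠ z := fun h => hyA (h ▸ hz)
    obtain ⟨σ, hσ, hσu, hσz, hσx⟩ := side_trans2 hu hside hzy hxz hyz
    exact ⟨σ, hσ, hσu, not_mem_of_move ha4 hx (hσx ▸ hyA) (Or.inr ⟨z, hz, hσz⟩)⟩
  · have hcard2 : (support₂ a).card ≤ 2 := by
      have h1 : (support₂ a ∩ support₂ u).card ≤ 1 := by
        rw [Finset.card_le_one]
        intro p hp q hq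
        by_contra hpq
        apply hpair
        rw [Finset.mem_inter] at hp hq
        exact ⟨p, hp.1, q, hq.1, hpq, ⟨fun _ => hp.2, fun _ => hq.2⟩⟩
      have h2 : (support₂ a \ support₂ u).card ≤ 1 := by
        rw [Finset.card_le_one]
        intro p hp q hq
        by_contra hpq
        apply hpair
        rw [Finset.mem_sdiff] at hp hq
        exact ⟨p, hp.1, q, hq.1, hpq, ⟨fun h => absurd h hq.2, fun h => absurd h hp.2⟩⟩
      have h3 := Finset.card_sdiff_add_card_inter (support₂ a) (support₂ u)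
      omega
    obtain ⟨x, hx⟩ := hne
    obtain ⟨y, hy, hyA⟩ := Finset.exists_mem_notMem_of_card_lt_card
      (s := support₂ a) (t := Finset.univ.filter (fun p => x ∈ support₂ u ↔ p ∈ support₂ u))
      (lt_of_le_of_lt ha4 (lt_of_lt_of_le (by norm_num) (side_card hu x)))
    have hxy : x ∈ support₂ u ↔ y ∈ support₂ u := (Finset.mem_filter.mp hy).2
    obtain ⟨z, hz, hzn⟩ := Finset.exists_mem_notMem_of_card_lt_card
      (s := ({x, y} : Finset GolayPt))
      (t := Finset.univ.filter (fun p => x ∈ support₂ u ↔ p ∈ support₂ u))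
      (lt_of_le_of_lt Finset.card_le_two (lt_of_lt_of_le (by norm_num) (side_card hu x)))
    have hxz' : x ∈ support₂ u ↔ z ∈ support₂ u := (Finset.mem_filter.mp hz).2
    rw [Finset.mem_insert, Finset.mem_singleton, not_or] at hzn
    obtain ⟨σ, hσ, hσu, hσz, hσx⟩ := side_trans2 hu hxz'.symm (hxz'.symm.trans hxy)
      (Ne.symm hzn.1) (Ne.symm hzn.2)
    exact ⟨σ, hσ, hσu, not_mem_of_move ha4 hx (hσx ▸ hyA) (Or.inl (by omega))⟩

end Cfsg.Agent.Lib.Helper9.GolayInv
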