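import Mathlib
import Cfsg.Agent.Lib.Helper9.PResidual

set_option autoImplicit false

namespace Cfsg.Agent.Lib.Helper9

open Cfsg

/-- In a finite `p`-group, a subgroup that together with the commutator subgroup generates the group
is the whole group. -/
theorem eq_top_of_sup_commutator_eq_top {P : Type*} [Group P] [Finite P] (p : ℕ) [Fact p.Prime]
    (hP : IsPGroup p P) (A : Subgroup P) (h : A ⊔ commutator P = ⊤) : A = ⊤ := by
  by_contra hA
  obtain ⟨M, hM, hAM⟩ := (IsCoatomic.eq_top_or_exists_le_coatom A).resolve_left hA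
  have hnil : Group.IsNilpotent P := hP.isNilpotent
  have hMn : M.Normal :=
    Subgroup.NormalizerCondition.normal_of_coatom M (normalizerCondition_of_isNilpotent (G := P)) hM
  have hMtop : M ≠ ⊤ := hM.1
  have hnt : Nontrivial (P ⧸ M) := by
    rw [QuotientGroup.nontrivial_iff]
    exact hMtop
  have hQp : IsPGroup p (P ⧸ M) := hP.to_quotient M
  have hQnil : Group.IsNilpotent (P ⧸ M) := hQp.isNilpotent
  have hC : commutator (P ⧸ M) < ⊤ := IsSolvable.commutator_lt_top_of_nontrivial (P ⧸ M)
  have hcomap : (commutator (P ⧸ M)).comap (QuotientGroup.mk' M) = M := by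
    have hle : M ≤ (commutator (P ⧸ M)).comap (QuotientGroup.mk' M) := by
      intro x hx
      rw [Subgroup.mem_comap]
      have : QuotientGroup.mk' M x = 1 := (QuotientGroup.eq_one_iff x).mpr hx
      rw [this]
      exact Subgroup.one_mem _
    rcases eq_or_lt_of_le hle with h1 | h1
    · exact h1.symm
    · exfalso
      have htop := hM.2 _ h1
      have : commutator (P ⧸ M) = ⊤ := by
        rw [eq_top_iff]
        intro y _
        obtain ⟨x, rfl⟩ := QuotientGroup.mk'_surjective M y
        have hx : x ∈ (commutator (P ⧸ M)).comap (QuotientGroup.mk' M) := by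
          rw [htop]; exact Subgroup.mem_top x
        exact hx
      exact hC.ne this
  have hcomm : commutator P ≤ M := by
    rw [← hcomap]
    intro x hx
    rw [Subgroup.mem_comap]
    rw [commutator_def] at hx ⊢
    have := Subgroup.map_commutator (⊤ : Subgroup P) (⊤ : Subgroup P) (QuotientGroup.mk' M)
    have h2 : (QuotientGroup.mk' M) x ∈
        Subgroup.map (QuotientGroup.mk' M) ⁅(⊤ : Subgroup P), (⊤ : Subgroup P)⁆ :=
      ⟨x, hx, rfl⟩
    rw [this] at h2
    exact Subgroup.commutator_mono le_top le_top h2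
  have : A ⊔ commutator P ≤ M := sup_le hAM hcomm
  rw [h] at this
  exact hMtop (top_le_iff.mp this)

/-- Subgroup form: for a finite `p`-subgroup `T`, if `T ≤ A ⊔ ⁅T, T⁆` with `A ≤ T`, then `T ≤ A`. -/
theorem le_of_le_sup_commutator {Ω : Type*} [Group Ω] (p : ℕ) [Fact p.Prime] {T A : Subgroup Ω}
    [Finite T] (hT : IsPGroup p T) (hAT : A ≤ T) (h : T ≤ A ⊔ ⁅T, T⁆) : T ≤ A := by
  have hcT : ⁅T, T⁆ ≤ T := Subgroup.commutator_le_self T
  have hcomm : ⁅T, T⁆.subgroupOf T = commutator T := by
    rw [← Subgroup.map_subtype_commutator, Subgroup.subgroupOf,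
      Subgroup.comap_map_eq_self_of_injective T.subtype_injective]
  have h1 : A.subgroupOf T ⊔ commutator T = ⊤ := by
    rw [← hcomm, ← Subgroup.subgroupOf_sup hAT hcT, Subgroup.subgroupOf_eq_top]
    exact h
  have h2 := eq_top_of_sup_commutator_eq_top p hT _ h1
  exact Subgroup.subgroupOf_eq_top.mp h2

/-- Powers of an automorphism induced by conjugation. -/
theorem aut_pow_conj {G : Type*} [Group G] {P : Subgroup G} (α : MulAut P) (g : G)
    (hg : ∀ x : P, ((α x : P) : G) = g * x * g⁻¹) (m : ℕ) (x : P) :
    (((α ^ m) x : P) : G) = g ^ m * x * (g ^ m)⁻¹ := by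
  induction m generalizing x with
  | zero => simp
  | succ m ih =>
    rw [pow_succ' α m, MulAut.mul_apply, hg, ih, pow_succ' g m]
    group

/-- A `p'`-automorphism induced by conjugation is induced by an element of `O^p(G)`. -/
theorem exists_pResidual_conj {G : Type*} [Group G] [Finite G] (p : ℕ) [hp : Fact p.Prime]
    {P : Subgroup G} (α : MulAut P) (g : G) (hg : ∀ x : P, ((α x : P) : G) = g * x * g⁻¹)
    (hord : Nat.Coprime (orderOf α) p) :
    ∃ h ∈ pResidual p G, ∀ x : P, ((α x : P) : G) = h * x * h⁻¹ := by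
  by_cases hn : orderOf α = 1
  · rw [orderOf_eq_one_iff] at hn
    refine ⟨1, Subgroup.one_mem _, fun x => ?_⟩
    rw [hn]; simp
  · have hfin : Finite P := inferInstance
    have hpos : 0 < orderOf α := by
      haveI : Finite (MulAut P) := inferInstance
      exact orderOf_pos α
    have h1 : 1 < orderOf α := by omega
    set q := p ^ (orderOf g).factorization p with hq
    have hcop : Nat.Coprime q (orderOf α) := (Nat.Coprime.pow_right _ hord).symm
    obtain ⟨c, -, hc⟩ := Nat.exists_mul_mod_eq_one_of_coprime hcop h1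
    refine ⟨g ^ (q * c), ?_, fun x => ?_⟩
    · rw [pow_mul]
      exact Subgroup.pow_mem _ (pow_mem_pResidual p g) c
    · have e : α ^ (q * c) = α := by
        rw [← pow_mod_orderOf, hc, pow_one]
      have := aut_pow_conj α g hg (q * c) x
      rw [e] at this
      exact this

end Cfsg.Agent.Lib.Helper9
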