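import Mathlib

set_option autoImplicit false

namespace Cfsg.Agent.Lib.Helper9

theorem sq_of_order_two {G : Type*} [Group G] {x : G} (h : orderOf x = 2) : x * x = 1 := by
  have := pow_orderOf_eq_one x
  rw [h, pow_two] at this
  exact this

theorem commute_of_sq {G : Type*} [Group G] {a y : G} (ha : a * a = 1) (hy : y * y = 1)
    (h : (a * y) ^ 2 = 1) : Commute a y := by
  have h1 : a * y * (a * y) = 1 := by rw [← pow_two]; exact h
  have hai : a⁻¹ = a := inv_eq_of_mul_eq_one_left ha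
  have hyi : y⁻¹ = y := inv_eq_of_mul_eq_one_left hy
  have : a * y = (a * y)⁻¹ := eq_inv_of_mul_eq_one_left h1
  rw [mul_inv_rev, hai, hyi] at this
  exact this

/-- `e * r * e⁻¹ = r⁻¹` for `r = e * f` with `e`, `f` involutions. -/
theorem conj_mul_invol {G : Type*} [Group G] {e f : G} (he : e * e = 1) (hf : f * f = 1) :
    e * (e * f) * e⁻¹ = (e * f)⁻¹ := by
  have hei : e⁻¹ = e := inv_eq_of_mul_eq_one_left he
  have hfi : f⁻¹ = f := inv_eq_of_mul_eq_one_left hf
  rw [mul_inv_rev, hei, hfi]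
  calc e * (e * f) * e = (e * e) * (f * e) := by group
    _ = f * e := by rw [he, one_mul]

theorem conj_mul_invol' {G : Type*} [Group G] {e f : G} (he : e * e = 1) (hf : f * f = 1) :
    f * (e * f) * f⁻¹ = (e * f)⁻¹ := by
  have hei : e⁻¹ = e := inv_eq_of_mul_eq_one_left he
  have hfi : f⁻¹ = f := inv_eq_of_mul_eq_one_left hf
  rw [mul_inv_rev, hei, hfi]
  calc f * (e * f) * f = (f * e) * (f * f) := by group
    _ = f * e := by rw [hf, mul_one]

/-- `(e f)^{-n} e (e f)^n = e (e f)^{2n}`. -/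
theorem conj_pow_invol {G : Type*} [Group G] {e f : G} (he : e * e = 1) (hf : f * f = 1) (n : ℕ) :
    ((e * f) ^ n)⁻¹ * e * (e * f) ^ n = e * (e * f) ^ (2 * n) := by
  obtain ⟨r, hr⟩ : ∃ r, r = e * f := ⟨_, rfl⟩
  rw [← hr]
  have har : e * r * e⁻¹ = r⁻¹ := hr ▸ conj_mul_invol he hf
  have hei : e⁻¹ = e := inv_eq_of_mul_eq_one_left he
  have h1 : e * r ^ n * e⁻¹ = (r ^ n)⁻¹ := by
    rw [← inv_pow, ← har]; exact (conj_pow (a := e) (b := r) (i := n)).symm
  have h2 : (r ^ n)⁻¹ * e = e * r ^ n := by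
    rw [← h1, hei]
    calc e * r ^ n * e * e = e * r ^ n * (e * e) := by group
      _ = e * r ^ n := by rw [he, mul_one]
  rw [h2, two_mul, pow_add, mul_assoc]

/-- In a conjugation-closed set `D` of involutions, `e * (e * f) ^ n ∈ D` for `e f ∈ D`. -/
theorem mul_pow_mem {G : Type*} [Group G] {D : Set G} (hsq : ∀ y ∈ D, y * y = 1)
    (hconj : ∀ g : G, ∀ y ∈ D, g * y * g⁻¹ ∈ D) {e f : G} (he : e ∈ D) (hf : f ∈ D) (n : ℕ) :
    e * (e * f) ^ n ∈ D := by
  obtain ⟨r, hr⟩ : ∃ r, r = e * f := ⟨_, rfl⟩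
  rw [← hr]
  have har : e * r * e⁻¹ = r⁻¹ := hr ▸ conj_mul_invol (hsq e he) (hsq f hf)
  induction n using Nat.twoStepInduction with
  | zero => simpa using he
  | one =>
    have : e * r ^ 1 = f := by
      rw [pow_one, hr, ← mul_assoc, hsq e he, one_mul]
    rw [this]; exact hf
  | more k ih _ =>
    have h1 : r⁻¹ * (e * r ^ k) * (r⁻¹)⁻¹ ∈ D := hconj _ _ ih
    have h2 : r⁻¹ * e = e * r := by
      have : e * r = r⁻¹ * e := by
        have := congrArg (· * e) har
        simpa [mul_assoc] using this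
      exact this.symm
    have : r⁻¹ * (e * r ^ k) * (r⁻¹)⁻¹ = e * r ^ (k + 2) := by
      rw [inv_inv, ← mul_assoc, h2, pow_succ, pow_succ]
      simp only [mul_assoc]
      congr 1
      rw [← mul_assoc, ← pow_succ', pow_succ, mul_assoc]
    rw [← this]; exact h1

/-- Two involutions whose product has odd order are conjugate. -/
theorem isConj_of_odd_order_mul {G : Type*} [Group G] {e f : G} (he : e * e = 1) (hf : f * f = 1)
    (hodd : Odd (orderOf (e * f))) : IsConj e f := by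
  obtain ⟨j, hj⟩ := hodd
  rw [isConj_iff]
  refine ⟨((e * f) ^ (j + 1))⁻¹, ?_⟩
  rw [inv_inv, conj_pow_invol he hf]
  have : 2 * (j + 1) = (2 * j + 1) + 1 := by ring
  rw [this, pow_succ, ← hj, pow_orderOf_eq_one, one_mul, ← mul_assoc, he, one_mul]

theorem smul_mk_eq_iff {G : Type*} [Group G] (H : Subgroup G) (x g : G) :
    x • (QuotientGroup.mk g : G ⧸ H) = QuotientGroup.mk g ↔ g⁻¹ * x * g ∈ H := by
  rw [MulAction.Quotient.smul_mk, eq_comm, QuotientGroup.eq, smul_eq_mul, ← mul_assoc]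

theorem orderOf_conj' {K : Type*} [Group K] (g x : K) : orderOf (g * x * g⁻¹) = orderOf x := by
  have := orderOf_injective (MulAut.conj g).toMonoidHom (MulAut.conj g).injective x
  simpa [MulAut.conj_apply] using this

end Cfsg.Agent.Lib.Helper9
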