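import Cfsg.Agent.Lib.Helper9.KNorm1

set_option autoImplicit false

namespace Cfsg.Agent.Lib.Helper9

open Cfsg Cfsg.FusionSystem

variable {Ω : Type*} [Group Ω] {S : Subgroup Ω}

/-- `A(P; Q, K)` on `U`: the automorphisms in `Aut_F(U)` preserving `P` and inducing an element
of `K` on `Q`. -/
def normAut (F : FusionSystem S) {Q : Subgroup Ω} (K : Subgroup (MulAut Q)) (P U : Subgroup Ω)
    (hQU : Q ≤ U) : Subgroup (MulAut U) :=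
  F.autGroup U ⊓ autStab U P ⊓ autFix K U hQU

theorem mem_normAut {F : FusionSystem S} {Q : Subgroup Ω} {K : Subgroup (MulAut Q)}
    {P U : Subgroup Ω} {hQU : Q ≤ U} {a : MulAut U} :
    a ∈ normAut F K P U hQU ↔ a ∈ F.autGroup U ∧ a ∈ autStab U P ∧ a ∈ autFix K U hQU := by
  unfold normAut
  rw [Subgroup.mem_inf, Subgroup.mem_inf, and_assoc]

/-- Transport of `A(P; Q, K)` along an isomorphism of the system. -/
theorem normAut_transport (F : FusionSystem S) {Q : Subgroup Ω} (K : Subgroup (MulAut Q))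
    {P₁ U₁ P₂ U₂ : Subgroup Ω} (hQ1 : Q ≤ U₁) (hQ2 : Q ≤ U₂) {σ : U₁ →* Ω} (hσ : σ ∈ F.Hom U₁)
    (σ' : U₁ ≃* U₂) (σi : U₂ →* Ω) (hσ' : ∀ x, ((σ' x : U₂) : Ω) = σ x) (hσi : σi ∈ F.Hom U₂)
    (hσi' : ∀ y : U₂, σi y = ((σ'.symm y : U₁) : Ω))
    (hP : ∀ x : U₁, ((σ' x : U₂) : Ω) ∈ P₂ ↔ (x : Ω) ∈ P₁)
    {κσ : MulAut Q} (hκσ : κσ ∈ K)
    (hσQ : ∀ q : Q, σ (Subgroup.inclusion hQ1 q) = ((κσ q : Q) : Ω))
    {a : MulAut U₁} (ha : a ∈ normAut F K P₁ U₁ hQ1) :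
    MulAut.congr σ' a ∈ normAut F K P₂ U₂ hQ2 := by
  rw [mem_normAut] at ha ⊢
  obtain ⟨haF, haP, κa, hκa, haQ⟩ := ha
  refine ⟨map_congr_autGroup_le F hσ σ' σi hσ' hσi hσi' ⟨a, haF, rfl⟩, ?_, ?_⟩
  · intro y
    show ((σ' (a (σ'.symm y)) : U₂) : Ω) ∈ P₂ ↔ (y : Ω) ∈ P₂
    rw [hP, haP (σ'.symm y), ← hP, MulEquiv.apply_symm_apply]
  · refine ⟨κσ * κa * κσ⁻¹, K.mul_mem (K.mul_mem hκσ hκa) (K.inv_mem hκσ), fun q => ?_⟩
    show ((σ' (a (σ'.symm (Subgroup.inclusion hQ2 q))) : U₂) : Ω) =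
      ((κσ (κa (κσ⁻¹ q)) : Q) : Ω)
    have e1 : σ'.symm (Subgroup.inclusion hQ2 q) = Subgroup.inclusion hQ1 (κσ⁻¹ q) := by
      rw [MulEquiv.symm_apply_eq]
      apply Subtype.ext
      rw [hσ', hσQ, MulAut.apply_inv_self]
      rfl
    have e2 : a (Subgroup.inclusion hQ1 (κσ⁻¹ q)) = Subgroup.inclusion hQ1 (κa (κσ⁻¹ q)) :=
      Subtype.ext (haQ _)
    rw [e1, e2, hσ', hσQ]

/-- The transported groups have the same order. -/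
theorem card_normAut_eq (F : FusionSystem S) {Q : Subgroup Ω} (K : Subgroup (MulAut Q))
    {P₁ U₁ P₂ U₂ : Subgroup Ω} (hQ1 : Q ≤ U₁) (hQ2 : Q ≤ U₂) {σ : U₁ →* Ω} (hσ : σ ∈ F.Hom U₁)
    (σ' : U₁ ≃* U₂) (σi : U₂ →* Ω) (hσ' : ∀ x, ((σ' x : U₂) : Ω) = σ x) (hσi : σi ∈ F.Hom U₂)
    (hσi' : ∀ y : U₂, σi y = ((σ'.symm y : U₁) : Ω))
    (hP : ∀ x : U₁, ((σ' x : U₂) : Ω) ∈ P₂ ↔ (x : Ω) ∈ P₁)
    {κσ : MulAut Q} (hκσ : κσ ∈ K)
    (hσQ : ∀ q : Q, σ (Subgroup.inclusion hQ1 q) = ((κσ q : Q) : Ω)) :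
    Nat.card (normAut F K P₂ U₂ hQ2) = Nat.card (normAut F K P₁ U₁ hQ1) := by
  have hσiQ : ∀ q : Q, σi (Subgroup.inclusion hQ2 q) = ((κσ⁻¹ q : Q) : Ω) := by
    intro q
    rw [hσi']
    have e1 : σ'.symm (Subgroup.inclusion hQ2 q) = Subgroup.inclusion hQ1 (κσ⁻¹ q) := by
      rw [MulEquiv.symm_apply_eq]
      apply Subtype.ext
      rw [hσ', hσQ, MulAut.apply_inv_self]
      rfl
    rw [e1]
    rfl
  have hP' : ∀ y : U₂, ((σ'.symm y : U₁) : Ω) ∈ P₁ ↔ (y : Ω) ∈ P₂ := by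
    intro y
    rw [← hP, MulEquiv.apply_symm_apply]
  symm
  refine Nat.card_congr ((MulAut.congr σ').toEquiv.subtypeEquiv (fun a => ?_))
  constructor
  · intro ha
    exact normAut_transport F K hQ1 hQ2 hσ σ' σi hσ' hσi hσi' hP hκσ hσQ ha
  · intro ha
    have h2 := normAut_transport F K hQ2 hQ1 hσi σ'.symm σ (fun y => (hσi' y).symm) hσ
      (fun x => by rw [MulEquiv.symm_symm]; exact (hσ' x).symm) hP' (K.inv_mem hκσ) hσiQ ha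
    have e : MulAut.congr σ'.symm ((MulAut.congr σ').toEquiv a) = a := by
      ext x
      show ((σ'.symm (σ' (a (σ'.symm (σ'.symm.symm x)))) : U₁) : Ω) = a x
      rw [MulEquiv.symm_apply_apply, MulEquiv.symm_symm, MulEquiv.symm_apply_apply]
    rw [e] at h2
    exact h2

end Cfsg.Agent.Lib.Helper9
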