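import Cfsg.Agent.Lib.Helper9.KNorm3
import Cfsg.Agent.Lib.Helper9.FusionSat4
import Cfsg.Agent.Lib.Helper9.FusionSat5
import Cfsg.Agent.S5078

set_option autoImplicit false

namespace Cfsg.Agent.Lib.Helper9

open Cfsg Cfsg.FusionSystem

variable {Ω : Type*} [Group Ω] {S : Subgroup Ω}

/-- The data of a `K`-normalizer system `E` over `T = N_S^K(Q)` in `F`, together with the
extension property replacing "`Q` is fully `K`-normalized". -/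
structure KSetup (F : FusionSystem S) (Q : Subgroup Ω) (K : Subgroup (MulAut Q)) (T : Subgroup Ω)
    (E : FusionSystem T) : Prop where
  hQS : Q ≤ S
  hT : ∀ g, g ∈ T ↔ g ∈ kNormalizer S Q K
  hE : ∀ (P : Subgroup Ω) (φ : P →* Ω), φ ∈ E.Hom P ↔ φ ∈ F.Hom P ∧ P ≤ T ∧ (∀ x : P, φ x ∈ T) ∧
    ∃ ψ ∈ F.Hom (P ⊔ Q), (∀ x : P, ψ (Subgroup.inclusion le_sup_left x) = φ x) ∧
      ∃ κ ∈ K, ∀ x : Q, ψ (Subgroup.inclusion le_sup_right x) = ((κ x : Q) : Ω)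
  HQ : ∀ (Q₁ : Subgroup Ω) (θ' : Q₁ ≃* Q), Q.subtype.comp θ'.toMonoidHom ∈ F.Hom Q₁ →
    ∃ χ ∈ F.Hom (Q₁ ⊔ kNormalizer S Q₁ (K.comap (MulAut.congr θ').toMonoidHom)),
      ∃ κ₀ ∈ K, ∀ x : Q₁, χ (Subgroup.inclusion le_sup_left x) = ((κ₀ (θ' x) : Q) : Ω)

theorem forall_mem_of_sup {P Q : Subgroup Ω} (M : Subgroup ↥(P ⊔ Q))
    (hP : ∀ x : P, Subgroup.inclusion le_sup_left x ∈ M)
    (hQ : ∀ x : Q, Subgroup.inclusion le_sup_right x ∈ M) : ∀ u : ↥(P ⊔ Q), u ∈ M := by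
  have hle : P ⊔ Q ≤ M.map (P ⊔ Q).subtype := by
    refine sup_le ?_ ?_
    · intro x hx
      exact ⟨_, hP ⟨x, hx⟩, rfl⟩
    · intro x hx
      exact ⟨_, hQ ⟨x, hx⟩, rfl⟩
  intro u
  obtain ⟨u', hu', hu'u⟩ := hle u.2
  have : u' = u := Subtype.ext hu'u
  rw [← this]
  exact hu'

theorem KSetup.le_S {F : FusionSystem S} {Q : Subgroup Ω} {K : Subgroup (MulAut Q)}
    {T : Subgroup Ω} {E : FusionSystem T} (hK : KSetup F Q K T E) : T ≤ S :=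
  fun _ hg => kNormalizer_le S Q K ((hK.hT _).mp hg)

/-- Membership in `T` from the conjugation action on `Q` read through a map `ρ` with
`ρ|_Q ∈ K`. -/
theorem KSetup.mem_T_of_conj [Finite S] {F : FusionSystem S} {Q : Subgroup Ω}
    {K : Subgroup (MulAut Q)} {T : Subgroup Ω} {E : FusionSystem T} (hK : KSetup F Q K T E)
    {U : Subgroup Ω} (hQU : Q ≤ U) (ρ : U →* Ω) {κ₀ : MulAut Q} (hκ₀ : κ₀ ∈ K)
    (hρQ : ∀ x : Q, ρ (Subgroup.inclusion hQU x) = ((κ₀ x : Q) : Ω))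
    {t : Ω} (ht : t ∈ S) {κ : MulAut Q} (hκ : κ ∈ K)
    (h : ∀ q : Q, t * ρ (Subgroup.inclusion hQU q) * t⁻¹ = ρ (Subgroup.inclusion hQU (κ q))) :
    t ∈ T := by
  rw [hK.hT, mem_kNormalizer]
  have hfinQ : Finite Q := finite_of_le' hK.hQS
  have hconj : ∀ q : Q, t * (q : Ω) * t⁻¹ = ((κ₀ (κ (κ₀⁻¹ q)) : Q) : Ω) := by
    intro q
    have h1 := h (κ₀⁻¹ q)
    rw [hρQ, hρQ, MulAut.apply_inv_self] at h1
    exact h1
  have hN : t ∈ Subgroup.normalizer (Q : Set Ω) := by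
    refine mem_normalizer_of_conj_mem_of_finite (fun q hq => ?_)
    rw [hconj ⟨q, hq⟩]
    exact (κ₀ (κ (κ₀⁻¹ ⟨q, hq⟩))).2
  refine ⟨ht, hN, ?_⟩
  have e : normConj Q ⟨t, hN⟩ = κ₀ * κ * κ₀⁻¹ := by
    ext q
    rw [normConj_apply]
    exact hconj q
  rw [e]
  exact K.mul_mem (K.mul_mem hκ₀ hκ) (K.inv_mem hκ₀)

end Cfsg.Agent.Lib.Helper9
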