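import Cfsg.Agent.Lib.Helper9.KNorm4

set_option autoImplicit false
set_option maxHeartbeats 800000

namespace Cfsg.Agent.Lib.Helper9

open Cfsg Cfsg.FusionSystem

variable {Ω : Type*} [Group Ω] {S : Subgroup Ω}

/-- Step 1: the choice of a good conjugate. -/
theorem KSetup.step1 [Finite S] (p : ℕ) [Fact p.Prime] (hS : IsPGroup p S)
    {F : FusionSystem S} (hF : F.IsSaturated p) {Q : Subgroup Ω} {K : Subgroup (MulAut Q)}
    {T : Subgroup Ω} {E : FusionSystem T} (hK : KSetup F Q K T E) {P : Subgroup Ω} (hPT : P ≤ T) :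
    ∃ ρ : ↥(P ⊔ Q) →* Ω, ρ ∈ F.Hom (P ⊔ Q) ∧
      (∃ κ₀ ∈ K, ∀ x : Q, ρ (Subgroup.inclusion le_sup_right x) = ((κ₀ x : Q) : Ω)) ∧
      F.IsReceptive ρ.range ∧ (∀ x : P, ρ (Subgroup.inclusion le_sup_left x) ∈ T) ∧
      ∃ Y : Subgroup (MulAut ↥(P ⊔ Q)), Y ≤ normAut F K P (P ⊔ Q) le_sup_right ∧
        Nat.card Y = p ^ (Nat.card (normAut F K P (P ⊔ Q) le_sup_right)).factorization p ∧
        ∀ y ∈ Y, ∃ t ∈ T, ∀ u, ρ (y u) = t * ρ u * t⁻¹ := by
  have hTS : T ≤ S := hK.le_S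
  have hPS : P ≤ S := hPT.trans hTS
  have hQS : Q ≤ S := hK.hQS
  have hU : P ⊔ Q ≤ S := sup_le hPS hQS
  have hfinU : Finite ↥(P ⊔ Q) := finite_of_le' hU
  have hfinQ : Finite Q := finite_of_le' hQS
  -- a Sylow subgroup of `A`
  obtain ⟨Y₀⟩ : Nonempty (Sylow p ↥(normAut F K P (P ⊔ Q) le_sup_right)) := inferInstance
  have hYle : (Y₀ : Subgroup ↥(normAut F K P (P ⊔ Q) le_sup_right)).map
      (normAut F K P (P ⊔ Q) le_sup_right).subtype ≤ normAut F K P (P ⊔ Q) le_sup_right := by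
    rintro _ ⟨a, -, rfl⟩
    exact a.2
  have hYcard : Nat.card ((Y₀ : Subgroup ↥(normAut F K P (P ⊔ Q) le_sup_right)).map
      (normAut F K P (P ⊔ Q) le_sup_right).subtype) =
      p ^ (Nat.card (normAut F K P (P ⊔ Q) le_sup_right)).factorization p := by
    rw [Subgroup.card_map_of_injective (Subgroup.subtype_injective _)]
    exact Y₀.card_eq_multiplicity
  have hYp : IsPGroup p ((Y₀ : Subgroup ↥(normAut F K P (P ⊔ Q) le_sup_right)).map
      (normAut F K P (P ⊔ Q) le_sup_right).subtype) := Y₀.2.map _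
  have hYF : (Y₀ : Subgroup ↥(normAut F K P (P ⊔ Q) le_sup_right)).map
      (normAut F K P (P ⊔ Q) le_sup_right).subtype ≤ F.autGroup (P ⊔ Q) :=
    fun a ha => (mem_normAut.mp (hYle ha)).1
  obtain ⟨V, ψ₁, hψ₁, hψ₁r, hauto, hrec, hconj⟩ := exists_iso_sylow_conj p F hF hU _ hYF hYp
  have hψ₁S := (F.le_of_mem hψ₁).2
  have hψ₁inj := F.injective_of_mem hψ₁
  -- the restriction of `ψ₁` to `Q`
  have hζ : ψ₁.comp (Subgroup.inclusion (le_sup_right : Q ≤ P ⊔ Q)) ∈ F.Hom Q :=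
    restrict_mem F hψ₁ le_sup_right
  obtain ⟨ζ', ζi, hζ', hζi, hζi', -⟩ := exists_iso_data F hζ rfl
  have hζ'val : ∀ q : Q, ((ζ' q : (ψ₁.comp (Subgroup.inclusion
      (le_sup_right : Q ≤ P ⊔ Q))).range) : Ω) = ψ₁ (Subgroup.inclusion le_sup_right q) := hζ'
  have hθF : Q.subtype.comp ζ'.symm.toMonoidHom ∈
      F.Hom (ψ₁.comp (Subgroup.inclusion (le_sup_right : Q ≤ P ⊔ Q))).range := by
    have : Q.subtype.comp ζ'.symm.toMonoidHom = ζi := by
      ext y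
      exact (hζi' y).symm
    rw [this]
    exact hζi
  obtain ⟨χ, hχ, κ₀, hκ₀, hχQ⟩ := hK.HQ _ ζ'.symm hθF
  have hχS := (F.le_of_mem hχ).2
  have hχinj := F.injective_of_mem hχ
  have hfinQ₁ : Finite ↥(ψ₁.comp (Subgroup.inclusion (le_sup_right : Q ≤ P ⊔ Q))).range :=
    finite_of_le' (F.le_of_mem hθF).1
  -- (C1): membership in the `K`-normalizer of `Q₁`
  have C1 : ∀ s ∈ S, ∀ κ ∈ K, (∀ q : Q, s * ψ₁ (Subgroup.inclusion le_sup_right q) * s⁻¹ =
      ψ₁ (Subgroup.inclusion le_sup_right (κ q))) →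
      s ∈ kNormalizer S (ψ₁.comp (Subgroup.inclusion (le_sup_right : Q ≤ P ⊔ Q))).range
        (K.comap (MulAut.congr ζ'.symm).toMonoidHom) := by
    intro s hs κ hκ h
    rw [mem_kNormalizer]
    have hN : s ∈ Subgroup.normalizer
        (((ψ₁.comp (Subgroup.inclusion (le_sup_right : Q ≤ P ⊔ Q))).range : Subgroup Ω) :
          Set Ω) := by
      refine mem_normalizer_of_conj_mem_of_finite ?_
      rintro _ ⟨q, rfl⟩
      show s * ψ₁ (Subgroup.inclusion le_sup_right q) * s⁻¹ ∈ _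
      rw [h q]
      exact ⟨κ q, rfl⟩
    refine ⟨hs, hN, ?_⟩
    show MulAut.congr ζ'.symm (normConj _ ⟨s, hN⟩) ∈ K
    have e : MulAut.congr ζ'.symm (normConj _ ⟨s, hN⟩) = κ := by
      ext q
      show ((ζ'.symm ((normConj _ ⟨s, hN⟩) (ζ'.symm.symm q)) : Q) : Ω) = κ q
      rw [MulEquiv.symm_symm]
      have e2 : (normConj _ ⟨s, hN⟩) (ζ' q) = ζ' (κ q) := by
        apply Subtype.ext
        rw [normConj_apply, hζ'val, hζ'val]
        exact h q
      rw [e2, MulEquiv.symm_apply_apply]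
    rw [e]
    exact hκ
  -- `ψ₁` takes values in the domain of `χ`
  have hψ₁D : ∀ u : ↥(P ⊔ Q), ψ₁ u ∈
      (ψ₁.comp (Subgroup.inclusion (le_sup_right : Q ≤ P ⊔ Q))).range ⊔
        kNormalizer S (ψ₁.comp (Subgroup.inclusion (le_sup_right : Q ≤ P ⊔ Q))).range
          (K.comap (MulAut.congr ζ'.symm).toMonoidHom) := by
    intro u
    revert u
    refine forall_mem_of_sup (Subgroup.comap ψ₁
      ((ψ₁.comp (Subgroup.inclusion (le_sup_right : Q ≤ P ⊔ Q))).range ⊔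
        kNormalizer S (ψ₁.comp (Subgroup.inclusion (le_sup_right : Q ≤ P ⊔ Q))).range
          (K.comap (MulAut.congr ζ'.symm).toMonoidHom))) ?_ ?_
    · intro x
      rw [Subgroup.mem_comap]
      apply Subgroup.mem_sup_right
      have hxT := (hK.hT _).mp (hPT x.2)
      rw [mem_kNormalizer] at hxT
      obtain ⟨hxS, hxN, hxK⟩ := hxT
      refine C1 _ (hψ₁S _) _ hxK (fun q => ?_)
      rw [← map_inv, ← map_mul, ← map_mul]
      congr 1
    · intro q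
      rw [Subgroup.mem_comap]
      exact Subgroup.mem_sup_left ⟨q, rfl⟩
  have hρ := F.comp_mem hψ₁ hχ hψ₁D
  have hρS := (F.le_of_mem hρ).2
  -- `ρ` on `Q`
  have hρQ : ∀ x : Q, (χ.comp (ψ₁.codRestrict _ hψ₁D)) (Subgroup.inclusion le_sup_right x) =
      ((κ₀ x : Q) : Ω) := by
    intro x
    show χ ⟨ψ₁ (Subgroup.inclusion le_sup_right x), _⟩ = _
    have e : (⟨ψ₁ (Subgroup.inclusion le_sup_right x), hψ₁D _⟩ :
        ↥((ψ₁.comp (Subgroup.inclusion (le_sup_right : Q ≤ P ⊔ Q))).range ⊔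
        kNormalizer S (ψ₁.comp (Subgroup.inclusion (le_sup_right : Q ≤ P ⊔ Q))).range
          (K.comap (MulAut.congr ζ'.symm).toMonoidHom))) =
        Subgroup.inclusion le_sup_left (ζ' x) := Subtype.ext (hζ'val x).symm
    rw [e, hχQ, MulEquiv.symm_apply_apply]
  refine ⟨χ.comp (ψ₁.codRestrict _ hψ₁D), hρ, ⟨κ₀, hκ₀, hρQ⟩, ?_, ?_, _, hYle, hYcard, ?_⟩
  · -- receptive
    have hVfc := Cfsg.Agent.S5078.result F V hrec
    have hrS : (χ.comp (ψ₁.codRestrict _ hψ₁D)).range ≤ S := by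
      rintro _ ⟨u, rfl⟩
      exact hρS u
    refine sat_fullyCentralized_receptive p hS F hF ⟨hrS, ?_⟩
    intro W hW
    have hVW : F.IsConj V W := by
      have h1 : F.IsConj (P ⊔ Q) V := ⟨ψ₁, hψ₁, hψ₁r⟩
      have h2 : F.IsConj (P ⊔ Q) (χ.comp (ψ₁.codRestrict _ hψ₁D)).range := ⟨_, hρ, rfl⟩
      exact isConj_trans F (isConj_symm F h1) (isConj_trans F h2 hW)
    refine (hVfc.2 W hVW).trans ?_
    -- injection of `C_S(V)` into `C_S(ρ.range)`
    have hcD : ∀ c : ↥(centralizerIn S V), (c : Ω) ∈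
        (ψ₁.comp (Subgroup.inclusion (le_sup_right : Q ≤ P ⊔ Q))).range ⊔
        kNormalizer S (ψ₁.comp (Subgroup.inclusion (le_sup_right : Q ≤ P ⊔ Q))).range
          (K.comap (MulAut.congr ζ'.symm).toMonoidHom) := by
      intro c
      apply Subgroup.mem_sup_right
      have hc := mem_centralizerIn.mp c.2
      refine C1 _ hc.1 1 K.one_mem (fun q => ?_)
      have hv : ψ₁ (Subgroup.inclusion le_sup_right q) ∈ V := by rw [← hψ₁r]; exact ⟨_, rfl⟩
      have := hc.2 _ hv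
      show (c : Ω) * ψ₁ (Subgroup.inclusion le_sup_right q) * (c : Ω)⁻¹ =
        ψ₁ (Subgroup.inclusion le_sup_right q)
      rw [← this]
      group
    have hfinC : Finite ↥(centralizerIn S (χ.comp (ψ₁.codRestrict _ hψ₁D)).range) :=
      finite_of_le' (centralizerIn_le_left _ _)
    have hmem : ∀ c : ↥(centralizerIn S V), χ ⟨c, hcD c⟩ ∈
        centralizerIn S (χ.comp (ψ₁.codRestrict _ hψ₁D)).range := by
      intro c
      rw [mem_centralizerIn]
      refine ⟨hχS _, ?_⟩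
      rintro _ ⟨u, rfl⟩
      show χ ⟨ψ₁ u, hψ₁D u⟩ * χ ⟨c, hcD c⟩ = χ ⟨c, hcD c⟩ * χ ⟨ψ₁ u, hψ₁D u⟩
      rw [← map_mul, ← map_mul]
      congr 1
      apply Subtype.ext
      have hv : ψ₁ u ∈ V := by rw [← hψ₁r]; exact ⟨_, rfl⟩
      exact (mem_centralizerIn.mp c.2).2 _ hv
    refine Nat.card_le_card_of_injective (fun c => (⟨χ ⟨c, hcD c⟩, hmem c⟩ :
      ↥(centralizerIn S (χ.comp (ψ₁.codRestrict _ hψ₁D)).range))) ?_
    intro c c' hcc
    have h1 : χ ⟨c, hcD c⟩ = χ ⟨c', hcD c'⟩ := congrArg Subtype.val hcc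
    have h2 := hχinj h1
    have h3 : (c : Ω) = (c' : Ω) := congrArg (fun z : ↥((ψ₁.comp (Subgroup.inclusion
      (le_sup_right : Q ≤ P ⊔ Q))).range ⊔
        kNormalizer S (ψ₁.comp (Subgroup.inclusion (le_sup_right : Q ≤ P ⊔ Q))).range
          (K.comap (MulAut.congr ζ'.symm).toMonoidHom)) => (z : Ω)) h2
    exact Subtype.ext h3
  · -- values on `P`
    intro x
    have hxT := (hK.hT _).mp (hPT x.2)
    rw [mem_kNormalizer] at hxT
    obtain ⟨hxS, hxN, hxK⟩ := hxT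
    refine hK.mem_T_of_conj le_sup_right _ hκ₀ hρQ (hρS _) hxK (fun q => ?_)
    rw [← map_inv, ← map_mul, ← map_mul]
    congr 1
  · -- the Sylow subgroup lands in `Aut_T`
    intro y hy
    obtain ⟨s, hsS, hsN, hs⟩ := hconj y hy
    obtain ⟨-, -, κy, hκy, hyQ⟩ := mem_normAut.mp (hYle hy)
    have hsD : s ∈ (ψ₁.comp (Subgroup.inclusion (le_sup_right : Q ≤ P ⊔ Q))).range ⊔
        kNormalizer S (ψ₁.comp (Subgroup.inclusion (le_sup_right : Q ≤ P ⊔ Q))).range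
          (K.comap (MulAut.congr ζ'.symm).toMonoidHom) := by
      apply Subgroup.mem_sup_right
      refine C1 s hsS κy hκy (fun q => ?_)
      rw [← hs]
      congr 1
      exact Subtype.ext (hyQ q)
    have hform : ∀ u : ↥(P ⊔ Q), (χ.comp (ψ₁.codRestrict _ hψ₁D)) (y u) =
        χ ⟨s, hsD⟩ * (χ.comp (ψ₁.codRestrict _ hψ₁D)) u * (χ ⟨s, hsD⟩)⁻¹ := by
      intro u
      show χ ⟨ψ₁ (y u), hψ₁D _⟩ = χ ⟨s, hsD⟩ * χ ⟨ψ₁ u, hψ₁D u⟩ * (χ ⟨s, hsD⟩)⁻¹
      rw [← map_inv, ← map_mul, ← map_mul]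
      congr 1
      apply Subtype.ext
      exact hs u
    refine ⟨χ ⟨s, hsD⟩, ?_, hform⟩
    refine hK.mem_T_of_conj le_sup_right _ hκ₀ hρQ (hχS _) hκy (fun q => ?_)
    rw [← hform]
    congr 1
    exact Subtype.ext (hyQ q)

end Cfsg.Agent.Lib.Helper9
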