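import Cfsg.Agent.Lib.Helper9.KNorm5
import Cfsg.Agent.Lib.Helper9.FusionAlp4

set_option autoImplicit false
set_option maxHeartbeats 800000

namespace Cfsg.Agent.Lib.Helper9

open Cfsg Cfsg.FusionSystem

variable {Ω : Type*} [Group Ω] {S : Subgroup Ω}

/-- `Aut_{N_T(P)}(P ⊔ Q)` lies in `A(P; Q, K)`. -/
theorem KSetup.autInducedBy_le_normAut [Finite S] {F : FusionSystem S} {Q : Subgroup Ω}
    {K : Subgroup (MulAut Q)} {T : Subgroup Ω} {E : FusionSystem T} (hK : KSetup F Q K T E)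
    {P : Subgroup Ω} (hPT : P ≤ T) :
    autInducedBy (normalizerIn T P) (P ⊔ Q) ≤ normAut F K P (P ⊔ Q) le_sup_right := by
  have hTS : T ≤ S := hK.le_S
  have hU : P ⊔ Q ≤ S := sup_le (hPT.trans hTS) hK.hQS
  have hle : autInducedBy (normalizerIn T P) (P ⊔ Q) ≤ F.autGroup (P ⊔ Q) :=
    (autInducedBy_mono ((normalizerIn_le_left T P).trans hTS) _).trans
      (autInducedBy_le_autGroup F hU)
  intro α hα
  rw [mem_normAut]
  refine ⟨hle hα, ?_, ?_⟩
  · unfold autInducedBy at hα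
    refine Subgroup.closure_le (K := autStab (P ⊔ Q) P) |>.mpr ?_ hα
    rintro β ⟨g, hg, hβ⟩
    intro x
    show ((β x : ↥(P ⊔ Q)) : Ω) ∈ P ↔ (x : Ω) ∈ P
    rw [hβ]
    exact (Subgroup.mem_normalizer_iff.mp (Subgroup.mem_inf.mp hg).2 _).symm
  · unfold autInducedBy at hα
    refine Subgroup.closure_le (K := autFix K (P ⊔ Q) le_sup_right) |>.mpr ?_ hα
    rintro β ⟨g, hg, hβ⟩
    have hgT := (hK.hT _).mp (Subgroup.mem_inf.mp hg).1
    rw [mem_kNormalizer] at hgT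
    obtain ⟨-, hgN, hgK⟩ := hgT
    refine ⟨_, hgK, fun q => ?_⟩
    rw [hβ, normConj_apply]
    rfl

/-- Step 1, packaged: every `P ≤ T` has an `E`-conjugate `P*` with `P* ⊔ Q` receptive in `F` and
`Aut_{N_T(P*)}(P* ⊔ Q)` a Sylow `p`-subgroup of `A(P*; Q, K)`. -/
theorem KSetup.exists_good_conj [Finite S] (p : ℕ) [Fact p.Prime] (hS : IsPGroup p S)
    {F : FusionSystem S} (hF : F.IsSaturated p) {Q : Subgroup Ω} {K : Subgroup (MulAut Q)}
    {T : Subgroup Ω} {E : FusionSystem T} (hK : KSetup F Q K T E) {P : Subgroup Ω} (hPT : P ≤ T) :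
    ∃ P' : Subgroup Ω, E.IsConj P P' ∧ ∃ hP'T : P' ≤ T, F.IsReceptive (P' ⊔ Q) ∧
      ∃ Syl : Sylow p ↥(normAut F K P' (P' ⊔ Q) le_sup_right),
        (Syl : Subgroup ↥(normAut F K P' (P' ⊔ Q) le_sup_right)) =
          (autInducedBy (normalizerIn T P') (P' ⊔ Q)).subgroupOf
            (normAut F K P' (P' ⊔ Q) le_sup_right) := by
  obtain ⟨ρ, hρ, ⟨κ₀, hκ₀, hρQ⟩, hrec, hρT, Y, hYle, hYcard, hYT⟩ := hK.step1 p hS hF hPT
  have hTS : T ≤ S := hK.le_S
  have hPS : P ≤ S := hPT.trans hTS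
  have hQS : Q ≤ S := hK.hQS
  have hU : P ⊔ Q ≤ S := sup_le hPS hQS
  have hfinU : Finite ↥(P ⊔ Q) := finite_of_le' hU
  have hρS := (F.le_of_mem hρ).2
  have hρinj := F.injective_of_mem hρ
  have hφF : ρ.comp (Subgroup.inclusion (le_sup_left : P ≤ P ⊔ Q)) ∈ F.Hom P :=
    restrict_mem F hρ le_sup_left
  have hφE : ρ.comp (Subgroup.inclusion (le_sup_left : P ≤ P ⊔ Q)) ∈ E.Hom P := by
    rw [hK.hE]
    exact ⟨hφF, hPT, hρT, ρ, hρ, fun _ => rfl, κ₀, hκ₀, hρQ⟩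
  have hP'T : (ρ.comp (Subgroup.inclusion (le_sup_left : P ≤ P ⊔ Q))).range ≤ T := by
    rintro _ ⟨x, rfl⟩
    exact hρT x
  -- the range of `ρ`
  have hr : ρ.range = (ρ.comp (Subgroup.inclusion (le_sup_left : P ≤ P ⊔ Q))).range ⊔ Q := by
    apply le_antisymm
    · rintro _ ⟨u, rfl⟩
      revert u
      refine forall_mem_of_sup (Subgroup.comap ρ
        ((ρ.comp (Subgroup.inclusion (le_sup_left : P ≤ P ⊔ Q))).range ⊔ Q)) ?_ ?_
      · intro x
        exact Subgroup.mem_sup_left ⟨x, rfl⟩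
      · intro q
        rw [Subgroup.mem_comap, hρQ]
        exact Subgroup.mem_sup_right (κ₀ q).2
    · refine sup_le ?_ ?_
      · rintro _ ⟨x, rfl⟩
        exact ⟨_, rfl⟩
      · intro q hq
        refine ⟨Subgroup.inclusion le_sup_right (κ₀⁻¹ ⟨q, hq⟩), ?_⟩
        rw [hρQ, MulAut.apply_inv_self]
  refine ⟨(ρ.comp (Subgroup.inclusion (le_sup_left : P ≤ P ⊔ Q))).range, ⟨_, hφE, rfl⟩, hP'T,
    ?_, ?_⟩
  · rw [← hr]
    exact hrec
  obtain ⟨ρ', ρi, hρ', hρi, hρi', -⟩ := exists_iso_data F hρ hr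
  have hU'S : (ρ.comp (Subgroup.inclusion (le_sup_left : P ≤ P ⊔ Q))).range ⊔ Q ≤ S :=
    sup_le (hP'T.trans hTS) hQS
  have hfinU' : Finite ↥((ρ.comp (Subgroup.inclusion (le_sup_left : P ≤ P ⊔ Q))).range ⊔ Q) :=
    finite_of_le' hU'S
  have hfinP' : Finite ↥(ρ.comp (Subgroup.inclusion (le_sup_left : P ≤ P ⊔ Q))).range :=
    finite_of_le' (hP'T.trans hTS)
  have hPtr : ∀ x : ↥(P ⊔ Q), ((ρ' x : ↥((ρ.comp (Subgroup.inclusion
      (le_sup_left : P ≤ P ⊔ Q))).range ⊔ Q)) : Ω) ∈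
      (ρ.comp (Subgroup.inclusion (le_sup_left : P ≤ P ⊔ Q))).range ↔ (x : Ω) ∈ P := by
    intro x
    rw [hρ']
    constructor
    · rintro ⟨x', hx'⟩
      have : Subgroup.inclusion le_sup_left x' = x := hρinj hx'
      rw [← this]
      exact x'.2
    · intro hx
      exact ⟨⟨x, hx⟩, rfl⟩
  have hcardA := card_normAut_eq F K (le_sup_right : Q ≤ P ⊔ Q)
    (le_sup_right : Q ≤ (ρ.comp (Subgroup.inclusion (le_sup_left : P ≤ P ⊔ Q))).range ⊔ Q)
    hρ ρ' ρi hρ' hρi hρi' hPtr hκ₀ hρQ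
  have hTle := hK.autInducedBy_le_normAut hP'T
  have hTp : IsPGroup p (autInducedBy (normalizerIn T
      (ρ.comp (Subgroup.inclusion (le_sup_left : P ≤ P ⊔ Q))).range)
      ((ρ.comp (Subgroup.inclusion (le_sup_left : P ≤ P ⊔ Q))).range ⊔ Q)) :=
    (isPGroup_autInducedBy p hS _).to_le
      (autInducedBy_mono ((normalizerIn_le_left T _).trans hTS) _)
  -- the transported Sylow subgroup lies in `Aut_{N_T(P')}`
  have hYT' : Y.map (MulAut.congr ρ').toMonoidHom ≤ autInducedBy (normalizerIn T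
      (ρ.comp (Subgroup.inclusion (le_sup_left : P ≤ P ⊔ Q))).range)
      ((ρ.comp (Subgroup.inclusion (le_sup_left : P ≤ P ⊔ Q))).range ⊔ Q) := by
    rintro _ ⟨y, hy, rfl⟩
    obtain ⟨t, htT, ht⟩ := hYT y hy
    have hyA := normAut_transport F K (le_sup_right : Q ≤ P ⊔ Q)
      (le_sup_right : Q ≤ (ρ.comp (Subgroup.inclusion (le_sup_left : P ≤ P ⊔ Q))).range ⊔ Q)
      hρ ρ' ρi hρ' hρi hρi' hPtr hκ₀ hρQ (hYle hy)
    have hval : ∀ z : ↥((ρ.comp (Subgroup.inclusion (le_sup_left : P ≤ P ⊔ Q))).range ⊔ Q),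
        (((MulAut.congr ρ' y) z : ↥((ρ.comp (Subgroup.inclusion
          (le_sup_left : P ≤ P ⊔ Q))).range ⊔ Q)) : Ω) = t * (z : Ω) * t⁻¹ := by
      intro z
      show ((ρ' (y (ρ'.symm z)) : ↥((ρ.comp (Subgroup.inclusion
          (le_sup_left : P ≤ P ⊔ Q))).range ⊔ Q)) : Ω) = _
      rw [hρ', ht, ← hρ', MulEquiv.apply_symm_apply]
    have htN : t ∈ Subgroup.normalizer
        (((ρ.comp (Subgroup.inclusion (le_sup_left : P ≤ P ⊔ Q))).range : Subgroup Ω) :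
          Set Ω) := by
      refine mem_normalizer_of_conj_mem_of_finite (fun z hz => ?_)
      have hzU : z ∈ (ρ.comp (Subgroup.inclusion (le_sup_left : P ≤ P ⊔ Q))).range ⊔ Q :=
        Subgroup.mem_sup_left hz
      rw [← hval ⟨z, hzU⟩]
      exact ((mem_normAut.mp hyA).2.1 ⟨z, hzU⟩).mpr hz
    apply Subgroup.subset_closure
    exact ⟨t, Subgroup.mem_inf.mpr ⟨htT, htN⟩, hval⟩
  have hcardT : Nat.card (autInducedBy (normalizerIn T
      (ρ.comp (Subgroup.inclusion (le_sup_left : P ≤ P ⊔ Q))).range)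
      ((ρ.comp (Subgroup.inclusion (le_sup_left : P ≤ P ⊔ Q))).range ⊔ Q)) =
      p ^ (Nat.card (normAut F K (ρ.comp (Subgroup.inclusion
        (le_sup_left : P ≤ P ⊔ Q))).range
        ((ρ.comp (Subgroup.inclusion (le_sup_left : P ≤ P ⊔ Q))).range ⊔ Q)
        le_sup_right)).factorization p := by
    apply le_antisymm
    · exact card_le_of_isPGroup_le p hTp hTle
    · have hinj : Function.Injective (MulAut.congr ρ').toMonoidHom := (MulAut.congr ρ').injective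
      have hc : Nat.card (Y.map (MulAut.congr ρ').toMonoidHom) = Nat.card Y :=
        Subgroup.card_map_of_injective hinj
      rw [hcardA, ← hYcard, ← hc]
      exact Subgroup.card_le_of_le hYT'
  exact (exists_sylow_eq_subgroupOf_iff p hTle).mpr hcardT

end Cfsg.Agent.Lib.Helper9
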