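import Cfsg.Agent.Lib.Helper9.KNorm6
import Cfsg.Agent.Lib.Helper9.FusionFactorAut

set_option autoImplicit false
set_option maxHeartbeats 800000

namespace Cfsg.Agent.Lib.Helper9

open Cfsg Cfsg.FusionSystem

variable {Ω : Type*} [Group Ω] {S : Subgroup Ω}

theorem normAut_le_autStab (F : FusionSystem S) {Q : Subgroup Ω} (K : Subgroup (MulAut Q))
    (P U : Subgroup Ω) (hQU : Q ≤ U) : normAut F K P U hQU ≤ autStab U P :=
  fun _ ha => (mem_normAut.mp ha).2.1

/-- The restriction homomorphism `A(P; Q, K) → Aut(P)`. -/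
def normAutRes (F : FusionSystem S) {Q : Subgroup Ω} (K : Subgroup (MulAut Q)) (P : Subgroup Ω) :
    ↥(normAut F K P (P ⊔ Q) le_sup_right) →* MulAut P :=
  (autRes (le_sup_left : P ≤ P ⊔ Q)).comp
    (Subgroup.inclusion (normAut_le_autStab F K P (P ⊔ Q) le_sup_right))

theorem normAutRes_apply (F : FusionSystem S) {Q : Subgroup Ω} (K : Subgroup (MulAut Q))
    (P : Subgroup Ω) (a : ↥(normAut F K P (P ⊔ Q) le_sup_right)) (x : P) :
    ((normAutRes F K P a x : P) : Ω) =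
      (((a : MulAut ↥(P ⊔ Q)) (Subgroup.inclusion le_sup_left x) : ↥(P ⊔ Q)) : Ω) := rfl

/-- The restriction of an element of `A(P; Q, K)` lies in `Aut_E(P)`. -/
theorem KSetup.normAutRes_mem {F : FusionSystem S} {Q : Subgroup Ω}
    {K : Subgroup (MulAut Q)} {T : Subgroup Ω} {E : FusionSystem T} (hK : KSetup F Q K T E)
    {P : Subgroup Ω} (hPT : P ≤ T) (a : ↥(normAut F K P (P ⊔ Q) le_sup_right)) :
    normAutRes F K P a ∈ E.autGroup P := by
  have hU : P ⊔ Q ≤ S := sup_le (hPT.trans hK.le_S) hK.hQS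
  obtain ⟨haF, -, κ, hκ, haQ⟩ := mem_normAut.mp a.2
  have hψ := (mem_autGroup_iff F hU _).mp haF
  apply Subgroup.subset_closure
  show P.subtype.comp (normAutRes F K P a).toMonoidHom ∈ E.Hom P
  rw [hK.hE]
  refine ⟨?_, hPT, fun x => hPT (normAutRes F K P a x).2, _, hψ, fun x => rfl, κ, hκ, haQ⟩
  have h1 := restrict_mem F hψ (le_sup_left : P ≤ P ⊔ Q)
  have : ((P ⊔ Q).subtype.comp (a : MulAut ↥(P ⊔ Q)).toMonoidHom).comp
      (Subgroup.inclusion le_sup_left) = P.subtype.comp (normAutRes F K P a).toMonoidHom := by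
    ext x
    rfl
  rw [← this]
  exact h1

/-- Every element of `Aut_E(P)` is the restriction of an element of `A(P; Q, K)`. -/
theorem KSetup.exists_normAut_of_mem [Finite S] {F : FusionSystem S} {Q : Subgroup Ω}
    {K : Subgroup (MulAut Q)} {T : Subgroup Ω} {E : FusionSystem T} (hK : KSetup F Q K T E)
    {P : Subgroup Ω} (hPT : P ≤ T) {α : MulAut P} (hα : α ∈ E.autGroup P) :
    ∃ a : ↥(normAut F K P (P ⊔ Q) le_sup_right), normAutRes F K P a = α := by
  have hαE := (mem_autGroup_iff E hPT α).mp hα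
  rw [hK.hE] at hαE
  obtain ⟨-, -, -, ψ, hψ, hψP, κ, hκ, hψQ⟩ := hαE
  have hψinj := F.injective_of_mem hψ
  have hval : ∀ u : ↥(P ⊔ Q), ψ u ∈ P ⊔ Q := by
    refine forall_mem_of_sup (Subgroup.comap ψ (P ⊔ Q)) ?_ ?_
    · intro x
      rw [Subgroup.mem_comap, hψP]
      exact Subgroup.mem_sup_left (α x).2
    · intro q
      rw [Subgroup.mem_comap, hψQ]
      exact Subgroup.mem_sup_right (κ q).2
  obtain ⟨a, ha, has⟩ := exists_aut_of_hom_self F hψ hval
  have hmem : a ∈ normAut F K P (P ⊔ Q) le_sup_right := by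
    rw [mem_normAut]
    refine ⟨ha, ?_, κ, hκ, fun q => by rw [has, hψQ]⟩
    intro u
    rw [has]
    constructor
    · intro hu
      have h1 : ψ (Subgroup.inclusion le_sup_left (α⁻¹ ⟨ψ u, hu⟩)) = ψ u := by
        rw [hψP]
        show ((α (α⁻¹ ⟨ψ u, hu⟩) : P) : Ω) = ψ u
        rw [MulAut.apply_inv_self]
      have h2 := hψinj h1
      rw [← h2]
      exact (α⁻¹ ⟨ψ u, hu⟩).2
    · intro hu
      have : u = Subgroup.inclusion le_sup_left (⟨(u : Ω), hu⟩ : P) := Subtype.ext rfl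
      rw [this, hψP]
      exact (α _).2
  refine ⟨⟨a, hmem⟩, ?_⟩
  ext x
  rw [normAutRes_apply]
  show ((a (Subgroup.inclusion le_sup_left x) : ↥(P ⊔ Q)) : Ω) = α x
  rw [has, hψP]
  rfl

/-- Step 2: `P` is fully automized in `E`. -/
theorem KSetup.fullyAutomized [Finite S] (p : ℕ) [Fact p.Prime]
    {F : FusionSystem S} {Q : Subgroup Ω} {K : Subgroup (MulAut Q)}
    {T : Subgroup Ω} {E : FusionSystem T} (hK : KSetup F Q K T E) {P : Subgroup Ω} (hPT : P ≤ T)
    (Syl : Sylow p ↥(normAut F K P (P ⊔ Q) le_sup_right))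
    (hSyl : (Syl : Subgroup ↥(normAut F K P (P ⊔ Q) le_sup_right)) =
      (autInducedBy (normalizerIn T P) (P ⊔ Q)).subgroupOf
        (normAut F K P (P ⊔ Q) le_sup_right)) : E.IsFullyAutomized p P := by
  have hTS : T ≤ S := hK.le_S
  have hU : P ⊔ Q ≤ S := sup_le (hPT.trans hTS) hK.hQS
  have hfinU : Finite ↥(P ⊔ Q) := finite_of_le' hU
  have hsurj : Function.Surjective ((normAutRes F K P).codRestrict (E.autGroup P)
      (fun a => hK.normAutRes_mem hPT a)) := by
    rintro ⟨α, hα⟩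
    obtain ⟨a, ha⟩ := hK.exists_normAut_of_mem hPT hα
    exact ⟨a, Subtype.ext ha⟩
  refine ⟨hPT, Syl.mapSurjective hsurj, ?_⟩
  rw [Sylow.coe_mapSurjective, hSyl]
  ext β
  rw [Subgroup.mem_subgroupOf]
  constructor
  · rintro ⟨a, ha, rfl⟩
    rw [SetLike.mem_coe, Subgroup.mem_subgroupOf, autInducedBy_eq_map] at ha
    obtain ⟨n, hn, hna⟩ := ha
    have hnT : (n : Ω) ∈ normalizerIn T P := Subgroup.mem_subgroupOf.mp hn
    apply Subgroup.subset_closure
    refine ⟨n, (Subgroup.mem_inf.mp hnT).1, fun x => ?_⟩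
    show ((normAutRes F K P a x : P) : Ω) = _
    rw [normAutRes_apply, ← hna, normConj_apply]
    rfl
  · intro hβ
    rw [autInducedBy_eq_map] at hβ
    obtain ⟨m, hm, hmβ⟩ := hβ
    have hmT : (m : Ω) ∈ T := Subgroup.mem_subgroupOf.mp hm
    have hmQ : (m : Ω) ∈ Subgroup.normalizer (Q : Set Ω) := by
      have := (hK.hT _).mp hmT
      rw [mem_kNormalizer] at this
      exact this.2.1
    have hmU : (m : Ω) ∈ Subgroup.normalizer ((P ⊔ Q : Subgroup Ω) : Set Ω) :=
      Subgroup.normalizer_inf_normalizer_le_normalizer_sup _ _ ⟨m.2, hmQ⟩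
    have hmem : normConj (P ⊔ Q) ⟨m, hmU⟩ ∈ autInducedBy (normalizerIn T P) (P ⊔ Q) := by
      apply Subgroup.subset_closure
      exact ⟨m, Subgroup.mem_inf.mpr ⟨hmT, m.2⟩, fun x => rfl⟩
    refine ⟨⟨_, hK.autInducedBy_le_normAut hPT hmem⟩, Subgroup.mem_subgroupOf.mpr hmem, ?_⟩
    apply Subtype.ext
    show normAutRes F K P _ = (β : MulAut P)
    rw [← hmβ]
    ext x
    rfl

end Cfsg.Agent.Lib.Helper9
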