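import Cfsg.Agent.Lib.Helper9.KNorm7
import Cfsg.Agent.Lib.Helper9.FusionMorph

set_option autoImplicit false
set_option maxHeartbeats 1600000

namespace Cfsg.Agent.Lib.Helper9

open Cfsg Cfsg.FusionSystem

variable {Ω : Type*} [Group Ω] {S : Subgroup Ω}

/-- Step 3: `P` is receptive in `E`. -/
theorem KSetup.receptive [Finite S] (p : ℕ) [Fact p.Prime] (hS : IsPGroup p S)
    {F : FusionSystem S} {Q : Subgroup Ω} {K : Subgroup (MulAut Q)}
    {T : Subgroup Ω} {E : FusionSystem T} (hK : KSetup F Q K T E) {P : Subgroup Ω} (hPT : P ≤ T)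
    (hrec : F.IsReceptive (P ⊔ Q))
    (Syl : Sylow p ↥(normAut F K P (P ⊔ Q) le_sup_right))
    (hSyl : (Syl : Subgroup ↥(normAut F K P (P ⊔ Q) le_sup_right)) =
      (autInducedBy (normalizerIn T P) (P ⊔ Q)).subgroupOf
        (normAut F K P (P ⊔ Q) le_sup_right)) : E.IsReceptive P := by
  have hTS : T ≤ S := hK.le_S
  have hQS := hK.hQS
  have hU : P ⊔ Q ≤ S := sup_le (hPT.trans hTS) hQS
  have hfinU : Finite ↥(P ⊔ Q) := finite_of_le' hU
  have hfinP : Finite P := finite_of_le' (hPT.trans hTS)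
  have hfinQ : Finite Q := finite_of_le' hQS
  refine ⟨hPT, ?_⟩
  intro R φ hφE hφr
  have hφE' := hφE
  rw [hK.hE] at hφE'
  obtain ⟨hφF, hRT, hφT, ψ, hψ, hψR, κψ, hκψ, hψQ⟩ := hφE'
  have hW : R ⊔ Q ≤ S := sup_le (hRT.trans hTS) hQS
  have hfinW : Finite ↥(R ⊔ Q) := finite_of_le' hW
  have hfinR : Finite R := finite_of_le' (hRT.trans hTS)
  have hψinj := F.injective_of_mem hψ
  -- range of ψ
  have hr : ψ.range = P ⊔ Q := by
    apply le_antisymm
    · rintro _ ⟨u, rfl⟩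
      revert u
      refine forall_mem_of_sup (Subgroup.comap ψ (P ⊔ Q)) ?_ ?_
      · intro x
        rw [Subgroup.mem_comap, hψR]
        apply Subgroup.mem_sup_left
        rw [← hφr]
        exact ⟨x, rfl⟩
      · intro q
        rw [Subgroup.mem_comap, hψQ]
        exact Subgroup.mem_sup_right (κψ q).2
    · refine sup_le ?_ ?_
      · intro y hy
        rw [← hφr] at hy
        obtain ⟨x, rfl⟩ := hy
        exact ⟨Subgroup.inclusion le_sup_left x, hψR x⟩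
      · intro q hq
        refine ⟨Subgroup.inclusion le_sup_right (κψ⁻¹ ⟨q, hq⟩), ?_⟩
        rw [hψQ, MulAut.apply_inv_self]
  obtain ⟨ψ', ψi, hψ', hψi, hψi', -⟩ := exists_iso_data F hψ hr
  have hPtr : ∀ w : ↥(R ⊔ Q), ((ψ' w : ↥(P ⊔ Q)) : Ω) ∈ P ↔ (w : Ω) ∈ R := by
    intro w
    rw [hψ']
    constructor
    · intro hw
      rw [← hφr] at hw
      obtain ⟨x, hx⟩ := hw
      have : Subgroup.inclusion le_sup_left x = w := hψinj (by rw [hψR]; exact hx)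
      rw [← this]
      exact x.2
    · intro hw
      have : w = Subgroup.inclusion le_sup_left (⟨(w : Ω), hw⟩ : R) := Subtype.ext rfl
      rw [this, hψR, ← hφr]
      exact ⟨_, rfl⟩
  have hNT : extender T R φ ≤ T := (extender_le T R φ).trans (normalizerIn_le_left T R)
  have htrans : ∀ a ∈ normAut F K R (R ⊔ Q) le_sup_right,
      MulAut.congr ψ' a ∈ normAut F K P (P ⊔ Q) le_sup_right :=
    fun a ha => normAut_transport F K le_sup_right le_sup_right hψ ψ' ψi hψ' hψi hψi' hPtr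
      hκψ hψQ ha
  have hNW : ∀ g ∈ extender T R φ,
      g ∈ Subgroup.normalizer ((R ⊔ Q : Subgroup Ω) : Set Ω) := by
    intro g hg
    have h1 := (mem_extender_iff T R φ g).mp hg
    have h2 := (hK.hT _).mp h1.1
    rw [mem_kNormalizer] at h2
    exact Subgroup.normalizer_inf_normalizer_le_normalizer_sup _ _ ⟨h1.2.1, h2.2.1⟩
  have hΓ : ∀ (g : Ω) (hg : g ∈ extender T R φ),
      MulAut.congr ψ' (normConj (R ⊔ Q) ⟨g, hNW g hg⟩) ∈
        normAut F K P (P ⊔ Q) le_sup_right := by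
    intro g hg
    apply htrans
    apply hK.autInducedBy_le_normAut hRT
    apply Subgroup.subset_closure
    have h1 := (mem_extender_iff T R φ g).mp hg
    exact ⟨g, Subgroup.mem_inf.mpr ⟨h1.1, h1.2.1⟩, fun x => rfl⟩
  have hkey : ∀ (g : Ω) (hg : g ∈ extender T R φ), ∃ h ∈ normalizerIn T P, ∀ y : P,
      ((MulAut.congr ψ' (normConj (R ⊔ Q) ⟨g, hNW g hg⟩)
        (Subgroup.inclusion le_sup_left y) : ↥(P ⊔ Q)) : Ω) = h * (y : Ω) * h⁻¹ := by
    intro g hg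
    obtain ⟨hgT, hgN, h, hhT, hh⟩ := (mem_extender_iff T R φ g).mp hg
    have hform : ∀ y : P, ((MulAut.congr ψ' (normConj (R ⊔ Q) ⟨g, hNW g hg⟩)
        (Subgroup.inclusion le_sup_left y) : ↥(P ⊔ Q)) : Ω) = h * (y : Ω) * h⁻¹ := by
      intro y
      have hy : (y : Ω) ∈ φ.range := by rw [hφr]; exact y.2
      obtain ⟨x, hx⟩ := hy
      have e1 : ψ'.symm (Subgroup.inclusion le_sup_left y) =
          Subgroup.inclusion le_sup_left x := by
        rw [MulEquiv.symm_apply_eq]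
        apply Subtype.ext
        rw [hψ', hψR, hx]
        rfl
      show ((ψ' ((normConj (R ⊔ Q) ⟨g, hNW g hg⟩)
        (ψ'.symm (Subgroup.inclusion le_sup_left y))) : ↥(P ⊔ Q)) : Ω) = _
      rw [e1, hψ']
      have hx' : g * (x : Ω) * g⁻¹ ∈ R := (Subgroup.mem_normalizer_iff.mp hgN x).mp x.2
      have e2 : (normConj (R ⊔ Q) ⟨g, hNW g hg⟩) (Subgroup.inclusion le_sup_left x) =
          Subgroup.inclusion le_sup_left (⟨g * (x : Ω) * g⁻¹, hx'⟩ : R) := by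
        apply Subtype.ext
        rw [normConj_apply]
        rfl
      rw [e2, hψR, hh x hx', hx]
    refine ⟨h, ?_, hform⟩
    refine Subgroup.mem_inf.mpr ⟨hhT, ?_⟩
    refine mem_normalizer_of_conj_mem_of_finite (fun y hy => ?_)
    rw [← hform ⟨y, hy⟩]
    exact ((mem_normAut.mp (hΓ g hg)).2.1 _).mpr hy
  -- the `p`-subgroup `X`
  have hX₀p : IsPGroup p ((autInducedBy (extender T R φ) (R ⊔ Q)).map
      (MulAut.congr ψ').toMonoidHom) :=
    ((isPGroup_autInducedBy p hS _).to_le (autInducedBy_mono (hNT.trans hTS) _)).map _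
  have hXp : IsPGroup p (((autInducedBy (extender T R φ) (R ⊔ Q)).map
      (MulAut.congr ψ').toMonoidHom).subgroupOf (normAut F K P (P ⊔ Q) le_sup_right)) :=
    hX₀p.comap_subtype
  have hXM : ((autInducedBy (extender T R φ) (R ⊔ Q)).map
      (MulAut.congr ψ').toMonoidHom).subgroupOf (normAut F K P (P ⊔ Q) le_sup_right) ≤
      (Syl : Subgroup ↥(normAut F K P (P ⊔ Q) le_sup_right)) ⊔ (normAutRes F K P).ker := by
    intro a ha
    rw [Subgroup.mem_subgroupOf] at ha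
    obtain ⟨a₀, ha₀, ha₀a⟩ := ha
    rw [autInducedBy_eq_map] at ha₀
    obtain ⟨n, hn, rfl⟩ := ha₀
    have hnN : (n : Ω) ∈ extender T R φ := Subgroup.mem_subgroupOf.mp hn
    obtain ⟨h, hh, hform⟩ := hkey n hnN
    have hhT := (Subgroup.mem_inf.mp hh).1
    have hhQ : h ∈ Subgroup.normalizer (Q : Set Ω) := by
      have := (hK.hT _).mp hhT
      rw [mem_kNormalizer] at this
      exact this.2.1
    have hhU : h ∈ Subgroup.normalizer ((P ⊔ Q : Subgroup Ω) : Set Ω) :=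
      Subgroup.normalizer_inf_normalizer_le_normalizer_sup _ _
        ⟨(Subgroup.mem_inf.mp hh).2, hhQ⟩
    have hch : normConj (P ⊔ Q) ⟨h, hhU⟩ ∈ autInducedBy (normalizerIn T P) (P ⊔ Q) := by
      apply Subgroup.subset_closure
      exact ⟨h, hh, fun x => rfl⟩
    have hchA := hK.autInducedBy_le_normAut hPT hch
    have hsyl : (⟨_, hchA⟩ : ↥(normAut F K P (P ⊔ Q) le_sup_right)) ∈
        (Syl : Subgroup ↥(normAut F K P (P ⊔ Q) le_sup_right)) := by
      rw [hSyl, Subgroup.mem_subgroupOf]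
      exact hch
    have hker : (⟨_, hchA⟩ : ↥(normAut F K P (P ⊔ Q) le_sup_right))⁻¹ * a ∈
        (normAutRes F K P).ker := by
      rw [MonoidHom.mem_ker, map_mul, map_inv, inv_mul_eq_one]
      ext y
      rw [normAutRes_apply, normAutRes_apply]
      show h * (y : Ω) * h⁻¹ = (((a : MulAut ↥(P ⊔ Q)) (Subgroup.inclusion le_sup_left y) :
        ↥(P ⊔ Q)) : Ω)
      rw [← ha₀a]
      exact (hform y).symm
    have : a = ⟨_, hchA⟩ * ((⟨_, hchA⟩ : ↥(normAut F K P (P ⊔ Q) le_sup_right))⁻¹ * a) := by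
      group
    rw [this]
    exact Subgroup.mul_mem_sup hsyl hker
  obtain ⟨b, hbH, hb⟩ := exists_conj_mod_normal' p Syl (normAutRes F K P).ker _ hXp hXM
  obtain ⟨hbF, hbP, κb, hκb, hbQ⟩ := mem_normAut.mp b.2
  have hbF' := (mem_autGroup_iff F hU _).mp hbF
  have hbfix : ∀ y : P, (((b : MulAut ↥(P ⊔ Q)) (Subgroup.inclusion le_sup_left y) :
      ↥(P ⊔ Q)) : Ω) = y := by
    intro y
    rw [← normAutRes_apply, MonoidHom.mem_ker.mp hbH]
    rfl
  have hψU : ∀ w : ↥(R ⊔ Q), ψ w ∈ P ⊔ Q := fun w => by rw [← hr]; exact ⟨w, rfl⟩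
  obtain ⟨ψb, hψbdef⟩ : ∃ ψb : ↥(R ⊔ Q) →* Ω, ψb =
      ((P ⊔ Q).subtype.comp (b : MulAut ↥(P ⊔ Q)).toMonoidHom).comp
        (ψ.codRestrict (P ⊔ Q) hψU) := ⟨_, rfl⟩
  have hψbF : ψb ∈ F.Hom (R ⊔ Q) := by
    rw [hψbdef]
    exact F.comp_mem hψ hbF' hψU
  have hψbval : ∀ w, ψb w = (((b : MulAut ↥(P ⊔ Q)) (ψ' w) : ↥(P ⊔ Q)) : Ω) := by
    intro w
    rw [hψbdef]
    show (((b : MulAut ↥(P ⊔ Q)) ⟨ψ w, hψU w⟩ : ↥(P ⊔ Q)) : Ω) = _
    have e : (⟨ψ w, hψU w⟩ : ↥(P ⊔ Q)) = ψ' w := Subtype.ext (hψ' w).symm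
    rw [e]
  have hψbr : ψb.range = P ⊔ Q := by
    ext z
    constructor
    · rintro ⟨w, rfl⟩
      rw [hψbval]
      exact ((b : MulAut ↥(P ⊔ Q)) (ψ' w)).2
    · intro hz
      refine ⟨ψ'.symm ((b : MulAut ↥(P ⊔ Q))⁻¹ ⟨z, hz⟩), ?_⟩
      rw [hψbval, MulEquiv.apply_symm_apply, MulAut.apply_inv_self]
  have hNle : extender T R φ ≤ extender S (R ⊔ Q) ψb := by
    intro g hg
    rw [mem_extender_iff]
    refine ⟨hTS (hNT hg), hNW g hg, ?_⟩
    have hmemX : (⟨_, hΓ g hg⟩ : ↥(normAut F K P (P ⊔ Q) le_sup_right)) ∈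
        ((autInducedBy (extender T R φ) (R ⊔ Q)).map
          (MulAut.congr ψ').toMonoidHom).subgroupOf (normAut F K P (P ⊔ Q) le_sup_right) := by
      rw [Subgroup.mem_subgroupOf]
      refine ⟨normConj (R ⊔ Q) ⟨g, hNW g hg⟩, ?_, rfl⟩
      apply Subgroup.subset_closure
      exact ⟨g, hg, fun x => rfl⟩
    have h1 := hb _ hmemX
    rw [hSyl, Subgroup.mem_subgroupOf, autInducedBy_eq_map] at h1
    obtain ⟨t, ht, hte⟩ := h1
    have htT : (t : Ω) ∈ normalizerIn T P := Subgroup.mem_subgroupOf.mp ht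
    refine ⟨t, hTS (Subgroup.mem_inf.mp htT).1, fun w hw => ?_⟩
    rw [hψbval, hψbval]
    have h2 : (normConj (P ⊔ Q) t) ((b : MulAut ↥(P ⊔ Q)) (ψ' w)) =
        ((b : MulAut ↥(P ⊔ Q)) * MulAut.congr ψ' (normConj (R ⊔ Q) ⟨g, hNW g hg⟩) *
          (b : MulAut ↥(P ⊔ Q))⁻¹) ((b : MulAut ↥(P ⊔ Q)) (ψ' w)) := by
      rw [hte]
      rfl
    rw [MulAut.mul_apply, MulAut.mul_apply, MulAut.inv_apply_self] at h2
    have h3 : MulAut.congr ψ' (normConj (R ⊔ Q) ⟨g, hNW g hg⟩) (ψ' w) =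
        ψ' ⟨g * (w : Ω) * g⁻¹, hw⟩ := by
      show ψ' ((normConj (R ⊔ Q) ⟨g, hNW g hg⟩) (ψ'.symm (ψ' w))) = _
      rw [MulEquiv.symm_apply_apply]
      congr 1
    rw [h3] at h2
    rw [← h2, normConj_apply]
  obtain ⟨ψt, hψt, hψtW⟩ := hrec.2 (R ⊔ Q) ψb hψbF hψbr
  have hWM : R ⊔ Q ≤ extender S (R ⊔ Q) ψb := le_extender hW ψb (F.le_of_mem hψbF).2
  have hQM : Q ≤ extender S (R ⊔ Q) ψb := le_sup_right.trans hWM
  have hψtQ : ∀ q : Q, ψt (Subgroup.inclusion hQM q) = (((κb * κψ) q : Q) : Ω) := by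
    intro q
    have h1 := hψtW (q : Ω) ((le_sup_right : Q ≤ R ⊔ Q) q.2) (hQM q.2)
    have e : (Subgroup.inclusion hQM q) = ⟨(q : Ω), hQM q.2⟩ := rfl
    rw [e, h1, hψbval]
    have e2 : ψ' ⟨(q : Ω), (le_sup_right : Q ≤ R ⊔ Q) q.2⟩ = Subgroup.inclusion le_sup_right (κψ q) := by
      apply Subtype.ext
      rw [hψ']
      exact hψQ q
    rw [e2, hbQ]
    rfl
  have hψtS := (F.le_of_mem hψt).2
  have hφtE : ψt.comp (Subgroup.inclusion hNle) ∈ E.Hom (extender T R φ) := by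
    rw [hK.hE]
    refine ⟨restrict_mem F hψt hNle, hNT, ?_, ?_⟩
    · intro g
      have hgT := (hK.hT _).mp (hNT g.2)
      rw [mem_kNormalizer] at hgT
      obtain ⟨hgS, hgN, hgK⟩ := hgT
      refine hK.mem_T_of_conj hQM ψt (K.mul_mem hκb hκψ) hψtQ (hψtS _) hgK (fun q => ?_)
      show ψt (Subgroup.inclusion hNle g) * _ * (ψt (Subgroup.inclusion hNle g))⁻¹ = _
      rw [← map_inv, ← map_mul, ← map_mul]
      congr 1
    · have hle : extender T R φ ⊔ Q ≤ extender S (R ⊔ Q) ψb := sup_le hNle hQM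
      exact ⟨ψt.comp (Subgroup.inclusion hle), restrict_mem F hψt hle, fun x => rfl, κb * κψ,
        K.mul_mem hκb hκψ, fun q => hψtQ q⟩
  refine ⟨_, hφtE, ?_⟩
  intro x hxR hxN
  show ψt ⟨x, hNle hxN⟩ = φ ⟨x, hxR⟩
  rw [hψtW x ((le_sup_left : R ≤ R ⊔ Q) hxR) (hNle hxN), hψbval]
  have hφP : φ ⟨x, hxR⟩ ∈ P := by rw [← hφr]; exact ⟨_, rfl⟩
  have e : ψ' ⟨x, (le_sup_left : R ≤ R ⊔ Q) hxR⟩ = Subgroup.inclusion le_sup_left (⟨φ ⟨x, hxR⟩, hφP⟩ : P) := by
    apply Subtype.ext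
    rw [hψ']
    exact hψR ⟨x, hxR⟩
  rw [e, hbfix]

/-- The `K`-normalizer system of a saturated system is saturated. -/
theorem KSetup.saturated [Finite S] (p : ℕ) [Fact p.Prime] (hS : IsPGroup p S)
    {F : FusionSystem S} (hF : F.IsSaturated p) {Q : Subgroup Ω} {K : Subgroup (MulAut Q)}
    {T : Subgroup Ω} {E : FusionSystem T} (hK : KSetup F Q K T E) : E.IsSaturated p := by
  intro P hPT
  obtain ⟨P', hconj, hP'T, hrec, Syl, hSyl⟩ := hK.exists_good_conj p hS hF hPT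
  exact ⟨P', hconj, hK.fullyAutomized p hP'T Syl hSyl, hK.receptive p hS hP'T hrec Syl hSyl⟩

end Cfsg.Agent.Lib.Helper9
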