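import Mathlib
import Cfsg.Prelude.Def_MonsterType
import Cfsg.Agent.Lib.Helper9.Basic

set_option autoImplicit false

namespace Cfsg.Agent.Lib.Helper9

open Cfsg
open scoped commutatorElement

variable {G : Type*} [Group G]

/-- An involution normalizing a finite subgroup `K` with trivial fixed points inverts `K`. -/
theorem inverts_of_fixedPointFree [Finite G] {K : Subgroup G} {t : G} (ht : t * t = 1)
    (hN : ∀ x ∈ K, t * x * t⁻¹ ∈ K) (hC : ∀ x ∈ K, t * x = x * t → x = 1) :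
    ∀ x ∈ K, t * x * t⁻¹ = x⁻¹ := by
  have htinv : t⁻¹ = t := inv_eq_of_mul_eq_one_left ht
  have ht' : ∀ a : G, t * (t * a) = a := by
    intro a; rw [← mul_assoc, ht, one_mul]
  let f : K → K := fun x => ⟨(x : G)⁻¹ * (t * x * t⁻¹), K.mul_mem (K.inv_mem x.2) (hN x x.2)⟩
  have hinj : Function.Injective f := by
    intro x y hxy
    have h1 : (x : G)⁻¹ * (t * x * t⁻¹) = (y : G)⁻¹ * (t * y * t⁻¹) := congrArg Subtype.val hxy
    have h4 : (y : G) * (x : G)⁻¹ = t * ((y:G) * (x:G)⁻¹) * t⁻¹ := by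
      calc (y : G) * (x : G)⁻¹ = (y:G) * ((x : G)⁻¹ * (t * x * t⁻¹)) * (t * x * t⁻¹)⁻¹ := by group
        _ = (y:G) * ((y : G)⁻¹ * (t * y * t⁻¹)) * (t * x * t⁻¹)⁻¹ := by rw [h1]
        _ = t * ((y:G) * (x:G)⁻¹) * t⁻¹ := by group
    have h2 : t * ((y : G) * (x : G)⁻¹) = ((y : G) * (x : G)⁻¹) * t := by
      calc t * ((y : G) * (x : G)⁻¹) = t * ((y : G) * (x : G)⁻¹) * t⁻¹ * t := by group
        _ = ((y : G) * (x : G)⁻¹) * t := by rw [← h4]
    have h3 := hC _ (K.mul_mem y.2 (K.inv_mem x.2)) h2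
    exact Subtype.ext (mul_inv_eq_one.mp h3).symm
  have hsurj : Function.Surjective f := Finite.surjective_of_injective hinj
  intro x hx
  obtain ⟨y, hy⟩ := hsurj ⟨x, hx⟩
  have hy' : (y : G)⁻¹ * (t * y * t⁻¹) = x := congrArg Subtype.val hy
  rw [← hy', htinv]
  apply eq_inv_of_mul_eq_one_left
  simp only [mul_assoc, ht', mul_inv_cancel_left, inv_mul_cancel_left, ht, mul_one]

theorem eq_one_of_sq_of_mem_odd {K : Subgroup G} (hK : Odd (Nat.card K)) {y : G} (hy : y ∈ K)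
    (h2 : y * y = 1) : y = 1 := by
  have h1 : orderOf y ∣ 2 := orderOf_dvd_of_pow_eq_one (by rw [pow_two]; exact h2)
  have h3 : orderOf y ∣ Nat.card K := Subgroup.orderOf_dvd_natCard K hy
  have hcop : Nat.Coprime 2 (Nat.card K) := Nat.coprime_two_left.mpr hK
  have : orderOf y ∣ 1 := by
    have := Nat.dvd_gcd h1 h3
    rwa [hcop] at this
  exact orderOf_eq_one_iff.mp (Nat.dvd_one.mp this)

theorem largeExtraspecial_of_involution [Finite G] (Q : Subgroup G) (hL1 : IsExtraspecial 2 ↥Q)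
    (hL2 : Subgroup.centralizer (Q : Set G) = ((Subgroup.center ↥Q).map Q.subtype))
    (hL3 : Subgroup.centralizer (((Subgroup.center ↥Q).map Q.subtype) : Set G) ≤
      Subgroup.normalizer (Q : Set G))
    (b : G) (hbQ : b ∈ Q) (hbZ : b ∉ ((Subgroup.center ↥Q).map Q.subtype)) (hb : orderOf b = 2)
    (hZ : ((Subgroup.center ↥Q).map Q.subtype) ≤
      (pCore 2 ↥(Subgroup.centralizer ({b} : Set G))).map
        (Subgroup.centralizer ({b} : Set G)).subtype) :
    IsLargeExtraspecial Q := by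
  refine ⟨hL1, hL2, hL3, ?_⟩
  intro K hKodd hQK
  obtain ⟨⟨hQp, hfr, hcomm⟩, hcard⟩ := hL1
  obtain ⟨z, hz1, hzuniq⟩ := (Nat.card_eq_two_iff' (1 : Subgroup.center ↥Q)).mp hcard
  have hzQ : ((z : ↥Q) : G) ∈ Q := (z : ↥Q).2
  have hzG_mem : ((z : ↥Q) : G) ∈ (Subgroup.center ↥Q).map Q.subtype := ⟨(z : ↥Q), z.2, rfl⟩
  have hZQ : (Subgroup.center ↥Q).map Q.subtype ≤ Q := by
    rintro _ ⟨x, _, rfl⟩
    exact x.2
  have hZc : ∀ x ∈ (Subgroup.center ↥Q).map Q.subtype, x = 1 ∨ x = ((z : ↥Q) : G) := by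
    rintro _ ⟨x, hx, rfl⟩
    by_cases h : (⟨x, hx⟩ : Subgroup.center ↥Q) = 1
    · left
      have h' : x = 1 := congrArg Subtype.val h
      rw [h']; rfl
    · right
      have := hzuniq ⟨x, hx⟩ h
      rw [← this]; rfl
  have hzne : ((z : ↥Q) : G) ≠ 1 := by
    intro h
    apply hz1
    apply Subtype.ext
    apply Subtype.ext
    exact h
  have hzz : ((z : ↥Q) : G) * ((z : ↥Q) : G) = 1 := by
    by_contra hne
    have hzz1 : z * z ≠ 1 := by
      intro h
      apply hne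
      have := congrArg (fun u : Subgroup.center ↥Q => ((u : ↥Q) : G)) h
      simpa using this
    have h2 := hzuniq (z * z) hzz1
    apply hz1
    have : z * z = z * 1 := by rw [mul_one]; exact h2
    exact mul_left_cancel this
  have hzcomm : ∀ q ∈ Q, ((z : ↥Q) : G) * q = q * ((z : ↥Q) : G) := by
    intro q hq
    have := Subgroup.mem_center_iff.mp z.2 ⟨q, hq⟩
    have h' := congrArg Subtype.val this
    simpa using h'.symm
  -- Step 1
  have hCz : ∀ x ∈ K, ((z : ↥Q) : G) * x = x * ((z : ↥Q) : G) → x = 1 := by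
    intro x hx hxz
    have hxC : x ∈ Subgroup.centralizer (((Subgroup.center ↥Q).map Q.subtype : Subgroup G) : Set G) := by
      rw [Subgroup.mem_centralizer_iff]
      intro h hh
      rcases hZc h hh with rfl | rfl
      · simp
      · exact hxz
    have hxN := hL3 hxC
    have hxCQ : x ∈ Subgroup.centralizer (Q : Set G) := by
      rw [Subgroup.mem_centralizer_iff]
      intro q hq
      have h1 : x * q * x⁻¹ ∈ Q := (Subgroup.mem_normalizer_iff.mp hxN q).mp hq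
      have h2 : x * q * x⁻¹ * q⁻¹ ∈ Q := Q.mul_mem h1 (Q.inv_mem hq)
      have h3 : q * x⁻¹ * q⁻¹ ∈ K := (Subgroup.mem_normalizer_iff.mp (hQK hq) x⁻¹).mp (K.inv_mem hx)
      have h4 : x * q * x⁻¹ * q⁻¹ ∈ K := by
        have : x * q * x⁻¹ * q⁻¹ = x * (q * x⁻¹ * q⁻¹) := by group
        rw [this]
        exact K.mul_mem hx h3
      have h5 := eq_one_of_mem_odd_of_mem_two hKodd hQp h4 h2
      calc q * x = (x * q * x⁻¹ * q⁻¹)⁻¹ * (x * q) := by group
        _ = x * q := by rw [h5]; group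
    rw [hL2] at hxCQ
    exact eq_one_of_mem_odd_of_mem_two hKodd hQp hx (hZQ hxCQ)
  have hNorm : ∀ q ∈ Q, ∀ x ∈ K, q * x * q⁻¹ ∈ K := by
    intro q hq x hx
    exact (Subgroup.mem_normalizer_iff.mp (hQK hq) x).mp hx
  have hzinv := inverts_of_fixedPointFree hzz (hNorm _ hzQ) hCz
  have hbb : b * b = 1 := by
    have := pow_orderOf_eq_one b
    rw [hb, pow_two] at this
    exact this
  by_cases hCb : ∀ x ∈ K, b * x = x * b → x = 1
  · have hbinv := inverts_of_fixedPointFree hbb (hNorm _ hbQ) hCb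
    have hbnc : (⟨b, hbQ⟩ : ↥Q) ∉ Subgroup.center ↥Q := by
      intro h
      exact hbZ ⟨⟨b, hbQ⟩, h, rfl⟩
    rw [Subgroup.mem_center_iff] at hbnc
    push Not at hbnc
    obtain ⟨q, hq⟩ := hbnc
    have hc : ⁅q, (⟨b, hbQ⟩ : ↥Q)⁆ ∈ Subgroup.center ↥Q := by
      rw [← hcomm, commutator_def]
      exact Subgroup.commutator_mem_commutator (Subgroup.mem_top _) (Subgroup.mem_top _)
    have hc1 : (⟨⁅q, (⟨b, hbQ⟩ : ↥Q)⁆, hc⟩ : Subgroup.center ↥Q) ≠ 1 := by
      intro h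
      have h' : ⁅q, (⟨b, hbQ⟩ : ↥Q)⁆ = 1 := congrArg Subtype.val h
      rw [commutatorElement_eq_one_iff_mul_comm] at h'
      exact hq h'
    have hc2 := hzuniq _ hc1
    have hc3 : (q : G) * b * (q : G)⁻¹ * b⁻¹ = ((z : ↥Q) : G) := by
      have := congrArg (fun u : Subgroup.center ↥Q => ((u : ↥Q) : G)) hc2
      simpa [commutatorElement_def] using this
    have hqb : (q : G) * b * (q : G)⁻¹ = ((z : ↥Q) : G) * b := by
      rw [← hc3]; group
    rw [Subgroup.eq_bot_iff_forall]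
    intro x hx
    have hx' : (q : G)⁻¹ * x * (q : G) ∈ K := by
      have := hNorm _ (Q.inv_mem q.2) x hx
      simpa using this
    have hzbx : ((z : ↥Q) : G) * b * x = x * (((z : ↥Q) : G) * b) := by
      have h1 : b * x = x⁻¹ * b := by
        have := hbinv x hx
        calc b * x = b * x * b⁻¹ * b := by group
          _ = x⁻¹ * b := by rw [this]
      have h2 : ((z : ↥Q) : G) * x⁻¹ = x * ((z : ↥Q) : G) := by
        have := hzinv x⁻¹ (K.inv_mem hx)
        rw [inv_inv] at this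
        calc ((z : ↥Q) : G) * x⁻¹ = ((z : ↥Q) : G) * x⁻¹ * ((z : ↥Q) : G)⁻¹ * ((z : ↥Q) : G) := by group
          _ = x * ((z : ↥Q) : G) := by rw [this]
      calc ((z : ↥Q) : G) * b * x = ((z : ↥Q) : G) * (b * x) := by group
        _ = ((z : ↥Q) : G) * (x⁻¹ * b) := by rw [h1]
        _ = (((z : ↥Q) : G) * x⁻¹) * b := by group
        _ = x * ((z : ↥Q) : G) * b := by rw [h2]
        _ = x * (((z : ↥Q) : G) * b) := by group
    have hbx' : b * ((q : G)⁻¹ * x * (q : G)) = ((q : G)⁻¹ * x * (q : G)) * b := by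
      rw [← hqb] at hzbx
      calc b * ((q : G)⁻¹ * x * (q : G)) = (q : G)⁻¹ * (((q : G) * b * (q : G)⁻¹) * x) * (q : G) := by group
        _ = (q : G)⁻¹ * (x * ((q : G) * b * (q : G)⁻¹)) * (q : G) := by rw [hzbx]
        _ = ((q : G)⁻¹ * x * (q : G)) * b := by group
    have h1 := hCb _ hx' hbx'
    calc x = (q : G) * ((q : G)⁻¹ * x * (q : G)) * (q : G)⁻¹ := by group
      _ = 1 := by rw [h1]; group
  · exfalso
    push Not at hCb
    obtain ⟨y, hyK, hyb, hy1⟩ := hCb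
    have hyC : y ∈ Subgroup.centralizer ({b} : Set G) := by
      rw [Subgroup.mem_centralizer_singleton_iff]
      exact hyb.symm
    have hT2 : IsPGroup 2 ((pCore 2 ↥(Subgroup.centralizer ({b} : Set G))).map
        (Subgroup.centralizer ({b} : Set G)).subtype : Subgroup G) := pCore_isPGroup'.map _
    have hzT := hZ (((Subgroup.center ↥Q).map Q.subtype).inv_mem hzG_mem)
    obtain ⟨t', ht', hte⟩ := hzT
    have hconj : (⟨y, hyC⟩ : ↥(Subgroup.centralizer ({b} : Set G))) * t' * (⟨y, hyC⟩)⁻¹ ∈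
        pCore 2 ↥(Subgroup.centralizer ({b} : Set G)) :=
      (pCore_normal' 2).conj_mem t' ht' _
    have h1 : y * (((z : ↥Q) : G))⁻¹ * y⁻¹ ∈ ((pCore 2 ↥(Subgroup.centralizer ({b} : Set G))).map
        (Subgroup.centralizer ({b} : Set G)).subtype : Subgroup G) := by
      refine ⟨_, hconj, ?_⟩
      have hte' : (t' : G) = (((z : ↥Q) : G))⁻¹ := hte
      simp [hte']
    have h2 : ((z : ↥Q) : G) * (y * (((z : ↥Q) : G))⁻¹ * y⁻¹) ∈
        ((pCore 2 ↥(Subgroup.centralizer ({b} : Set G))).map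
        (Subgroup.centralizer ({b} : Set G)).subtype : Subgroup G) :=
      Subgroup.mul_mem _ (hZ hzG_mem) h1
    have h3 : ((z : ↥Q) : G) * (y * (((z : ↥Q) : G))⁻¹ * y⁻¹) = y⁻¹ * y⁻¹ := by
      have := hzinv y hyK
      calc ((z : ↥Q) : G) * (y * (((z : ↥Q) : G))⁻¹ * y⁻¹)
          = (((z : ↥Q) : G) * y * (((z : ↥Q) : G))⁻¹) * y⁻¹ := by group
        _ = y⁻¹ * y⁻¹ := by rw [this]
    rw [h3] at h2
    have h4 : y⁻¹ * y⁻¹ = 1 :=
      eq_one_of_mem_odd_of_mem_two hKodd hT2 (K.mul_mem (K.inv_mem hyK) (K.inv_mem hyK)) h2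
    have h5 : y⁻¹ = 1 := eq_one_of_sq_of_mem_odd hKodd (K.inv_mem hyK) h4
    exact hy1 (inv_eq_one.mp h5)

end Cfsg.Agent.Lib.Helper9
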