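import Mathlib
import Cfsg.Prelude.Def_MonsterType
import Cfsg.Agent.Lib.Helper9.Basic
import Cfsg.Agent.Lib.Helper9.ExtraSub
import Cfsg.Agent.Lib.Helper4.CoprimeComm
import Cfsg.Agent.S0026
import Cfsg.Agent.S0027

set_option autoImplicit false

namespace Cfsg.Agent.Lib.Helper9

open Cfsg Cfsg.Agent.Lib.Helper4
open scoped commutatorElement

variable {G : Type*} [Group G]

/-- Explicit generator of the centre of an extraspecial `2`-subgroup. -/
theorem exists_center_gen {Q : Subgroup G} (hQ : IsExtraspecial 2 ↥Q) :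
    ∃ z : G, z ∈ (Subgroup.center ↥Q).map Q.subtype ∧ z ≠ 1 ∧
      ∀ x ∈ (Subgroup.center ↥Q).map Q.subtype, x = 1 ∨ x = z := by
  obtain ⟨z, hz1, hzuniq⟩ := (Nat.card_eq_two_iff' (1 : Subgroup.center ↥Q)).mp hQ.2
  refine ⟨((z : ↥Q) : G), ⟨(z : ↥Q), z.2, rfl⟩, ?_, ?_⟩
  · intro h
    apply hz1
    apply Subtype.ext
    apply Subtype.ext
    exact h
  · rintro _ ⟨x, hx, rfl⟩
    by_cases h : (⟨x, hx⟩ : Subgroup.center ↥Q) = 1
    · left
      have h' : x = 1 := congrArg Subtype.val h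
      rw [h']; rfl
    · right
      have := hzuniq ⟨x, hx⟩ h
      rw [← this]; rfl

theorem large_extra_coprime [Finite G] (Q : Subgroup G) (hQ : IsLargeExtraspecial Q) (A : Subgroup G)
    (hA : A ≤ Subgroup.normalizer (Q : Set G)) (hAodd : Odd (Nat.card ↥A)) (hA1 : A ≠ ⊥) :
    (Q ⊓ Subgroup.centralizer (A : Set G)) ⊔ ⁅Q, A⁆ = Q ∧
    (∀ x ∈ Q ⊓ Subgroup.centralizer (A : Set G), ∀ y ∈ ⁅Q, A⁆, x * y = y * x) ∧
    IsExtraspecial 2 ↥⁅Q, A⁆ ∧
    (Q ⊓ Subgroup.centralizer (A : Set G) = ((Subgroup.center ↥Q).map Q.subtype) ∨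
      IsExtraspecial 2 ↥(Q ⊓ Subgroup.centralizer (A : Set G))) := by
  obtain ⟨hE, hL2, hL3, hL4⟩ := hQ
  have hQp : IsPGroup 2 ↥Q := hE.1.1
  have hZQ : (Subgroup.center ↥Q).map Q.subtype ≤ Q := by
    rintro _ ⟨x, _, rfl⟩
    exact x.2
  obtain ⟨z0, hz0Z, hz01, hz0u⟩ := exists_center_gen hE
  have hcop : (Nat.card A).Coprime (Nat.card Q) := by
    obtain ⟨k, hk⟩ := IsPGroup.iff_card.mp hQp
    rw [hk]
    exact Nat.Coprime.pow_right k (Nat.coprime_two_right.mpr hAodd)
  haveI : Group.IsNilpotent ↥Q := hQp.isNilpotent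
  have hsolv : Group.IsSolvable ↥Q := inferInstance
  have h26 := Cfsg.Agent.S0026.result A Q hA hcop (Or.inr hsolv)
  have h27 := Cfsg.Agent.S0027.result A Q hA hcop (Or.inr hsolv)
  have hPQ : ⁅Q, A⁆ ≤ Q := commutator_le_of_le_normalizer A Q hA
  -- `A` centralizes `Z`
  have hAZ : ∀ a ∈ A, ∀ z ∈ (Subgroup.center ↥Q).map Q.subtype, a * z = z * a := by
    intro a ha z hz
    have hconj : a * z * a⁻¹ ∈ (Subgroup.center ↥Q).map Q.subtype := by
      rw [← hL2, Subgroup.mem_centralizer_iff]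
      intro q hq
      have hq' : a⁻¹ * q * a ∈ Q := by
        have := (Subgroup.mem_normalizer_iff.mp (A.inv_mem ha |> fun h => hA h) q).mp hq
        simpa using this
      have h1 := extraspecial_center_comm hz hq'
      calc q * (a * z * a⁻¹) = a * ((a⁻¹ * q * a) * z) * a⁻¹ := by group
        _ = a * (z * (a⁻¹ * q * a)) * a⁻¹ := by rw [h1]
        _ = a * z * a⁻¹ * q := by group
    rcases hz0u z hz with rfl | rfl
    · simp
    · rcases hz0u _ hconj with h | h
      · exfalso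
        apply hz01
        have : z = a⁻¹ * (a * z * a⁻¹) * a := by group
        rw [this, h]; group
      · calc a * z = a * z * a⁻¹ * a := by group
          _ = z * a := by rw [h]
  have hZcA : (Subgroup.center ↥Q).map Q.subtype ≤ Subgroup.centralizer (A : Set G) := by
    intro z hz
    rw [Subgroup.mem_centralizer_iff]
    intro a ha
    exact hAZ a ha z hz
  have hZC : (Subgroup.center ↥Q).map Q.subtype ≤ Q ⊓ Subgroup.centralizer (A : Set G) :=
    le_inf hZQ hZcA
  have hZA : ⁅(Subgroup.center ↥Q).map Q.subtype, A⁆ = ⊥ :=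
    Subgroup.commutator_eq_bot_iff_le_centralizer.mpr hZcA
  -- (2)
  have hPC : ⁅⁅Q, A⁆, Q ⊓ Subgroup.centralizer (A : Set G)⁆ = ⊥ := by
    apply Subgroup.commutator_commutator_eq_bot_of_rotate
    · have : ⁅A, Q ⊓ Subgroup.centralizer (A : Set G)⁆ = ⊥ := by
        rw [Subgroup.commutator_comm]
        exact Subgroup.commutator_eq_bot_iff_le_centralizer.mpr inf_le_right
      rw [this, Subgroup.commutator_bot_left]
    · have h1 : ⁅Q ⊓ Subgroup.centralizer (A : Set G), Q⁆ ≤ (Subgroup.center ↥Q).map Q.subtype := by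
        rw [Subgroup.commutator_le]
        intro c hc q hq
        rw [commutatorElement_def]
        exact extraspecial_comm_mem hE hc.1 hq
      rw [eq_bot_iff, ← hZA]
      exact Subgroup.commutator_mono h1 le_rfl
  have h2 : ∀ x ∈ Q ⊓ Subgroup.centralizer (A : Set G), ∀ y ∈ ⁅Q, A⁆, x * y = y * x := by
    intro x hx y hy
    have := Subgroup.commutator_eq_bot_iff_le_centralizer.mp hPC hy
    rw [Subgroup.mem_centralizer_iff] at this
    exact this x hx
  have hcenX : ∀ x ∈ Q, (∀ y ∈ ⁅Q, A⁆, x * y = y * x) →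
      (∀ y ∈ Q ⊓ Subgroup.centralizer (A : Set G), x * y = y * x) →
      x ∈ (Subgroup.center ↥Q).map Q.subtype := by
    intro x hx hP hC
    rw [← hL2, Subgroup.mem_centralizer_iff]
    have hle : Q ≤ Subgroup.centralizer ({x} : Set G) := by
      rw [← h26]
      apply sup_le
      · intro y hy
        rw [Subgroup.mem_centralizer_singleton_iff]
        exact (hP y hy).symm
      · intro y hy
        rw [Subgroup.mem_centralizer_singleton_iff]
        exact (hC y hy).symm
    intro q hq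
    have := hle hq
    rw [Subgroup.mem_centralizer_singleton_iff] at this
    exact this
  -- `P` nonabelian
  have hnaP : ∃ x ∈ ⁅Q, A⁆, ∃ y ∈ ⁅Q, A⁆, x * y ≠ y * x := by
    by_contra hcon
    push Not at hcon
    have hPZ : ⁅Q, A⁆ ≤ (Subgroup.center ↥Q).map Q.subtype := by
      intro x hx
      exact hcenX x (hPQ hx) (fun y hy => hcon x hx y hy) (fun y hy => (h2 y hy x hx).symm)
    have h3 : ⁅⁅Q, A⁆, A⁆ = ⊥ := by
      rw [eq_bot_iff, ← hZA]
      exact Subgroup.commutator_mono hPZ le_rfl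
    rw [h27] at h3
    have h4 : A ≤ Subgroup.centralizer (Q : Set G) := by
      rw [← Subgroup.commutator_eq_bot_iff_le_centralizer, Subgroup.commutator_comm]
      exact h3
    apply hA1
    rw [Subgroup.eq_bot_iff_forall]
    intro a ha
    have haZ := h4 ha
    rw [hL2] at haZ
    exact eq_one_of_mem_odd_of_mem_two hAodd hQp ha (hZQ haZ)
  have hZP : (Subgroup.center ↥Q).map Q.subtype ≤ ⁅Q, A⁆ := by
    obtain ⟨x, hx, y, hy, hxy⟩ := hnaP
    have hc : x * y * x⁻¹ * y⁻¹ ∈ (Subgroup.center ↥Q).map Q.subtype :=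
      extraspecial_comm_mem hE (hPQ hx) (hPQ hy)
    have hcP : x * y * x⁻¹ * y⁻¹ ∈ ⁅Q, A⁆ :=
      Subgroup.mul_mem _ (Subgroup.mul_mem _ (Subgroup.mul_mem _ hx hy) (Subgroup.inv_mem _ hx))
        (Subgroup.inv_mem _ hy)
    have hc1 : x * y * x⁻¹ * y⁻¹ ≠ 1 := by
      intro h
      apply hxy
      calc x * y = (x * y * x⁻¹ * y⁻¹) * (y * x) := by group
        _ = y * x := by rw [h, one_mul]
    have hcz : x * y * x⁻¹ * y⁻¹ = z0 := (hz0u _ hc).resolve_left hc1
    intro w hw
    rcases hz0u w hw with rfl | rfl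
    · exact Subgroup.one_mem _
    · rw [← hcz]; exact hcP
  refine ⟨?_, h2, ?_, ?_⟩
  · rw [sup_comm]; exact h26
  · apply extraspecial_sub hE hPQ hZP _ hnaP
    intro x hx h
    exact hcenX x (hPQ hx) h (fun y hy => (h2 y hy x hx).symm)
  · by_cases hCab : ∀ x ∈ Q ⊓ Subgroup.centralizer (A : Set G),
        ∀ y ∈ Q ⊓ Subgroup.centralizer (A : Set G), x * y = y * x
    · left
      apply le_antisymm _ hZC
      intro x hx
      exact hcenX x hx.1 (fun y hy => h2 x hx y hy) (fun y hy => hCab x hx y hy)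
    · right
      push Not at hCab
      apply extraspecial_sub hE inf_le_left hZC _ hCab
      intro x hx h
      exact hcenX x hx.1 (fun y hy => h2 x hx y hy) h

end Cfsg.Agent.Lib.Helper9
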