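import Mathlib
import Cfsg.Prelude.Def_Sporadic_a
import Cfsg.Agent.Lib.Helper1.M24Order
import Cfsg.Agent.Lib.Helper1.M24Trans
import Cfsg.Agent.Lib.Helper1.M24OctFix

set_option autoImplicit false

namespace Cfsg.Agent.Lib.Helper9.M24Base

open Cfsg Cfsg.Agent.Lib.Helper1

/-- the order-3 word fixing the six points 23,0,1,2,3,4 -/
def w6 : List ℕ := [3, 0, 3, 0, 3, 1, 4, 0, 4, 4, 0, 0, 3, 0, 3]

/-- certificate words: nonidentity elements fixing base5 and one more point -/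
def certWords : List (List ℕ) :=
  [3, 3, 1, 4, 1, 1, 1, 3, 0, 3, 3, 0] :: fixWords.map (fun u => u ++ w6 ++ u)

theorem cert_ok : ∀ i : Fin 24, ∃ w ∈ certWords,
    (∀ k ∈ ([23, 0, 1, 2, 3] : List (Fin 24)), evalT w k = k) ∧ evalT w i = i ∧
      ∃ k : Fin 24, evalT w k ≠ k := by
  decide +kernel

theorem exists_fix6 (q : GolayPt) : ∃ g ∈ M24, g ≠ 1 ∧
    (∀ j : Fin 5, g (gpt (base5 j)) = gpt (base5 j)) ∧ g q = q := by
  obtain ⟨i, rfl⟩ := gpt_bij.surjective q
  obtain ⟨w, _, hfix, hi, k, hk⟩ := cert_ok i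
  have hT := evalW_table w
  refine ⟨evalW w, H0_le_M24 (evalW_mem w), ?_, ?_, ?_⟩
  · intro h1
    apply hk
    have := hT k
    rw [h1, Equiv.Perm.one_apply] at this
    exact (gpt_bij.injective this).symm
  · intro j
    rw [hT (base5 j), hfix (base5 j) (by revert j; decide)]
  · rw [hT i, hi]

theorem part1 (B : Finset GolayPt) (hB : B.card ≤ 6) :
    ∃ g ∈ M24, g ≠ 1 ∧ ∀ b ∈ B, g b = b := by
  classical
  obtain ⟨B', hBB', hB'⟩ := Finset.exists_superset_card_eq hB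
    (show 6 ≤ Fintype.card GolayPt by rw [Fintype.card_option, ZMod.card]; norm_num)
  let e : Fin 6 ≃ B' := (Finset.equivFinOfCardEq hB').symm
  let x : Fin 5 ↪ GolayPt :=
    ⟨fun j => (e (Fin.castSucc j) : GolayPt), by
      intro a b hab
      have h1 : e (Fin.castSucc a) = e (Fin.castSucc b) := Subtype.ext hab
      exact Fin.castSucc_injective _ (e.injective h1)⟩
  obtain ⟨h, hhM, hh⟩ := M24_to_base5 x
  obtain ⟨g', hg'M, hg'1, hg'fix, hg'q⟩ := exists_fix6 (h (e (Fin.last 5) : GolayPt))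
  refine ⟨h⁻¹ * g' * h, mul_mem (mul_mem (inv_mem hhM) hg'M) hhM, ?_, ?_⟩
  · intro h1
    apply hg'1
    have : g' = h * (h⁻¹ * g' * h) * h⁻¹ := by group
    rw [this, h1]
    group
  · intro b hb
    have hbB' : b ∈ B' := hBB' hb
    obtain ⟨k, hk⟩ := e.surjective ⟨b, hbB'⟩
    have hbk : b = (e k : GolayPt) := by rw [hk]
    rw [hbk]
    simp only [Equiv.Perm.mul_apply]
    rw [Equiv.Perm.inv_eq_iff_eq]
    rcases Fin.eq_castSucc_or_eq_last k with ⟨j, rfl⟩ | rfl
    · have := hh j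
      show g' (h (x j)) = h (x j)
      rw [this]
      exact hg'fix j
    · exact hg'q

theorem part2 : ∃ B : Finset GolayPt, B.card = 7 ∧
    ∀ g ∈ M24, (∀ b ∈ B, g b = b) → g = 1 := by
  classical
  refine ⟨(([23, 0, 1, 2, 3, 4, 5] : List (Fin 24)).toFinset).map gptEmb, ?_, ?_⟩
  · rw [Finset.card_map]
    decide
  · intro g hg hfix
    have : g ∈ fixL M24 [23, 0, 1, 2, 3, 4, 5] := by
      rw [mem_fixL]
      refine ⟨hg, fun i hi => ?_⟩
      apply hfix
      rw [Finset.mem_map]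
      exact ⟨i, List.mem_toFinset.mpr hi, rfl⟩
    rw [fixL_M24_base_eq_bot] at this
    exact Subgroup.mem_bot.mp this

end Cfsg.Agent.Lib.Helper9.M24Base
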