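import Mathlib
import Cfsg.Prelude.Def_Sporadic_a
import Cfsg.Agent.Lib.Helper9.M24Enum
import Cfsg.Agent.Lib.Helper9.FixCount

set_option autoImplicit false

namespace Cfsg.Agent.Lib.Helper9.M24Cent

open Cfsg Cfsg.Agent.Lib.Helper1 Cfsg.Agent.Lib.Helper9.M24Enum Cfsg.Agent.Lib.Helper9.FixCount

/-- conjugating word -/
def gw : List ℕ := [2, 3, 1, 4, 1, 3, 0, 3, 0, 0, 3, 0]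

/-- word of the normalised fixed point free involution -/
def t1w : List ℕ := [2, 3, 1, 4, 1, 3, 0, 3, 0, 0, 3, 0, 2, 1, 4, 1, 1, 4, 1, 4, 0, 3, 0, 4, 2]

def tT : Fin 24 → Fin 24 := ![23, 2, 1, 4, 3, 22, 12, 18, 19, 20, 15, 21, 6, 14, 13, 10, 17, 16, 7, 8, 9, 11, 5, 0]

/-- witnesses moving the point 23 -/
def W0 : List (List ℕ × Fin 24) := [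
  ([3, 0, 3, 0, 4, 4, 0, 0, 4, 2], 0), ([1, 1, 3, 0, 0, 0, 2, 0, 0, 0, 3], 1), ([3, 1, 3, 2, 1, 1, 3, 0, 3, 1, 2, 1], 2),
  ([3, 3, 1, 4, 0, 0, 2, 1, 3, 0, 4, 4], 3), ([3, 3, 0, 3, 2, 1, 1, 1, 1, 1, 1], 4), ([1, 2, 0, 0, 3, 3, 1, 3, 2], 5),
  ([1, 4, 0, 4, 0, 0, 2, 1, 1, 3, 1, 1], 6), ([3, 2, 0, 4, 0, 2, 1, 4, 1, 4, 2, 1, 3], 7), ([3, 1, 1, 3, 1, 2, 0, 4, 0, 0, 0, 3], 8),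
  ([2, 0, 3, 3, 0, 4, 2, 0, 4, 4], 9), ([0, 3, 1, 3, 1, 2, 0, 4, 0, 4, 1], 10), ([1, 1, 2, 0, 0, 4, 4, 0, 4, 1, 4, 2], 11),
  ([4, 2, 1, 3, 2, 1, 3, 1, 1, 1, 2], 12), ([2, 0, 0, 4, 1, 1, 2, 0, 4, 4, 0, 3], 13), ([0, 3, 0, 4, 0, 3, 1, 3, 3, 2, 1, 1], 14),
  ([4, 2, 0, 0, 0, 4, 2, 1, 3, 1, 3], 15), ([3, 3, 1, 3, 2, 1, 4, 4, 1, 2], 16), ([4, 0, 3, 1, 1, 1, 2, 1, 1, 3], 17),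
  ([4, 0, 3, 0, 0, 0, 2, 1, 4, 0, 0], 18), ([4, 2, 0, 3, 2, 1, 4, 1, 1, 3, 0], 19), ([3, 0, 4, 0, 4, 2, 1, 1, 4, 4, 2, 0], 20),
  ([4, 2, 0, 4, 4, 1, 1, 2, 0], 21), ([2, 0, 4, 4, 2, 1, 3, 1, 1, 3, 1], 22), ([], 23)]

/-- witnesses fixing 23 and moving the point 1 -/
def W1 : List (List ℕ × Fin 24) := [
  ([], 1), ([4, 1, 1, 3, 0, 3, 1, 1, 4, 1, 1, 3, 0, 4, 0, 0, 0, 4, 0, 3, 0, 4, 4], 2), ([1, 1, 1, 3, 1, 1, 4, 0, 0, 4, 1, 3, 3, 1, 4, 1, 1, 1, 3, 0, 3, 3, 0], 3),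
  ([4, 4, 0, 4, 4, 0, 0, 3, 0, 3, 1], 4), ([1, 1, 1, 3, 0, 3, 1, 4, 1, 1, 4], 5), ([1, 3, 3, 0, 0, 3, 3, 0, 4, 0, 0, 0, 4, 1, 1, 3, 0, 3, 3, 0], 6),
  ([1, 1, 4, 0, 0, 0, 0, 0, 0, 4, 3, 0, 4, 0, 0, 0, 4, 0, 3, 0, 4, 4], 7), ([0, 4, 1, 4, 1, 1, 3, 3, 1, 3, 3], 8), ([3, 0, 0, 0, 4, 0, 4, 0, 4, 4, 1, 3, 3, 1, 4, 1, 1, 1, 3, 0, 3, 3, 0], 9),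
  ([3, 0, 0, 3, 0, 4, 1, 4, 0, 0, 0], 11), ([2, 1, 3, 1, 1, 1, 3, 1, 3, 1, 2], 12), ([4, 0, 0, 0, 3, 3, 0, 4, 0, 0, 3, 0, 4, 0, 0, 0, 4, 0, 3, 0, 4, 4], 13),
  ([3, 0, 3, 1, 3, 0, 0, 4, 1, 3, 0, 4, 0, 0, 0, 4, 0, 3, 0, 4, 4], 14), ([0, 0, 0, 4, 4, 0, 4, 0, 3, 1, 3, 3, 0, 3, 3, 1, 4, 1, 1, 1, 3, 0, 0], 16), ([4, 0, 0, 3, 1, 3, 1, 1, 3, 3, 0, 4, 1, 1, 1, 3, 1, 3, 1, 4, 1, 3, 3], 17),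
  ([1, 4, 0, 4, 1, 1, 1, 3, 1, 4, 1, 1, 1, 3, 1, 3, 1, 4, 1, 3, 3], 18), ([4, 1, 3, 0, 0, 4, 0, 0, 3, 3, 3, 1, 4, 1, 1, 1, 3, 0, 3, 3, 0], 19), ([1, 3, 0, 0, 4, 0, 0, 3, 3, 1, 1, 1, 3, 0, 3, 3, 0, 3, 3, 1, 3, 3], 20),
  ([2, 0, 0, 3, 1, 4, 0, 4, 2, 4, 4, 0, 4, 0, 4, 0, 0, 0, 4, 0, 4, 4], 21), ([1, 1, 4, 0, 3, 3, 1, 4, 4, 1, 4, 1, 1, 1, 3, 1, 3, 1, 4, 1, 3, 3], 22)]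

/-- witnesses fixing 23 and 1 and moving the point 3 -/
def W2 : List (List ℕ × Fin 24) := [
  ([], 3), ([4, 1, 4, 1, 4, 1, 3, 0, 3, 0, 3, 1, 4, 0, 4, 4, 0, 0, 3, 0, 3, 3, 0, 3, 0, 3, 1, 4, 0, 4, 4, 0, 0, 3, 0, 3], 4), ([1, 4, 4, 1, 1, 1, 4, 1, 3, 0, 0, 0, 0, 4, 1, 4, 4, 0, 0, 4, 0, 0, 4, 1, 3, 0, 3, 0, 3, 0, 3, 1, 4, 0, 4, 4, 0, 0, 3, 0, 3, 3, 0, 3, 0, 3, 1, 4, 0, 4, 4, 0, 0, 3, 0, 3], 5),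
  ([4, 4, 0, 0, 3, 0, 4, 0, 0, 1, 3, 3, 1, 4, 0, 0, 0, 3, 0, 4, 4, 1, 3, 0, 3, 0, 3, 0, 3, 1, 4, 0, 4, 4, 0, 0, 3, 0, 3, 3, 0, 3, 0, 3, 1, 4, 0, 4, 4, 0, 0, 3, 0, 3], 6), ([4, 4, 1, 4, 1, 3, 3, 1, 1, 1, 3, 1, 1, 1, 3, 3, 0, 3, 3, 1, 4, 1, 1, 1, 3, 0, 0, 3, 0, 3, 0, 3, 1, 4, 0, 4, 4, 0, 0, 3, 0, 3, 3, 0, 3, 0, 3, 1, 4, 0, 4, 4, 0, 0, 3, 0, 3], 7), ([0, 4, 1, 4, 1, 1, 4, 4, 0, 3, 0, 1, 3, 3, 1, 4, 0, 0, 0, 3, 0, 4, 4, 1, 3, 0, 3, 0, 3, 0, 3, 1, 4, 0, 4, 4, 0, 0, 3, 0, 3, 3, 0, 3, 0, 3, 1, 4, 0, 4, 4, 0, 0, 3, 0, 3], 8),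
  ([2, 1, 3, 1, 3, 1, 4, 4, 1, 2, 0, 4, 4, 1, 3, 0, 4, 1, 1, 3, 0, 3, 0, 4, 4, 0], 11), ([0, 3, 3, 1, 4, 1, 1, 1, 3, 1, 3, 0, 1, 3, 3, 0, 3, 3, 1, 4, 1, 1, 1, 3, 0, 0], 12), ([1, 4, 0, 0, 0, 3, 1, 1, 1, 3, 0, 3, 1, 1, 3, 0, 0, 3, 0, 3, 0, 4, 4, 0, 3, 3, 3, 0, 3, 0, 3, 1, 4, 0, 4, 4, 0, 0, 3, 0, 3, 3, 0, 3, 0, 3, 1, 4, 0, 4, 4, 0, 0, 3, 0, 3], 13),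
  ([3, 0, 0, 0, 3, 3, 1, 4, 0, 3, 0, 4, 0, 0, 0, 4, 0, 3, 0, 4, 4, 3, 0, 3, 0, 3, 1, 4, 0, 4, 4, 0, 0, 3, 0, 3, 3, 0, 3, 0, 3, 1, 4, 0, 4, 4, 0, 0, 3, 0, 3], 14), ([3, 3, 0, 4, 4, 0, 0, 4, 4, 0, 3, 1, 0, 4, 4, 1, 3, 0, 4, 1, 1, 3, 0, 3, 0, 4, 4, 0, 3, 0, 3, 0, 3, 1, 4, 0, 4, 4, 0, 0, 3, 0, 3], 16), ([1, 3, 0, 4, 4, 1, 1, 1, 4, 4, 0, 4, 1, 1, 4, 4, 0, 0, 3, 1, 3, 1, 3, 0, 3, 0, 3, 0, 3, 1, 4, 0, 4, 4, 0, 0, 3, 0, 3], 17),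
  ([1, 4, 0, 0, 0, 4, 1, 1, 1, 3, 0, 3, 1, 1, 3, 0, 0, 3, 0, 3, 0, 4, 4, 0, 3, 3], 18), ([1, 1, 3, 1, 4, 1, 1, 3, 3, 3, 0, 4, 0, 0, 0, 4, 0, 3, 0, 4, 4, 3, 0, 3, 0, 3, 1, 4, 0, 4, 4, 0, 0, 3, 0, 3, 3, 0, 3, 0, 3, 1, 4, 0, 4, 4, 0, 0, 3, 0, 3], 19), ([4, 1, 3, 1, 3, 1, 4, 0, 3, 0, 3, 3, 1, 4, 1, 1, 1, 3, 0, 3, 3, 0], 21),
  ([3, 1, 1, 4, 1, 1, 3, 0, 4, 4, 1, 3, 0, 4, 0, 0, 0, 4, 0, 3, 0, 4, 4, 3, 0, 3, 0, 3, 1, 4, 0, 4, 4, 0, 0, 3, 0, 3, 3, 0, 3, 0, 3, 1, 4, 0, 4, 4, 0, 0, 3, 0, 3], 22)]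

/-- coset words for the impossible images of the point 1 -/
def bad1 : List (List ℕ) := [
  [4, 1, 4, 0, 4, 1, 4, 0, 0, 4, 0, 3], [1, 3, 1, 4, 4, 0, 0, 4, 1], [0, 3, 0, 0, 3, 1, 3, 0, 3, 1], [1, 4, 0, 3, 0, 0, 0, 3, 1, 3, 0],
  [3, 1, 1, 1, 4, 4, 1, 3, 3, 0], [4, 0, 3, 1, 1, 1, 3, 0, 3, 0], [4, 0, 3, 3, 0, 3, 1, 1, 1, 4], [4, 2, 1, 1, 4, 4, 0, 3, 2],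
  [4, 1, 1, 1, 4, 1, 1, 1, 4, 0, 4], [4, 0, 4, 1, 3, 0, 3, 1, 3, 3], [0, 3, 1, 3, 1, 1], [3, 0, 0, 0, 3, 3, 0, 4, 0, 0, 3],
  [0, 0, 3, 1, 1, 3, 1, 4, 4, 1], [1, 1, 4, 4, 1, 3, 3, 1, 4, 1], [2, 0, 4, 1, 3, 0, 3, 1, 4, 4, 2], [3, 0, 0, 3, 1, 3, 3, 1, 4, 1, 1],
  [4, 1, 1, 1, 4, 0, 0, 0, 3, 3], [3, 1, 3, 3, 0, 4, 4, 1, 4, 1, 1], [1, 1, 4, 4, 1, 4, 4, 0, 3], [0, 4, 0, 4, 1, 3, 1, 1, 1],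
  [4, 4, 1, 4, 1, 1, 1, 1, 1, 3], [0, 3, 3, 1, 3, 0, 3, 1, 1, 3, 1], [4, 1, 3, 3, 1, 4, 0, 0, 0, 4], [1, 3, 1, 3, 0, 0, 4, 4, 1, 3, 1],
  [0, 4, 4, 1, 3, 0, 0, 0, 4, 0, 4, 1], [3, 3, 1, 1, 4, 1, 4, 4, 1, 1, 3], [0, 0, 3, 3, 0, 0, 0, 0, 0, 0, 0], [0, 4, 1, 1, 4, 1, 3, 1],
  [1, 1, 1, 1, 4, 1, 4, 4, 1, 3, 3, 0], [1, 4, 4, 1, 1, 3, 1, 4, 0, 0, 0], [4, 0, 3, 3, 0, 4, 0, 3, 0, 0], [0, 3, 3, 0, 4, 1, 1, 1, 4, 0, 4, 0],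
  [4, 1, 3, 0, 4, 4, 1, 1, 1], [1, 4, 4, 0, 3, 3, 0, 0, 0, 4], [1, 3, 0, 4, 0, 4, 0, 3, 3, 0, 0, 3, 1], [4, 1, 1, 3, 3, 0, 4, 1, 1, 1, 3, 1],
  [3, 0, 0, 4, 0, 0, 4, 0, 0, 0, 0], [1, 3, 1, 4, 0, 4, 4, 0, 3, 0, 4, 0], [4, 1, 4, 1, 1, 3, 0, 3, 1, 1], [1, 1, 4, 1, 1, 1, 3, 1, 3, 1]]

/-- coset words for the impossible images of the point 3 -/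
def bad2 : List (List ℕ) := [
  [1, 4, 1, 3, 0, 4, 0, 4, 0, 3], [3, 3, 2, 0, 0, 0, 3, 1, 1, 3, 2], [0, 0, 0, 0, 0, 4, 0, 0, 0, 0, 3], [1, 4, 1, 3, 3, 0, 0, 3, 0, 3, 1]]

/-- the images of 1 -/
def A1 : List (Fin 24) := [1, 2, 3, 4, 5, 6, 7, 8, 9, 11, 12, 13, 14, 16, 17, 18, 19, 20, 21, 22]

/-- the images of 3 -/
def A2 : List (Fin 24) := [3, 4, 5, 6, 7, 8, 11, 12, 13, 14, 16, 17, 18, 19, 21, 22]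

/-- the mask of a tetrad of the invariant sextet -/
def m0 : ℕ := 8422401

end Cfsg.Agent.Lib.Helper9.M24Cent
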