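import Mathlib
import Cfsg.Agent.Lib.Helper9.M24Cent

set_option autoImplicit false

namespace Cfsg.Agent.Lib.Helper9.M24Cent

open Cfsg Cfsg.Agent.Lib.Helper1 Cfsg.Agent.Lib.Helper9.M24Enum Cfsg.Agent.Lib.Helper9.FixCount

theorem tT_eq : ∀ i : Fin 24, evalT t1w i = tT i := by decide +kernel

theorem tT_cert : (∀ i : Fin 24, tT (tT i) = i) ∧ (∀ i : Fin 24, tT i ≠ i) ∧ tT 23 = 0 ∧ tT 0 = 23 ∧
    tT 1 = 2 ∧ tT 2 = 1 ∧ tT 3 = 4 ∧ tT 4 = 3 ∧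
    (∀ i : Fin 24, evalT gw (evalT [2] i) = tT (evalT gw i)) := by decide +kernel

/-- commuting with the involution, on tables -/
def commT (w : List ℕ) : Prop := ∀ i : Fin 24, evalT w (tT i) = tT (evalT w i)

instance (w : List ℕ) : Decidable (commT w) := by
  unfold commT
  infer_instance

theorem W0_cert : (∀ e ∈ W0, commT e.1 ∧ evalT e.1 23 = e.2) ∧
    (∀ p : Fin 24, ∃ e ∈ W0, e.2 = p) := by decide +kernel

theorem W1_cert : (∀ e ∈ W1, commT e.1 ∧ evalT e.1 23 = 23 ∧ evalT e.1 1 = e.2) ∧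
    (∀ q ∈ A1, ∃ e ∈ W1, e.2 = q) ∧ A1.Nodup ∧ A1.length = 20 := by decide +kernel

theorem W2_cert : (∀ e ∈ W2, commT e.1 ∧ evalT e.1 23 = 23 ∧ evalT e.1 1 = 1 ∧
      evalT e.1 3 = e.2) ∧
    (∀ r ∈ A2, ∃ e ∈ W2, e.2 = r) ∧ A2.Nodup ∧ A2.length = 16 := by decide +kernel

theorem bad1_cert : ∀ tq ∈ bad1, ∀ u ∈ fixWords,
    evalT tq (evalT u 4) = tT (evalT tq 3) →
    ∀ v ∈ vWords, commT (tq ++ (u ++ v)) → False := by decide +kernel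

theorem bad2_cert : ∀ tq ∈ bad2, ∀ u ∈ fixWords,
    evalT tq (evalT u 4) = tT (evalT tq 3) →
    ∀ v ∈ vWords, commT (tq ++ (u ++ v)) → False := by decide +kernel

def concl1 (q r : Fin 24) : Prop :=
  ∃ tq ∈ bad1, evalT tq 23 = 23 ∧ evalT tq 0 = 0 ∧ evalT tq 1 = q ∧ evalT tq 2 = tT q ∧
    evalT tq 3 = r

instance (q r : Fin 24) : Decidable (concl1 q r) := by
  unfold concl1
  infer_instance

theorem cover1 : ∀ q : Fin 24, q ≠ 23 → q ≠ 0 → q ∉ A1 →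
    ∀ r : Fin 24, r ≠ 23 → r ≠ 0 → r ≠ q → r ≠ tT q → concl1 q r := by decide +kernel

def concl2 (r : Fin 24) : Prop :=
  ∃ tq ∈ bad2, evalT tq 23 = 23 ∧ evalT tq 0 = 0 ∧ evalT tq 1 = 1 ∧ evalT tq 2 = 2 ∧
    evalT tq 3 = r

instance (r : Fin 24) : Decidable (concl2 r) := by
  unfold concl2
  infer_instance

theorem cover2 : ∀ r : Fin 24, r ≠ 23 → r ≠ 0 → r ≠ 1 → r ≠ 2 → r ∉ A2 → concl2 r := by
  decide +kernel

theorem K3_cert : ∀ u ∈ fixWords, ∀ v ∈ vWords, commT (u ++ v) →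
    ∀ i : Fin 24, evalT (u ++ v) i = i := by decide +kernel

theorem fix_cert : (∀ u ∈ fixWords, evalT u 3 = 3) ∧
    (∀ v ∈ vWords, evalT v 3 = 3 ∧ evalT v 4 = 4) := by decide +kernel

theorem sext_cert : (∀ e ∈ W0, fxS (evalT e.1) m0 = true) ∧ (∀ e ∈ W1, fxS (evalT e.1) m0 = true) ∧
    (∀ e ∈ W2, fxS (evalT e.1) m0 = true) ∧ fxS tT m0 = true ∧ popc m0 = 4 ∧ m0 < 2 ^ 24 := by
  decide +kernel

end Cfsg.Agent.Lib.Helper9.M24Cent
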