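import Mathlib
import Cfsg.Agent.Lib.Helper9.M24Cent2
import Cfsg.Agent.Lib.Helper9.M24Invol2
import Cfsg.Agent.Lib.Helper1.M24Chain

set_option autoImplicit false

namespace Cfsg.Agent.Lib.Helper9.M24Cent

open Cfsg Cfsg.Agent.Lib.Helper1 Cfsg.Agent.Lib.Helper9.M24Enum Cfsg.Agent.Lib.Helper9.FixCount
open scoped Pointwise

theorem evalT_append (a b : List ℕ) (i : Fin 24) : evalT (a ++ b) i = evalT a (evalT b i) := by
  induction a with
  | nil => rfl
  | cons l a ih =>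
    show letterT l (evalT (a ++ b) i) = letterT l (evalT a (evalT b i))
    rw [ih]

/-- the normalised fixed point free involution -/
noncomputable def t1 : Equiv.Perm GolayPt := evalW t1w

theorem t1_mem : t1 ∈ M24 := evalW_mem_M24 t1w

theorem t1_table : HasTable t1 tT := by
  intro i
  show evalW t1w (gpt i) = _
  rw [evalW_table t1w i, tT_eq i]

theorem t1_sq : t1 * t1 = 1 := by
  have h : HasTable (t1 * t1) (tT ∘ tT) := t1_table.mul t1_table
  have h1 : HasTable (1 : Equiv.Perm GolayPt) (tT ∘ tT) := by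
    intro i
    show gpt i = gpt (tT (tT i))
    rw [tT_cert.1 i]
  exact eq_of_hasTable h h1

theorem t1_inv : t1⁻¹ = t1 := inv_eq_of_mul_eq_one_right t1_sq

theorem t1_conj : evalW gw * M24Invol.t0 * (evalW gw)⁻¹ = t1 := by
  rw [mul_inv_eq_iff_eq_mul]
  have h1 : HasTable (evalW gw * M24Invol.t0) (evalT gw ∘ evalT [2]) :=
    (evalW_table gw).mul (evalW_table [2])
  have h2 : HasTable (t1 * evalW gw) (tT ∘ evalT gw) := t1_table.mul (evalW_table gw)
  have h3 : evalT gw ∘ evalT [2] = tT ∘ evalT gw := funext tT_cert.2.2.2.2.2.2.2.2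
  rw [h3] at h1
  exact eq_of_hasTable h1 h2

/-- the centralizer of `t1` in `M24` -/
def K0 : Subgroup (Equiv.Perm GolayPt) := M24 ⊓ Subgroup.centralizer {t1}

theorem mem_K0 {c : Equiv.Perm GolayPt} : c ∈ K0 ↔ c ∈ M24 ∧ c * t1 = t1 * c := by
  unfold K0
  rw [Subgroup.mem_inf, Subgroup.mem_centralizer_iff]
  constructor
  · rintro ⟨h1, h2⟩
    exact ⟨h1, (h2 t1 rfl).symm⟩
  · rintro ⟨h1, h2⟩
    refine ⟨h1, fun h hh => ?_⟩
    rw [Set.mem_singleton_iff] at hh
    rw [hh, h2]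

theorem exists_table (g : Equiv.Perm GolayPt) : ∃ T : Fin 24 → Fin 24, HasTable g T := by
  refine ⟨fun i => (gpt_bij.surjective (g (gpt i))).choose, fun i => ?_⟩
  exact ((gpt_bij.surjective (g (gpt i))).choose_spec).symm

theorem table_inj {g : Equiv.Perm GolayPt} {T : Fin 24 → Fin 24} (hT : HasTable g T) :
    Function.Injective T := by
  intro i j hij
  apply gpt_bij.injective
  apply g.injective
  rw [hT i, hT j, hij]

theorem comm_table {c : Equiv.Perm GolayPt} (hc : c * t1 = t1 * c) {T : Fin 24 → Fin 24}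
    (hT : HasTable c T) : ∀ i, T (tT i) = tT (T i) := by
  intro i
  apply gpt_bij.injective
  have h := congrArg (fun f : Equiv.Perm GolayPt => f (gpt i)) hc
  simp only [Equiv.Perm.mul_apply] at h
  rw [← hT, ← t1_table i, h, hT i, t1_table (T i)]

theorem mem_K0_of_word {w : List ℕ} (h : commT w) : evalW w ∈ K0 := by
  rw [mem_K0]
  refine ⟨evalW_mem_M24 w, ?_⟩
  have h1 : HasTable (evalW w * t1) (evalT w ∘ tT) := (evalW_table w).mul t1_table
  have h2 : HasTable (t1 * evalW w) (tT ∘ evalT w) := t1_table.mul (evalW_table w)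
  have h3 : evalT w ∘ tT = tT ∘ evalT w := funext h
  rw [h3] at h1
  exact eq_of_hasTable h1 h2

abbrev G24 := Equiv.Perm GolayPt

def K1 : Subgroup G24 := K0 ⊓ MulAction.stabilizer G24 (gpt 23)
def K2 : Subgroup G24 := K1 ⊓ MulAction.stabilizer G24 (gpt 1)
def K3 : Subgroup G24 := K2 ⊓ MulAction.stabilizer G24 (gpt 3)

theorem mem_K1 {g : G24} : g ∈ K1 ↔ g ∈ K0 ∧ g (gpt 23) = gpt 23 := by
  unfold K1
  rw [Subgroup.mem_inf, MulAction.mem_stabilizer_iff]
  rfl

theorem mem_K2 {g : G24} : g ∈ K2 ↔ g ∈ K1 ∧ g (gpt 1) = gpt 1 := by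
  unfold K2
  rw [Subgroup.mem_inf, MulAction.mem_stabilizer_iff]
  rfl

theorem mem_K3 {g : G24} : g ∈ K3 ↔ g ∈ K2 ∧ g (gpt 3) = gpt 3 := by
  unfold K3
  rw [Subgroup.mem_inf, MulAction.mem_stabilizer_iff]
  rfl

/-- tables of elements of `K1` -/
theorem K1_table {g : G24} (hg : g ∈ K1) {T : Fin 24 → Fin 24} (hT : HasTable g T) :
    T 23 = 23 ∧ T 0 = 0 ∧ T 2 = tT (T 1) ∧ T 4 = tT (T 3) := by
  obtain ⟨h0, h23⟩ := mem_K1.1 hg
  have hc := comm_table (mem_K0.1 h0).2 hT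
  have e23 : T 23 = 23 := gpt_bij.injective (by rw [← hT, h23])
  refine ⟨e23, ?_, ?_, ?_⟩
  · have := hc 23
    rw [tT_cert.2.2.1, e23, tT_cert.2.2.1] at this
    exact this
  · have := hc 1
    rw [tT_cert.2.2.2.2.1] at this
    exact this
  · have := hc 3
    rw [tT_cert.2.2.2.2.2.2.1] at this
    exact this

/-- the precheck used by the certificates -/
theorem precheck {tq u v : List ℕ} (hu : u ∈ fixWords) (hv : v ∈ vWords)
    (h : commT (tq ++ (u ++ v))) : evalT tq (evalT u 4) = tT (evalT tq 3) := by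
  have h3 := h 3
  rw [tT_cert.2.2.2.2.2.2.1, evalT_append, evalT_append, evalT_append, evalT_append,
    (fix_cert.2 v hv).1, (fix_cert.2 v hv).2, fix_cert.1 u hu] at h3
  exact h3

theorem word_comm {g : G24} (hg : g ∈ K0) {w : List ℕ} (hw : g = evalW w) : commT w := by
  have hT : HasTable g (evalT w) := by rw [hw]; exact evalW_table w
  exact comm_table (mem_K0.1 hg).2 hT

/-- images of the point 1 under `K1` -/
theorem K1_image {g : G24} (hg : g ∈ K1) : ∃ q ∈ A1, g (gpt 1) = gpt q := by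
  obtain ⟨T, hT⟩ := exists_table g
  obtain ⟨e23, e0, e2, e4⟩ := K1_table hg hT
  have hinj := table_inj hT
  refine ⟨T 1, ?_, hT 1⟩
  by_contra hq
  have hc := cover1 (T 1) (fun h => absurd (hinj (h.trans e23.symm)) (by decide))
    (fun h => absurd (hinj (h.trans e0.symm)) (by decide)) hq (T 3)
    (fun h => absurd (hinj (h.trans e23.symm)) (by decide))
    (fun h => absurd (hinj (h.trans e0.symm)) (by decide))
    (fun h => absurd (hinj h) (by decide))
    (fun h => absurd (hinj (h.trans e2.symm)) (by decide))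
  unfold concl1 at hc
  obtain ⟨tq, htq, c23, c0, c1, c2, c3⟩ := hc
  have hK0 := (mem_K1.1 hg).1
  obtain ⟨u, hu, v, hv, huv⟩ := coset_enum (mem_K0.1 hK0).1 tq (by
    intro i hi
    rw [hT i]
    congr 1
    simp only [List.mem_cons, List.not_mem_nil, or_false] at hi
    rcases hi with rfl | rfl | rfl | rfl | rfl
    · rw [c23, e23]
    · rw [c0, e0]
    · rw [c1]
    · rw [c2, e2]
    · rw [c3])
  have hcm := word_comm hK0 huv
  exact bad1_cert tq htq u hu (precheck hu hv hcm) v hv hcm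

theorem K2_table {g : G24} (hg : g ∈ K2) {T : Fin 24 → Fin 24} (hT : HasTable g T) :
    T 23 = 23 ∧ T 0 = 0 ∧ T 1 = 1 ∧ T 2 = 2 ∧ T 4 = tT (T 3) := by
  obtain ⟨h1, hg1⟩ := mem_K2.1 hg
  obtain ⟨e23, e0, e2, e4⟩ := K1_table h1 hT
  have e1 : T 1 = 1 := gpt_bij.injective (by rw [← hT, hg1])
  refine ⟨e23, e0, e1, ?_, e4⟩
  rw [e2, e1, tT_cert.2.2.2.2.1]

/-- images of the point 3 under `K2` -/
theorem K2_image {g : G24} (hg : g ∈ K2) : ∃ r ∈ A2, g (gpt 3) = gpt r := by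
  obtain ⟨T, hT⟩ := exists_table g
  obtain ⟨e23, e0, e1, e2, e4⟩ := K2_table hg hT
  have hinj := table_inj hT
  refine ⟨T 3, ?_, hT 3⟩
  by_contra hr
  have hc := cover2 (T 3) (fun h => absurd (hinj (h.trans e23.symm)) (by decide))
    (fun h => absurd (hinj (h.trans e0.symm)) (by decide))
    (fun h => absurd (hinj (h.trans e1.symm)) (by decide))
    (fun h => absurd (hinj (h.trans e2.symm)) (by decide)) hr
  unfold concl2 at hc
  obtain ⟨tq, htq, c23, c0, c1, c2, c3⟩ := hc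
  have hK0 := (mem_K1.1 (mem_K2.1 hg).1).1
  obtain ⟨u, hu, v, hv, huv⟩ := coset_enum (mem_K0.1 hK0).1 tq (by
    intro i hi
    rw [hT i]
    congr 1
    simp only [List.mem_cons, List.not_mem_nil, or_false] at hi
    rcases hi with rfl | rfl | rfl | rfl | rfl
    · rw [c23, e23]
    · rw [c0, e0]
    · rw [c1, e1]
    · rw [c2, e2]
    · rw [c3])
  have hcm := word_comm hK0 huv
  exact bad2_cert tq htq u hu (precheck hu hv hcm) v hv hcm

theorem K3_eq_bot : K3 = ⊥ := by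
  rw [Subgroup.eq_bot_iff_forall]
  intro g hg
  obtain ⟨h2, hg3⟩ := mem_K3.1 hg
  obtain ⟨T, hT⟩ := exists_table g
  obtain ⟨e23, e0, e1, e2, e4⟩ := K2_table h2 hT
  have e3 : T 3 = 3 := gpt_bij.injective (by rw [← hT, hg3])
  have hK0 := (mem_K1.1 (mem_K2.1 h2).1).1
  have hfix : g ∈ fixL M24 [23, 0, 1, 2, 3] := by
    rw [mem_fixL]
    refine ⟨(mem_K0.1 hK0).1, fun i hi => ?_⟩
    rw [hT i]
    congr 1
    simp only [List.mem_cons, List.not_mem_nil, or_false] at hi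
    rcases hi with rfl | rfl | rfl | rfl | rfl
    · exact e23
    · exact e0
    · exact e1
    · exact e2
    · exact e3
  obtain ⟨u, hu, v, hv, huv⟩ := stab5_enum hfix
  have hcm := word_comm hK0 huv
  have hid := K3_cert u hu v hv hcm
  rw [huv]
  apply eq_of_hasTable (evalW_table _)
  intro i
  rw [hid i]
  rfl

theorem fix_of_word {w : List ℕ} (h : fxS (evalT w) m0 = true) :
    evalW w • objS m0 = objS m0 := by
  have hT : HasTable ((evalW w)⁻¹)⁻¹ (evalT w) := by rw [inv_inv]; exact evalW_table w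
  have h1 : (evalW w)⁻¹ • objS m0 = objS m0 :=
    (fxS_iff (inv_mem (evalW_mem_M24 w)) hT sext_cert.2.2.2.2.2 sext_cert.2.2.2.2.1).2 h
  rw [inv_smul_eq_iff] at h1
  exact h1.symm

theorem t1_fix : t1 • objS m0 = objS m0 := by
  have hT : HasTable t1⁻¹ tT := by rw [t1_inv]; exact t1_table
  exact (fxS_iff t1_mem hT sext_cert.2.2.2.2.2 sext_cert.2.2.2.2.1).2 sext_cert.2.2.2.1

/-- witnesses -/
theorem W0_wit (p : Fin 24) : ∃ g ∈ K0, g (gpt 23) = gpt p ∧ g • objS m0 = objS m0 := by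
  obtain ⟨e, he, hep⟩ := W0_cert.2 p
  obtain ⟨hc, h23⟩ := W0_cert.1 e he
  refine ⟨evalW e.1, mem_K0_of_word hc, ?_, fix_of_word (sext_cert.1 e he)⟩
  rw [evalW_table e.1 23, h23, hep]

theorem W1_wit {q : Fin 24} (hq : q ∈ A1) :
    ∃ g ∈ K1, g (gpt 1) = gpt q ∧ g • objS m0 = objS m0 := by
  obtain ⟨e, he, heq⟩ := W1_cert.2.1 q hq
  obtain ⟨hc, h23, h1⟩ := W1_cert.1 e he
  refine ⟨evalW e.1, mem_K1.2 ⟨mem_K0_of_word hc, ?_⟩, ?_, fix_of_word (sext_cert.2.1 e he)⟩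
  · rw [evalW_table e.1 23, h23]
  · rw [evalW_table e.1 1, h1, heq]

theorem W2_wit {r : Fin 24} (hr : r ∈ A2) :
    ∃ g ∈ K2, g (gpt 3) = gpt r ∧ g • objS m0 = objS m0 := by
  obtain ⟨e, he, her⟩ := W2_cert.2.1 r hr
  obtain ⟨hc, h23, h1, h3⟩ := W2_cert.1 e he
  refine ⟨evalW e.1, mem_K2.2 ⟨mem_K1.2 ⟨mem_K0_of_word hc, ?_⟩, ?_⟩, ?_,
    fix_of_word (sext_cert.2.2.1 e he)⟩
  · rw [evalW_table e.1 23, h23]
  · rw [evalW_table e.1 1, h1]
  · rw [evalW_table e.1 3, h3, her]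

/-- every element of the centralizer fixes the special sextet -/
theorem K0_fix {c : G24} (hc : c ∈ K0) : c • objS m0 = objS m0 := by
  obtain ⟨p, hp⟩ := gpt_bij.surjective (c (gpt 23))
  obtain ⟨w0, hw0, hw0p, hw0s⟩ := W0_wit p
  have h1 : w0⁻¹ * c ∈ K1 := mem_K1.2 ⟨mul_mem (inv_mem hw0) hc, by
    rw [Equiv.Perm.mul_apply, ← hp, ← hw0p]
    simp⟩
  obtain ⟨q, hq, hq1⟩ := K1_image h1
  obtain ⟨w1, hw1, hw1q, hw1s⟩ := W1_wit hq
  have h2 : w1⁻¹ * (w0⁻¹ * c) ∈ K2 := mem_K2.2 ⟨mul_mem (inv_mem hw1) h1, by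
    rw [Equiv.Perm.mul_apply, hq1, ← hw1q]
    simp⟩
  obtain ⟨r, hr, hr3⟩ := K2_image h2
  obtain ⟨w2, hw2, hw2r, hw2s⟩ := W2_wit hr
  have h3 : w2⁻¹ * (w1⁻¹ * (w0⁻¹ * c)) ∈ K3 := mem_K3.2 ⟨mul_mem (inv_mem hw2) h2, by
    rw [Equiv.Perm.mul_apply, hr3, ← hw2r]
    simp⟩
  rw [K3_eq_bot, Subgroup.mem_bot] at h3
  have hc' : c = w0 * (w1 * w2) := by
    have : c = w0 * (w1 * (w2 * (w2⁻¹ * (w1⁻¹ * (w0⁻¹ * c))))) := by group
    rw [this, h3]
    group
  rw [hc', mul_smul, mul_smul, hw2s, hw1s, hw0s]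

/-- the centralizer is transitive -/
theorem K0_trans (p q : GolayPt) : ∃ c ∈ K0, c p = q := by
  obtain ⟨i, rfl⟩ := gpt_bij.surjective p
  obtain ⟨j, rfl⟩ := gpt_bij.surjective q
  obtain ⟨a, ha, hai, -⟩ := W0_wit i
  obtain ⟨b, hb, hbj, -⟩ := W0_wit j
  refine ⟨b * a⁻¹, mul_mem hb (inv_mem ha), ?_⟩
  rw [Equiv.Perm.mul_apply, ← hai]
  simp [hbj]

def A1f : Finset GolayPt := (A1.map gpt).toFinset
def A2f : Finset GolayPt := (A2.map gpt).toFinset

theorem card_A1f : A1f.card = 20 := by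
  unfold A1f
  rw [List.toFinset_card_of_nodup (W1_cert.2.2.1.map gpt_bij.injective), List.length_map,
    W1_cert.2.2.2]

theorem card_A2f : A2f.card = 16 := by
  unfold A2f
  rw [List.toFinset_card_of_nodup (W2_cert.2.2.1.map gpt_bij.injective), List.length_map,
    W2_cert.2.2.2]

theorem card_K0 : Nat.card K0 = 7680 := by
  have h3 : Nat.card K3 = 1 := by rw [K3_eq_bot]; exact Subgroup.card_bot
  have u2 : Nat.card K2 ≤ A2f.card * Nat.card K3 :=
    card_le_of_orbit_subset K2 (gpt 3) A2f (fun g hg => by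
      obtain ⟨r, hr, hr3⟩ := K2_image hg
      show g (gpt 3) ∈ A2f
      rw [hr3]
      exact List.mem_toFinset.2 (List.mem_map.2 ⟨r, hr, rfl⟩))
  have l2 : A2f.card * Nat.card K3 ≤ Nat.card K2 :=
    le_card_of_subset_orbit K2 (gpt 3) A2f (fun q hq => by
      obtain ⟨r, hr, rfl⟩ := List.mem_map.1 (List.mem_toFinset.1 hq)
      obtain ⟨g, hg, hgr, -⟩ := W2_wit hr
      exact ⟨g, hg, hgr⟩)
  have u1 : Nat.card K1 ≤ A1f.card * Nat.card K2 :=
    card_le_of_orbit_subset K1 (gpt 1) A1f (fun g hg => by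
      obtain ⟨r, hr, hr3⟩ := K1_image hg
      show g (gpt 1) ∈ A1f
      rw [hr3]
      exact List.mem_toFinset.2 (List.mem_map.2 ⟨r, hr, rfl⟩))
  have l1 : A1f.card * Nat.card K2 ≤ Nat.card K1 :=
    le_card_of_subset_orbit K1 (gpt 1) A1f (fun q hq => by
      obtain ⟨r, hr, rfl⟩ := List.mem_map.1 (List.mem_toFinset.1 hq)
      obtain ⟨g, hg, hgr, -⟩ := W1_wit hr
      exact ⟨g, hg, hgr⟩)
  have u0 : Nat.card K0 ≤ (Finset.univ : Finset GolayPt).card * Nat.card K1 :=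
    card_le_of_orbit_subset K0 (gpt 23) Finset.univ (fun g _ => Finset.mem_univ _)
  have l0 : (Finset.univ : Finset GolayPt).card * Nat.card K1 ≤ Nat.card K0 :=
    le_card_of_subset_orbit K0 (gpt 23) Finset.univ (fun q _ => by
      obtain ⟨j, rfl⟩ := gpt_bij.surjective q
      obtain ⟨g, hg, hgj, -⟩ := W0_wit j
      exact ⟨g, hg, hgj⟩)
  have hc24 : (Finset.univ : Finset GolayPt).card = 24 := by decide
  rw [card_A1f] at u1 l1
  rw [card_A2f, h3] at u2 l2
  rw [hc24] at u0 l0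
  omega

/-- the main statement -/
theorem main (t : G24) (ht : t ∈ M24) (h₂ : orderOf t = 2) (h₀ : ∀ p, t p ≠ p) :
    Nat.card {c : G24 // c ∈ M24 ∧ c * t = t * c} = 7680 ∧
    (∀ p q : GolayPt, ∃ c ∈ M24, c * t = t * c ∧ c p = q) ∧
    ∃ S ∈ sextets, t • S = S ∧ ∀ c ∈ M24, c * t = t * c → c • S = S := by
  obtain ⟨hgg, hne⟩ := M24Invol.of_order2 h₂
  rcases M24Invol.inv_class ht hgg hne with ⟨k, hk, hkz⟩ | ⟨k, hk, hkt⟩
  · exact absurd h₀ (M24Invol.not_fpf_of_conj_z0 hkz)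
  · obtain ⟨h, hh⟩ : ∃ h : G24, h = evalW gw * k := ⟨_, rfl⟩
    have hhM : h ∈ M24 := by rw [hh]; exact mul_mem (evalW_mem_M24 gw) hk
    have hconj : h * t * h⁻¹ = t1 := by
      rw [← t1_conj, ← hkt, hh]
      group
    have key : ∀ c : G24, (c ∈ M24 ∧ c * t = t * c) ↔ h * c * h⁻¹ ∈ K0 := by
      intro c
      rw [mem_K0, ← hconj]
      constructor
      · rintro ⟨hc, hct⟩
        refine ⟨mul_mem (mul_mem hhM hc) (inv_mem hhM), ?_⟩
        calc h * c * h⁻¹ * (h * t * h⁻¹) = h * (c * t) * h⁻¹ := by group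
          _ = h * (t * c) * h⁻¹ := by rw [hct]
          _ = h * t * h⁻¹ * (h * c * h⁻¹) := by group
      · rintro ⟨hc, hct⟩
        refine ⟨?_, ?_⟩
        · have : c = h⁻¹ * (h * c * h⁻¹) * h := by group
          rw [this]
          exact mul_mem (mul_mem (inv_mem hhM) hc) hhM
        · have e1 : c * t = h⁻¹ * (h * c * h⁻¹ * (h * t * h⁻¹)) * h := by group
          have e2 : t * c = h⁻¹ * (h * t * h⁻¹ * (h * c * h⁻¹)) * h := by group
          rw [e1, e2, hct]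
    refine ⟨?_, ?_, ?_⟩
    · rw [← card_K0]
      apply Nat.card_congr
      exact {
        toFun := fun c => ⟨h * c.1 * h⁻¹, (key c.1).1 c.2⟩
        invFun := fun d => ⟨h⁻¹ * d.1 * h, (key _).2 (by
          have : h * (h⁻¹ * d.1 * h) * h⁻¹ = d.1 := by group
          rw [this]
          exact d.2)⟩
        left_inv := fun c => Subtype.ext (by
          show h⁻¹ * (h * c.1 * h⁻¹) * h = c.1
          group)
        right_inv := fun d => Subtype.ext (by
          show h * (h⁻¹ * d.1 * h) * h⁻¹ = d.1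
          group) }
    · intro p q
      obtain ⟨d, hd, hdq⟩ := K0_trans (h p) (h q)
      have hd' : h * (h⁻¹ * d * h) * h⁻¹ ∈ K0 := by
        have : h * (h⁻¹ * d * h) * h⁻¹ = d := by group
        rw [this]
        exact hd
      obtain ⟨hc1, hc2⟩ := (key _).2 hd'
      refine ⟨h⁻¹ * d * h, hc1, hc2, ?_⟩
      rw [Equiv.Perm.mul_apply, Equiv.Perm.mul_apply, hdq]
      simp
    · refine ⟨h⁻¹ • objS m0, smul_mem_sextets (inv_mem hhM) (objS_mem sext_cert.2.2.2.2.1),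
        ?_, ?_⟩
      · have ht' : t = h⁻¹ * t1 * h := by rw [← hconj]; group
        rw [ht', mul_smul, mul_smul, smul_inv_smul, t1_fix]
      · intro c hc hct
        have hfix := K0_fix ((key c).1 ⟨hc, hct⟩)
        have hc' : c = h⁻¹ * (h * c * h⁻¹) * h := by group
        rw [hc', mul_smul, mul_smul, smul_inv_smul, hfix]

end Cfsg.Agent.Lib.Helper9.M24Cent
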