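import Mathlib
import Cfsg.Prelude.Def_Sporadic_a
import Cfsg.Agent.Lib.Helper9.M24Invol2
import Cfsg.Agent.Lib.Helper9.M24Ord3

set_option autoImplicit false

namespace Cfsg.Agent.Lib.Helper9.M24Comm

open Cfsg Cfsg.Agent.Lib.Helper1 Cfsg.Agent.Lib.Helper9.M24Enum
open scoped Pointwise

def tqs : List (List ℕ) := [[2, 1, 3, 3, 0, 3, 0, 4, 1, 1, 3],
    [2, 0, 3, 1, 3, 1, 3, 0, 3, 0, 4],
    [3, 2, 0, 3, 3, 0, 4, 0, 4, 0],
    [3, 0, 0, 0, 3, 3, 1, 4, 0, 0, 2, 1],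
    [4, 0, 3, 0, 0, 4, 0, 0, 4, 0, 2, 1],
    [0, 2, 1, 1, 4, 1, 4, 0, 4, 1, 3, 0, 0],
    [1, 4, 0, 0, 0, 3, 2, 1, 1, 1, 3, 0],
    [2, 1, 4, 4, 1, 3, 3, 2, 0, 4, 4, 2, 0],
    [0, 4, 2, 1, 3, 0, 3, 2, 0, 3, 2, 0, 0, 0],
    [0, 4, 4, 0, 3, 2, 0, 3, 0, 4, 0, 4],
    [0, 0, 2, 1, 4, 1, 3, 3, 0, 0, 3, 2],
    [1, 4, 0, 4, 1, 4, 1, 4, 2, 1, 3, 3, 1],
    [4, 1, 3, 1, 3, 3, 0, 4, 2, 0, 4, 1],
    [1, 4, 4, 1, 1, 2, 0, 3, 2, 1, 1, 3, 3],
    [3, 0, 0, 0, 2, 1, 3, 3, 0, 2]]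

abbrev L6 : List (Fin 24) := [23, 0, 1, 2, 3, 4]

theorem comm_cert : ∀ tq ∈ tqs, ∀ u ∈ fixWords, ∀ v ∈ vWords,
    (∀ i : Fin 24, evalT (tq ++ (u ++ v)) (evalT (tq ++ (u ++ v)) i) = i) →
    (∀ i : Fin 24, evalT (tq ++ (u ++ v)) (evalT M24Ord3.s0w i) =
      evalT M24Ord3.s0w (evalT (tq ++ (u ++ v)) i)) → False := by
  decide +kernel

def compat5 (a b c d e : Fin 24) : Prop :=
  ∀ p ∈ ([(23, a), (0, b), (1, c), (2, d), (3, e)] : List (Fin 24 × Fin 24)),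
    ∀ p' ∈ ([(23, a), (0, b), (1, c), (2, d), (3, e)] : List (Fin 24 × Fin 24)),
      p.2 = p'.1 → p'.2 = p.1

instance (a b c d e : Fin 24) : Decidable (compat5 a b c d e) := by
  unfold compat5
  infer_instance

def condP (a b c d e : Fin 24) : Prop :=
  ([a, b, c, d, e] : List (Fin 24)).Nodup ∧ a ≠ 23 ∧ b ≠ 0 ∧ c ≠ 1 ∧ d ≠ 2 ∧ e ≠ 3 ∧
    compat5 a b c d e

instance (a b c d e : Fin 24) : Decidable (condP a b c d e) := by
  unfold condP
  infer_instance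

def concl (a b c d e : Fin 24) : Prop :=
  ∃ tq ∈ tqs, evalT tq 23 = a ∧ evalT tq 0 = b ∧ evalT tq 1 = c ∧ evalT tq 2 = d ∧
      evalT tq 3 = e

instance (a b c d e : Fin 24) : Decidable (concl a b c d e) := by
  unfold concl
  infer_instance

theorem cover : ∀ a ∈ L6, ∀ b ∈ L6, ∀ c ∈ L6, ∀ d ∈ L6, ∀ e ∈ L6,
    condP a b c d e → concl a b c d e := by
  decide +kernel

/-- no fixed point free involution of `M24` commutes with `s0` -/
theorem no_fpf_comm {s : Equiv.Perm GolayPt} (hs : s ∈ M24) (hss : ∀ x, s (s x) = x)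
    (hfpf : ∀ p, s p ≠ p) (hc : ∀ p, s (M24Ord3.s0 p) = M24Ord3.s0 (s p)) : False := by
  -- table of s
  have hT : ∃ T : Fin 24 → Fin 24, HasTable s T := by
    refine ⟨fun i => (gpt_bij.surjective (s (gpt i))).choose, fun i => ?_⟩
    exact ((gpt_bij.surjective (s (gpt i))).choose_spec).symm
  obtain ⟨T, hT⟩ := hT
  have hTinj : Function.Injective T := by
    intro i j hij
    apply gpt_bij.injective
    apply s.injective
    rw [hT i, hT j, hij]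
  have hTT : ∀ i, T (T i) = i := by
    intro i
    apply gpt_bij.injective
    rw [← hT, ← hT, hss]
  have hTne : ∀ i, T i ≠ i := by
    intro i h
    apply hfpf (gpt i)
    rw [hT i, h]
  have hTL : ∀ i ∈ L6, T i ∈ L6 := by
    intro i hi
    have h1 : gpt i ∈ M24Ord3.fix6 := (M24Ord3.mem_fix6 i).2 hi
    have h2 : M24Ord3.s0 (s (gpt i)) = s (gpt i) := by
      rw [← hc, (M24Ord3.s0_fix _).2 h1]
    rw [M24Ord3.s0_fix, hT i, M24Ord3.mem_fix6] at h2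
    exact h2
  have hgen : ∀ i i' : Fin 24, T i = i' → T i' = i := by
    intro i i' h
    rw [← h, hTT]
  have hcompat : compat5 (T 23) (T 0) (T 1) (T 2) (T 3) := by
    intro p hp p' hp' h
    simp only [List.mem_cons, List.not_mem_nil, or_false] at hp hp'
    rcases hp with rfl | rfl | rfl | rfl | rfl <;>
      rcases hp' with rfl | rfl | rfl | rfl | rfl <;> exact hgen _ _ h
  have hnodup : ([T 23, T 0, T 1, T 2, T 3] : List (Fin 24)).Nodup := by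
    have : ([23, 0, 1, 2, 3] : List (Fin 24)).Nodup := by decide
    exact List.Nodup.map hTinj this
  obtain ⟨tq, htq, h23, h0, h1, h2, h3⟩ := cover (T 23) (hTL 23 (by decide)) (T 0)
    (hTL 0 (by decide)) (T 1) (hTL 1 (by decide)) (T 2) (hTL 2 (by decide)) (T 3)
    (hTL 3 (by decide)) ⟨hnodup, hTne 23, hTne 0, hTne 1, hTne 2, hTne 3, hcompat⟩
  have hbase : ∀ i ∈ ([23, 0, 1, 2, 3] : List (Fin 24)), s (gpt i) = gpt (evalT tq i) := by
    intro i hi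
    have hcases : i = 23 ∨ i = 0 ∨ i = 1 ∨ i = 2 ∨ i = 3 := by
      have hgen' : ∀ r : Fin 24, r ∈ ([23, 0, 1, 2, 3] : List (Fin 24)) →
          r = 23 ∨ r = 0 ∨ r = 1 ∨ r = 2 ∨ r = 3 := by decide
      exact hgen' i hi
    rcases hcases with rfl | rfl | rfl | rfl | rfl
    · rw [hT, h23]
    · rw [hT, h0]
    · rw [hT, h1]
    · rw [hT, h2]
    · rw [hT, h3]
  obtain ⟨u, hu, v, hv, hsuv⟩ := coset_enum hs tq hbase
  have hT' := evalW_table (tq ++ (u ++ v))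
  rw [← hsuv] at hT'
  apply comm_cert tq htq u hu v hv
  · intro i
    apply gpt_bij.injective
    rw [← hT', ← hT', hss]
  · intro i
    apply gpt_bij.injective
    have hs0 : ∀ j, M24Ord3.s0 (gpt j) = gpt (evalT M24Ord3.s0w j) := fun j =>
      evalW_table M24Ord3.s0w j
    rw [← hT', ← hs0, hc, hT', hs0]

end Cfsg.Agent.Lib.Helper9.M24Comm
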