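import Mathlib
import Cfsg.Prelude.Def_Sporadic_a
import Cfsg.Agent.Lib.Helper9.M24Comm

set_option autoImplicit false

namespace Cfsg.Agent.Lib.Helper9.M24Comm

open Cfsg Cfsg.Agent.Lib.Helper1 Cfsg.Agent.Lib.Helper9.M24Enum
open scoped Pointwise

theorem of_order3 {g : Equiv.Perm GolayPt} (h3 : orderOf g = 3) :
    (∀ x, g (g (g x)) = x) ∧ g ≠ 1 ∧ g ^ 3 = 1 := by
  have h := pow_orderOf_eq_one g
  rw [h3] at h
  refine ⟨?_, ?_, h⟩
  · intro x
    have := congrArg (fun f : Equiv.Perm GolayPt => f x) h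
    simpa [pow_succ, Equiv.Perm.mul_apply] using this
  · intro h'
    rw [h', orderOf_one] at h3
    omega

theorem fix_of_conj_s0 {g k : Equiv.Perm GolayPt} (h : k * g * k⁻¹ = M24Ord3.s0) :
    Finset.univ.filter (fun p => g p = p) = k⁻¹ • M24Ord3.fix6 := by
  ext p
  rw [Finset.mem_filter, Finset.mem_inv_smul_finset_iff, Equiv.Perm.smul_def, ← M24Ord3.s0_fix,
    ← h, M11Elusive.conj_apply]
  simp

theorem fix_of_fpf {g : Equiv.Perm GolayPt} (h : ∀ p, g p ≠ p) :
    Finset.univ.filter (fun p => g p = p) = ∅ := by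
  rw [Finset.filter_eq_empty_iff]
  intro p _
  exact h p

theorem fpf_of_conj_r0 {g k : Equiv.Perm GolayPt} (h : k * g * k⁻¹ = M24Ord3.r0) (p : GolayPt) :
    g p ≠ p := by
  intro hp
  apply M24Ord3.r0_fpf (k p)
  rw [← h, M11Elusive.conj_apply, hp]

theorem main (x s : Equiv.Perm GolayPt) (hx : x ∈ M24) (hs : s ∈ M24) (h₃ : orderOf x = 3)
    (h₂ : orderOf s = 2) (hc : Commute x s) :
    ((Finset.univ.filter fun p => x p = p).card = 6 ∧
      (Finset.univ.filter fun p => s p = p).card = 8) ∨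
    ((Finset.univ.filter fun p => x p = p).card = 0 ∧
      (Finset.univ.filter fun p => s p = p).card = 0) := by
  classical
  obtain ⟨hxxx, hxne, hx3⟩ := of_order3 h₃
  obtain ⟨hss, hsne⟩ := M24Invol.of_order2 h₂
  have hcomm : ∀ p, x (s p) = s (x p) := by
    intro p
    have := congrArg (fun f : Equiv.Perm GolayPt => f p) hc.eq
    simpa [Equiv.Perm.mul_apply] using this
  rcases M24Ord3.ord3_class hx hxxx hxne with ⟨k1, hk1, hkc1⟩ | ⟨k1, hk1, hkc1⟩
  · rcases M24Invol.inv_class hs hss hsne with ⟨k2, hk2, hkc2⟩ | ⟨k2, hk2, hkc2⟩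
    · left
      rw [fix_of_conj_s0 hkc1, M24Invol.fix_of_conj_z0 hkc2, Finset.card_smul_finset,
        Finset.card_smul_finset, M24Ord3.card_fix6]
      exact ⟨rfl, oct0_mem.2⟩
    · exfalso
      have hsfpf := M24Invol.fpf_of_conj_t0 hkc2
      apply no_fpf_comm (s := k1 * s * k1⁻¹) (mul_mem (mul_mem hk1 hs) (inv_mem hk1))
      · intro p
        simp only [Equiv.Perm.mul_apply, perm_inv_apply_self]
        rw [hss, perm_apply_inv_self]
      · intro p hp
        apply hsfpf (k1⁻¹ p)
        rw [Equiv.Perm.mul_apply, Equiv.Perm.mul_apply] at hp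
        apply k1.injective
        rw [hp, perm_apply_inv_self]
      · intro p
        rw [← hkc1]
        simp only [Equiv.Perm.mul_apply, perm_inv_apply_self]
        rw [hcomm]
  · have hxfpf := fpf_of_conj_r0 hkc1
    rcases M24Invol.inv_class hs hss hsne with ⟨k2, hk2, hkc2⟩ | ⟨k2, hk2, hkc2⟩
    · exfalso
      haveI : Fact (Nat.Prime 3) := ⟨Nat.prime_three⟩
      have hO : ∀ p, x p ∈ Finset.univ.filter (fun p => s p = p) ↔
          p ∈ Finset.univ.filter (fun p => s p = p) := by
        intro p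
        simp only [Finset.mem_filter, Finset.mem_univ, true_and]
        rw [← hcomm]
        exact ⟨fun h => x.injective h, fun h => by rw [h]⟩
      have hmod := M11Elusive.fix_mod hO hx3
      have h8 : (Finset.univ.filter (fun p => s p = p)).card = 8 := by
        rw [M24Invol.fix_of_conj_z0 hkc2, Finset.card_smul_finset]
        exact oct0_mem.2
      have h0 : ((Finset.univ.filter (fun p => s p = p)).filter (fun p => x p = p)) = ∅ := by
        rw [Finset.filter_eq_empty_iff]
        intro p _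
        exact hxfpf p
      rw [h8, h0, Finset.card_empty] at hmod
      revert hmod
      decide
    · right
      rw [fix_of_fpf hxfpf, fix_of_fpf (M24Invol.fpf_of_conj_t0 hkc2)]
      exact ⟨rfl, rfl⟩

end Cfsg.Agent.Lib.Helper9.M24Comm
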