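import Mathlib
import Cfsg.Prelude.Def_Sporadic_a
import Cfsg.Agent.Lib.Helper1.M24Count
import Cfsg.Agent.Lib.Helper1.M24OctFix

set_option autoImplicit false

namespace Cfsg.Agent.Lib.Helper9.M24Pairs

open Cfsg Cfsg.Agent.Lib.Helper1
open scoped Pointwise

/-- inverse letter -/
def invLetter : ℕ → ℕ
  | 0 => 1
  | 1 => 0
  | 2 => 2
  | 3 => 4
  | _ => 3

/-- inverse word -/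
def invWord (w : List ℕ) : List ℕ := (w.reverse).map invLetter

/-- representative octads (indices) for intersection sizes 0, 2, 4 with the base octad -/
def rep (k : ℕ) : ℕ := if k = 0 then 159 else if k = 2 then 19 else 185

/-- certificate: octad index (containing point 4) and a word fixing the base octad and
moving the octad to the representative -/
def certPairs : List (ℕ × List ℕ) := [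
  (19, []),
  (43, [0, 3, 0, 3, 0, 3, 1, 1, 3, 0]),
  (53, [1, 3, 1, 3, 1, 4, 1, 2, 0, 4]),
  (60, [0, 3, 1, 3, 3, 1, 3]),
  (85, [0, 4, 4, 0, 0, 0, 3, 1, 4]),
  (86, [2, 4, 0, 0, 2, 4, 0, 0, 3]),
  (118, [1, 2, 4, 1, 2, 3, 1, 3, 3, 0, 4]),
  (121, [3, 3, 1, 3, 3]),
  (135, [4, 1, 1, 1, 3, 3, 0, 3, 0]),
  (159, []),
  (164, [0, 4, 0, 0, 4, 1, 3, 1, 4]),
  (185, []),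
  (188, [1, 4, 1, 4, 1, 4]),
  (193, [0, 4, 0, 0, 3, 1, 3, 0, 0, 2]),
  (211, [1, 4, 1, 1, 1, 3, 0, 3, 3, 1]),
  (217, [0, 0, 3, 0, 3, 0, 3]),
  (238, [1, 4, 4, 0, 3, 0, 3, 0, 0]),
  (240, [1, 1, 1, 1, 4, 1, 1, 4]),
  (250, [3, 1, 1, 3, 3, 1, 3, 3, 1, 2]),
  (255, [3, 0, 0, 4, 0, 0, 4, 1]),
  (267, [0, 3, 0, 3, 0, 3, 1]),
  (270, [1, 3, 0, 3, 3, 1, 3, 3]),
  (289, [4, 0, 4, 1, 4, 4, 1, 1, 2, 4]),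
  (301, [1, 3, 0, 4, 4, 0, 3, 0, 4, 4]),
  (302, [1, 1, 1, 3, 0, 4, 4, 0, 3]),
  (304, [3, 0, 3, 0, 4, 0]),
  (327, [2, 1, 3, 3, 1, 1, 2, 3]),
  (328, [4, 4, 0, 4, 4]),
  (345, [0, 3, 1, 3, 3, 1, 3]),
  (371, [1, 4, 1, 1, 1, 4, 1, 3, 0, 0]),
  (386, [1, 3, 3, 1, 4, 0, 0, 0, 4, 4]),
  (391, [0, 0, 3, 1, 4, 4, 0, 0, 0, 0]),
  (397, [1, 3, 0, 4, 0, 4, 4, 0, 4, 1]),
  (417, [1, 4, 4, 1, 4, 1, 3, 1, 3, 3]),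
  (420, [1, 1, 4, 0, 3, 0, 0, 4, 1, 4]),
  (424, [0, 4, 0, 0, 3, 1, 4, 0, 3]),
  (438, [0, 2, 3, 1, 3, 0, 3, 3, 0, 2]),
  (449, [1, 1, 3, 1, 1, 1, 3, 1, 3]),
  (459, [1, 2, 0, 3, 1, 2, 0, 4, 0, 3, 0]),
  (476, [1, 1, 4, 0, 3, 0, 0, 0, 0]),
  (479, [3, 3, 1, 3, 1, 4, 1, 4, 1, 1]),
  (482, [4, 4, 0, 4, 4, 1, 4, 4, 0]),
  (484, [1, 3, 0]),
  (506, [0, 4, 1, 4, 0, 4, 0, 0, 2]),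
  (522, [1, 3, 3, 0]),
  (532, [1, 4, 1, 4, 1, 3, 3, 1, 1, 1, 4]),
  (536, [0, 4, 0, 0, 4, 0, 0, 3]),
  (547, [1, 4, 1, 4, 1, 3, 1, 4, 1, 3, 3]),
  (567, [1, 3, 1, 4, 0, 0, 3, 3]),
  (582, [4, 4, 0, 3, 0, 4, 4]),
  (585, [4, 0, 4, 4, 1, 3, 0, 3, 3]),
  (586, [4, 4, 0, 4, 4, 1, 3, 0]),
  (608, [4, 4, 1, 4, 0, 3, 3, 1, 3]),
  (617, [0, 3, 3, 0, 3, 3, 1, 1, 1]),
  (623, [3, 0, 0, 3, 1, 1, 4, 0, 2]),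
  (625, [0, 4, 1, 3, 1, 2, 4, 4, 0, 2]),
  (643, [1, 3, 0]),
  (652, [1, 3, 3, 1, 4, 1, 4]),
  (669, [1, 3, 1, 1, 1, 4, 0, 3, 3]),
  (677, [4, 4, 0, 4, 4, 1, 3, 0]),
  (690, [0, 4, 0, 0, 4, 0, 0, 3]),
  (699, [2, 3, 0, 4, 1, 4, 0, 3, 1, 2]),
  (709, [0, 0, 2, 1, 1, 1, 1, 4, 1, 4]),
  (714, [1, 4, 1, 4, 1, 3, 1, 3, 3]),
  (719, [4, 1, 1, 1, 3, 1, 4]),
  (741, [4, 0, 4, 4, 0, 0, 3, 0, 3, 1]),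
  (742, [1, 1, 4, 1, 4, 0, 0, 2, 1, 1]),
  (745, [3, 3, 1, 3, 3, 1, 4, 0]),
  (786, [3, 3, 1, 3, 3]),
  (788, [3, 0, 0, 0, 3, 3, 1, 4, 4, 0]),
  (815, [4, 4, 1, 3, 0, 0, 4, 1, 4]),
  (817, [4, 1, 1, 1, 3, 1, 4]),
  (827, [3, 0, 3, 1, 1, 4, 0, 3, 3]),
  (844, [4, 0, 0, 0, 2, 3, 1, 1]),
  (850, [2, 3, 0, 0, 0, 3, 1, 1, 2, 1]),
  (867, [4, 0, 3, 1, 1, 1, 2, 1]),
  (876, [4, 1, 1, 1, 3, 3, 0, 4, 4, 0]),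
  (893, [0, 3, 1, 1, 3, 0, 0, 3, 0, 4, 4]),
  (913, [4, 0, 4, 4, 0, 4, 1]),
  (926, [3, 1, 1, 4, 1, 1, 3, 1, 1]),
  (951, [0, 3, 0, 3, 0, 3, 1]),
  (952, [0, 3, 0, 0, 3, 3, 0, 3]),
  (957, [0, 0, 2, 1, 1]),
  (958, [4, 0, 0, 0, 2, 1, 1, 1, 3]),
  (960, [3, 0, 0, 0, 3, 3, 1, 4, 0]),
  (983, [1, 4, 1, 1, 4, 0, 4, 4, 0, 4]),
  (1012, [1, 1, 1, 3, 0, 3, 1, 1, 4, 1]),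
  (1019, [1, 1, 3, 3, 1, 3, 0, 3, 3, 1, 1]),
  (1043, [1, 1, 3, 1, 1, 1, 4, 0, 4, 1]),
  (1046, [3, 3, 1, 1, 1, 3, 0, 3, 0]),
  (1064, [2, 4, 0, 0, 2, 1, 1, 3, 1]),
  (1072, [1, 3, 3, 0, 4, 4, 0, 4, 4]),
  (1087, [4, 4, 1, 3, 0, 0, 0, 3, 3, 0]),
  (1089, [3, 3, 1, 1, 1, 1, 4, 1, 3, 0]),
  (1096, [4, 0, 0, 0, 3, 1, 1]),
  (1109, [0, 0, 2, 1, 3, 3, 0, 2, 1]),
  (1131, [1, 1, 1, 1, 4, 0, 0, 4, 4]),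
  (1134, [4, 0, 0, 4, 0, 3, 1, 4, 0, 4]),
  (1156, [1, 3, 3, 0]),
  (1178, [1, 4, 4, 1, 1, 1, 4, 0, 3, 3]),
  (1191, [4, 1, 1, 2, 4, 0, 2]),
  (1209, [1, 3, 1, 1, 3, 0, 3, 0, 0, 2, 3]),
  (1218, [4, 0, 4, 4, 0, 4, 1]),
  (1220, [1, 3, 1, 1, 1, 3, 0, 3, 3, 1]),
  (1229, [1, 4, 0, 3, 3, 1, 3, 3]),
  (1250, [4, 4, 1, 4, 0, 3, 3, 1, 3]),
  (1259, [2, 1, 1, 3, 1, 1, 3, 0, 2, 1]),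
  (1261, [1, 4, 1, 1, 3, 0, 4, 4, 0, 3]),
  (1294, [1, 1, 4, 1, 4, 1, 4, 0]),
  (1299, [4, 4, 0, 4, 4, 1, 4, 4, 0]),
  (1308, [1, 1, 3, 0, 0, 0, 0, 4]),
  (1325, [0, 0, 0, 4, 4, 0, 0, 0, 4, 1, 3]),
  (1331, [1, 1, 3, 1, 4, 1, 2, 0, 4]),
  (1333, [0, 3, 0, 4, 0, 4, 0, 0, 0, 4]),
  (1338, [4, 0, 2, 1, 3, 3, 1, 2, 0]),
  (1357, [3, 0, 0, 0, 3, 3]),
  (1360, [0, 3, 3, 0, 2, 1, 1, 3, 0]),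
  (1380, [4, 4, 1, 4, 1, 4, 4, 1, 2]),
  (1387, [0, 0, 3, 0, 3, 0, 3]),
  (1398, [4, 1, 1, 1, 4, 1, 1, 4, 1, 2]),
  (1430, [0, 3, 0, 0, 3, 1, 4, 1, 1]),
  (1433, [0, 4, 4, 1, 4, 4, 0, 0, 4, 4]),
  (1434, [3, 3, 1, 4, 1, 3, 3]),
  (1441, [1, 3, 1, 1, 1, 4, 0, 3, 3]),
  (1461, [1, 3, 0, 0, 0, 4, 1, 1, 1, 3]),
  (1471, [4, 4, 0, 4, 0, 0, 0, 3, 3]),
  (1480, [0, 3, 0, 0, 3, 1, 4, 1, 1]),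
  (1500, [0, 4, 0, 0, 4, 0, 0, 3]),
  (1505, [0, 4, 0, 3, 0, 4, 0, 3, 1, 1]),
  (1511, [0, 3, 1, 1, 3, 0, 0, 4, 4]),
  (1523, [1, 2, 0, 3, 1, 2, 0, 4, 0, 0]),
  (1535, [3, 0, 3, 0, 4, 0]),
  (1551, [4, 0, 4, 4, 0, 4, 1, 1, 4, 0]),
  (1565, [4, 4, 1, 3, 0, 0, 0, 3, 0]),
  (1574, [4, 4, 1, 3, 0, 0, 0, 3, 0]),
  (1577, [0, 2, 4, 1, 1, 1, 1, 2]),
  (1588, [1, 4, 4, 1, 4, 0, 0, 3, 3]),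
  (1591, [0, 2, 3, 3, 1, 1, 1]),
  (1603, [4, 4, 1, 1, 3, 0, 4, 4, 0]),
  (1617, [0, 2, 4, 1, 1, 1, 1, 2]),
  (1629, [0, 0, 0, 2, 4, 4, 1]),
  (1630, [1, 4, 1, 1, 3, 0, 4, 4, 0, 3]),
  (1637, [1, 1, 4, 1, 4, 1, 4, 0]),
  (1642, [4, 1, 1, 4, 0, 0, 4, 1, 3]),
  (1650, [4, 0, 4, 4, 0, 4, 1]),
  (1652, [3, 0, 0, 3, 0, 0, 0, 0]),
  (1688, [1, 4, 1, 4, 0, 0, 0, 4, 4]),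
  (1696, [2, 4, 4, 0, 0, 0, 4, 1, 2]),
  (1711, [0, 0, 0, 4, 0, 0, 0, 3, 1, 2]),
  (1713, [1, 1, 4, 1, 4]),
  (1726, [1, 1, 4, 1, 4, 1, 3, 0]),
  (1734, [0, 3, 1, 1, 3, 1, 1, 4]),
  (1752, [0, 4, 1, 3, 3, 0, 0, 2, 4]),
  (1755, [4, 4, 0, 4, 4, 1, 3, 0]),
  (1778, [3, 3, 1, 3, 0, 4, 4, 0, 4, 1]),
  (1789, [4, 0, 0, 4, 1, 3, 1, 3, 3, 1]),
  (1797, [4, 4, 1, 1, 3, 0, 3, 0]),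
  (1801, [1, 1, 4, 1, 3, 1, 3, 3]),
  (1815, [0, 3, 1, 3, 0, 2, 4, 1, 2, 0, 3]),
  (1830, [3, 3, 1, 1, 4, 4, 0, 4, 1, 1]),
  (1834, [2, 1, 1, 4, 4, 0, 3]),
  (1836, [1, 3, 0, 0, 3, 0, 0, 3, 3, 0, 3]),
  (1871, [4, 1, 4, 1, 4, 0, 2, 4, 4, 1]),
  (1873, [3, 0, 0, 3, 0, 0, 0, 0]),
  (1883, [2, 0, 3, 1, 2, 4, 1, 3, 3, 1]),
  (1888, [1, 3, 1, 1, 4, 0, 4, 4, 0, 4]),
  (1903, [1, 4, 0, 3, 3, 1, 3, 3]),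
  (1912, [1, 3, 1, 4, 1, 3, 3, 0, 4, 4]),
  (1920, [1, 1, 1, 1, 4, 1, 3, 0, 0]),
  (1925, [1, 1, 4, 1, 3, 3, 1, 1, 1, 4]),
  (1955, [4, 1, 1, 1, 3, 3, 0, 4, 0]),
  (1962, [3, 1, 1, 3, 0, 3, 0, 0, 0, 4]),
  (1981, [1, 1, 4, 1, 4, 1, 3, 3, 0]),
  (1987, [4, 0, 4, 4, 1, 3, 0, 3, 3]),
  (2007, [3, 3, 1, 3, 3, 1, 3, 3, 0]),
  (2040, [3, 3, 1, 1, 1, 3, 0, 3, 0]),
  (2075, [0, 4, 1, 1, 4, 1, 3, 1, 2]),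
  (2098, [2, 1, 3, 0, 0, 4, 0, 3, 3]),
  (2127, [2, 1, 1, 3, 3, 1, 4, 1, 1]),
  (2156, [1, 2, 0, 0, 0, 2, 0, 0, 4, 1]),
  (2162, [2, 0, 0, 3, 1, 1, 4, 0, 4]),
  (2205, [1, 2, 3, 0, 4, 4, 0, 2, 1, 3]),
  (2206, [2, 3, 3, 1, 4, 1, 4, 1, 3, 1]),
  (2264, [2, 0, 3, 3, 0, 3, 1, 3, 0, 3, 0]),
  (2295, [1, 4, 1, 1, 3, 0, 0, 0, 2]),
  (2313, [1, 2, 1, 3, 3, 0, 2, 1, 4, 4]),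
  (2327, [2, 4, 1, 1, 3, 3, 0, 3]),
  (2360, [0, 2, 1, 4, 4, 1]),
  (2373, [1, 1, 1, 1, 1, 4, 1, 2, 3, 3]),
  (2410, [1, 1, 3, 0, 3, 0, 0, 0, 2, 1]),
  (2430, [0, 2, 1, 4, 1, 1, 3, 1, 1, 4]),
  (2501, [2, 3, 3, 1, 4, 4, 1, 1, 3]),
  (2534, [3, 1, 1, 1, 3, 0, 0, 0, 2, 1]),
  (2573, [2, 4, 1, 1, 3, 1, 4, 1, 1]),
  (2606, [1, 1, 1, 1, 1, 1, 4, 0, 2]),
  (2646, [0, 4, 0, 0, 2, 1, 1, 2, 3]),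
  (2672, [2, 0, 0, 4, 0, 0, 4, 0, 4, 0]),
  (2690, [1, 4, 0, 4, 1, 1, 2, 4, 0, 2]),
  (2692, [2, 4, 4, 1, 1, 3, 3, 1, 4, 4]),
  (2731, [0, 2, 0, 3, 1, 3, 0, 0, 3, 3]),
  (2812, [0, 2, 1, 4, 0, 3, 0, 3, 1]),
  (2824, [0, 2, 1, 4, 0, 0, 4, 0, 0, 2]),
  (2867, [0, 2, 1, 4, 4, 0, 2, 1, 1]),
  (2891, [4, 0, 0, 4, 1, 2, 4, 0, 4]),
  (2901, [2, 1, 3, 0, 0, 0, 0, 0, 0]),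
  (2906, [2, 4, 1, 1, 3, 1, 2, 4, 1, 1]),
  (2933, [1, 3, 3, 0, 0, 2, 1, 4, 4, 1]),
  (2958, [3, 1, 3, 3, 0, 4, 1, 2, 4]),
  (2960, [3, 0, 0, 4, 1, 4, 4, 1, 2]),
  (2983, [4, 0, 4, 0, 4, 0, 4, 0, 2]),
  (3010, [2, 4, 1, 1, 4, 1, 4, 0, 0, 0]),
  (3036, [2, 1, 4, 0, 3, 1, 4, 0, 3, 1]),
  (3065, [3, 0, 4, 0, 2, 4, 0, 2]),
  (3078, [1, 2, 0, 0, 0, 2, 3, 0, 3, 3]),
  (3087, [2, 3, 3, 1, 4, 4, 1, 1, 3]),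
  (3109, [2, 1, 1, 4, 4, 0, 3]),
  (3113, [2, 1, 1, 1, 4, 1, 4, 1, 1, 4]),
  (3148, [2, 1, 1, 1, 4, 0, 0, 0]),
  (3191, [2, 4, 0, 3, 0, 3, 0, 4]),
  (3210, [0, 3, 3, 0, 2, 1, 1, 3, 0]),
  (3235, [3, 3, 1, 3, 3, 0, 0, 2, 1, 1]),
  (3244, [2, 3, 1, 4, 1, 4, 4, 1, 1, 1]),
  (3284, [2, 3, 0, 3, 1, 4, 4, 0, 4]),
  (3291, [2, 1, 1, 3, 3, 1, 4, 1, 1]),
  (3296, [2, 1, 3, 1, 3, 1, 3, 1, 3]),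
  (3338, [0, 2, 4, 0, 0, 0, 0, 0, 3, 1]),
  (3348, [2, 4, 1, 1, 4, 1, 4, 0, 0, 3, 0]),
  (3410, [1, 3, 0, 0, 3, 3, 0, 2, 1]),
  (3453, [0, 0, 2, 3, 1, 4, 0, 4, 0, 2, 1]),
  (3474, [0, 2, 1, 4, 4, 0, 2, 1, 1]),
  (3537, [0, 2, 1, 1, 1, 1, 3, 1, 4, 1]),
  (3550, [2, 1, 1, 4, 0, 4, 1, 1, 3, 1]),
  (3576, [2, 3, 0, 3, 3, 0, 4, 4, 1, 3]),
  (3600, [3, 1, 3, 3, 0, 0, 3, 0, 2]),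
  (3667, [2, 0, 0, 4, 0, 0, 4, 0, 3, 0]),
  (3713, [0, 2, 1, 4, 0, 0, 4, 0, 0, 2]),
  (3734, [4, 1, 1, 2, 0, 0, 0, 0, 0, 0]),
  (3737, [1, 1, 1, 4, 0, 3, 0, 4, 1, 2]),
  (3770, [2, 1, 3, 0, 0, 4, 1, 1, 4]),
  (3807, [1, 1, 1, 1, 1, 3, 0, 3, 0, 0, 2]),
  (3836, [3, 1, 2, 3, 3, 1, 3, 3, 1]),
  (3868, [2, 1, 1, 4, 4, 0, 3]),
  (3918, [0, 3, 1, 4, 1, 4, 0, 3, 0, 2]),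
  (3944, [0, 2, 0, 3, 1, 3, 3, 0, 0]),
  (3958, [1, 2, 3, 0, 0, 0, 2, 3, 1, 1, 4]),
  (3972, [0, 2, 1, 4, 1, 3, 3, 1, 3]),
  (3979, [0, 2, 4, 4, 0, 0, 0, 0, 2, 4]),
  (3993, [2, 0, 3, 0, 0, 4, 4, 0, 0]),
  (4002, [3, 1, 2, 0, 3, 1, 1, 3, 1, 3]),
  (4039, [0, 0, 3, 0, 4, 0, 0, 2, 3]),
  (4065, [0, 2, 0, 3, 0, 3, 3, 0, 0, 2]),
  (4068, [2, 1, 1, 4, 1, 4, 0, 4, 1, 1, 4]),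
  (4078, [0, 2, 1, 4, 4, 1, 1, 3, 0])]

/-- the check performed on each certificate entry -/
def checkPair (p : ℕ × List ℕ) : Prop :=
  (∀ i : Fin 24, evalT p.2 (evalT (invWord p.2) i) = i) ∧
  pullMask (evalT (invWord p.2)) (combo 2503) = combo 2503 ∧
  pullMask (evalT (invWord p.2)) (combo p.1) = combo (rep (popc (combo p.1 &&& combo 2503)))

instance : DecidablePred checkPair := by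
  intro p
  unfold checkPair
  infer_instance

theorem cert_check : ∀ p ∈ certPairs, checkPair p := by
  decide +kernel

theorem cert_cover' : ∀ a < 64, ∀ b < 64, popc (combo (64 * a + b)) = 8 →
    (combo (64 * a + b)).testBit 4 = true → ∃ p ∈ certPairs, p.1 = 64 * a + b := by
  decide +kernel

theorem cert_cover (m : ℕ) (hm : m < 4096) (h8 : popc (combo m) = 8)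
    (h4 : (combo m).testBit 4 = true) : ∃ p ∈ certPairs, p.1 = m := by
  have h := cert_cover' (m / 64) (by omega) (m % 64) (by omega)
  have e : 64 * (m / 64) + m % 64 = m := by omega
  rw [e] at h
  exact h h8 h4

end Cfsg.Agent.Lib.Helper9.M24Pairs
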