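import Mathlib
import Cfsg.Prelude.Def_Sporadic_a
import Cfsg.Agent.Lib.Helper9.M24Pairs
import Cfsg.Agent.Lib.Helper9.M24Six
import Cfsg.Agent.S0360
import Cfsg.Agent.S0363
import Cfsg.Agent.S0367

set_option autoImplicit false

namespace Cfsg.Agent.Lib.Helper9.M24Pairs

open Cfsg Cfsg.Agent.Lib.Helper1
open scoped Pointwise

theorem octad_rep {o : Finset GolayPt} (ho : o ∈ octads) :
    ∃ m, m < 4096 ∧ popc (combo m) = 8 ∧ o = support₂ (wordOf m) := by
  obtain ⟨⟨w, hw, rfl⟩, hc⟩ := ho
  obtain ⟨m, hm, hwm⟩ := exists_combo_of_mem hw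
  have : w = wordOf m := mask_injective (by rw [hwm, mask_wordOf])
  subst this
  refine ⟨m, hm, ?_, rfl⟩
  rw [← mask_wordOf, ← card_support₂]
  exact hc

theorem smul_support_wordOf {g : Equiv.Perm GolayPt} {S : Fin 24 → Fin 24}
    (h : HasTable g⁻¹ S) (m m' : ℕ) (hm : pullMask S (combo m) = combo m') :
    g • support₂ (wordOf m) = support₂ (wordOf m') := by
  rw [← support₂_permWord]
  congr 1
  apply mask_injective
  rw [mask_permWord h, mask_wordOf, mask_wordOf, hm]

theorem evalW_inv_table (w : List ℕ) (h : ∀ i, evalT w (evalT (invWord w) i) = i) :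
    HasTable (evalW w)⁻¹ (evalT (invWord w)) := (evalW_table w).inv h

theorem oct0_eq : oct0 = support₂ (wordOf 2503) := rfl

theorem octad_unique5 {c c' : Finset GolayPt} (hc : c ∈ octads) (hc' : c' ∈ octads)
    (s : Finset GolayPt) (hs : s.card = 5) (h : s ⊆ c) (h' : s ⊆ c') : c = c' := by
  obtain ⟨u, _, huniq⟩ := (Cfsg.Agent.S0363.result).2 s hs
  rw [huniq c ⟨hc, h⟩, huniq c' ⟨hc', h'⟩]

theorem octad_eq_oct0 {c : Finset GolayPt} (hc : c ∈ octads)
    (h : ∀ j : Fin 5, gpt (base5 j) ∈ c) : c = oct0 := by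
  classical
  apply octad_unique5 hc oct0_mem (Finset.univ.image (fun k : Fin 5 => gpt (base5 k)))
  · rw [Finset.card_image_of_injective _
      (fun a b hab => M24Six.base5_inj (gpt_bij.injective hab))]
    simp
  · intro x hx
    obtain ⟨k, _, rfl⟩ := Finset.mem_image.mp hx
    exact h k
  · intro x hx
    obtain ⟨k, _, rfl⟩ := Finset.mem_image.mp hx
    rw [gpt_mem_oct0]
    exact M24Six.base5_bits _ (M24Six.base5_mem k)

theorem pair_trans {o o' : Finset GolayPt} (ho : o ∈ octads) (ho' : o' ∈ octads) (hne : o ≠ o') :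
    ∃ g ∈ M24, g • o = oct0 ∧ g • o' = support₂ (wordOf (rep (o ∩ o').card)) := by
  classical
  have hc : o.card = 8 := ho.2
  have hc' : o'.card = 8 := ho'.2
  obtain ⟨s, hso, hs5⟩ := Finset.exists_subset_card_eq (show 5 ≤ o.card by omega)
  have hx : ∃ x ∈ o', x ∉ o := by
    by_contra hcon
    push Not at hcon
    have hsub : o' ⊆ o := hcon
    exact hne (Finset.eq_of_subset_of_card_le hsub (by omega)).symm
  obtain ⟨x, hxo', hxo⟩ := hx
  let e5 : Fin 5 ≃ s := (Finset.equivFinOfCardEq hs5).symm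
  let f : Fin 6 → GolayPt := fun k => if h : k.val < 5 then (e5 ⟨k.val, h⟩ : GolayPt) else x
  have hf5 : ∀ j : Fin 5, f j.castSucc = (e5 j : GolayPt) := by
    intro j
    show (if h : (j.castSucc).val < 5 then (e5 ⟨(j.castSucc).val, h⟩ : GolayPt) else x) = _
    rw [dif_pos (by simp)]
    rfl
  have hf6 : f (Fin.last 5) = x := by
    show (if h : (Fin.last 5).val < 5 then (e5 ⟨(Fin.last 5).val, h⟩ : GolayPt) else x) = _
    rw [dif_neg (by simp)]
  have hfo : ∀ j : Fin 5, f j.castSucc ∈ o := fun j => by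
    rw [hf5]
    exact hso (e5 j).2
  have hfinj : Function.Injective f := by
    intro a b hab
    rcases Fin.eq_castSucc_or_eq_last a with ⟨i, rfl⟩ | rfl <;>
      rcases Fin.eq_castSucc_or_eq_last b with ⟨j, rfl⟩ | rfl
    · rw [hf5, hf5] at hab
      rw [e5.injective (Subtype.ext hab)]
    · rw [hf6] at hab
      exact absurd (hab ▸ hfo i) hxo
    · rw [hf6] at hab
      exact absurd (hab.symm ▸ hfo j) hxo
    · rfl
  obtain ⟨b, t, ht, htf⟩ := M24Six.normalize f hfinj
  have hb : b = false := by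
    by_contra hb
    have hb' : b = true := by simpa using hb
    obtain ⟨o'', ho'', hall⟩ := (M24Six.in_octad_iff f b t ht htf).mpr hb'
    have hss : s ⊆ o'' := by
      intro y hy
      obtain ⟨j, hj⟩ := e5.surjective ⟨y, hy⟩
      have := hall j.castSucc
      rw [hf5, hj] at this
      exact this
    have : o'' = o := octad_unique5 ho'' ho s hs5 hss hso
    apply hxo
    rw [← this, ← hf6]
    exact hall (Fin.last 5)
  subst hb
  have hto : t • o = oct0 := by
    apply octad_eq_oct0 (smul_mem_octads ht ho)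
    intro j
    have := htf j.castSucc
    rw [M24Six.tgt_castSucc] at this
    rw [← this, ← Equiv.Perm.smul_def]
    exact Finset.smul_mem_smul_finset (hfo j)
  have h4 : gpt 4 ∈ t • o' := by
    have := htf (Fin.last 5)
    rw [M24Six.tgt_last_false, hf6] at this
    rw [← this, ← Equiv.Perm.smul_def]
    exact Finset.smul_mem_smul_finset hxo'
  obtain ⟨m, hm, hm8, hCm⟩ := octad_rep (smul_mem_octads ht ho')
  have hbit : (combo m).testBit 4 = true := by
    rw [hCm] at h4
    exact (gpt_mem_support₂_wordOf m 4).mp h4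
  obtain ⟨p, hp, hpm⟩ := cert_cover m hm hm8 hbit
  obtain ⟨hinv, hfix0, hmove⟩ := cert_check p hp
  rw [hpm] at hmove
  have hT := evalW_inv_table p.2 hinv
  have hgM : evalW p.2 ∈ M24 := H0_le_M24 (evalW_mem p.2)
  have hk : popc (combo m &&& combo 2503) = (o ∩ o').card := by
    have h1 : (t • o' ∩ t • o).card = (o ∩ o').card := by
      rw [← Finset.smul_finset_inter, Finset.card_smul_finset, Finset.inter_comm]
    rw [← h1, hCm, hto, oct0_eq, card_inter_support₂, mask_wordOf, mask_wordOf]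
  refine ⟨evalW p.2 * t, mul_mem hgM ht, ?_, ?_⟩
  · rw [mul_smul, hto, oct0_eq]
    exact smul_support_wordOf hT 2503 2503 hfix0
  · rw [mul_smul, hCm, ← hk]
    exact smul_support_wordOf hT m _ hmove

end Cfsg.Agent.Lib.Helper9.M24Pairs
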