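import Mathlib
import Cfsg.Prelude.Def_Sporadic_a
import Cfsg.Agent.Lib.Helper9.M24Pairs2

set_option autoImplicit false

namespace Cfsg.Agent.Lib.Helper9.M24Pairs

open Cfsg Cfsg.Agent.Lib.Helper1
open scoped Pointwise

theorem orbit_octad {o : Finset GolayPt} (ho : o ∈ octads) :
    MulAction.orbit M24 o = octads := by
  ext c
  constructor
  · rintro ⟨g, rfl⟩
    exact smul_mem_octads g.2 ho
  · intro hc
    obtain ⟨g, hg⟩ := Cfsg.Agent.S0367.result o c ho hc
    exact ⟨g, hg⟩

theorem card_stab_octad {o : Finset GolayPt} (ho : o ∈ octads) :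
    Nat.card (MulAction.stabilizer M24 o) = 322560 := by
  have h := Subgroup.card_mul_index (MulAction.stabilizer M24 o)
  rw [MulAction.index_stabilizer, orbit_octad ho, Cfsg.Agent.S0360.result, card_M24] at h
  omega

theorem octads_meeting_oct0 (k : ℕ) :
    {o : Finset GolayPt | o ∈ octads ∧ (o ∩ oct0).card = k} =
      {b : Finset GolayPt | ∃ w ∈ golayCode, support₂ w = b ∧
        (popc (mask w) = 8 ∧ popc (mask w &&& combo 2503) = k)} := by
  ext o
  constructor
  · rintro ⟨⟨⟨w, hw, rfl⟩, hc⟩, hk⟩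
    refine ⟨w, hw, rfl, ?_, ?_⟩
    · rw [← card_support₂]; exact hc
    · rw [oct0_eq, card_inter_support₂, mask_wordOf] at hk
      exact hk
  · rintro ⟨w, hw, rfl, h8, hk⟩
    refine ⟨⟨⟨w, hw, rfl⟩, ?_⟩, ?_⟩
    · show (support₂ w).card = 8
      rw [card_support₂]; exact h8
    · rw [oct0_eq, card_inter_support₂, mask_wordOf]
      exact hk

theorem cnt_oct0_0 : (Finset.univ.filter (fun m : Fin 4096 =>
    popc (combo m.val) = 8 ∧ popc (combo m.val &&& combo 2503) = 0)).card = 30 := by
  decide +kernel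

theorem cnt_oct0_2 : (Finset.univ.filter (fun m : Fin 4096 =>
    popc (combo m.val) = 8 ∧ popc (combo m.val &&& combo 2503) = 2)).card = 448 := by
  decide +kernel

theorem cnt_oct0_4 : (Finset.univ.filter (fun m : Fin 4096 =>
    popc (combo m.val) = 8 ∧ popc (combo m.val &&& combo 2503) = 4)).card = 280 := by
  decide +kernel

theorem ncard_meeting {o : Finset GolayPt} (ho : o ∈ octads) :
    {c : Finset GolayPt | c ∈ octads ∧ (c ∩ o).card = 0}.ncard = 30 ∧
    {c : Finset GolayPt | c ∈ octads ∧ (c ∩ o).card = 2}.ncard = 448 ∧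
    {c : Finset GolayPt | c ∈ octads ∧ (c ∩ o).card = 4}.ncard = 280 := by
  obtain ⟨g, hg, rfl⟩ := exists_smul_oct0 ho
  refine ⟨?_, ?_, ?_⟩
  · rw [ncard_octads_meeting_smul hg, octads_meeting_oct0]
    exact (ncard_supports_filter
      (fun v => popc v = 8 ∧ popc (v &&& combo 2503) = 0)).trans cnt_oct0_0
  · rw [ncard_octads_meeting_smul hg, octads_meeting_oct0]
    exact (ncard_supports_filter
      (fun v => popc v = 8 ∧ popc (v &&& combo 2503) = 2)).trans cnt_oct0_2
  · rw [ncard_octads_meeting_smul hg, octads_meeting_oct0]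
    exact (ncard_supports_filter
      (fun v => popc v = 8 ∧ popc (v &&& combo 2503) = 4)).trans cnt_oct0_4

theorem inter_lt {o o' : Finset GolayPt} (ho : o ∈ octads) (ho' : o' ∈ octads) (hne : o ≠ o') :
    (o' ∩ o).card < 8 := by
  have hc : o.card = 8 := ho.2
  have hc' : o'.card = 8 := ho'.2
  by_contra hge
  have h8 : 8 ≤ (o' ∩ o).card := by omega
  have h1 : o' ∩ o = o := Finset.eq_of_subset_of_card_le Finset.inter_subset_right (by omega)
  have h2 : o' ∩ o = o' := Finset.eq_of_subset_of_card_le Finset.inter_subset_left (by omega)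
  exact hne (h1.symm.trans h2)

theorem orbit_stab {o o' : Finset GolayPt} (ho : o ∈ octads) (ho' : o' ∈ octads) (hne : o ≠ o') :
    MulAction.orbit (MulAction.stabilizer M24 o) o' =
      {c : Finset GolayPt | c ∈ octads ∧ (c ∩ o).card = (o' ∩ o).card} := by
  ext c
  constructor
  · rintro ⟨k, rfl⟩
    have hk : ((k : M24) : Equiv.Perm GolayPt) • o = o := k.2
    refine ⟨smul_mem_octads (k : M24).2 ho', ?_⟩
    show (((k : M24) : Equiv.Perm GolayPt) • o' ∩ o).card = _
    generalize ((k : M24) : Equiv.Perm GolayPt) = g at hk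
    have hgi : g • o' ∩ o = g • (o' ∩ o) := by rw [Finset.smul_finset_inter, hk]
    rw [hgi, Finset.card_smul_finset]
  · rintro ⟨hc, hk⟩
    have hne' : o ≠ c := by
      rintro rfl
      have := inter_lt ho ho' hne
      rw [← hk, Finset.inter_self, ho.2] at this
      exact absurd this (by norm_num)
    obtain ⟨g1, hg1, h1o, h1o'⟩ := pair_trans ho ho' hne
    obtain ⟨g2, hg2, h2o, h2c⟩ := pair_trans ho hc hne'
    have hkk : (o ∩ c).card = (o ∩ o').card := by
      rw [Finset.inter_comm o c, Finset.inter_comm o o']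
      exact hk
    rw [hkk] at h2c
    have hgo : (g2⁻¹ * g1) • o = o := by
      rw [mul_smul, h1o, ← h2o, inv_smul_smul]
    have hgo' : (g2⁻¹ * g1) • o' = c := by
      rw [mul_smul, h1o', ← h2c, inv_smul_smul]
    exact ⟨⟨⟨g2⁻¹ * g1, mul_mem (inv_mem hg2) hg1⟩, hgo⟩, hgo'⟩

theorem card_joint {o o' : Finset GolayPt} (ho : o ∈ octads) (ho' : o' ∈ octads) (hne : o ≠ o') :
    322560 = {c : Finset GolayPt | c ∈ octads ∧ (c ∩ o).card = (o' ∩ o).card}.ncard *
      Nat.card ↥(MulAction.stabilizer M24 o ⊓ MulAction.stabilizer M24 o') := by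
  have h := card_eq_ncard_orbit_mul (MulAction.stabilizer M24 o) o'
  rw [card_stab_octad ho, orbit_stab ho ho' hne] at h
  exact h

theorem joint_orders (o o' : Finset GolayPt) (ho : o ∈ octads) (ho' : o' ∈ octads) :
    ((o ∩ o').card = 0 →
      Nat.card ↥(MulAction.stabilizer M24 o ⊓ MulAction.stabilizer M24 o') = 10752) ∧
    ((o ∩ o').card = 4 →
      Nat.card ↥(MulAction.stabilizer M24 o ⊓ MulAction.stabilizer M24 o') = 1152) ∧
    ((o ∩ o').card = 2 →
      Nat.card ↥(MulAction.stabilizer M24 o ⊓ MulAction.stabilizer M24 o') = 720) := by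
  have hne : ∀ k, k < 8 → (o ∩ o').card = k → o ≠ o' := by
    rintro k hk h rfl
    rw [Finset.inter_self, ho.2] at h
    omega
  obtain ⟨n0, n2, n4⟩ := ncard_meeting ho
  refine ⟨fun h => ?_, fun h => ?_, fun h => ?_⟩
  · have hj := card_joint ho ho' (hne 0 (by norm_num) h)
    rw [Finset.inter_comm o' o, h, n0] at hj
    omega
  · have hj := card_joint ho ho' (hne 4 (by norm_num) h)
    rw [Finset.inter_comm o' o, h, n4] at hj
    omega
  · have hj := card_joint ho ho' (hne 2 (by norm_num) h)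
    rw [Finset.inter_comm o' o, h, n2] at hj
    omega

end Cfsg.Agent.Lib.Helper9.M24Pairs
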