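import Mathlib
import Cfsg.Prelude.Def_Sporadic_a
import Cfsg.Agent.Lib.Helper9.M24Pairs3
import Cfsg.Agent.S0352

set_option autoImplicit false

namespace Cfsg.Agent.Lib.Helper9.M24Pairs

open Cfsg Cfsg.Agent.Lib.Helper1
open scoped Pointwise

theorem k4_common : popc (combo 344) = 8 ∧ popc (combo 344 &&& combo 2503) = 0 ∧
    popc (combo 344 &&& combo 185) = 0 := by decide +kernel

theorem k2_path : popc (combo 159) = 8 ∧ popc (combo 1799) = 8 ∧
    popc (combo 159 &&& combo 2503) = 0 ∧ popc (combo 1799 &&& combo 159) = 0 ∧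
    popc (combo 1799 &&& combo 19) = 0 := by decide +kernel

theorem k2_nocommon' : ∀ a < 64, ∀ b < 64, popc (combo (64 * a + b)) = 8 →
    popc (combo (64 * a + b) &&& combo 2503) = 0 → popc (combo (64 * a + b) &&& combo 19) ≠ 0 := by
  decide +kernel

theorem k2_nocommon (m : ℕ) (hm : m < 4096) (h8 : popc (combo m) = 8)
    (h0 : popc (combo m &&& combo 2503) = 0) : popc (combo m &&& combo 19) ≠ 0 := by
  have h := k2_nocommon' (m / 64) (by omega) (m % 64) (by omega)
  have e : 64 * (m / 64) + m % 64 = m := by omega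
  rw [e] at h
  exact h h8 h0

theorem card_inter_wordOf (m m' : ℕ) :
    (support₂ (wordOf m) ∩ support₂ (wordOf m')).card = popc (combo m &&& combo m') := by
  rw [card_inter_support₂, mask_wordOf, mask_wordOf]

theorem card_inter_smul (g : Equiv.Perm GolayPt) (a b : Finset GolayPt) :
    (g • a ∩ g • b).card = (a ∩ b).card := by
  rw [← Finset.smul_finset_inter, Finset.card_smul_finset]

theorem disjoint_iff_card {a b : Finset GolayPt} : Disjoint a b ↔ (a ∩ b).card = 0 := by
  rw [Finset.disjoint_iff_inter_eq_empty, Finset.card_eq_zero]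

theorem ne_of_ne_card {o o' : Finset GolayPt} (ho : o ∈ octads) (h : (o ∩ o').card ≠ 8) :
    o ≠ o' := by
  rintro rfl
  rw [Finset.inter_self] at h
  exact h ho.2

theorem exists_common_of_four {o o' : Finset GolayPt} (ho : o ∈ octads) (ho' : o' ∈ octads)
    (h4 : (o ∩ o').card = 4) : ∃ c ∈ octads, Disjoint c o ∧ Disjoint c o' := by
  obtain ⟨g, hg, hgo, hgo'⟩ := pair_trans ho ho' (ne_of_ne_card ho (by omega))
  rw [h4] at hgo'
  have hrep : rep 4 = 185 := by decide
  rw [hrep] at hgo'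
  refine ⟨g⁻¹ • support₂ (wordOf 344), smul_mem_octads (inv_mem hg) (wordOf_mem_octads k4_common.1),
    ?_, ?_⟩
  · rw [disjoint_iff_card, ← card_inter_smul g, smul_inv_smul, hgo, oct0_eq, card_inter_wordOf]
    exact k4_common.2.1
  · rw [disjoint_iff_card, ← card_inter_smul g, smul_inv_smul, hgo', card_inter_wordOf]
    exact k4_common.2.2

theorem no_common_of_two {o o' : Finset GolayPt} (ho : o ∈ octads) (ho' : o' ∈ octads)
    (h2 : (o ∩ o').card = 2) : ¬ ∃ c ∈ octads, Disjoint c o ∧ Disjoint c o' := by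
  rintro ⟨c, hc, hco, hco'⟩
  obtain ⟨g, hg, hgo, hgo'⟩ := pair_trans ho ho' (ne_of_ne_card ho (by omega))
  rw [h2] at hgo'
  have hrep : rep 2 = 19 := by decide
  rw [hrep] at hgo'
  obtain ⟨m, hm, hm8, hcm⟩ := octad_rep (smul_mem_octads hg hc)
  have h0 : popc (combo m &&& combo 2503) = 0 := by
    rw [← card_inter_wordOf, ← hcm, ← oct0_eq, ← hgo, card_inter_smul]
    exact disjoint_iff_card.mp hco
  have h19 : popc (combo m &&& combo 19) = 0 := by
    rw [← card_inter_wordOf, ← hcm, ← hgo', card_inter_smul]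
    exact disjoint_iff_card.mp hco'
  exact k2_nocommon m hm hm8 h0 h19

theorem exists_path_of_two {o o' : Finset GolayPt} (ho : o ∈ octads) (ho' : o' ∈ octads)
    (h2 : (o ∩ o').card = 2) : ∃ c1 ∈ octads, ∃ c2 ∈ octads,
      Disjoint o c1 ∧ Disjoint c1 c2 ∧ Disjoint c2 o' := by
  obtain ⟨g, hg, hgo, hgo'⟩ := pair_trans ho ho' (ne_of_ne_card ho (by omega))
  rw [h2] at hgo'
  have hrep : rep 2 = 19 := by decide
  rw [hrep] at hgo'
  refine ⟨g⁻¹ • support₂ (wordOf 159),
    smul_mem_octads (inv_mem hg) (wordOf_mem_octads k2_path.1),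
    g⁻¹ • support₂ (wordOf 1799),
    smul_mem_octads (inv_mem hg) (wordOf_mem_octads k2_path.2.1), ?_, ?_, ?_⟩
  · rw [disjoint_iff_card, ← card_inter_smul g, smul_inv_smul, hgo, oct0_eq, Finset.inter_comm,
      card_inter_wordOf]
    exact k2_path.2.2.1
  · rw [disjoint_iff_card, ← card_inter_smul g, smul_inv_smul, smul_inv_smul, Finset.inter_comm,
      card_inter_wordOf]
    exact k2_path.2.2.2.1
  · rw [disjoint_iff_card, ← card_inter_smul g, smul_inv_smul, hgo', card_inter_wordOf]
    exact k2_path.2.2.2.2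

end Cfsg.Agent.Lib.Helper9.M24Pairs
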