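import Mathlib
import Cfsg.Prelude.Def_Sporadic_a
import Cfsg.Agent.Lib.Helper9.M24Graph

set_option autoImplicit false

namespace Cfsg.Agent.Lib.Helper9.M24Pairs

open Cfsg Cfsg.Agent.Lib.Helper1
open scoped Pointwise

theorem common_of_walk_two {V : Type*} {G : SimpleGraph V} {u v : V} (p : G.Walk u v)
    (hp : p.length = 2) : ∃ w, G.Adj u w ∧ G.Adj w v := by
  cases p with
  | nil => simp at hp
  | cons h p' =>
    cases p' with
    | nil => simp at hp
    | cons h' p'' =>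
      cases p'' with
      | nil => exact ⟨_, h, h'⟩
      | cons h'' p''' =>
        simp only [SimpleGraph.Walk.length_cons] at hp
        omega

theorem og_adj {u v : octads} : (blockGraph octads).Adj u v ↔
    u ≠ v ∧ Disjoint (u : Finset GolayPt) (v : Finset GolayPt) := by
  unfold blockGraph
  rw [SimpleGraph.fromRel_adj]
  constructor
  · rintro ⟨h, h1 | h1⟩
    · exact ⟨h, h1⟩
    · exact ⟨h, h1.symm⟩
  · rintro ⟨h, h1⟩
    exact ⟨h, Or.inl h1⟩

theorem adj_of_disjoint {c c' : Finset GolayPt} (hc : c ∈ octads) (hc' : c' ∈ octads)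
    (h : Disjoint c c') : (blockGraph octads).Adj ⟨c, hc⟩ ⟨c', hc'⟩ := by
  rw [og_adj]
  refine ⟨?_, h⟩
  intro heq
  have h1 : c = c' := congrArg Subtype.val heq
  subst h1
  rw [disjoint_self, Finset.bot_eq_empty] at h
  have := hc.2
  rw [h] at this
  simp at this

theorem dist_facts (o o' : Finset GolayPt) (ho : o ∈ octads) (ho' : o' ∈ octads) (hne : o ≠ o') :
    (blockGraph octads).Reachable ⟨o, ho⟩ ⟨o', ho'⟩ ∧
    ((o ∩ o').card = 0 → (blockGraph octads).dist ⟨o, ho⟩ ⟨o', ho'⟩ = 1) ∧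
    ((o ∩ o').card = 4 → (blockGraph octads).dist ⟨o, ho⟩ ⟨o', ho'⟩ = 2) ∧
    ((o ∩ o').card = 2 → (blockGraph octads).dist ⟨o, ho⟩ ⟨o', ho'⟩ = 3) := by
  have hne' : (⟨o, ho⟩ : octads) ≠ ⟨o', ho'⟩ := fun h => hne (congrArg Subtype.val h)
  have hnadj : (o ∩ o').card ≠ 0 → ¬ (blockGraph octads).Adj ⟨o, ho⟩ ⟨o', ho'⟩ := by
    intro h hadj
    rw [og_adj] at hadj
    exact h (disjoint_iff_card.mp hadj.2)
  have h0 : (o ∩ o').card = 0 → (blockGraph octads).Adj ⟨o, ho⟩ ⟨o', ho'⟩ := fun h =>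
    adj_of_disjoint ho ho' (disjoint_iff_card.mpr h)
  have h4 : (o ∩ o').card = 4 → ∃ p : (blockGraph octads).Walk ⟨o, ho⟩ ⟨o', ho'⟩,
      p.length = 2 := by
    intro h
    obtain ⟨c, hc, hco, hco'⟩ := exists_common_of_four ho ho' h
    exact ⟨SimpleGraph.Walk.cons (adj_of_disjoint ho hc hco.symm)
      (SimpleGraph.Walk.cons (adj_of_disjoint hc ho' hco') SimpleGraph.Walk.nil), rfl⟩
  have h2 : (o ∩ o').card = 2 → ∃ p : (blockGraph octads).Walk ⟨o, ho⟩ ⟨o', ho'⟩,
      p.length = 3 := by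
    intro h
    obtain ⟨c1, hc1, c2, hc2, d1, d2, d3⟩ := exists_path_of_two ho ho' h
    exact ⟨SimpleGraph.Walk.cons (adj_of_disjoint ho hc1 d1)
      (SimpleGraph.Walk.cons (adj_of_disjoint hc1 hc2 d2)
        (SimpleGraph.Walk.cons (adj_of_disjoint hc2 ho' d3) SimpleGraph.Walk.nil)), rfl⟩
  have hreach : (blockGraph octads).Reachable ⟨o, ho⟩ ⟨o', ho'⟩ := by
    rcases Cfsg.Agent.S0352.result (by rw [Fintype.card_option, ZMod.card])
      Cfsg.Agent.S0363.result ho ho' hne with h | h | h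
    · exact (h0 h).reachable
    · obtain ⟨p, _⟩ := h2 h
      exact ⟨p⟩
    · obtain ⟨p, _⟩ := h4 h
      exact ⟨p⟩
  refine ⟨hreach, ?_, ?_, ?_⟩
  · intro h
    exact SimpleGraph.dist_eq_one_iff_adj.mpr (h0 h)
  · intro h
    obtain ⟨p, hp⟩ := h4 h
    have hle := SimpleGraph.dist_le p
    have hlt := hreach.one_lt_dist_of_ne_of_not_adj hne' (hnadj (by omega))
    omega
  · intro h
    obtain ⟨p, hp⟩ := h2 h
    have hle := SimpleGraph.dist_le p
    have hlt := hreach.one_lt_dist_of_ne_of_not_adj hne' (hnadj (by omega))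
    have hne2 : (blockGraph octads).dist ⟨o, ho⟩ ⟨o', ho'⟩ ≠ 2 := by
      intro hd
      obtain ⟨q, hq⟩ := hreach.exists_walk_length_eq_dist
      rw [hd] at hq
      obtain ⟨w, hw1, hw2⟩ := common_of_walk_two q hq
      rw [og_adj] at hw1 hw2
      exact no_common_of_two ho ho' h ⟨w.1, w.2, hw1.2.symm, hw2.2⟩
    omega

theorem graph_main (o o' : Finset GolayPt) (ho : o ∈ octads) (ho' : o' ∈ octads) (hne : o ≠ o') :
    (blockGraph octads).Connected ∧
    ((blockGraph octads).dist ⟨o, ho⟩ ⟨o', ho'⟩ = 1 ↔ (o ∩ o').card = 0) ∧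
    ((blockGraph octads).dist ⟨o, ho⟩ ⟨o', ho'⟩ = 2 ↔ (o ∩ o').card = 4) ∧
    ((blockGraph octads).dist ⟨o, ho⟩ ⟨o', ho'⟩ = 3 ↔ (o ∩ o').card = 2) := by
  obtain ⟨_, d0, d4, d2⟩ := dist_facts o o' ho ho' hne
  have htri := Cfsg.Agent.S0352.result (by rw [Fintype.card_option, ZMod.card])
      Cfsg.Agent.S0363.result ho ho' hne
  refine ⟨?_, ?_, ?_, ?_⟩
  · haveI : Nonempty octads := ⟨⟨oct0, oct0_mem⟩⟩
    rw [SimpleGraph.connected_iff]
    refine ⟨fun u v => ?_, inferInstance⟩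
    by_cases huv : u = v
    · rw [huv]
    · exact (dist_facts u.1 v.1 u.2 v.2 (fun h => huv (Subtype.ext h))).1
  · constructor
    · intro h
      rcases htri with h' | h' | h'
      · exact h'
      · have := d2 h'; omega
      · have := d4 h'; omega
    · exact d0
  · constructor
    · intro h
      rcases htri with h' | h' | h'
      · have := d0 h'; omega
      · have := d2 h'; omega
      · exact h'
    · exact d4
  · constructor
    · intro h
      rcases htri with h' | h' | h'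
      · have := d0 h'; omega
      · exact h'
      · have := d4 h'; omega
    · exact d2

end Cfsg.Agent.Lib.Helper9.M24Pairs
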