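import Mathlib
import Cfsg.Agent.Lib.Helper9.M24Six

set_option autoImplicit false

namespace Cfsg.Agent.Lib.Helper9.M24Six

open Cfsg Cfsg.Agent.Lib.Helper1 Cfsg.Agent.Lib.Helper9.M24Tools
open scoped Pointwise

theorem stab_iff {E : Finset GolayPt} (s : MulAction.stabilizer M24 E) (x : GolayPt) :
    ((s.1 : M24) : Equiv.Perm GolayPt) x ∈ E ↔ x ∈ E := by
  have hs : (s.1 : M24) • E = E := s.2
  have hs' : ((s.1 : M24) : Equiv.Perm GolayPt) • E = E := hs
  constructor
  · intro h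
    have h1 : ((s.1 : M24) : Equiv.Perm GolayPt) • x ∈
        ((s.1 : M24) : Equiv.Perm GolayPt) • E := by
      rw [hs']
      exact h
    exact (Finset.smul_mem_smul_finset_iff _).mp h1
  · intro h
    have h1 := Finset.smul_mem_smul_finset (a := ((s.1 : M24) : Equiv.Perm GolayPt)) h
    rw [hs'] at h1
    exact h1

/-- restriction of the setwise stabilizer to the set -/
def restr (E : Finset GolayPt) : (MulAction.stabilizer M24 E) →* Equiv.Perm E where
  toFun s := Equiv.Perm.subtypePerm ((s.1 : M24) : Equiv.Perm GolayPt) (stab_iff s)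
  map_one' := by
    apply Equiv.ext
    intro x
    rfl
  map_mul' := by
    intro a b
    apply Equiv.ext
    intro x
    rfl

theorem restr_apply {E : Finset GolayPt} (s : MulAction.stabilizer M24 E) (p : E) :
    ((restr E s p : E) : GolayPt) = ((s.1 : M24) : Equiv.Perm GolayPt) p := rfl

theorem smul_eq_of_maps {E : Finset GolayPt} {g : Equiv.Perm GolayPt}
    (h : ∀ p ∈ E, g p ∈ E) : g • E = E := by
  apply Finset.eq_of_subset_of_card_le
  · intro x hx
    obtain ⟨p, hp, rfl⟩ := Finset.mem_smul_finset.mp hx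
    exact h p hp
  · rw [Finset.card_smul_finset]

theorem restr_surjective {E : Finset GolayPt}
    (hsurj : ∀ σ : Equiv.Perm E, ∃ g ∈ M24, ∀ p : E, g p = σ p) :
    Function.Surjective (restr E) := by
  intro σ
  obtain ⟨g, hg, hgσ⟩ := hsurj σ
  have hstab : (⟨g, hg⟩ : M24) • E = E := by
    show g • E = E
    apply smul_eq_of_maps
    intro p hp
    rw [hgσ ⟨p, hp⟩]
    exact (σ ⟨p, hp⟩).2
  refine ⟨⟨⟨g, hg⟩, hstab⟩, ?_⟩
  apply Equiv.ext
  intro p
  apply Subtype.ext
  rw [restr_apply]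
  exact hgσ p

/-- the kernel of the restriction is the pointwise stabilizer -/
def kerEquiv (E : Finset GolayPt) :
    (restr E).ker ≃ {g : Equiv.Perm GolayPt // g ∈ M24 ∧ ∀ p ∈ E, g p = p} where
  toFun k := ⟨((k.1.1 : M24) : Equiv.Perm GolayPt), (k.1.1 : M24).2, fun p hp => by
    have h1 : restr E k.1 = 1 := k.2
    have h2 := congrArg (fun f : Equiv.Perm E => ((f ⟨p, hp⟩ : E) : GolayPt)) h1
    exact h2⟩
  invFun g := ⟨⟨⟨g.1, g.2.1⟩, by
      show g.1 • E = E
      apply smul_eq_of_maps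
      intro p hp
      rw [g.2.2 p hp]
      exact hp⟩, by
    rw [MonoidHom.mem_ker]
    apply Equiv.ext
    intro p
    apply Subtype.ext
    rw [restr_apply]
    exact g.2.2 p p.2⟩
  left_inv k := rfl
  right_inv g := rfl

theorem card_stab (E : Finset GolayPt) (hE : E.card = 6)
    (hsurj : ∀ σ : Equiv.Perm E, ∃ g ∈ M24, ∀ p : E, g p = σ p)
    (hker : Nat.card {g : Equiv.Perm GolayPt // g ∈ M24 ∧ ∀ p ∈ E, g p = p} = 3) :
    Nat.card (MulAction.stabilizer M24 E) = 2160 := by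
  have h1 := Subgroup.card_eq_card_quotient_mul_card_subgroup (restr E).ker
  have h2 : Nat.card ((MulAction.stabilizer M24 E) ⧸ (restr E).ker) = 720 := by
    rw [Nat.card_congr
      (QuotientGroup.quotientKerEquivOfSurjective (restr E) (restr_surjective hsurj)).toEquiv,
      Nat.card_eq_fintype_card, Fintype.card_perm, Fintype.card_coe, hE]
    rfl
  have h3 : Nat.card (restr E).ker = 3 := by
    rw [Nat.card_congr (kerEquiv E), hker]
  rw [h1, h2, h3]

/-- part (a), with the octad criterion -/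
theorem six_main (E : Finset GolayPt) (hE : E.card = 6) :
    ∃ b : Bool, ((∃ o ∈ octads, E ⊆ o) ↔ b = true) ∧
      (∀ σ : Equiv.Perm E, ∃ g ∈ M24, ∀ p : E, g p = σ p) ∧
      Nat.card {g : Equiv.Perm GolayPt // g ∈ M24 ∧ ∀ p ∈ E, g p = p} =
        Nat.card (fixL M24 (List.ofFn (tgt b))) := by
  classical
  let e : Fin 6 ≃ E := (Finset.equivFinOfCardEq hE).symm
  have hoct : ∀ τ : Equiv.Perm E, (∃ o ∈ octads, E ⊆ o) ↔
      (∃ o ∈ octads, ∀ k, ((τ (e k) : E) : GolayPt) ∈ o) := by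
    intro τ
    constructor
    · rintro ⟨o, ho, hEo⟩
      exact ⟨o, ho, fun k => hEo (τ (e k)).2⟩
    · rintro ⟨o, ho, hk⟩
      refine ⟨o, ho, fun p hp => ?_⟩
      have := hk (e.symm (τ.symm ⟨p, hp⟩))
      simpa using this
  have hinj : ∀ τ : Equiv.Perm E, Function.Injective (fun k => ((τ (e k) : E) : GolayPt)) := by
    intro τ a b hab
    exact e.injective (τ.injective (Subtype.ext hab))
  obtain ⟨b1, t1, ht1, h1⟩ := normalize _ (hinj 1)
  have hb1 := in_octad_iff _ b1 t1 ht1 h1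
  refine ⟨b1, (hoct 1).trans hb1, ?_, ?_⟩
  · intro σ
    obtain ⟨b2, t2, ht2, h2⟩ := normalize _ (hinj σ)
    have hb2 := in_octad_iff _ b2 t2 ht2 h2
    have hbb : b1 = b2 := by
      rw [Bool.eq_iff_iff]
      exact hb1.symm.trans ((hoct 1).symm.trans ((hoct σ).trans hb2))
    subst hbb
    refine ⟨t2⁻¹ * t1, mul_mem (inv_mem ht2) ht1, fun p => ?_⟩
    obtain ⟨k, rfl⟩ := e.surjective p
    rw [Equiv.Perm.mul_apply, Equiv.Perm.inv_eq_iff_eq]
    have e1 := h1 k
    have e2 := h2 k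
    simp only [Equiv.Perm.one_apply] at e1
    rw [e1, e2]
  · apply card_pointwise E _ t1 ht1
    · intro p hp
      obtain ⟨k, hk⟩ := e.surjective ⟨p, hp⟩
      refine ⟨tgt b1 k, (List.mem_ofFn).mpr ⟨k, rfl⟩, ?_⟩
      have e1 := h1 k
      simp only [Equiv.Perm.one_apply] at e1
      rw [hk] at e1
      exact e1
    · intro i hi
      obtain ⟨k, rfl⟩ := (List.mem_ofFn).mp hi
      refine ⟨(e k : GolayPt), (e k).2, ?_⟩
      have e1 := h1 k
      simp only [Equiv.Perm.one_apply] at e1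
      exact e1

theorem ofFn_true : List.ofFn (tgt true) = [23, 0, 1, 2, 3, 5] := by decide
theorem ofFn_false : List.ofFn (tgt false) = [23, 0, 1, 2, 3, 4] := by decide

theorem six_result (E : Finset GolayPt) (hE : E.card = 6) :
    (∀ σ : Equiv.Perm ↥E, ∃ g ∈ M24, ∀ p : ↥E, g p = σ p) ∧
    ((∃ o ∈ octads, E ⊆ o) →
      Nat.card {g : Equiv.Perm GolayPt // g ∈ M24 ∧ ∀ p ∈ E, g p = p} = 16) ∧
    ((¬ ∃ o ∈ octads, E ⊆ o) →
      Nat.card {g : Equiv.Perm GolayPt // g ∈ M24 ∧ ∀ p ∈ E, g p = p} = 3 ∧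
        Nat.card ↥(MulAction.stabilizer M24 E) = 2160) := by
  obtain ⟨b, hb, ha, hc⟩ := six_main E hE
  refine ⟨ha, ?_, ?_⟩
  · intro ho
    have : b = true := hb.mp ho
    subst this
    rw [hc, ofFn_true, card_fix6in]
  · intro ho
    have : b = false := by
      cases b
      · rfl
      · exact absurd (hb.mpr rfl) ho
    subst this
    have h3 : Nat.card {g : Equiv.Perm GolayPt // g ∈ M24 ∧ ∀ p ∈ E, g p = p} = 3 := by
      rw [hc, ofFn_false, card_fix6out]
    exact ⟨h3, card_stab E hE ha h3⟩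

end Cfsg.Agent.Lib.Helper9.M24Six
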