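import Mathlib
import Cfsg.Prelude.Def_Sporadic_a
import Cfsg.Agent.Lib.Helper9.M24Pairs3
import Cfsg.Agent.Lib.Helper9.M24Six2

set_option autoImplicit false

namespace Cfsg.Agent.Lib.Helper9.M24Pairs

open Cfsg Cfsg.Agent.Lib.Helper1
open scoped Pointwise

theorem fix_check : ∀ w ∈ fixWords, pullMask (evalT w) (combo 19) = combo 19 →
    ∀ i : Fin 24, evalT w i = i := by
  decide +kernel

theorem octFix_oct0_stab_rep2 {g : Equiv.Perm GolayPt} (hg : g ∈ octFix oct0)
    (hR : g • support₂ (wordOf 19) = support₂ (wordOf 19)) : g = 1 := by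
  obtain ⟨w, hw, rfl⟩ := exists_word_of_mem_octFix hg
  have hT : HasTable (evalW w)⁻¹ (evalT w) := (evalW_table w).inv (fixWords_ok.1 w hw).2
  rw [← support₂_permWord] at hR
  have h1 := support₂_injective hR
  have h2 : pullMask (evalT w) (combo 19) = combo 19 := by
    rw [← mask_wordOf 19, ← mask_permWord hT, h1]
  exact eq_one_of_hasTable_id (evalW_table w) (fix_check w hw h2)

theorem octFix_sdiff {o o' : Finset GolayPt} (ho' : o' ∈ octads)
    (hE : (o' \ o).card = 6) : octFix (o' \ o) = octFix o' := by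
  symm
  have hle : octFix o' ≤ octFix (o' \ o) := by
    intro g hg
    rw [mem_octFix] at hg ⊢
    exact ⟨hg.1, fun x hx => hg.2 x (Finset.sdiff_subset hx)⟩
  have h16 : Nat.card (octFix (o' \ o)) = 16 := by
    rw [← (M24Six.six_result (o' \ o) hE).2.1 ⟨o', ho', Finset.sdiff_subset⟩]
    exact Nat.card_congr (Equiv.subtypeEquivRight (fun g => mem_octFix))
  haveI : Finite (octFix (o' \ o)) := Nat.finite_of_card_ne_zero (by rw [h16]; norm_num)
  apply Subgroup.eq_of_le_of_card_ge hle
  rw [h16, (octFix_main o' ho').1]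

theorem joint_le {o o' : Finset GolayPt} :
    MulAction.stabilizer M24 o ⊓ MulAction.stabilizer M24 o' ≤
      MulAction.stabilizer M24 (o' \ o) := by
  intro j hj
  rw [Subgroup.mem_inf, MulAction.mem_stabilizer_iff, MulAction.mem_stabilizer_iff] at hj
  rw [MulAction.mem_stabilizer_iff, Finset.smul_finset_sdiff, hj.1, hj.2]

theorem joint_S6 (o o' : Finset GolayPt) (ho : o ∈ octads) (ho' : o' ∈ octads)
    (h₂ : (o ∩ o').card = 2) :
    Nonempty (↥(MulAction.stabilizer M24 o ⊓ MulAction.stabilizer M24 o') ≃*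
      Equiv.Perm (Fin 6)) := by
  classical
  have hne : o' ≠ o := by
    rintro rfl
    rw [Finset.inter_self, ho.2] at h₂
    omega
  have hE : (o' \ o).card = 6 := by
    have h1 := Finset.card_sdiff_add_card_inter o' o
    rw [Finset.inter_comm, h₂, ho'.2] at h1
    omega
  have h720 := (joint_orders o o' ho ho').2.2 h₂
  -- the restriction hom
  let ρ : ↥(MulAction.stabilizer M24 o ⊓ MulAction.stabilizer M24 o') →* Equiv.Perm ↥(o' \ o) :=
    (M24Six.restr (o' \ o)).comp (Subgroup.inclusion joint_le)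
  have hinj : Function.Injective ρ := by
    rw [injective_iff_map_eq_one]
    intro j hj
    have hjfix : ∀ p ∈ o' \ o, ((j.1 : M24) : Equiv.Perm GolayPt) p = p := by
      intro p hp
      have := congrArg (fun f : Equiv.Perm ↥(o' \ o) => ((f ⟨p, hp⟩ : ↥(o' \ o)) : GolayPt)) hj
      exact this
    have hjM : ((j.1 : M24) : Equiv.Perm GolayPt) ∈ M24 := (j.1 : M24).2
    have hjo : ((j.1 : M24) : Equiv.Perm GolayPt) • o = o := (Subgroup.mem_inf.mp j.2).1
    have hjF : ((j.1 : M24) : Equiv.Perm GolayPt) ∈ octFix o' := by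
      rw [← octFix_sdiff ho' hE, mem_octFix]
      exact ⟨hjM, hjfix⟩
    obtain ⟨t, ht, hto', hto⟩ := pair_trans ho' ho hne
    have hk : (o' ∩ o).card = 2 := by rw [Finset.inter_comm]; exact h₂
    rw [hk] at hto
    have hrep : rep 2 = 19 := by decide
    rw [hrep] at hto
    have h1 : t * ((j.1 : M24) : Equiv.Perm GolayPt) * t⁻¹ = 1 := by
      apply octFix_oct0_stab_rep2
      · rw [← hto', octFix_smul ht]
        exact ⟨_, hjF, rfl⟩
      · rw [← hto, mul_smul, mul_smul, inv_smul_smul, hjo]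
    have h2 : ((j.1 : M24) : Equiv.Perm GolayPt) = 1 := by
      have : ((j.1 : M24) : Equiv.Perm GolayPt) =
          t⁻¹ * (t * ((j.1 : M24) : Equiv.Perm GolayPt) * t⁻¹) * t := by group
      rw [this, h1]
      group
    apply Subtype.ext
    apply Subtype.ext
    exact h2
  haveI : Finite ↥(MulAction.stabilizer M24 o ⊓ MulAction.stabilizer M24 o') :=
    Nat.finite_of_card_ne_zero (by rw [h720]; norm_num)
  have hbij : Function.Bijective ρ := by
    apply hinj.bijective_of_nat_card_le
    rw [h720, Nat.card_eq_fintype_card, Fintype.card_perm, Fintype.card_coe, hE]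
    decide
  have e1 := MulEquiv.ofBijective ρ hbij
  have e2 : ↥(o' \ o) ≃ Fin 6 := Finset.equivFinOfCardEq hE
  exact ⟨e1.trans e2.permCongrHom⟩

end Cfsg.Agent.Lib.Helper9.M24Pairs
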