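import Mathlib
import Cfsg.Prelude.Def_Sporadic_a
import Cfsg.Prelude.Def_SporadicCombinatorics
import Cfsg.Agent.Lib.Helper9.M24S6
import Cfsg.Agent.Lib.Helper9.GolayAbs

set_option autoImplicit false

namespace Cfsg.Agent.Lib.Helper9.M24Pairs

open Cfsg Cfsg.Agent.Lib.Helper1
open scoped Pointwise

theorem joint_faithful (o o' : Finset GolayPt) (ho : o ∈ octads) (ho' : o' ∈ octads)
    (h₂ : (o ∩ o').card = 2) (j : M24)
    (hj : j ∈ MulAction.stabilizer M24 o ⊓ MulAction.stabilizer M24 o')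
    (hjfix : ∀ p ∈ o' \ o, (j : Equiv.Perm GolayPt) p = p) : j = 1 := by
  classical
  have hne : o' ≠ o := by
    rintro rfl
    rw [Finset.inter_self, ho.2] at h₂
    omega
  have hE : (o' \ o).card = 6 := by
    have h1 := Finset.card_sdiff_add_card_inter o' o
    rw [Finset.inter_comm, h₂, ho'.2] at h1
    omega
  have hjM : (j : Equiv.Perm GolayPt) ∈ M24 := j.2
  have hjo : (j : Equiv.Perm GolayPt) • o = o := (Subgroup.mem_inf.mp hj).1
  have hjF : (j : Equiv.Perm GolayPt) ∈ octFix o' := by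
    rw [← octFix_sdiff ho' hE, mem_octFix]
    exact ⟨hjM, hjfix⟩
  obtain ⟨t, ht, hto', hto⟩ := pair_trans ho' ho hne
  have hk : (o' ∩ o).card = 2 := by rw [Finset.inter_comm]; exact h₂
  rw [hk] at hto
  have hrep : rep 2 = 19 := by decide
  rw [hrep] at hto
  have h1 : t * (j : Equiv.Perm GolayPt) * t⁻¹ = 1 := by
    apply octFix_oct0_stab_rep2
    · rw [← hto', octFix_smul ht]
      exact ⟨_, hjF, rfl⟩
    · rw [← hto, mul_smul, mul_smul, inv_smul_smul, hjo]
  have h2 : (j : Equiv.Perm GolayPt) = 1 := by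
    have : (j : Equiv.Perm GolayPt) = t⁻¹ * (t * (j : Equiv.Perm GolayPt) * t⁻¹) * t := by group
    rw [this, h1]
    group
  exact Subtype.ext h2

theorem hexad_setup (d : Finset GolayPt) (hd : d ∈ dodecads) (C : Finset GolayPt)
    (hC : C ∈ hexadsOn d) :
    ∃ o o' : Finset GolayPt, o ∈ octads ∧ o' ∈ octads ∧ (o ∩ o').card = 2 ∧ o \ o' = C ∧
      o' \ o = d \ C ∧
      MulAction.stabilizer M24 d ⊓ MulAction.stabilizer M24 C =
        MulAction.stabilizer M24 o ⊓ MulAction.stabilizer M24 o' := by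
  classical
  obtain ⟨hC6, o, ho, hoC⟩ := hC
  obtain ⟨⟨wd, hwd, hwdd⟩, hd12⟩ := hd
  obtain ⟨⟨wo, hwo, hwoo⟩, ho8⟩ := id ho
  have ho'eq : support₂ (wo + wd) = (o \ d) ∪ (d \ o) := by
    rw [GolayAbs.supp_add, hwdd, hwoo]
  have ho'mem : (o \ d) ∪ (d \ o) ∈ octads := by
    rw [← ho'eq]
    refine ⟨⟨wo + wd, golayCode.add_mem hwo hwd, rfl⟩, ?_⟩
    have h1 := GolayAbs.card_supp_add wo wd
    rw [hwdd, hwoo, hoC, hC6, ho8, hd12] at h1
    omega
  have e1 : o ∩ ((o \ d) ∪ (d \ o)) = o \ d := by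
    ext x
    simp only [Finset.mem_inter, Finset.mem_union, Finset.mem_sdiff]
    tauto
  have e2 : o \ ((o \ d) ∪ (d \ o)) = C := by
    rw [← hoC]
    ext x
    simp only [Finset.mem_inter, Finset.mem_union, Finset.mem_sdiff]
    tauto
  have e3 : ((o \ d) ∪ (d \ o)) \ o = d \ C := by
    rw [← hoC]
    ext x
    simp only [Finset.mem_inter, Finset.mem_union, Finset.mem_sdiff]
    tauto
  have e4 : d = (o \ ((o \ d) ∪ (d \ o))) ∪ (((o \ d) ∪ (d \ o)) \ o) := by
    ext x
    simp only [Finset.mem_union, Finset.mem_sdiff]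
    tauto
  have hcard2 : (o ∩ ((o \ d) ∪ (d \ o))).card = 2 := by
    rw [e1]
    have h1 := Finset.card_sdiff_add_card_inter o d
    rw [hoC, hC6, ho8] at h1
    omega
  refine ⟨o, (o \ d) ∪ (d \ o), ho, ho'mem, hcard2, e2, e3, ?_⟩
  ext g
  simp only [Subgroup.mem_inf, MulAction.mem_stabilizer_iff]
  constructor
  · rintro ⟨hgd, hgC⟩
    have hgo : g • o = o := by
      obtain ⟨s, hsC, hs5⟩ := Finset.exists_subset_card_eq (show 5 ≤ C.card by omega)
      apply octad_unique5 (smul_mem_octads g.2 ho) ho s hs5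
      · intro x hx
        have hxC : x ∈ g • C := by rw [hgC]; exact hsC hx
        obtain ⟨y, hy, rfl⟩ := Finset.mem_smul_finset.mp hxC
        rw [← hoC] at hy
        exact Finset.smul_mem_smul_finset (Finset.mem_inter.mp hy).1
      · intro x hx
        have := hsC hx
        rw [← hoC] at this
        exact (Finset.mem_inter.mp this).1
    refine ⟨hgo, ?_⟩
    rw [Finset.smul_finset_union, Finset.smul_finset_sdiff, Finset.smul_finset_sdiff, hgo, hgd]
  · rintro ⟨hgo, hgo'⟩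
    constructor
    · conv_lhs => rw [e4]
      rw [Finset.smul_finset_union, Finset.smul_finset_sdiff, Finset.smul_finset_sdiff, hgo, hgo']
      exact e4.symm
    · rw [← e2, Finset.smul_finset_sdiff, hgo, hgo']

theorem hexad_main (d : Finset GolayPt) (hd : d ∈ dodecads) (C : Finset GolayPt)
    (hC : C ∈ hexadsOn d) :
    Nonempty (↥(MulAction.stabilizer M24 d ⊓ MulAction.stabilizer M24 C) ≃* Equiv.Perm (Fin 6)) ∧
    (∀ g ∈ MulAction.stabilizer M24 d ⊓ MulAction.stabilizer M24 C,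
      (∀ p ∈ C, ((g : ↥M24) : Equiv.Perm GolayPt) p = p) → g = 1) ∧
    ∀ g ∈ MulAction.stabilizer M24 d ⊓ MulAction.stabilizer M24 C,
      (∀ p ∈ d \ C, ((g : ↥M24) : Equiv.Perm GolayPt) p = p) → g = 1 := by
  obtain ⟨o, o', ho, ho', h2, hC', hdC, hJ⟩ := hexad_setup d hd C hC
  rw [hJ]
  refine ⟨joint_S6 o o' ho ho' h2, ?_, ?_⟩
  · intro g hg hfix
    rw [← hC'] at hfix
    exact joint_faithful o' o ho' ho (by rw [Finset.inter_comm]; exact h2) g
      (by rw [inf_comm]; exact hg) hfix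
  · intro g hg hfix
    rw [← hdC] at hfix
    exact joint_faithful o o' ho ho' h2 g hg hfix

end Cfsg.Agent.Lib.Helper9.M24Pairs
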