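import Mathlib
import Cfsg.Prelude.Def_Sporadic_a
import Cfsg.Agent.Lib.Helper9.M24Enum
import Cfsg.Agent.Lib.Helper9.FixCount

set_option autoImplicit false

namespace Cfsg.Agent.Lib.Helper9.M24Seven

open Cfsg Cfsg.Agent.Lib.Helper1 Cfsg.Agent.Lib.Helper9.M24Enum Cfsg.Agent.Lib.Helper9.FixCount

/-- a word for an element of order seven fixing the points 23, 0, 1 -/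
def s7w : List ℕ := [3, 1, 3, 1, 4, 0, 4, 0, 0, 4, 4, 3, 0, 4, 0, 0, 0, 4, 0, 3, 0, 4, 4]

def sT : Fin 24 → Fin 24 := ![0, 1, 3, 4, 5, 20, 10, 6, 18, 12, 21, 7, 16, 14, 11, 22, 17, 19, 9, 8, 15, 13, 2, 23]

theorem sT_eq : ∀ i : Fin 24, evalT s7w i = sT i := by decide +kernel

/-- coset representative words, with the exponent they are meant for -/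
def tqs : List (List ℕ × ℕ) := [
  ([], 1), ([4, 1, 4, 1, 4, 1], 2), ([1, 4, 4, 1, 1, 1, 4, 1, 3, 0, 0], 3), ([1, 4, 1, 3, 3, 0, 0, 3, 0, 3, 1], 4),
  ([0, 0, 0, 0, 0, 4, 0, 0, 0, 0, 3], 5), ([3, 1, 1, 4, 1, 1, 3, 0, 4, 4, 1], 6), ([3, 1, 3, 1, 4, 0, 4, 0, 0, 4, 4], 1), ([0, 3, 1, 3, 3, 1, 4, 0, 4, 4], 2),
  ([3, 0, 4, 4, 0, 0, 3, 0, 3, 1], 3), ([1, 1, 4, 0, 4, 4, 0, 4, 1], 4), ([4, 4, 1, 4, 0, 4, 4, 0, 3, 0], 5), ([3, 0, 3, 0, 3, 0], 6),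
  ([1, 3, 3, 0, 4, 4, 0, 4, 0, 0, 0], 1), ([3, 1, 1, 3, 3, 1, 3, 3, 1, 1, 4, 1], 2), ([3, 1, 1, 4, 0, 4, 4, 0, 4, 1, 3], 3), ([3, 0, 0, 4, 4, 0, 4, 1, 1, 3, 1], 4),
  ([0, 3, 1, 3, 3, 1, 3, 0, 0], 5), ([1, 3, 1, 1, 1, 3, 1, 3, 1, 3], 6), ([1, 3, 1, 4, 1, 3, 1, 1, 3, 3, 0, 4], 1), ([4, 0, 4, 0, 3, 0, 0, 3, 1, 4, 4], 2),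
  ([3, 3, 1, 3, 1, 4, 0, 3, 3, 0], 3), ([0, 4, 1, 4, 1, 1, 1, 3, 0, 3, 3], 4), ([3, 1, 1, 1, 3, 1, 3, 1, 4, 1], 5), ([4, 0, 0, 0, 3, 0, 3, 1, 1], 6),
  ([1, 1, 4, 1, 1, 4, 4, 1, 3, 1, 4], 1), ([0, 0, 4, 1, 4, 1, 1, 1, 3], 2), ([4, 0, 0, 4, 0, 0, 4, 0, 4, 0, 0, 0], 3), ([4, 2, 1, 4, 1, 4, 1, 3, 2], 4),
  ([4, 0, 3, 0, 3, 1, 4, 4, 0, 3], 5), ([1, 4, 0, 0, 3, 3, 0, 4, 4, 1], 6), ([2, 0, 0, 3, 0, 0, 4, 1, 3, 3, 0, 2], 1), ([4, 2, 0, 3, 3, 0, 3, 3, 1, 1, 2], 2),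
  ([3, 0, 0, 3, 0, 4, 0, 3, 0, 4, 1, 1], 3), ([1, 4, 1, 1, 3, 3, 1, 4, 0, 4], 4), ([1, 4, 4, 0, 0, 0, 3, 0, 0, 4, 0, 0], 5), ([0, 4, 0, 3, 1, 4, 4, 0, 3, 0], 6),
  ([1, 1, 4, 0, 0, 0, 4, 1, 3, 3, 0], 1), ([4, 0, 0, 3, 0, 0, 3, 3, 0, 0, 0], 2), ([0, 0, 0, 4, 4, 0, 0, 4, 1, 1, 3], 3), ([4, 2, 0, 4, 1, 3, 3, 0, 3, 1, 2], 4),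
  ([0, 3, 1, 4, 0, 4, 0, 4, 4, 1, 4], 5), ([3, 3, 1, 4, 1, 1, 1, 4, 0, 4, 1], 6), ([1, 1, 4, 0, 4, 0, 0, 0, 4, 4, 0, 0], 1), ([4, 1, 3, 1, 4, 4, 0, 3, 0, 3, 1, 1], 2),
  ([3, 1, 3, 0, 0, 3, 1, 1, 3, 1, 1], 3), ([4, 0, 0, 0, 4, 0, 3, 1, 3, 1], 4), ([1, 4, 4, 0, 4, 1, 3, 3, 0], 5), ([0, 4, 0, 0, 3, 0, 4, 0, 0, 3, 1], 6),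
  ([0, 3, 3, 0, 0, 0, 3, 1, 1, 3, 1], 1), ([3, 3, 1, 3, 1, 4, 1, 4, 0, 4, 4], 2), ([4, 1, 4, 0, 4, 1, 1, 1, 3, 1], 3), ([0, 3, 3, 1, 1, 3, 1, 1, 3, 0], 4),
  ([0, 4, 1, 3, 0, 4, 4, 1, 1, 1, 3, 1], 5), ([1, 3, 1, 1, 4, 1, 1, 4, 4, 0, 0], 6), ([0, 4, 0, 3, 1, 3, 3, 1, 4], 1), ([2, 0, 4, 0, 3, 0, 3, 3, 0, 3, 1, 2], 2),
  ([4, 0, 4, 0, 3, 1, 1, 3, 0, 3], 3), ([1, 1, 4, 0, 3, 0, 4, 0, 4, 4], 4), ([1, 1, 1, 3, 0, 3, 1, 4, 0, 3, 1, 1], 5), ([3, 3, 0, 4, 4, 1, 1, 4, 1, 4, 4], 6),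
  ([0, 4, 1, 1, 1, 3, 0, 3, 1, 1, 3, 0], 1), ([0, 4, 1, 1, 3, 0, 4, 1, 4, 0], 2), ([4, 1, 1, 4, 4, 0, 4], 3), ([1, 4, 0, 0, 0, 0, 3, 0, 3, 1, 4, 0], 4),
  ([4, 1, 1, 1, 4, 1, 3, 3, 0, 4], 5), ([3, 2, 1, 4, 1, 3, 1, 1, 1, 3, 1, 2], 6), ([3, 1, 1, 3, 1, 4, 0, 0, 0, 3, 0], 1), ([1, 1, 4, 0, 3, 0, 0, 4, 4, 0, 4, 1], 2),
  ([3, 0, 4, 4, 0, 4, 1, 3, 1], 3), ([3, 2, 0, 0, 4, 1, 1, 1, 3, 2], 4), ([1, 3, 3, 0, 3, 1, 4, 4, 0, 3, 1, 1], 5), ([4, 1, 4, 4, 1, 4, 0, 3, 1, 1], 6),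
  ([3, 3, 1, 1, 1, 3, 0, 3, 1, 1, 4, 0], 1), ([4, 0, 3, 1, 4, 0, 3, 1, 3, 1], 2), ([0, 0, 0, 0, 4, 0, 0, 0, 0, 3, 0], 3), ([1, 4, 4, 1, 1, 3, 3, 0, 3, 0, 0, 0], 4),
  ([0, 4, 1, 3, 0, 3, 0, 4, 0, 4, 1], 5), ([3, 1, 1, 3, 1, 4, 0, 0, 4, 1, 4], 6), ([1, 1, 4, 4, 0, 4, 4], 1), ([3, 1, 3, 1, 1, 3, 0, 0, 4, 0, 4, 0], 2),
  ([4, 1, 3, 1, 1, 1, 3, 1, 3, 1], 3), ([4, 1, 1, 4, 0, 4, 4, 0, 0, 3, 0], 4), ([2, 1, 1, 1, 4, 1, 3, 3, 0, 4, 2], 5), ([1, 1, 3, 1, 1, 3, 0, 4, 0, 3, 3, 1], 6),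
  ([4, 1, 1, 1, 3, 0, 0, 3, 3, 0, 0], 1), ([3, 3, 0, 3, 1, 4, 4, 0, 0, 4, 1, 1], 2), ([1, 3, 1, 3, 0, 3, 1, 3, 1, 3, 3], 3), ([0, 0, 3, 0, 4, 0, 0, 4, 4], 4),
  ([4, 1, 1, 3, 1, 1, 1, 4, 4, 1, 1, 4], 5), ([4, 0, 4, 0, 0, 4, 0, 4, 4, 1, 1], 6), ([2, 1, 1, 1, 3, 1, 4, 0, 0, 4, 2], 1), ([0, 3, 1, 4, 0, 4, 0, 4, 0, 3, 0], 2),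
  ([4, 4, 0, 4, 0, 4, 4, 0, 4, 4, 1], 3), ([0, 3, 1, 3, 3, 1, 1, 4, 0, 3, 3, 0], 4), ([4, 0, 0, 0, 0, 4, 1, 3], 5), ([1, 1, 3, 1, 4, 0, 0, 4, 1], 6),
  ([1, 3, 0, 3, 1, 4, 0, 0, 3, 1], 1), ([0, 4, 0, 4, 4, 0, 0, 3, 1, 1, 1, 3], 2), ([2, 0, 3, 3, 0, 3, 0, 0, 3, 0, 2], 3), ([4, 4, 0, 3, 0, 4, 4, 1, 3, 0, 0, 0], 4),
  ([3, 3, 0, 0, 4, 0, 3, 0, 3, 0, 4, 1], 5), ([0, 0, 4, 1, 3, 0, 3, 1, 4, 1], 6), ([0, 3, 0, 0, 0, 4, 1, 3, 1, 3], 1), ([1, 4, 0, 0, 3, 1, 1, 3, 1, 1, 1], 2),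
  ([1, 1, 4, 1, 3, 3, 0, 4, 1], 3), ([4, 1, 1, 4, 4, 0, 0, 3, 0, 3, 0], 4), ([0, 3, 0, 0, 3, 3, 0, 4, 0, 4, 1], 5), ([0, 3, 1, 3, 0, 0, 0, 4, 4, 0, 0], 6),
  ([4, 1, 4, 1, 1, 1, 3, 0, 4, 0, 0], 1), ([1, 4, 0, 0, 4, 0, 0, 4, 4, 1], 2), ([0, 4, 4, 1, 4, 1, 3, 0, 4, 0, 4], 3), ([1, 4, 1, 3, 1, 3, 1, 4, 0, 3, 0, 0], 4),
  ([4, 2, 1, 4, 1, 3, 0, 3, 3, 1, 1, 2], 5), ([1, 3, 0, 3, 3, 1, 4, 0, 0, 3, 3, 1], 6), ([4, 0, 0, 0, 3, 3, 0, 3, 1, 4, 1], 1), ([1, 1, 3, 3, 0, 0, 3, 0, 0, 4, 0], 2),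
  ([1, 4, 4, 0, 3, 1, 1, 1, 4, 0, 4, 4], 3), ([3, 3, 0, 4, 1, 1, 1, 1, 1, 4, 1], 4), ([4, 0, 0, 4, 4, 1, 4, 4, 1, 4], 5), ([1, 1, 4, 1, 1, 1, 4, 0, 4, 4, 1], 6),
  ([4, 0, 0, 4, 0, 0, 3, 1, 4, 4, 0], 1), ([4, 4, 1, 4, 0, 3, 3, 1, 4], 2), ([0, 3, 0, 4, 4, 1, 4, 0, 0, 0], 3), ([4, 2, 0, 0, 0, 3, 1, 1, 4, 2], 4),
  ([1, 3, 1, 3, 0, 0, 0, 0, 3, 0, 0], 5), ([1, 1, 4, 4, 0, 4, 0, 3, 0, 3, 0], 6), ([4, 0, 3, 0, 0, 0, 0, 3, 1, 1, 1, 3], 1), ([1, 1, 3, 0, 4, 4, 0, 4, 4], 2),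
  ([1, 3, 0, 3, 0, 0, 0, 3, 3], 3), ([2, 1, 4, 4, 2, 0, 0, 0, 3, 1, 2], 4), ([0, 2, 0, 0, 0, 3, 3, 0, 4, 0, 0, 2], 5), ([3, 3, 0, 0, 3, 0, 0, 3, 1, 4, 0], 6),
  ([3, 2, 1, 1, 1, 3, 0, 4, 4, 0, 2, 1], 1), ([1, 1, 4, 0, 0, 4, 1, 4, 1, 3, 3], 2), ([4, 4, 0, 3, 0, 4, 4, 0], 3), ([0, 4, 4, 1, 4, 4, 1, 1, 4, 0], 4),
  ([0, 0, 3, 3, 0, 3, 3, 1, 1, 4], 5), ([3, 0, 4, 1, 4, 0, 4, 1, 4, 0, 3, 0, 0], 6), ([0, 0, 0, 3, 0, 0, 0, 4, 4, 0], 1), ([3, 3, 1, 1, 4, 0, 0, 3, 3], 2),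
  ([3, 0, 3, 0, 3, 1, 1, 4, 0, 0], 3), ([4, 1, 4, 0, 4, 1, 4, 0, 0, 3, 0], 4), ([1, 1, 4, 0, 4, 4, 1, 3, 0, 0, 0, 0], 5), ([1, 4, 1, 4, 0, 0, 3, 0, 0, 0, 3], 6),
  ([1, 4, 1, 1, 3, 0, 3, 1, 3, 0, 3], 1), ([4, 0, 3, 0, 0, 3, 3, 1, 3, 1], 2), ([1, 2, 0, 3, 0, 3, 0, 2, 1, 1, 3, 0], 3), ([3, 0, 0, 0, 0, 4, 0, 3, 0, 4, 0], 4),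
  ([3, 0, 3, 1, 3, 0, 3, 1, 1, 4, 1], 5), ([0, 4, 4, 0, 4, 0, 0, 0, 4, 0, 3, 0], 6), ([2, 1, 3, 1, 4, 4, 1, 1, 4, 2, 1], 1), ([3, 0, 3, 3, 0, 4, 4, 0, 0, 3, 0, 0], 2),
  ([1, 3, 1, 4, 4, 1, 1, 1], 3), ([4, 1, 3, 1, 1, 1, 4, 1, 1, 4, 1, 3], 4), ([4, 0, 0, 4, 1, 4, 0, 4, 1, 3, 1], 5), ([1, 4, 4, 1, 1, 4, 1, 1, 1, 4, 0], 6),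
  ([1, 1, 1, 4, 4, 0, 0, 3, 3, 0], 1), ([3, 1, 4, 4, 0, 0, 0, 4, 1, 4, 1, 1], 2), ([3, 1, 4, 0, 4, 1, 3, 0, 0, 0, 4], 3), ([0, 2, 1, 1, 1, 4, 0, 0, 0, 2], 4),
  ([0, 0, 3, 0, 4, 1, 1, 4, 0], 5), ([2, 1, 1, 3, 0, 0, 0, 0, 4, 4, 2, 1], 6), ([4, 1, 1, 3, 1, 3, 0, 3, 0], 1), ([0, 2, 1, 1, 3, 0, 0, 0, 0, 2], 2),
  ([4, 4, 1, 1, 4, 1, 3, 0, 0, 0, 0, 4], 3), ([3, 0, 0, 3, 0, 3, 3, 1, 4, 4], 4), ([4, 1, 4, 0, 4, 0, 3, 3, 1, 3, 0, 3], 5), ([4, 0, 0, 3, 0, 3, 3, 0, 4, 1], 6),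
  ([4, 4, 1, 1, 4, 4, 0, 3, 3, 1], 1), ([4, 1, 3, 0, 3, 0, 4, 1, 4, 4], 2), ([0, 0, 0, 3, 3, 0, 4, 0], 3), ([3, 1, 1, 1, 3, 0, 4, 0, 0, 4, 0], 4),
  ([0, 0, 0, 3, 0, 3, 3, 0, 3, 3], 5), ([4, 4, 0, 4, 4, 1, 1, 4, 1, 1], 6), ([4, 4, 1, 4, 4, 1, 4, 1, 1, 1], 1), ([4, 0, 0, 3, 0, 0, 0, 0, 3, 3, 0], 2),
  ([3, 0, 4, 1, 1, 1, 1, 4, 4, 0], 3), ([1, 3, 1, 4, 4, 0, 3, 3, 1, 3, 0], 4), ([3, 1, 4, 1, 3, 0, 4, 4, 0, 0, 0, 0], 5), ([3, 0, 0, 4, 1, 3, 1, 4, 1, 1, 4, 0, 0], 6),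
  ([0, 3, 3, 1, 3, 0, 4, 1, 1, 3], 1), ([4, 2, 0, 0, 4, 0, 0, 3, 0, 2, 1], 2), ([0, 0, 3, 1, 3, 3, 0, 4, 0, 0], 3), ([2, 1, 1, 1, 1, 4, 0, 0, 2, 1], 4),
  ([0, 0, 3, 1, 3, 1, 1, 3, 3], 5), ([1, 3, 1, 3, 0, 0, 4, 1, 1, 3], 6), ([3, 1, 3, 1, 3, 1, 3, 1, 4, 4, 0], 1), ([0, 0, 3, 1, 3, 0, 3, 3, 1, 3, 0, 0], 2),
  ([1, 1, 4, 1, 1, 3, 0, 4, 0, 3], 3), ([4, 4, 1, 3, 1, 1, 1, 1, 4, 0, 3, 0], 4), ([0, 4, 1, 1, 3, 1, 1, 4, 0, 4], 5), ([4, 1, 1, 4, 0, 0, 0, 4, 1, 4, 0], 6),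
  ([4, 0, 0, 0, 3, 1, 1, 3, 3, 1], 1), ([0, 4, 1, 1, 3, 3, 1, 1, 3, 1, 1], 2), ([4, 0, 3, 1, 1, 3, 0, 3, 3, 0, 4, 1], 3), ([3, 0, 4, 0, 4, 4, 0, 4, 0, 3], 4),
  ([3, 1, 1, 3, 0, 4, 4, 1, 3, 3], 5), ([0, 4, 4, 0, 0, 3, 0, 3, 3, 0, 3], 6), ([1, 4, 4, 0, 4, 1, 1, 1, 3, 3, 0, 0, 0], 1), ([1, 1, 3, 0, 4, 0, 0, 3, 3, 0], 2),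
  ([3, 1, 4, 1, 1, 1, 4, 1, 1, 1, 4, 1], 3), ([3, 1, 4, 1, 1, 1, 4, 1, 1, 3, 0, 3], 4), ([0, 4, 0, 0, 0, 4, 1, 3, 1, 1, 4, 1], 5), ([3, 1, 3, 0, 0, 4, 0, 0, 3, 1], 6),
  ([4, 0, 0, 3, 1, 1, 4, 0, 4, 0], 1), ([3, 0, 0, 0, 3, 0, 0, 0, 3], 2), ([1, 3, 3, 1, 4, 0, 0, 0, 0, 3, 0, 3], 3), ([1, 1, 1, 4, 0, 0], 4),
  ([0, 4, 1, 1, 1, 1, 3, 0, 3, 3, 1], 5), ([4, 0, 0, 0, 4, 0, 4, 1, 1, 4, 1, 3], 6), ([1, 3, 3, 1, 4, 1, 3, 1, 4, 1, 4, 1], 1), ([1, 3, 0, 0, 0, 4, 4, 0, 3, 0, 0, 0], 2),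
  ([0, 0, 3, 1, 3, 3, 0, 0, 3, 0, 0, 0], 3), ([4, 0, 3, 3, 0, 3, 0, 0, 4, 0, 0, 0], 4), ([0, 4, 4, 0, 0, 4, 4, 0, 3, 1, 3, 1], 5), ([1, 4, 0, 4, 4, 1, 3, 3, 0, 4, 0], 6),
  ([1, 4, 1, 3, 0, 4, 0, 3, 1, 4, 4, 0, 0], 1), ([0, 4, 4, 1, 1, 1, 3, 0, 0, 0, 3], 2), ([3, 3, 0, 3, 0, 4, 1, 1, 4], 3), ([4, 0, 0, 3, 0, 0, 4, 0, 4, 4], 4),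
  ([3, 0, 0, 4, 0, 0, 3], 5), ([3, 1, 3, 1, 4, 1, 3, 1, 1, 3, 3], 6), ([1, 4, 1, 3, 3, 0, 3, 0, 4, 0, 4, 0], 1), ([4, 1, 1, 3, 0, 3, 3, 1, 4, 0], 2),
  ([0, 0, 4, 4, 0, 3, 0, 0, 4, 0, 3], 3), ([3, 3, 0, 3, 0, 4, 1, 3, 0, 3, 0], 4), ([0, 3, 0, 4, 0, 0, 4, 0, 0, 4, 0], 5), ([4, 1, 1, 3, 1, 1, 4], 6),
  ([0, 3, 3, 2, 1, 4, 0, 3, 3, 1, 4, 2], 1), ([0, 2, 1, 3, 1, 4, 4, 1, 1, 2], 2), ([1, 4, 4, 1, 3, 0, 3, 1, 4, 0, 0], 3), ([0, 3, 0, 4, 4, 1, 4, 4, 0, 0], 4),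
  ([4, 1, 1, 1, 3, 0, 4, 0, 0, 3, 3], 5), ([2, 1, 3, 0, 0, 4, 0, 0, 3, 2, 1], 6), ([1, 4, 1, 1, 1, 1, 1, 4, 4, 1], 1), ([4, 0, 3, 3, 0, 4, 0, 4, 1, 4, 4], 2),
  ([1, 4, 0, 3, 0, 3, 1, 1, 1, 4, 1, 1], 3), ([1, 3, 0, 0, 4, 1, 4, 1, 4, 0], 4), ([3, 0, 3, 1, 1, 1, 1, 4, 4, 1], 5), ([1, 1, 1, 3, 0, 0, 3, 0, 0, 4, 0], 6),
  ([1, 1, 4, 4, 1, 1, 1, 4, 0], 1), ([4, 1, 1, 4, 1, 4, 1, 3, 0, 0, 4, 1], 2), ([4, 0, 3, 0, 3, 1, 1, 3, 0, 4, 4], 3), ([1, 3, 0, 0, 3, 3, 1, 1, 1, 1, 1, 4], 4),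
  ([4, 4, 0, 4, 0, 4, 0, 4, 1, 1, 3], 5), ([1, 3, 1, 3, 0, 0, 3, 0, 4, 0, 3], 6), ([3, 1, 3, 3, 1, 3, 1, 4, 0], 1), ([1, 3, 0, 3, 0, 3, 1, 1, 4, 0], 2),
  ([4, 1, 4, 0, 4, 1, 4, 0, 4, 1, 4], 3), ([0, 4, 1, 1, 1, 4, 4, 1, 1, 3, 0, 4, 0], 4), ([1, 3, 1, 1, 4, 4, 1, 1, 1, 1, 1, 3], 5), ([4, 0, 4, 1, 3, 1, 3, 0, 0, 3, 0], 6),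
  ([4, 4, 2, 0, 3, 0, 3, 3, 0, 4, 1, 1], 1), ([1, 3, 3, 0, 4, 0, 3, 3, 1, 2], 2), ([1, 4, 0, 0, 4, 4, 1, 1, 4, 4, 1, 3, 2], 3), ([4, 2, 1, 4, 1, 4, 0, 4, 0, 4, 1, 4], 4),
  ([4, 2, 1, 1, 3, 0, 0, 0, 0, 3, 3], 5), ([0, 4, 0, 0, 0, 4, 1, 1, 1, 1, 3, 2], 6), ([1, 3, 1, 3, 0, 0, 3, 0, 4, 4, 1, 4, 2], 1), ([2, 0, 3, 0, 4, 0, 3, 3, 1, 4, 0, 0], 2),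
  ([4, 0, 3, 0, 0, 3, 3, 1, 3, 2], 3), ([3, 2, 1, 4, 1, 3, 0, 3, 0, 0, 3, 0], 4), ([2, 1, 1, 3, 0, 4, 0, 0, 0, 3], 5), ([2, 0, 0, 0, 0, 4, 4, 1, 1, 1, 1, 3, 0], 6),
  ([1, 4, 4, 0, 0, 3, 3, 0, 3, 3, 1, 2], 1), ([0, 3, 0, 0, 0, 3, 1, 3, 1, 3, 1, 2], 2), ([2, 1, 4, 0, 0, 3, 0, 0, 3, 0, 0], 3), ([4, 4, 0, 0, 4, 0, 0, 3, 0, 3, 3, 2], 4),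
  ([4, 2, 0, 4, 4, 1, 1, 4, 1, 3], 5), ([2, 0, 4, 4, 0, 3, 0, 0, 4, 0, 3], 6), ([0, 4, 4, 2, 0, 3, 0, 4, 4, 0, 2, 1], 1), ([4, 4, 2, 1, 1, 1, 1, 4, 0, 0, 3], 2),
  ([4, 2, 1, 1, 4, 1, 3, 1, 4, 4, 1], 3), ([1, 1, 3, 3, 0, 3, 1, 4, 0, 3, 1, 2], 4), ([2, 1, 3, 3, 2, 0, 4, 4, 1, 3, 0, 2, 1], 5), ([2, 0, 0, 0, 4, 1, 4, 4, 1], 6),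
  ([4, 4, 2, 0, 0, 4, 0, 4, 1, 3], 1), ([4, 1, 1, 3, 0, 0, 0, 0, 3, 3, 2], 2), ([3, 1, 4, 4, 0, 0, 0, 0, 3, 3, 2], 3), ([3, 1, 3, 3, 1, 4, 0, 0, 0, 3, 3, 2], 4),
  ([4, 1, 3, 3, 1, 4, 4, 0, 0, 0, 2], 5), ([1, 3, 3, 0, 0, 0, 0, 3, 1, 4, 0, 2], 6), ([3, 3, 0, 3, 0, 4, 1, 1, 4, 0, 2], 1), ([1, 1, 1, 1, 4, 0, 0, 4, 2], 2),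
  ([4, 4, 1, 1, 4, 4, 0, 3, 3, 2], 3), ([4, 0, 0, 3, 0, 3, 3, 0, 4, 2], 4), ([0, 4, 4, 1, 4, 4, 1, 1, 4, 0, 0, 2], 5), ([1, 1, 1, 3, 3, 1, 3, 1, 4, 1, 2], 6),
  ([4, 0, 3, 1, 2, 0, 0, 4, 0, 4, 2, 0], 1), ([1, 1, 1, 3, 3, 0, 4, 4, 0, 2], 2), ([4, 0, 4, 1, 1, 3, 3, 0, 4, 4, 1, 2], 3), ([1, 3, 1, 1, 2, 1, 1, 1, 2, 0, 3, 1], 4),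
  ([3, 3, 1, 3, 3, 1, 4, 0, 0, 0, 2], 5), ([1, 3, 1, 4, 0, 0, 4, 1, 3, 3, 0, 2], 6), ([3, 2, 0, 0, 3, 0, 0, 3, 0, 0, 0, 4], 1), ([4, 0, 2, 1, 4, 4, 0, 4, 2, 0, 3, 1], 2),
  ([2, 1, 4, 0, 0, 3, 0, 4, 0, 3, 3, 0], 3), ([1, 3, 3, 1, 4, 4, 0, 0, 0, 4, 4, 2], 4), ([2, 0, 0, 3, 1, 3, 1, 1, 3, 3, 0, 4], 5), ([2, 0, 0, 0, 0, 3, 1, 4, 0, 0, 4, 0], 6),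
  ([1, 3, 3, 1, 4, 1, 3, 3, 0, 2], 1), ([4, 4, 2, 1, 1, 1, 3, 0, 0, 0, 3], 2), ([4, 0, 3, 0, 4, 1, 4, 0, 0, 4, 1, 2], 3), ([2, 0, 0, 0, 0, 4, 0, 0, 3, 1, 1, 4], 4),
  ([3, 3, 1, 1, 3, 0, 0, 0, 0, 3, 2], 5), ([1, 4, 0, 3, 3, 1, 3, 1, 4, 1, 4, 1, 2], 6), ([3, 2, 0, 0, 4, 1, 4, 0, 0, 3, 0], 1), ([2, 1, 4, 4, 0, 3, 0, 4, 4, 0], 2),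
  ([3, 2, 1, 1, 4, 0, 4, 1, 1], 3), ([3, 2, 1, 3, 3, 0, 3, 3, 1, 1, 4, 0, 0], 4), ([4, 4, 2, 1, 1, 4, 0, 3, 0, 4, 0], 5), ([3, 2, 0, 0, 4, 4, 1, 3, 1, 3, 0, 3], 6),
  ([0, 0, 4, 1, 4, 2, 0, 0, 4, 0, 4, 2, 0], 1), ([4, 2, 1, 1, 1, 4, 4, 1, 1, 3, 0, 4, 0], 2), ([1, 4, 1, 1, 1, 1, 1, 4, 4, 2], 3), ([0, 0, 4, 1, 1, 1, 1, 4, 1, 4, 1, 2], 4),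
  ([4, 2, 1, 4, 0, 4, 0, 3, 0, 0, 3, 0], 5), ([1, 4, 1, 1, 3, 1, 1, 3, 2], 6), ([2, 1, 4, 0, 0, 3, 0, 3, 3, 0, 4, 1], 1), ([0, 0, 4, 1, 1, 1, 3, 3, 2], 2),
  ([3, 0, 3, 3, 1, 4, 4, 0, 0, 3, 1, 2], 3), ([3, 0, 3, 1, 1, 3, 3, 0, 4, 0, 3, 2], 4), ([2, 0, 3, 1, 1, 1, 3, 0, 3, 1, 4, 4, 0], 5), ([3, 2, 1, 3, 1, 3, 1, 3, 1, 1, 4, 1], 6),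
  ([3, 0, 0, 4, 0, 0, 3, 0, 2], 1), ([4, 2, 1, 4, 1, 3, 0, 4, 0, 4, 0], 2), ([2, 1, 3, 1, 3, 0, 4, 1, 1, 3, 1], 3), ([0, 3, 2, 0, 0, 4, 0, 0, 3, 2, 1], 4),
  ([4, 0, 0, 4, 1, 3, 1, 4, 0, 2], 5), ([3, 3, 1, 4, 0, 3, 3, 1, 4, 2], 6), ([2, 0, 4, 4, 1, 4, 4, 1, 1, 3, 3, 0], 1), ([4, 2, 1, 4, 0, 0, 0, 0, 3, 1, 3], 2),
  ([2, 0, 0, 4, 4, 0, 4, 0, 4, 4, 1], 3), ([0, 0, 3, 1, 3, 1, 1, 3, 3, 0, 2], 4), ([3, 2, 0, 3, 1, 1, 3, 1, 4, 0], 5), ([4, 2, 1, 4, 4, 0, 4, 1, 1, 4, 1, 1], 6),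
  ([3, 2, 0, 3, 3, 1, 4, 0, 0, 3, 0, 0], 1), ([3, 3, 2, 1, 3, 0, 4, 1, 1, 3], 2), ([0, 2, 1, 1, 1, 4, 0, 0, 2, 1], 3), ([2, 0, 3, 1, 4, 0, 3, 0, 0, 3, 1, 3, 0], 4),
  ([4, 1, 1, 4, 0, 4, 1, 1, 3, 2], 5), ([2, 1, 1, 3, 0, 0, 0, 3, 3, 0, 0], 6), ([1, 3, 1, 3, 0, 0, 4, 1, 1, 3, 0, 2], 1), ([4, 1, 1, 1, 1, 3, 1, 4, 1, 4, 4, 2], 2),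
  ([1, 1, 1, 3, 1, 1, 1, 4, 0, 4, 2], 3), ([1, 4, 1, 4, 0, 4, 0, 0, 3, 0, 2], 4), ([0, 4, 4, 0, 0, 4, 1, 1, 1, 3, 0, 2], 5), ([2, 1, 1, 4, 4, 1, 1, 3, 3, 0, 0, 0], 6),
  ([2, 1, 4, 4, 1, 1, 3, 3, 1, 4, 1, 1], 1), ([3, 1, 4, 0, 4, 0, 3, 0, 4, 1, 2], 2), ([3, 3, 2, 1, 1, 4, 0, 3, 0, 4, 0, 3], 3), ([4, 2, 1, 1, 1, 1, 3, 0, 3, 3, 1], 4),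
  ([4, 4, 2, 1, 3, 1, 4, 0, 0, 0, 0, 0], 5), ([1, 4, 1, 1, 1, 4, 0, 0, 3, 0, 4, 2], 6), ([2, 0, 0, 4, 4, 0, 0, 0, 0, 3, 0, 0], 1), ([4, 1, 1, 1, 4, 1, 1, 1, 4, 0, 2], 2),
  ([2, 1, 1, 1, 1, 4, 4, 0, 0, 3, 3, 0], 3), ([3, 2, 1, 3, 0, 0, 3, 3, 1, 4, 4, 0], 4), ([0, 2, 1, 3, 0, 0, 0, 0, 4, 4, 2, 1], 5), ([3, 2, 0, 4, 1, 3, 1, 3, 0, 0, 4, 0, 4], 6),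
  ([2, 0, 3, 1, 1, 3, 1, 4, 4, 1, 4, 1], 1), ([2, 1, 3, 0, 0, 4, 4, 1, 4, 4, 1, 1], 2), ([3, 2, 1, 4, 4, 0, 3, 1, 4, 0, 0], 3), ([0, 0, 0, 0, 4, 1, 4, 4, 2], 4),
  ([4, 4, 0, 4, 4, 1, 1, 4, 1, 2], 5), ([0, 4, 4, 0, 4, 0, 0, 4, 4, 1, 3, 3, 2], 6), ([1, 1, 4, 1, 1, 4, 1, 1, 3, 0, 2], 1), ([3, 0, 4, 0, 3, 1, 1, 3, 0, 2], 2),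
  ([2, 1, 4, 1, 3, 3, 1, 3, 0, 4, 4], 3), ([2, 1, 4, 0, 0, 0, 3, 1, 1, 3, 3, 1], 4), ([0, 4, 0, 4, 4, 1, 1, 4, 1, 3, 0, 2], 5), ([2, 0, 4, 4, 1, 1, 1, 3, 1, 1, 3], 6),
  ([1, 4, 1, 1, 4, 1, 4, 0, 3, 0, 4, 2], 1), ([3, 1, 4, 4, 1, 1, 4, 0, 2], 2), ([0, 2, 1, 3, 1, 4, 4, 1, 1, 1, 2, 1], 3), ([4, 0, 3, 0, 0, 4, 4, 0, 3, 0, 3, 2], 4),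
  ([3, 3, 0, 3, 3, 0, 3, 0, 4, 1, 2], 5), ([2, 1, 1, 1, 3, 0, 4, 4, 0, 4, 4], 6), ([1, 4, 4, 1, 4, 4, 0, 4, 1, 2, 1], 1), ([3, 2, 0, 3, 0, 0, 3, 1, 1, 1, 1, 3], 2),
  ([4, 1, 4, 4, 1, 4, 4, 0, 4, 1, 3, 2, 1], 3), ([4, 2, 1, 1, 3, 0, 3, 3, 1, 1, 1, 4], 4), ([2, 1, 1, 1, 3, 0, 3, 0, 0, 0], 5), ([1, 1, 4, 0, 0, 3, 3, 0, 2, 1], 6),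
  ([2, 0, 3, 0, 4, 0, 0, 4, 4], 1), ([2, 0, 0, 4, 0, 4, 0, 0, 3, 1, 1, 1], 2), ([4, 1, 1, 4, 4, 2, 1, 3, 2, 0, 3], 3), ([2, 1, 4, 1, 4, 4, 0, 4, 0, 0, 0, 4], 4),
  ([3, 3, 1, 3, 3, 0, 0, 2, 1], 5), ([1, 1, 3, 0, 3, 0, 0, 0, 2, 1], 6), ([0, 3, 1, 3, 3, 0, 3, 3, 0, 2, 1], 1), ([2, 1, 1, 3, 0, 3, 1, 4, 0, 0, 3, 1], 2),
  ([0, 3, 0, 3, 1, 4, 4, 0, 4, 2, 1], 3), ([4, 4, 2, 1, 1, 4, 0, 4, 1, 1, 1], 4), ([4, 2, 0, 4, 4, 0, 0, 3, 1, 1, 1, 3], 5), ([2, 0, 4, 0, 3, 3, 0, 0, 4, 0, 3, 1], 6),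
  ([2, 0, 0, 4, 0, 0, 3, 0, 4, 4, 1], 1), ([3, 2, 1, 1, 3, 0, 3, 3, 0, 4, 4], 2), ([3, 3, 1, 3, 1, 3, 3, 0, 4, 1, 2, 1], 3), ([4, 1, 4, 0, 0, 4, 1, 3, 1, 3, 2, 1], 4),
  ([4, 4, 2, 0, 3, 1, 1, 3, 1, 4, 0, 4, 1], 5), ([3, 2, 0, 4, 1, 4, 4, 0, 4, 1, 3], 6), ([0, 4, 4, 1, 4, 1, 4, 1, 1, 2, 1], 1), ([3, 2, 1, 3, 0, 3, 3, 1, 4, 0, 3], 2),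
  ([0, 4, 0, 4, 1, 3, 0, 4, 1, 3, 2, 1], 3), ([2, 1, 1, 3, 0, 3, 0, 3, 3, 1, 4, 1, 1], 4), ([1, 3, 0, 4, 0, 3, 1, 1, 4, 2, 1], 5), ([2, 1, 3, 3, 1, 3, 3, 0, 0], 6),
  ([3, 2, 0, 0, 0, 0, 0, 3, 1, 4, 4], 1), ([0, 3, 3, 2, 0, 3, 0, 3, 0, 4, 0, 2], 2), ([3, 2, 0, 4, 1, 3, 3, 0, 3, 1, 3, 1], 3), ([0, 2, 1, 4, 0, 4, 4, 1, 1, 1, 2], 4),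
  ([4, 0, 3, 1, 3, 0, 3, 1, 1, 2, 1], 5), ([2, 1, 4, 1, 3, 3, 1, 4, 0, 0, 0], 6), ([2, 0, 4, 1, 3, 1, 3, 0, 0, 4], 1), ([1, 3, 0, 4, 4, 1, 1, 1, 4, 2, 1], 2),
  ([4, 2, 0, 0, 0, 4, 0, 4, 4, 0, 0, 4], 3), ([4, 1, 1, 4, 1, 4, 4, 1, 1, 2, 1], 4), ([2, 0, 3, 3, 0, 3, 0, 4, 1, 4, 1], 5), ([3, 3, 2, 1, 1, 4, 0, 0, 0, 3, 0, 0], 6),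
  ([4, 2, 1, 3, 0, 4, 1, 1, 4, 1], 1), ([4, 1, 1, 3, 3, 1, 4, 1, 4, 4, 2, 1], 2), ([3, 2, 0, 4, 1, 3, 3, 1, 4, 1, 3, 1, 1], 3), ([4, 2, 0, 4, 1, 4, 4, 0, 3, 1, 4, 1], 4),
  ([2, 0, 4, 1, 4, 1, 1, 1, 3], 5), ([4, 2, 0, 0, 4, 1, 1, 1, 4, 4, 1], 6), ([1, 1, 1, 3, 0, 4, 4, 0, 3, 2, 1], 1), ([3, 2, 1, 4, 0, 4, 0, 4, 0, 3, 0], 2),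
  ([0, 2, 1, 1, 3, 1, 4, 0, 0, 4, 2], 3), ([3, 3, 2, 1, 1, 4, 1, 4, 0, 4, 0], 4), ([2, 1, 3, 2, 0, 4, 1, 4, 0, 3, 1, 2], 5), ([2, 1, 1, 4, 1, 3, 0, 3, 3, 1, 1, 3], 6),
  ([3, 2, 1, 4, 1, 1, 3, 1, 1, 4, 4, 1], 1), ([0, 4, 0, 3, 1, 1, 3, 0, 3, 3, 2, 1], 2), ([1, 1, 4, 4, 0, 4, 2, 0, 3, 0, 3], 3), ([4, 2, 1, 4, 0, 4, 4, 0, 3, 0, 4, 1], 4),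
  ([1, 1, 4, 4, 0, 4, 4, 2, 1], 5), ([2, 1, 3, 1, 3, 1, 4, 0, 3, 0, 3, 3, 1], 6), ([3, 2, 1, 3, 3, 0, 3, 3, 0], 1), ([2, 1, 4, 2, 0, 0, 0, 3, 1, 1, 4, 2], 2),
  ([1, 1, 1, 4, 1, 3, 3, 0, 4, 4, 2, 1], 3), ([4, 0, 3, 1, 1, 1, 1, 3, 2, 1], 4), ([3, 2, 0, 3, 1, 4, 1, 4, 4, 1, 1], 5), ([4, 2, 1, 1, 1, 3, 3, 1, 3, 3], 6),
  ([0, 0, 3, 0, 4, 0, 0, 4, 4, 2, 1], 1), ([0, 4, 1, 1, 3, 0, 4, 1, 4, 0, 2, 1], 2), ([4, 2, 0, 0, 0, 3, 1, 1, 4, 1], 3), ([3, 3, 2, 1, 3, 0, 0, 0, 3, 0, 0], 4),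
  ([3, 2, 1, 4, 0, 4, 0, 4, 4, 1, 4], 5), ([4, 4, 2, 1, 1, 1, 3, 3, 1, 4, 0], 6), ([0, 3, 1, 4, 4, 0, 3, 0, 0, 2, 1], 1), ([2, 1, 4, 1, 3, 1, 4, 4, 1, 1, 3], 2),
  ([0, 0, 0, 3, 0, 2, 0, 0, 4, 0, 3, 2, 0], 3), ([3, 2, 1, 3, 0, 0, 0, 4, 4, 0, 0], 4), ([4, 2, 0, 0, 4, 4, 1, 4, 0, 3, 0, 4, 1], 5), ([3, 2, 0, 0, 0, 4, 1, 3, 1, 3], 6),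
  ([3, 2, 1, 3, 3, 1, 3, 0, 0], 1), ([2, 1, 1, 4, 0, 0, 4, 1, 3, 1, 3, 3], 2), ([3, 2, 1, 4, 4, 0, 0, 0, 3, 3, 0], 3), ([2, 1, 3, 1, 1, 3, 0, 3, 1, 1, 4, 1, 1], 4),
  ([4, 2, 1, 1, 3, 0, 0, 3, 0, 3, 3, 0, 0], 5), ([3, 3, 1, 4, 4, 1, 4, 0, 0, 4, 1, 2, 1], 6), ([3, 2, 0, 0, 0, 3, 0, 4, 1, 4, 0, 3], 1), ([4, 2, 0, 3, 1, 3, 3, 1, 4], 2),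
  ([2, 1, 1, 1, 4, 0, 3, 0, 4, 0, 4, 4], 3), ([3, 2, 1, 1, 1, 1, 3, 3], 4), ([2, 0, 3, 1, 1, 3, 3, 0, 4, 1, 4, 4], 5), ([3, 1, 3, 3, 0, 0, 3, 2, 1], 6),
  ([3, 3, 2, 1, 4, 4, 0, 4, 1, 1, 1, 3, 0], 1), ([0, 4, 0, 3, 0, 0, 3, 2, 0, 3, 3, 2, 0], 2), ([3, 3, 2, 0, 3, 1, 3, 0, 0, 0, 4, 4, 0], 3), ([3, 0, 3, 0, 4, 0, 3, 1, 3, 3, 0, 2, 1], 4),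
  ([2, 1, 3, 3, 1, 3, 1, 4, 0, 3, 3, 0], 5), ([2, 1, 3, 1, 4, 4, 0, 3, 0, 0, 0, 3], 6), ([2, 1, 3, 3, 0, 3, 0, 3, 0, 4], 1), ([2, 1, 1, 1, 4, 4, 0, 4, 4], 2),
  ([2, 1, 1, 4, 4, 1, 1, 4, 0, 4, 4], 3), ([3, 1, 3, 1, 4, 4, 1, 1, 2, 1], 4), ([2, 0, 0, 4, 0, 0, 4, 1, 1, 3, 0], 5), ([4, 4, 1, 4, 0, 4, 4, 0, 3, 0, 2, 1], 6),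
  ([4, 2, 0, 0, 3, 1, 1, 3, 1, 3, 1, 4, 4, 0], 1), ([2, 1, 3, 3, 1, 3, 0, 0, 3, 3, 0], 2), ([4, 0, 0, 0, 3, 0, 3, 1, 1, 2, 1], 3), ([1, 4, 1, 3, 0, 3, 3, 1, 1, 3, 2, 1], 4),
  ([4, 2, 0, 3, 1, 4, 4, 0, 3, 0], 5), ([4, 4, 2, 1, 4, 1, 4, 1, 1], 6), ([2, 0, 0, 3, 0, 0, 4, 1, 3, 3], 1), ([2, 0, 4, 0, 3, 1, 3, 3, 1, 3, 1], 2),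
  ([2, 0, 4, 1, 4, 4, 1, 4, 1, 3, 1, 1], 3), ([3, 3, 1, 3, 0, 0, 3, 3, 0, 2, 1], 4), ([4, 2, 0, 0, 3, 0, 4, 0, 0, 3, 1], 5), ([2, 0, 3, 0, 4, 0, 4, 4, 0, 3, 0, 0, 0], 6),
  ([1, 1, 3, 1, 4, 0, 0, 0, 3, 0, 3, 2, 1], 1), ([2, 1, 1, 3, 0, 0, 0, 3, 3, 1, 4, 0, 0], 2), ([2, 1, 3, 1, 1, 4, 1, 1, 4, 1, 1, 3, 0], 3), ([4, 0, 0, 0, 0, 4, 1, 3, 2, 1], 4),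
  ([2, 0, 4, 4, 1, 1, 1, 1, 3, 1, 4], 5), ([1, 1, 4, 0, 3, 0, 3, 0, 0, 2, 1], 6), ([3, 3, 2, 1, 4, 1, 1, 1, 3, 1, 3, 0], 1), ([2, 0, 4, 4, 1, 3, 0, 0, 0, 3, 1, 4], 2),
  ([1, 4, 1, 4, 1, 2, 0, 3, 0, 3], 3), ([2, 0, 0, 4, 0, 3, 1, 3, 3, 1, 3, 1, 1], 4), ([4, 1, 4, 0, 4, 1, 1, 1, 3, 1, 2, 1], 5), ([3, 2, 0, 3, 0, 3], 6),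
  ([2, 1, 3, 2, 1, 3, 3, 0, 3, 3, 0], 1), ([1, 4, 4, 1, 3, 0, 3, 0, 0, 0, 2], 2), ([0, 4, 4, 2, 1, 1, 3, 0, 4, 4, 0, 0, 0], 3), ([1, 1, 1, 4, 1, 4, 0, 0, 0, 2], 4),
  ([1, 4, 4, 1, 1, 4, 1, 3, 1, 4, 1, 2], 5), ([0, 3, 2, 0, 3, 0, 4, 1, 1, 3, 0, 0], 6), ([2, 1, 3, 2, 1, 1, 1, 1, 3, 3], 1), ([4, 4, 0, 3, 0, 0, 4, 0, 3, 3, 1, 2], 2),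
  ([1, 1, 4, 0, 0, 3, 1, 4, 1, 4, 0, 2], 3), ([2, 1, 3, 2, 1, 1, 3, 0, 4, 0, 0], 4), ([2, 1, 4, 4, 0, 0, 0, 0, 4, 1, 2, 1], 5), ([0, 2, 1, 1, 1, 4, 1, 4, 0, 0], 6),
  ([1, 1, 1, 3, 0, 3, 3, 1, 4, 2], 1), ([0, 3, 3, 2, 0, 3, 0, 3, 0, 4], 2), ([3, 0, 0, 0, 3, 3, 1, 4, 0, 0, 2], 3), ([4, 0, 4, 0, 3, 1, 1, 1, 4, 2], 4),
  ([0, 2, 1, 1, 4, 4, 0, 4, 4], 5), ([0, 2, 1, 4, 4, 1, 1, 4, 0, 4, 4], 6), ([4, 4, 1, 4, 1, 3, 0, 3, 0, 4, 2], 1), ([1, 1, 4, 4, 1, 3, 1, 4, 1, 2], 2),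
  ([0, 4, 2, 0, 0, 0, 0, 4, 1, 3], 3), ([2, 0, 4, 1, 4, 1, 1, 1, 3, 2, 1], 4), ([0, 3, 3, 1, 3, 0, 0, 3, 3, 0, 4, 2], 5), ([3, 3, 1, 3, 3, 0, 0, 0, 2], 6),
  ([0, 4, 2, 0, 3, 1, 3, 0, 3, 1, 1], 1), ([0, 2, 1, 4, 4, 0, 4, 1, 3, 3, 0], 2), ([3, 3, 1, 3, 0, 4, 4, 0, 4, 2], 3), ([0, 4, 4, 1, 1, 4, 0, 4, 1, 1, 2], 4),
  ([2, 1, 3, 3, 1, 3, 0, 0, 3, 3, 0, 2, 1], 5), ([4, 2, 1, 4, 1, 1, 3, 3, 1, 4, 2, 1], 6), ([3, 2, 0, 3, 0, 3, 2, 1], 1), ([3, 0, 4, 0, 3, 3, 1, 4, 0, 4, 4, 2], 2),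
  ([3, 3, 1, 4, 4, 1, 4, 0, 0, 4, 2], 3), ([3, 0, 3, 1, 3, 3, 1, 4, 0, 4, 0, 2], 4), ([3, 0, 3, 1, 1, 1, 3, 1, 1, 1, 2], 5), ([4, 0, 3, 3, 0, 3, 1, 4, 0, 4, 2], 6),
  ([4, 0, 3, 1, 3, 0, 3, 1, 2], 1), ([0, 4, 4, 2, 0, 4, 0, 3, 1, 1, 3, 0], 2), ([2, 0, 0, 0, 3, 3, 1, 1, 4, 1, 4, 2, 1], 3), ([3, 1, 3, 0, 0, 4, 1, 1, 1, 4, 1, 2], 4),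
  ([1, 4, 1, 1, 1, 1, 3, 1, 1, 1, 2], 5), ([4, 1, 4, 1, 3, 2, 1, 3, 3, 0, 0], 6), ([3, 1, 1, 4, 0, 0, 3, 1, 4, 2], 1), ([4, 0, 0, 4, 4, 1, 3, 0, 4, 1, 3, 2], 2),
  ([1, 3, 1, 4, 0, 3, 3, 0, 3, 3, 0, 2], 3), ([0, 3, 3, 2, 1, 3, 3, 0, 0], 4), ([2, 0, 4, 1, 3, 0, 3, 1, 4, 1, 2, 1], 5), ([0, 4, 1, 4, 1, 3, 0, 3, 3, 1, 1, 2], 6),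
  ([3, 3, 1, 1, 3, 3, 0, 3, 3, 2], 1), ([0, 0, 4, 1, 4, 0, 4, 1, 3, 0, 2], 2), ([3, 0, 0, 2, 1, 4, 1, 4, 1, 2, 0, 4, 2], 3), ([0, 3, 3, 1, 1, 1, 4, 0, 0, 0, 3, 2], 4),
  ([0, 2, 1, 1, 4, 1, 4, 1, 3, 0, 0], 5), ([1, 1, 1, 4, 1, 1, 4, 0, 0, 4, 2], 6), ([4, 1, 3, 0, 3, 1, 3, 1, 3, 0, 0, 3, 2], 1), ([4, 0, 0, 3, 1, 1, 1, 4, 0, 3, 0, 3, 2], 2),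
  ([4, 0, 0, 0, 3, 0, 3, 1, 2], 3), ([1, 1, 3, 0, 3, 0, 0, 0, 0, 2], 4), ([2, 1, 4, 4, 2, 0, 3, 3, 0, 4, 0, 3, 0], 5), ([2, 1, 4, 2, 1, 4, 1, 4, 1, 3, 1], 6),
  ([0, 2], 1), ([0, 3, 3, 0, 0, 0, 3, 1, 1, 3, 2], 2), ([0, 3, 2, 0, 0, 0, 3, 3, 1, 4, 0], 3), ([1, 4, 0, 0, 4, 1, 1, 3, 3, 0, 3, 2], 4),
  ([0, 4, 2, 1, 4, 1, 4, 1], 5), ([1, 4, 0, 0, 3, 1, 1, 3, 1, 1, 2], 6), ([0, 0, 4, 0, 3, 1, 3, 3, 1, 3, 2], 1), ([0, 0, 0, 0, 3, 0, 3, 1, 1, 2], 2),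
  ([3, 0, 0, 0, 0, 0, 4, 1, 4, 1, 2], 3), ([0, 4, 4, 2, 0, 0, 0, 0, 4, 1], 4), ([3, 0, 4, 1, 4, 0, 3, 0, 0, 3, 1, 2], 5), ([0, 2, 1, 4, 1, 3, 3, 0, 4, 1, 3, 1], 6),
  ([2, 0, 3, 3, 0, 4, 0, 4, 2, 1], 1), ([3, 1, 3, 0, 0, 3, 1, 1, 3, 1, 2], 2), ([0, 2, 1, 4, 0, 4, 0, 3, 1, 1, 1], 3), ([2, 1, 4, 4, 2, 1, 4, 1, 4, 1, 1], 4),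
  ([2, 1, 3, 2, 1, 4, 4, 0, 3, 0, 0], 5), ([3, 0, 4, 1, 1, 4, 0, 0, 4, 1, 1, 1, 2], 6), ([1, 3, 2, 1, 4, 0, 0, 4, 4, 0, 2, 1, 1, 1], 1), ([0, 0, 3, 0, 4, 0, 0, 4, 4, 0, 2], 2),
  ([0, 4, 2, 0, 0, 0, 4, 1, 4, 1, 3, 1, 1], 3), ([4, 4, 1, 1, 3, 1, 1, 4, 0, 0, 2], 4), ([4, 0, 0, 3, 2, 0, 0, 3, 0, 2, 1, 3, 0], 5), ([4, 4, 1, 4, 0, 0, 0, 3, 0, 3, 2], 6),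
  ([0, 3, 0, 4, 1, 1, 3, 0, 0, 4, 0, 2], 1), ([4, 1, 4, 4, 1, 4, 0, 3, 1, 2], 2), ([1, 2, 0, 4, 4, 0, 3, 3, 0, 2, 0, 0], 3), ([0, 3, 1, 3, 1, 3, 3, 1, 1, 1, 3, 2], 4),
  ([4, 2, 0, 3, 1, 1, 3, 0, 3, 3, 2, 1], 5), ([0, 3, 2, 0, 3, 0, 3, 0], 6), ([0, 0, 3, 2, 1, 3, 1, 4, 4, 1, 2, 0], 1), ([3, 3, 1, 4, 1, 3, 0, 3, 3, 1, 2], 2),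
  ([0, 0, 0, 4, 0, 0, 3, 0, 4, 4, 2], 3), ([0, 0, 0, 0, 3, 3, 1, 3, 0, 0, 2], 4), ([1, 3, 0, 4, 4, 0, 4, 0, 4, 1, 1, 2], 5), ([0, 3, 2, 1, 4, 0, 3, 3, 1, 4, 4], 6),
  ([4, 4, 0, 0, 3, 0, 4, 0, 0, 0, 2], 1), ([2, 1, 3, 2, 1, 3, 3, 1, 3, 0, 0], 2), ([3, 2, 0, 4, 0, 4, 0, 0, 0, 4, 2, 1], 3), ([3, 0, 0, 4, 1, 3, 1, 4, 0, 0, 2], 4),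
  ([0, 2, 0, 0, 3, 0, 4, 4, 1, 4, 1, 4, 0], 5), ([4, 0, 3, 2, 0, 3, 3, 1, 2, 0, 0, 4, 1], 6), ([1, 4, 0, 0, 2, 0, 0, 0, 3, 1, 2, 0], 1), ([3, 2, 0, 4, 1, 1, 3, 0, 0, 4, 2, 1], 2),
  ([4, 4, 1, 4, 1, 4, 4, 1, 3, 0, 3, 2], 3), ([0, 3, 3, 2, 1, 3, 0, 4, 4, 0, 4, 1], 4), ([0, 4, 2, 1, 3, 3, 1, 4, 0, 0, 0], 5), ([3, 1, 4, 0, 0, 0, 4, 4, 0, 3, 2], 6),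
  ([0, 0, 0, 4, 1, 4, 1, 1, 1, 2], 1), ([0, 4, 2, 0, 0, 3, 3, 0, 4, 4, 1, 4, 1], 2), ([0, 3, 1, 3, 3, 0, 3, 3, 0, 0, 2], 3), ([1, 1, 4, 0, 0, 3, 3, 0, 0, 2], 4),
  ([0, 4, 0, 4, 1, 3, 1, 1, 1, 3, 0, 2], 5), ([2, 0, 3, 1, 3, 1, 3, 0, 4, 4, 0, 2, 1], 6), ([0, 3, 2, 1, 3, 3, 0, 4, 1, 4, 1], 1), ([4, 1, 1, 1, 3, 0, 3, 1, 4, 1, 2], 2),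
  ([0, 4, 0, 4, 1, 3, 3, 0, 3, 1, 2], 3), ([3, 1, 1, 1, 3, 1, 3, 1, 4, 2], 4), ([1, 3, 0, 3, 0, 4, 4, 0, 3, 3, 2], 5), ([0, 3, 0, 0, 0, 4, 1, 3, 1, 3, 0, 2], 6),
  ([0, 4, 4, 1, 4, 1, 4, 1, 2], 1), ([0, 2, 1, 1, 4, 1, 4, 0, 3, 3, 0], 2), ([4, 0, 3, 3, 0, 0, 0, 4, 1, 3, 3, 2], 3), ([2, 1, 4, 2, 1, 1, 3, 0, 4, 1, 4, 0], 4),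
  ([4, 2, 0, 4, 1, 1, 4, 1, 3, 1, 1, 2, 1], 5), ([0, 4, 2, 1, 1, 1, 4, 1, 3, 3, 0, 4], 6), ([2, 0, 4, 1, 4, 2, 0, 0, 4, 0, 4, 2, 0], 1), ([0, 4, 2, 0, 4, 1, 3, 1, 3, 0, 0, 3, 0], 2),
  ([3, 3, 2, 0, 0, 0, 0, 0, 3, 0, 0, 2], 3), ([2, 1, 1, 4, 1, 1, 3, 1, 1, 3, 2], 4), ([0, 2, 0, 0, 4, 4, 0, 0, 0, 4, 1, 3, 0], 5), ([4, 2, 0, 0, 4, 0, 0, 3, 0, 0, 2], 6),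
  ([1, 3, 1, 1, 4, 0, 2, 1, 3, 1, 4, 1, 4], 1), ([2, 1, 3, 0, 3, 1, 1, 1, 1, 4, 4, 2], 2), ([0, 4, 0, 0, 4, 0, 0, 3, 0, 2, 1], 3), ([0, 3, 2, 1, 4, 4, 1, 1, 4], 4),
  ([2, 0, 3, 1, 3, 3, 0, 4, 0, 0, 0, 2], 5), ([0, 2, 1, 3, 0, 0, 0, 3, 3, 0, 0], 6), ([0, 2, 1, 1, 4, 0, 0, 3, 3, 1, 1, 4, 0, 0], 1), ([0, 4, 4, 2, 1, 1, 3, 3, 1, 4, 1, 1], 2),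
  ([1, 1, 3, 0, 0, 0, 2, 1], 3), ([2, 0, 3, 0, 4, 2, 0, 3, 1, 1, 1, 2, 0], 4), ([0, 4, 2, 0, 0, 3, 1, 1, 4, 0, 4, 0], 5), ([1, 3, 1, 1, 4, 0, 2, 1, 3, 3, 0], 6),
  ([3, 1, 4, 4, 1, 2, 0, 3, 3, 2, 1, 3, 0, 0], 1), ([0, 3, 3, 2, 0, 3, 0, 4, 1, 1, 4], 2), ([0, 3, 2, 0, 0, 4, 0, 0, 3], 3), ([1, 1, 3, 1, 4, 4, 0, 4, 1, 1, 2, 1], 4),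
  ([0, 3, 3, 2, 1, 1, 1, 1, 4, 0], 5), ([0, 2, 1, 4, 1, 3, 0, 3, 1, 3, 1, 4], 6), ([3, 2, 1, 1, 3, 0, 0, 0, 0, 0, 2], 1), ([4, 1, 2, 0, 3, 1, 2, 1, 1, 1, 2, 0], 2),
  ([3, 3, 0, 2, 1, 4, 4, 2, 1, 3], 3), ([0, 4, 4, 0, 4, 2, 1, 3, 2, 0, 0, 4, 2, 0], 4), ([2, 0, 0, 0, 4, 1, 4, 4, 2], 5), ([3, 0, 4, 2, 0, 4, 0, 3, 0, 3, 2, 0, 0], 6),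
  ([1, 3, 0, 0, 3, 1, 4, 1, 1, 2, 1], 1), ([0, 4, 2, 1, 3, 1, 3, 3, 1, 3, 1, 4], 2), ([2, 1, 3, 3, 1, 4, 0, 3, 3, 1, 4, 2], 3), ([0, 3, 2, 0, 0, 3, 1, 4, 1, 4, 4], 4),
  ([4, 1, 1, 1, 4, 1, 1, 3, 0, 3, 0, 2, 1], 5), ([4, 1, 1, 1, 4, 1, 1, 1, 4, 2, 1], 6), ([0, 2, 1, 3, 0, 0, 0, 0, 4, 4], 1), ([4, 2, 0, 4, 4, 1, 1, 4, 1, 3, 0, 2], 2),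
  ([0, 4, 2, 0, 0, 4, 1, 3, 3, 0, 3, 0], 3), ([0, 4, 2, 1, 3, 3, 1, 3, 0, 4, 4], 4), ([3, 0, 4, 1, 1, 1, 1, 4, 4, 0, 2, 1], 5), ([0, 3, 1, 2, 0, 0, 0, 4, 1, 2, 0], 6),
  ([1, 3, 1, 1, 4, 1, 4, 4, 0, 3, 2, 1], 1), ([0, 4, 4, 0, 0, 0, 3, 1, 1, 2, 1], 2), ([3, 1, 3, 0, 0, 0, 4, 1, 4, 0, 2, 1], 3), ([3, 0, 0, 4, 0, 4, 1, 4, 1, 2, 1], 4),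
  ([3, 0, 0, 0, 3, 0, 0, 4, 1, 4, 1, 2, 1], 5), ([0, 3, 2, 0, 3, 1, 1, 1, 1, 4, 4, 1], 6), ([2, 1, 1, 3, 0, 0, 3, 1, 4, 1, 2], 1), ([3, 3, 1, 4, 0, 0, 0, 2, 1, 3, 3, 0], 2),
  ([4, 0, 0, 3, 0, 4, 0, 3, 3, 0, 2, 1], 3), ([1, 4, 0, 3, 3, 1, 4, 4, 1, 2, 1], 4), ([3, 1, 4, 1, 1, 4, 1, 4, 0, 3, 2, 1], 5), ([4, 0, 3, 0, 3, 3, 0, 0, 4, 0, 2, 1], 6),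
  ([3, 0, 4, 0, 4, 4, 0, 4, 0, 3, 2, 1], 1), ([1, 3, 3, 0, 2, 1, 3, 2, 1, 3, 1, 2], 2), ([1, 3, 3, 0, 4, 0, 3, 3, 1, 1, 2, 1], 3), ([4, 2, 0, 0, 4, 0, 3, 3, 0, 4, 1, 3, 2], 4),
  ([4, 4, 2, 1, 3, 3, 0, 0, 3, 3, 0, 2], 5), ([2, 1, 4, 1, 1, 3, 1, 1, 4, 0, 2], 6), ([4, 4, 1, 1, 1, 4, 1, 4, 0, 2, 1], 1), ([0, 4, 4, 0, 4, 1, 3, 0, 3, 1, 4, 2, 1], 2),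
  ([0, 4, 4, 2, 1, 1, 1, 4, 1, 4, 0], 3), ([0, 4, 2, 0, 0, 4, 1, 3, 1, 4], 4), ([0, 2, 1, 1, 3, 0, 4, 4, 0, 4, 4], 5), ([4, 4, 2, 0, 0, 0, 3, 1, 2], 6),
  ([4, 1, 1, 3, 1, 3, 0, 3, 0, 2, 1], 1), ([4, 4, 2, 0, 4, 1, 3, 0, 3, 1, 4, 0, 2], 2), ([4, 1, 3, 1, 2, 1, 1, 4, 2, 0, 4, 4, 0], 3), ([1, 1, 1, 3, 3, 0, 4, 2, 0, 3, 0, 3], 4),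
  ([4, 1, 1, 3, 1, 1, 2, 0, 3, 0, 3], 5), ([3, 0, 4, 1, 4, 0, 3, 1, 3, 3, 1, 2, 1], 6), ([3, 3, 1, 3, 3, 1, 4, 0, 0, 2, 1], 1), ([4, 4, 1, 3, 0, 0, 0, 4, 0, 0, 2, 1], 2),
  ([1, 1, 2, 0, 4, 1, 3, 0, 4, 4, 2, 0], 3), ([0, 4, 2, 1, 1, 1, 3, 0, 0, 4, 4, 0, 0, 0], 4), ([1, 3, 0, 0, 0, 0, 4, 2, 0, 3, 0, 3], 5), ([0, 3, 2, 1, 4, 0, 4, 1, 3, 0, 0, 0, 4], 6),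
  ([0, 4, 2, 1, 1, 3, 0, 3, 3, 1, 4, 0], 1), ([4, 2, 0, 0, 3, 1, 3, 0, 0, 3, 0, 2], 2), ([0, 3, 2, 1, 4, 4, 1, 3, 0, 3, 0], 3), ([3, 0, 3, 0, 3, 1, 3, 0, 0, 0, 2, 1], 4),
  ([0, 3, 3, 2, 0, 3, 0, 4, 1, 3, 0, 3, 0], 5), ([1, 3, 3, 2, 1, 4, 0, 3, 1, 2, 0, 0], 6), ([0, 2, 1, 1, 4, 0, 4, 0, 0, 0, 4, 0, 0, 0], 1), ([2, 1, 3, 2, 0, 0, 4, 1, 4, 0, 0, 3, 0], 2),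
  ([4, 2, 0, 4, 0, 0, 4, 1, 4, 0, 4, 4, 2], 3), ([0, 3, 1, 1, 1, 3, 0, 4, 4, 0, 2, 1], 4), ([0, 4, 4, 2, 0, 3, 0, 4, 4, 0], 5), ([3, 0, 0, 4, 1, 4, 1, 3, 3, 0, 4, 2, 1], 6),
  ([2, 1, 3, 0, 0, 3, 3, 0, 4, 0, 2], 1), ([0, 4, 2, 0, 0, 3, 0, 0, 0, 0, 3, 3, 0], 2), ([0, 0, 3, 1, 1, 3, 1, 4, 0, 3, 2, 1], 3), ([1, 3, 0, 0, 3, 3, 0, 3, 3, 1, 2, 1], 4),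
  ([3, 1, 2, 0, 4, 1, 1, 3, 1, 1, 1, 2, 0], 5), ([4, 1, 1, 1, 3, 1, 4, 0, 2, 1], 6), ([2, 1, 3, 0, 0, 4, 0, 4, 1, 4, 2], 1), ([2, 0, 3, 0, 0, 4, 4, 1, 1, 4, 1, 1, 2], 2),
  ([0, 2, 1, 4, 1, 4, 0, 0, 3, 0, 0, 0, 3], 3), ([2, 1, 3, 2, 0, 3, 1, 1, 3, 1, 4, 0], 4), ([3, 0, 0, 3, 2, 1, 1, 4, 1, 3, 1, 2, 0], 5), ([1, 1, 3, 1, 1, 1, 4, 0, 3, 3, 2, 1], 6),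
  ([4, 2, 0, 0, 3, 1, 4, 0, 4, 0, 2], 1), ([0, 4, 2, 1, 3, 0, 3, 0, 0, 3, 0, 4], 2), ([0, 2, 1, 3, 0, 4, 4, 1, 4, 0, 0, 3], 3), ([0, 3, 3, 1, 3, 0, 4, 1, 1, 3, 2, 1], 4),
  ([2, 1, 1, 1, 1, 3, 3, 1, 3, 1, 4, 1, 2], 5), ([3, 1, 3, 3, 1, 3, 1, 4, 0, 2, 1], 6), ([0, 2, 0, 0, 3, 0, 4, 0, 4, 4, 0, 0, 0], 1), ([2, 1, 4, 1, 1, 1, 3, 1, 4, 0, 0, 2], 2),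
  ([1, 3, 0, 4, 4, 1, 3, 3, 0, 4, 2, 1], 3), ([4, 2, 0, 0, 3, 0, 3, 1, 1, 3, 1, 2], 4), ([4, 4, 0, 3, 3, 1, 4, 0, 0, 4, 2, 1], 5), ([1, 3, 3, 1, 4, 1, 3, 3, 2, 1], 6),
  ([0, 2, 1, 1, 1, 1, 4, 0, 0, 4, 1], 1), ([0, 2, 0, 0, 4, 1, 1, 1, 3, 3, 1], 2), ([1, 3, 1, 4, 0, 0, 4, 1, 3, 3, 2, 1], 3), ([0, 4, 0, 0, 3, 1, 3, 0, 0, 3, 2, 1], 4),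
  ([2, 1, 1, 1, 3, 0, 0, 0, 0, 2], 5), ([0, 4, 2, 1, 3, 3, 0, 3, 0, 0, 4, 0], 6), ([0, 2, 1, 3, 0, 0, 3, 1, 4, 1, 1], 1), ([0, 4, 0, 3, 1, 3, 0, 3, 1, 1, 3, 2, 1], 2),
  ([4, 4, 2, 1, 3, 0, 0, 3, 1, 1, 1, 1, 2], 3), ([3, 3, 0, 2, 1, 4, 2, 1, 1, 1, 1, 3], 4), ([2, 0, 3, 0, 4, 1, 1, 4, 0, 0, 2], 5), ([3, 3, 2, 1, 3, 0, 4, 1, 1, 3, 0, 2], 6)]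

/-- the normalizing elements, with their exponents -/
def nlist : List (List ℕ × ℕ) := [
  ([], 1), ([4, 1, 4, 1, 4, 1, 3, 0, 4, 0, 0, 0, 4, 0, 3, 0, 4, 4, 3, 0, 3, 0, 3, 1, 4, 0, 4, 4, 0, 0, 3, 0, 3, 3, 0, 3, 0, 3, 1, 4, 0, 4, 4, 0, 0, 3, 0, 3], 2),
  ([1, 4, 1, 3, 3, 0, 0, 3, 0, 3, 1, 3, 1, 1, 3, 0, 0, 3, 0, 3, 0, 4, 4, 0, 3, 3, 3, 0, 3, 0, 3, 1, 4, 0, 4, 4, 0, 0, 3, 0, 3], 4), ([3, 1, 3, 1, 4, 0, 4, 0, 0, 4, 4, 3, 0, 4, 0, 0, 0, 4, 0, 3, 0, 4, 4], 1),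
  ([0, 3, 1, 3, 3, 1, 4, 0, 4, 4, 1, 3, 1, 3, 1, 3, 3, 1, 3, 1, 3, 0, 0, 3, 0, 0, 3, 0, 3, 0, 3, 1, 4, 0, 4, 4, 0, 0, 3, 0, 3, 3, 0, 3, 0, 3, 1, 4, 0, 4, 4, 0, 0, 3, 0, 3], 2), ([1, 1, 4, 0, 4, 4, 0, 4, 1, 4, 0, 4, 1, 1, 4, 4, 0, 0, 3, 1, 3, 1, 3, 0], 4),
  ([1, 3, 3, 0, 4, 4, 0, 4, 0, 0, 0, 3, 1, 1, 3, 0, 0, 3, 0, 3, 0, 4, 4, 0, 3, 3, 3, 0, 3, 0, 3, 1, 4, 0, 4, 4, 0, 0, 3, 0, 3], 1), ([3, 1, 1, 3, 3, 1, 3, 3, 1, 1, 4, 1, 1, 3, 3, 0, 3, 3, 1, 4, 1, 1, 1, 3, 0, 0, 3, 0, 3, 0, 3, 1, 4, 0, 4, 4, 0, 0, 3, 0, 3, 3, 0, 3, 0, 3, 1, 4, 0, 4, 4, 0, 0, 3, 0, 3], 2),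
  ([3, 0, 0, 4, 4, 0, 4, 1, 1, 3, 1, 4, 2, 1, 4, 1, 1, 3, 0, 0, 0, 0, 3, 3, 1, 2], 4), ([1, 3, 1, 4, 1, 3, 1, 1, 3, 3, 0, 4, 4, 1, 1, 1, 3, 1, 3, 1, 4, 1, 3, 3], 1),
  ([4, 0, 4, 0, 3, 0, 0, 3, 1, 4, 4, 0, 0, 4, 1, 4, 4, 0, 0, 4, 0, 0, 4, 1, 3, 0], 2), ([0, 4, 1, 4, 1, 1, 1, 3, 0, 3, 3, 1, 3, 3, 1, 4, 0, 0, 0, 3, 0, 4, 4, 1, 3, 0, 3, 0, 3, 0, 3, 1, 4, 0, 4, 4, 0, 0, 3, 0, 3, 3, 0, 3, 0, 3, 1, 4, 0, 4, 4, 0, 0, 3, 0, 3], 4),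
  ([1, 1, 4, 4, 0, 4, 4, 1, 3, 3, 0, 3, 3, 1, 4, 1, 1, 1, 3, 0, 0, 3, 0, 3, 0, 3, 1, 4, 0, 4, 4, 0, 0, 3, 0, 3, 3, 0, 3, 0, 3, 1, 4, 0, 4, 4, 0, 0, 3, 0, 3], 1), ([3, 1, 3, 1, 1, 3, 0, 0, 4, 0, 4, 0, 3, 3, 1, 4, 1, 1, 1, 3, 0, 3, 3, 0], 2),
  ([4, 1, 1, 4, 0, 4, 4, 0, 0, 3, 0, 4, 1, 1, 1, 3, 1, 3, 1, 4, 1, 3, 3, 3, 0, 3, 0, 3, 1, 4, 0, 4, 4, 0, 0, 3, 0, 3, 3, 0, 3, 0, 3, 1, 4, 0, 4, 4, 0, 0, 3, 0, 3], 4), ([4, 1, 4, 1, 1, 1, 3, 0, 4, 0, 0, 4, 1, 1, 1, 3, 1, 3, 1, 4, 1, 3, 3, 3, 0, 3, 0, 3, 1, 4, 0, 4, 4, 0, 0, 3, 0, 3], 1),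
  ([1, 4, 0, 0, 4, 0, 0, 4, 4, 1, 3, 0, 4, 0, 0, 0, 4, 0, 3, 0, 4, 4, 3, 0, 3, 0, 3, 1, 4, 0, 4, 4, 0, 0, 3, 0, 3], 2), ([1, 4, 1, 3, 1, 3, 1, 4, 0, 3, 0, 0, 3, 3, 1, 4, 1, 1, 1, 3, 0, 3, 3, 0, 3, 0, 3, 0, 3, 1, 4, 0, 4, 4, 0, 0, 3, 0, 3, 3, 0, 3, 0, 3, 1, 4, 0, 4, 4, 0, 0, 3, 0, 3], 4),
  ([4, 0, 0, 4, 0, 0, 3, 1, 4, 4, 0, 4, 2, 1, 4, 1, 1, 3, 0, 0, 0, 0, 3, 3, 1, 2, 3, 0, 3, 0, 3, 1, 4, 0, 4, 4, 0, 0, 3, 0, 3], 1), ([4, 4, 1, 4, 0, 3, 3, 1, 4, 3, 0, 3, 0, 3, 1, 4, 0, 4, 4, 0, 0, 3, 0, 3], 2),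
  ([4, 2, 0, 0, 0, 3, 1, 1, 4, 2, 3, 1, 1, 3, 1, 1, 3, 3, 0, 3, 1, 1, 1, 4, 0, 3, 0, 3, 0, 3, 1, 4, 0, 4, 4, 0, 0, 3, 0, 3], 4), ([4, 1, 1, 3, 1, 3, 0, 3, 0, 1, 3, 3, 1, 4, 0, 0, 0, 3, 0, 4, 4, 1, 3, 0, 3, 0, 3, 0, 3, 1, 4, 0, 4, 4, 0, 0, 3, 0, 3], 1),
  ([0, 2, 1, 1, 3, 0, 0, 0, 0, 2, 4, 0, 4, 1, 1, 4, 4, 0, 0, 3, 1, 3, 1, 3, 0, 3, 0, 3, 0, 3, 1, 4, 0, 4, 4, 0, 0, 3, 0, 3], 2), ([3, 0, 0, 3, 0, 3, 3, 1, 4, 4, 4, 1, 1, 1, 3, 1, 3, 1, 4, 1, 3, 3], 4),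
  ([4, 4, 1, 1, 4, 4, 0, 3, 3, 1, 3, 1, 1, 3, 0, 0, 3, 0, 3, 0, 4, 4, 0, 3, 3, 3, 0, 3, 0, 3, 1, 4, 0, 4, 4, 0, 0, 3, 0, 3], 1), ([4, 1, 3, 0, 3, 0, 4, 1, 4, 4, 1, 3, 3, 0, 3, 3, 1, 4, 1, 1, 1, 3, 0, 0, 3, 0, 3, 0, 3, 1, 4, 0, 4, 4, 0, 0, 3, 0, 3, 3, 0, 3, 0, 3, 1, 4, 0, 4, 4, 0, 0, 3, 0, 3], 2),
  ([3, 1, 1, 1, 3, 0, 4, 0, 0, 4, 0, 0, 0, 4, 1, 4, 4, 0, 0, 4, 0, 0, 4, 1, 3, 0, 3, 0, 3, 0, 3, 1, 4, 0, 4, 4, 0, 0, 3, 0, 3, 3, 0, 3, 0, 3, 1, 4, 0, 4, 4, 0, 0, 3, 0, 3], 4), ([3, 1, 3, 1, 3, 1, 3, 1, 4, 4, 0, 0, 4, 4, 1, 3, 0, 4, 1, 1, 3, 0, 3, 0, 4, 4, 0, 3, 0, 3, 0, 3, 1, 4, 0, 4, 4, 0, 0, 3, 0, 3], 1),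
  ([0, 0, 3, 1, 3, 0, 3, 3, 1, 3, 0, 0, 3, 3, 1, 1, 1, 3, 0, 3, 3, 0, 3, 3, 1, 3, 3, 3, 0, 3, 0, 3, 1, 4, 0, 4, 4, 0, 0, 3, 0, 3, 3, 0, 3, 0, 3, 1, 4, 0, 4, 4, 0, 0, 3, 0, 3], 2), ([4, 4, 1, 3, 1, 1, 1, 1, 4, 0, 3, 0, 3, 1, 1, 3, 1, 1, 3, 3, 0, 3, 1, 1, 1, 4, 0, 3, 0, 3, 0, 3, 1, 4, 0, 4, 4, 0, 0, 3, 0, 3], 4),
  ([1, 3, 3, 1, 4, 1, 3, 1, 4, 1, 4, 1, 4, 0, 4, 1, 1, 4, 4, 0, 0, 3, 1, 3, 1, 3, 0, 3, 0, 3, 0, 3, 1, 4, 0, 4, 4, 0, 0, 3, 0, 3], 1), ([1, 3, 0, 0, 0, 4, 4, 0, 3, 0, 0, 0, 4, 4, 0, 4, 0, 4, 0, 0, 0, 4, 0, 4, 4, 3, 0, 3, 0, 3, 1, 4, 0, 4, 4, 0, 0, 3, 0, 3, 3, 0, 3, 0, 3, 1, 4, 0, 4, 4, 0, 0, 3, 0, 3], 2),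
  ([4, 0, 3, 3, 0, 3, 0, 0, 4, 0, 0, 0, 1, 3, 1, 3, 1, 3, 3, 1, 3, 1, 3, 0, 0, 3, 0, 0, 3, 0, 3, 0, 3, 1, 4, 0, 4, 4, 0, 0, 3, 0, 3, 3, 0, 3, 0, 3, 1, 4, 0, 4, 4, 0, 0, 3, 0, 3], 4), ([1, 4, 1, 3, 0, 4, 0, 3, 1, 4, 4, 0, 0, 4, 1, 1, 1, 3, 1, 3, 1, 4, 1, 3, 3, 3, 0, 3, 0, 3, 1, 4, 0, 4, 4, 0, 0, 3, 0, 3], 1),
  ([0, 4, 4, 1, 1, 1, 3, 0, 0, 0, 3, 4, 2, 1, 4, 1, 1, 3, 0, 0, 0, 0, 3, 3, 1, 2], 2), ([4, 0, 0, 3, 0, 0, 4, 0, 4, 4, 0, 4, 4, 1, 3, 0, 4, 1, 1, 3, 0, 3, 0, 4, 4, 0, 3, 0, 3, 0, 3, 1, 4, 0, 4, 4, 0, 0, 3, 0, 3], 4),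
  ([1, 4, 1, 3, 3, 0, 3, 0, 4, 0, 4, 0, 3, 0, 4, 0, 0, 0, 4, 0, 3, 0, 4, 4, 3, 0, 3, 0, 3, 1, 4, 0, 4, 4, 0, 0, 3, 0, 3, 3, 0, 3, 0, 3, 1, 4, 0, 4, 4, 0, 0, 3, 0, 3], 1), ([4, 1, 1, 3, 0, 3, 3, 1, 4, 0, 3, 3, 1, 4, 1, 1, 1, 3, 0, 3, 3, 0, 3, 0, 3, 0, 3, 1, 4, 0, 4, 4, 0, 0, 3, 0, 3], 2),
  ([3, 3, 0, 3, 0, 4, 1, 3, 0, 3, 0, 3, 0, 4, 0, 0, 0, 4, 1, 1, 3, 0, 3, 3, 0], 4), ([0, 3, 3, 2, 1, 4, 0, 3, 3, 1, 4, 2, 4, 4, 0, 4, 0, 4, 0, 0, 0, 4, 0, 4, 4, 3, 0, 3, 0, 3, 1, 4, 0, 4, 4, 0, 0, 3, 0, 3, 3, 0, 3, 0, 3, 1, 4, 0, 4, 4, 0, 0, 3, 0, 3], 1),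
  ([0, 2, 1, 3, 1, 4, 4, 1, 1, 2, 1, 3, 3, 0, 3, 3, 1, 4, 1, 1, 1, 3, 0, 0, 3, 0, 3, 0, 3, 1, 4, 0, 4, 4, 0, 0, 3, 0, 3], 2), ([0, 3, 0, 4, 4, 1, 4, 4, 0, 0, 4, 4, 0, 4, 0, 4, 0, 0, 0, 4, 0, 4, 4, 3, 0, 3, 0, 3, 1, 4, 0, 4, 4, 0, 0, 3, 0, 3, 3, 0, 3, 0, 3, 1, 4, 0, 4, 4, 0, 0, 3, 0, 3], 4),
  ([4, 4, 2, 0, 0, 4, 0, 4, 1, 3, 3, 0, 4, 0, 0, 0, 4, 1, 1, 3, 0, 3, 3, 0], 1), ([4, 1, 1, 3, 0, 0, 0, 0, 3, 3, 2, 3, 1, 1, 3, 0, 0, 3, 0, 3, 0, 4, 4, 0, 3, 3, 3, 0, 3, 0, 3, 1, 4, 0, 4, 4, 0, 0, 3, 0, 3], 2),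
  ([3, 1, 3, 3, 1, 4, 0, 0, 0, 3, 3, 2, 1, 3, 3, 0, 3, 3, 1, 4, 1, 1, 1, 3, 0, 0, 3, 0, 3, 0, 3, 1, 4, 0, 4, 4, 0, 0, 3, 0, 3, 3, 0, 3, 0, 3, 1, 4, 0, 4, 4, 0, 0, 3, 0, 3], 4), ([3, 3, 0, 3, 0, 4, 1, 1, 4, 0, 2, 3, 1, 1, 3, 1, 1, 3, 3, 0, 3, 1, 1, 1, 4, 0], 1),
  ([1, 1, 1, 1, 4, 0, 0, 4, 2, 4, 1, 1, 1, 3, 1, 3, 1, 4, 1, 3, 3], 2), ([4, 0, 0, 3, 0, 3, 3, 0, 4, 2, 3, 3, 1, 4, 1, 1, 1, 3, 0, 3, 3, 0, 3, 0, 3, 0, 3, 1, 4, 0, 4, 4, 0, 0, 3, 0, 3], 4),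
  ([1, 3, 3, 1, 4, 1, 3, 3, 0, 2, 4, 2, 1, 4, 1, 1, 3, 0, 0, 0, 0, 3, 3, 1, 2, 3, 0, 3, 0, 3, 1, 4, 0, 4, 4, 0, 0, 3, 0, 3, 3, 0, 3, 0, 3, 1, 4, 0, 4, 4, 0, 0, 3, 0, 3], 1), ([4, 4, 2, 1, 1, 1, 3, 0, 0, 0, 3, 4, 0, 4, 1, 1, 4, 4, 0, 0, 3, 1, 3, 1, 3, 0, 3, 0, 3, 0, 3, 1, 4, 0, 4, 4, 0, 0, 3, 0, 3], 2),
  ([2, 0, 0, 0, 0, 4, 0, 0, 3, 1, 1, 4, 1, 3, 3, 1, 4, 0, 0, 0, 3, 0, 4, 4, 1, 3, 0, 3, 0, 3, 0, 3, 1, 4, 0, 4, 4, 0, 0, 3, 0, 3, 3, 0, 3, 0, 3, 1, 4, 0, 4, 4, 0, 0, 3, 0, 3], 4), ([3, 2, 0, 0, 4, 1, 4, 0, 0, 3, 0, 3, 3, 1, 1, 1, 3, 0, 3, 3, 0, 3, 3, 1, 3, 3, 3, 0, 3, 0, 3, 1, 4, 0, 4, 4, 0, 0, 3, 0, 3], 1),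
  ([2, 1, 4, 4, 0, 3, 0, 4, 4, 0, 3, 1, 1, 3, 0, 0, 3, 0, 3, 0, 4, 4, 0, 3, 3, 3, 0, 3, 0, 3, 1, 4, 0, 4, 4, 0, 0, 3, 0, 3, 3, 0, 3, 0, 3, 1, 4, 0, 4, 4, 0, 0, 3, 0, 3], 2), ([3, 2, 1, 3, 3, 0, 3, 3, 1, 1, 4, 0, 0, 0, 4, 4, 1, 3, 0, 4, 1, 1, 3, 0, 3, 0, 4, 4, 0], 4),
  ([2, 1, 4, 0, 0, 3, 0, 3, 3, 0, 4, 1, 3, 1, 1, 3, 1, 1, 3, 3, 0, 3, 1, 1, 1, 4, 0], 1), ([0, 0, 4, 1, 1, 1, 3, 3, 2, 0, 0, 4, 1, 4, 4, 0, 0, 4, 0, 0, 4, 1, 3, 0, 3, 0, 3, 0, 3, 1, 4, 0, 4, 4, 0, 0, 3, 0, 3, 3, 0, 3, 0, 3, 1, 4, 0, 4, 4, 0, 0, 3, 0, 3], 2),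
  ([3, 0, 3, 1, 1, 3, 3, 0, 4, 0, 3, 2, 3, 3, 1, 1, 1, 3, 0, 3, 3, 0, 3, 3, 1, 3, 3, 3, 0, 3, 0, 3, 1, 4, 0, 4, 4, 0, 0, 3, 0, 3, 3, 0, 3, 0, 3, 1, 4, 0, 4, 4, 0, 0, 3, 0, 3], 4), ([3, 0, 0, 4, 0, 0, 3, 0, 2, 3, 3, 1, 4, 1, 1, 1, 3, 0, 3, 3, 0, 3, 0, 3, 0, 3, 1, 4, 0, 4, 4, 0, 0, 3, 0, 3], 1),
  ([4, 2, 1, 4, 1, 3, 0, 4, 0, 4, 0, 3, 1, 1, 3, 1, 1, 3, 3, 0, 3, 1, 1, 1, 4, 0], 2), ([0, 3, 2, 0, 0, 4, 0, 0, 3, 2, 1, 4, 2, 1, 4, 1, 1, 3, 0, 0, 0, 0, 3, 3, 1, 2, 3, 0, 3, 0, 3, 1, 4, 0, 4, 4, 0, 0, 3, 0, 3, 3, 0, 3, 0, 3, 1, 4, 0, 4, 4, 0, 0, 3, 0, 3], 4),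
  ([1, 1, 4, 1, 1, 4, 1, 1, 3, 0, 2, 4, 2, 1, 4, 1, 1, 3, 0, 0, 0, 0, 3, 3, 1, 2, 3, 0, 3, 0, 3, 1, 4, 0, 4, 4, 0, 0, 3, 0, 3], 1), ([3, 0, 4, 0, 3, 1, 1, 3, 0, 2, 0, 0, 4, 1, 4, 4, 0, 0, 4, 0, 0, 4, 1, 3, 0], 2),
  ([2, 1, 4, 0, 0, 0, 3, 1, 1, 3, 3, 1, 4, 2, 1, 4, 1, 1, 3, 0, 0, 0, 0, 3, 3, 1, 2, 3, 0, 3, 0, 3, 1, 4, 0, 4, 4, 0, 0, 3, 0, 3, 3, 0, 3, 0, 3, 1, 4, 0, 4, 4, 0, 0, 3, 0, 3], 4), ([2, 0, 4, 1, 3, 1, 3, 0, 0, 4, 3, 1, 1, 3, 1, 1, 3, 3, 0, 3, 1, 1, 1, 4, 0, 3, 0, 3, 0, 3, 1, 4, 0, 4, 4, 0, 0, 3, 0, 3, 3, 0, 3, 0, 3, 1, 4, 0, 4, 4, 0, 0, 3, 0, 3], 1),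
  ([1, 3, 0, 4, 4, 1, 1, 1, 4, 2, 1, 3, 0, 3, 0, 3, 1, 4, 0, 4, 4, 0, 0, 3, 0, 3, 3, 0, 3, 0, 3, 1, 4, 0, 4, 4, 0, 0, 3, 0, 3], 2), ([4, 1, 1, 4, 1, 4, 4, 1, 1, 2, 1, 0, 0, 4, 1, 4, 4, 0, 0, 4, 0, 0, 4, 1, 3, 0, 3, 0, 3, 0, 3, 1, 4, 0, 4, 4, 0, 0, 3, 0, 3, 3, 0, 3, 0, 3, 1, 4, 0, 4, 4, 0, 0, 3, 0, 3], 4),
  ([4, 2, 1, 3, 0, 4, 1, 1, 4, 1, 4, 1, 1, 1, 3, 1, 3, 1, 4, 1, 3, 3, 3, 0, 3, 0, 3, 1, 4, 0, 4, 4, 0, 0, 3, 0, 3], 1), ([4, 1, 1, 3, 3, 1, 4, 1, 4, 4, 2, 1, 1, 3, 3, 0, 3, 3, 1, 4, 1, 1, 1, 3, 0, 0], 2),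
  ([4, 2, 0, 4, 1, 4, 4, 0, 3, 1, 4, 1, 3, 0, 4, 0, 0, 0, 4, 0, 3, 0, 4, 4], 4), ([3, 2, 1, 3, 3, 0, 3, 3, 0, 3, 0, 4, 0, 0, 0, 4, 0, 3, 0, 4, 4, 3, 0, 3, 0, 3, 1, 4, 0, 4, 4, 0, 0, 3, 0, 3], 1),
  ([2, 1, 4, 2, 0, 0, 0, 3, 1, 1, 4, 2, 4, 1, 1, 1, 3, 1, 3, 1, 4, 1, 3, 3], 2), ([4, 0, 3, 1, 1, 1, 1, 3, 2, 1, 3, 0, 4, 0, 0, 0, 4, 0, 3, 0, 4, 4, 3, 0, 3, 0, 3, 1, 4, 0, 4, 4, 0, 0, 3, 0, 3], 4),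
  ([3, 2, 0, 0, 0, 3, 0, 4, 1, 4, 0, 3, 4, 1, 1, 1, 3, 1, 3, 1, 4, 1, 3, 3, 3, 0, 3, 0, 3, 1, 4, 0, 4, 4, 0, 0, 3, 0, 3, 3, 0, 3, 0, 3, 1, 4, 0, 4, 4, 0, 0, 3, 0, 3], 1), ([4, 2, 0, 3, 1, 3, 3, 1, 4, 3, 0, 4, 0, 0, 0, 4, 0, 3, 0, 4, 4, 3, 0, 3, 0, 3, 1, 4, 0, 4, 4, 0, 0, 3, 0, 3], 2),
  ([3, 2, 1, 1, 1, 1, 3, 3, 3, 0, 4, 0, 0, 0, 4, 0, 3, 0, 4, 4, 3, 0, 3, 0, 3, 1, 4, 0, 4, 4, 0, 0, 3, 0, 3, 3, 0, 3, 0, 3, 1, 4, 0, 4, 4, 0, 0, 3, 0, 3], 4), ([3, 3, 2, 1, 4, 4, 0, 4, 1, 1, 1, 3, 0, 4, 1, 1, 1, 3, 1, 3, 1, 4, 1, 3, 3, 3, 0, 3, 0, 3, 1, 4, 0, 4, 4, 0, 0, 3, 0, 3], 1),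
  ([0, 4, 0, 3, 0, 0, 3, 2, 0, 3, 3, 2, 0, 3, 3, 1, 1, 1, 3, 0, 3, 3, 0, 3, 3, 1, 3, 3, 3, 0, 3, 0, 3, 1, 4, 0, 4, 4, 0, 0, 3, 0, 3], 2), ([3, 0, 3, 0, 4, 0, 3, 1, 3, 3, 0, 2, 1, 0, 0, 4, 1, 4, 4, 0, 0, 4, 0, 0, 4, 1, 3, 0], 4),
  ([2, 1, 3, 3, 0, 3, 0, 3, 0, 4, 4, 2, 1, 4, 1, 1, 3, 0, 0, 0, 0, 3, 3, 1, 2, 3, 0, 3, 0, 3, 1, 4, 0, 4, 4, 0, 0, 3, 0, 3], 1), ([2, 1, 1, 1, 4, 4, 0, 4, 4, 4, 2, 1, 4, 1, 1, 3, 0, 0, 0, 0, 3, 3, 1, 2, 3, 0, 3, 0, 3, 1, 4, 0, 4, 4, 0, 0, 3, 0, 3], 2),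
  ([3, 1, 3, 1, 4, 4, 1, 1, 2, 1, 3, 3, 1, 4, 1, 1, 1, 3, 0, 3, 3, 0, 3, 0, 3, 0, 3, 1, 4, 0, 4, 4, 0, 0, 3, 0, 3, 3, 0, 3, 0, 3, 1, 4, 0, 4, 4, 0, 0, 3, 0, 3], 4), ([4, 2, 0, 0, 3, 1, 1, 3, 1, 3, 1, 4, 4, 0, 3, 1, 1, 3, 0, 0, 3, 0, 3, 0, 4, 4, 0, 3, 3, 3, 0, 3, 0, 3, 1, 4, 0, 4, 4, 0, 0, 3, 0, 3, 3, 0, 3, 0, 3, 1, 4, 0, 4, 4, 0, 0, 3, 0, 3], 1),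
  ([2, 1, 3, 3, 1, 3, 0, 0, 3, 3, 0, 1, 3, 1, 3, 1, 3, 3, 1, 3, 1, 3, 0, 0, 3, 0, 0, 3, 0, 3, 0, 3, 1, 4, 0, 4, 4, 0, 0, 3, 0, 3, 3, 0, 3, 0, 3, 1, 4, 0, 4, 4, 0, 0, 3, 0, 3], 2), ([1, 4, 1, 3, 0, 3, 3, 1, 1, 3, 2, 1, 1, 3, 1, 3, 1, 3, 3, 1, 3, 1, 3, 0, 0, 3, 0, 0], 4),
  ([0, 4, 2, 0, 3, 1, 3, 0, 3, 1, 1, 3, 3, 1, 4, 1, 1, 1, 3, 0, 3, 3, 0, 3, 0, 3, 0, 3, 1, 4, 0, 4, 4, 0, 0, 3, 0, 3, 3, 0, 3, 0, 3, 1, 4, 0, 4, 4, 0, 0, 3, 0, 3], 1), ([0, 2, 1, 4, 4, 0, 4, 1, 3, 3, 0, 4, 0, 4, 1, 1, 4, 4, 0, 0, 3, 1, 3, 1, 3, 0, 3, 0, 3, 0, 3, 1, 4, 0, 4, 4, 0, 0, 3, 0, 3], 2),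
  ([0, 4, 4, 1, 1, 4, 0, 4, 1, 1, 2, 4, 0, 4, 1, 1, 4, 4, 0, 0, 3, 1, 3, 1, 3, 0, 3, 0, 3, 0, 3, 1, 4, 0, 4, 4, 0, 0, 3, 0, 3], 4), ([3, 2, 0, 3, 0, 3, 2, 1, 3, 1, 1, 3, 0, 0, 3, 0, 3, 0, 4, 4, 0, 3, 3], 1),
  ([3, 0, 4, 0, 3, 3, 1, 4, 0, 4, 4, 2, 1, 3, 3, 0, 3, 3, 1, 4, 1, 1, 1, 3, 0, 0], 2), ([3, 0, 3, 1, 3, 3, 1, 4, 0, 4, 0, 2, 3, 3, 1, 4, 1, 1, 1, 3, 0, 3, 3, 0], 4),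
  ([3, 3, 1, 1, 3, 3, 0, 3, 3, 2, 3, 3, 1, 1, 1, 3, 0, 3, 3, 0, 3, 3, 1, 3, 3, 3, 0, 3, 0, 3, 1, 4, 0, 4, 4, 0, 0, 3, 0, 3], 1), ([0, 0, 4, 1, 4, 0, 4, 1, 3, 0, 2, 4, 2, 1, 4, 1, 1, 3, 0, 0, 0, 0, 3, 3, 1, 2], 2),
  ([0, 3, 3, 1, 1, 1, 4, 0, 0, 0, 3, 2, 0, 4, 4, 1, 3, 0, 4, 1, 1, 3, 0, 3, 0, 4, 4, 0, 3, 0, 3, 0, 3, 1, 4, 0, 4, 4, 0, 0, 3, 0, 3], 4), ([4, 1, 3, 0, 3, 1, 3, 1, 3, 0, 0, 3, 2, 4, 2, 1, 4, 1, 1, 3, 0, 0, 0, 0, 3, 3, 1, 2, 3, 0, 3, 0, 3, 1, 4, 0, 4, 4, 0, 0, 3, 0, 3], 1),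
  ([4, 0, 0, 3, 1, 1, 1, 4, 0, 3, 0, 3, 2, 3, 1, 1, 3, 1, 1, 3, 3, 0, 3, 1, 1, 1, 4, 0, 3, 0, 3, 0, 3, 1, 4, 0, 4, 4, 0, 0, 3, 0, 3], 2), ([1, 1, 3, 0, 3, 0, 0, 0, 0, 2, 3, 3, 1, 1, 1, 3, 0, 3, 3, 0, 3, 3, 1, 3, 3, 3, 0, 3, 0, 3, 1, 4, 0, 4, 4, 0, 0, 3, 0, 3, 3, 0, 3, 0, 3, 1, 4, 0, 4, 4, 0, 0, 3, 0, 3], 4),
  ([0, 0, 4, 0, 3, 1, 3, 3, 1, 3, 2, 0, 0, 4, 1, 4, 4, 0, 0, 4, 0, 0, 4, 1, 3, 0], 1), ([0, 0, 0, 0, 3, 0, 3, 1, 1, 2, 3, 3, 1, 1, 1, 3, 0, 3, 3, 0, 3, 3, 1, 3, 3, 3, 0, 3, 0, 3, 1, 4, 0, 4, 4, 0, 0, 3, 0, 3, 3, 0, 3, 0, 3, 1, 4, 0, 4, 4, 0, 0, 3, 0, 3], 2),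
  ([0, 4, 4, 2, 0, 0, 0, 0, 4, 1, 3, 3, 1, 4, 1, 1, 1, 3, 0, 3, 3, 0, 3, 0, 3, 0, 3, 1, 4, 0, 4, 4, 0, 0, 3, 0, 3, 3, 0, 3, 0, 3, 1, 4, 0, 4, 4, 0, 0, 3, 0, 3], 4), ([2, 0, 3, 3, 0, 4, 0, 4, 2, 1, 0, 4, 4, 1, 3, 0, 4, 1, 1, 3, 0, 3, 0, 4, 4, 0, 3, 0, 3, 0, 3, 1, 4, 0, 4, 4, 0, 0, 3, 0, 3], 1),
  ([3, 1, 3, 0, 0, 3, 1, 1, 3, 1, 2, 1, 3, 3, 0, 3, 3, 1, 4, 1, 1, 1, 3, 0, 0, 3, 0, 3, 0, 3, 1, 4, 0, 4, 4, 0, 0, 3, 0, 3, 3, 0, 3, 0, 3, 1, 4, 0, 4, 4, 0, 0, 3, 0, 3], 2), ([2, 1, 4, 4, 2, 1, 4, 1, 4, 1, 1, 1, 3, 1, 3, 1, 3, 3, 1, 3, 1, 3, 0, 0, 3, 0, 0, 3, 0, 3, 0, 3, 1, 4, 0, 4, 4, 0, 0, 3, 0, 3], 4),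
  ([0, 3, 2, 1, 3, 3, 0, 4, 1, 4, 1, 3, 1, 1, 3, 0, 0, 3, 0, 3, 0, 4, 4, 0, 3, 3, 3, 0, 3, 0, 3, 1, 4, 0, 4, 4, 0, 0, 3, 0, 3, 3, 0, 3, 0, 3, 1, 4, 0, 4, 4, 0, 0, 3, 0, 3], 1), ([4, 1, 1, 1, 3, 0, 3, 1, 4, 1, 2, 3, 3, 1, 1, 1, 3, 0, 3, 3, 0, 3, 3, 1, 3, 3], 2),
  ([3, 1, 1, 1, 3, 1, 3, 1, 4, 2, 3, 1, 1, 3, 1, 1, 3, 3, 0, 3, 1, 1, 1, 4, 0], 4), ([2, 0, 4, 1, 4, 2, 0, 0, 4, 0, 4, 2, 0, 3, 0, 4, 0, 0, 0, 4, 0, 3, 0, 4, 4, 3, 0, 3, 0, 3, 1, 4, 0, 4, 4, 0, 0, 3, 0, 3], 1),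
  ([0, 4, 2, 0, 4, 1, 3, 1, 3, 0, 0, 3, 0, 3, 0, 4, 0, 0, 0, 4, 0, 3, 0, 4, 4], 2), ([2, 1, 1, 4, 1, 1, 3, 1, 1, 3, 2, 3, 0, 4, 0, 0, 0, 4, 1, 1, 3, 0, 3, 3, 0, 3, 0, 3, 0, 3, 1, 4, 0, 4, 4, 0, 0, 3, 0, 3], 4),
  ([1, 3, 1, 1, 4, 0, 2, 1, 3, 1, 4, 1, 4, 3, 0, 4, 0, 0, 0, 4, 1, 1, 3, 0, 3, 3, 0], 1), ([2, 1, 3, 0, 3, 1, 1, 1, 1, 4, 4, 2, 3, 0, 4, 0, 0, 0, 4, 0, 3, 0, 4, 4], 2),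
  ([0, 3, 2, 1, 4, 4, 1, 1, 4, 1, 3, 1, 3, 1, 3, 3, 1, 3, 1, 3, 0, 0, 3, 0, 0], 4), ([0, 2, 1, 1, 4, 0, 0, 3, 3, 1, 1, 4, 0, 0, 1, 3, 3, 1, 4, 0, 0, 0, 3, 0, 4, 4, 1, 3, 0, 3, 0, 3, 0, 3, 1, 4, 0, 4, 4, 0, 0, 3, 0, 3], 1),
  ([0, 4, 4, 2, 1, 1, 3, 3, 1, 4, 1, 1, 4, 2, 1, 4, 1, 1, 3, 0, 0, 0, 0, 3, 3, 1, 2], 2), ([2, 0, 3, 0, 4, 2, 0, 3, 1, 1, 1, 2, 0, 4, 0, 4, 1, 1, 4, 4, 0, 0, 3, 1, 3, 1, 3, 0, 3, 0, 3, 0, 3, 1, 4, 0, 4, 4, 0, 0, 3, 0, 3, 3, 0, 3, 0, 3, 1, 4, 0, 4, 4, 0, 0, 3, 0, 3], 4),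
  ([3, 1, 4, 4, 1, 2, 0, 3, 3, 2, 1, 3, 0, 0, 0, 0, 4, 1, 4, 4, 0, 0, 4, 0, 0, 4, 1, 3, 0], 1), ([0, 3, 3, 2, 0, 3, 0, 4, 1, 1, 4, 1, 3, 3, 1, 4, 0, 0, 0, 3, 0, 4, 4, 1, 3, 0, 3, 0, 3, 0, 3, 1, 4, 0, 4, 4, 0, 0, 3, 0, 3, 3, 0, 3, 0, 3, 1, 4, 0, 4, 4, 0, 0, 3, 0, 3], 2),
  ([1, 1, 3, 1, 4, 4, 0, 4, 1, 1, 2, 1, 0, 0, 4, 1, 4, 4, 0, 0, 4, 0, 0, 4, 1, 3, 0, 3, 0, 3, 0, 3, 1, 4, 0, 4, 4, 0, 0, 3, 0, 3], 4), ([0, 4, 2, 1, 1, 3, 0, 3, 3, 1, 4, 0, 1, 3, 1, 3, 1, 3, 3, 1, 3, 1, 3, 0, 0, 3, 0, 0], 1),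
  ([4, 2, 0, 0, 3, 1, 3, 0, 0, 3, 0, 2, 3, 1, 1, 3, 0, 0, 3, 0, 3, 0, 4, 4, 0, 3, 3, 3, 0, 3, 0, 3, 1, 4, 0, 4, 4, 0, 0, 3, 0, 3], 2), ([3, 0, 3, 0, 3, 1, 3, 0, 0, 0, 2, 1, 0, 0, 4, 1, 4, 4, 0, 0, 4, 0, 0, 4, 1, 3, 0, 3, 0, 3, 0, 3, 1, 4, 0, 4, 4, 0, 0, 3, 0, 3, 3, 0, 3, 0, 3, 1, 4, 0, 4, 4, 0, 0, 3, 0, 3], 4),
  ([0, 2, 0, 0, 3, 0, 4, 0, 4, 4, 0, 0, 0, 4, 2, 1, 4, 1, 1, 3, 0, 0, 0, 0, 3, 3, 1, 2], 1), ([2, 1, 4, 1, 1, 1, 3, 1, 4, 0, 0, 2, 0, 0, 4, 1, 4, 4, 0, 0, 4, 0, 0, 4, 1, 3, 0, 3, 0, 3, 0, 3, 1, 4, 0, 4, 4, 0, 0, 3, 0, 3, 3, 0, 3, 0, 3, 1, 4, 0, 4, 4, 0, 0, 3, 0, 3], 2),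
  ([4, 2, 0, 0, 3, 0, 3, 1, 1, 3, 1, 2, 1, 3, 3, 1, 4, 0, 0, 0, 3, 0, 4, 4, 1, 3, 0, 3, 0, 3, 0, 3, 1, 4, 0, 4, 4, 0, 0, 3, 0, 3, 3, 0, 3, 0, 3, 1, 4, 0, 4, 4, 0, 0, 3, 0, 3], 4), ([0, 2, 1, 3, 0, 0, 3, 1, 4, 1, 1, 4, 1, 1, 1, 3, 1, 3, 1, 4, 1, 3, 3], 1),
  ([0, 4, 0, 3, 1, 3, 0, 3, 1, 1, 3, 2, 1], 2), ([3, 3, 0, 2, 1, 4, 2, 1, 1, 1, 1, 3, 3, 1, 1, 3, 0, 0, 3, 0, 3, 0, 4, 4, 0, 3, 3], 4)]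

/-- the code of the invariant trio -/
def n0 : ℕ := 4449893

end Cfsg.Agent.Lib.Helper9.M24Seven
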