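import Mathlib
import Cfsg.Agent.Lib.Helper9.M24Seven

set_option autoImplicit false

namespace Cfsg.Agent.Lib.Helper9.M24Seven

open Cfsg Cfsg.Agent.Lib.Helper1 Cfsg.Agent.Lib.Helper9.M24Enum Cfsg.Agent.Lib.Helper9.FixCount

abbrev L3 : List (Fin 24) := [23, 0, 1]
abbrev K6 : List ℕ := [1, 2, 3, 4, 5, 6]

theorem sT_cert : (∀ i : Fin 24, sT i = i ↔ i ∈ L3) ∧ sT 2 = 3 ∧ sT 3 = 4 ∧
    (∀ k ∈ K6, ∀ i : Fin 24, sT^[k] i = i → sT i = i) ∧ (∀ i : Fin 24, sT^[7] i = i) := by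
  decide +kernel

def normT (w : List ℕ) (k : ℕ) : Prop :=
  ∀ i : Fin 24, evalT w (sT i) = sT^[k] (evalT w i)

instance (w : List ℕ) (k : ℕ) : Decidable (normT w k) := by
  unfold normT
  infer_instance


/-- the certificate property of a coset representative -/
def certP (e : List ℕ × ℕ) : Prop :=
  ∀ u ∈ fixWords, evalT e.1 (evalT u 4) = sT^[e.2] (evalT e.1 3) →
    ∀ v ∈ vWords, normT (e.1 ++ (u ++ v)) e.2 → (e.1 ++ (u ++ v), e.2) ∈ nlist

instance (e : List ℕ × ℕ) : Decidable (certP e) := by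
  unfold certP
  infer_instance

end Cfsg.Agent.Lib.Helper9.M24Seven
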