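import Mathlib
import Cfsg.Agent.Lib.Helper9.M24Seven2a

set_option autoImplicit false

namespace Cfsg.Agent.Lib.Helper9.M24Seven

open Cfsg Cfsg.Agent.Lib.Helper1 Cfsg.Agent.Lib.Helper9.M24Enum Cfsg.Agent.Lib.Helper9.FixCount

def concl (a b c y : Fin 24) (k : ℕ) : Prop :=
  ∃ e ∈ tqs, e.2 = k ∧ evalT e.1 23 = a ∧ evalT e.1 0 = b ∧ evalT e.1 1 = c ∧ evalT e.1 2 = y ∧
      evalT e.1 3 = sT^[k] y

instance (a b c y : Fin 24) (k : ℕ) : Decidable (concl a b c y k) := by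
  unfold concl
  infer_instance

theorem cover : ∀ a ∈ L3, ∀ b ∈ L3, ∀ c ∈ L3, a ≠ b → a ≠ c → b ≠ c →
    ∀ y : Fin 24, y ∉ L3 → ∀ k ∈ K6, concl a b c y k := by
  decide +kernel


end Cfsg.Agent.Lib.Helper9.M24Seven
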