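import Mathlib
import Cfsg.Agent.Lib.Helper9.M24Seven2a

set_option autoImplicit false

namespace Cfsg.Agent.Lib.Helper9.M24Seven

open Cfsg Cfsg.Agent.Lib.Helper1 Cfsg.Agent.Lib.Helper9.M24Enum Cfsg.Agent.Lib.Helper9.FixCount

theorem norm_cert_1 : ∀ j < 84, certP (tqs.getD (84 + j) ([], 0)) := by
  decide +kernel

end Cfsg.Agent.Lib.Helper9.M24Seven
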