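import Mathlib
import Cfsg.Agent.Lib.Helper9.M24Seven2c0
import Cfsg.Agent.Lib.Helper9.M24Seven2c1
import Cfsg.Agent.Lib.Helper9.M24Seven2c2
import Cfsg.Agent.Lib.Helper9.M24Seven2c3
import Cfsg.Agent.Lib.Helper9.M24Seven2c4
import Cfsg.Agent.Lib.Helper9.M24Seven2c5
import Cfsg.Agent.Lib.Helper9.M24Seven2c6
import Cfsg.Agent.Lib.Helper9.M24Seven2c7
import Cfsg.Agent.Lib.Helper9.M24Seven2c8

set_option autoImplicit false

namespace Cfsg.Agent.Lib.Helper9.M24Seven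

open Cfsg Cfsg.Agent.Lib.Helper1 Cfsg.Agent.Lib.Helper9.M24Enum Cfsg.Agent.Lib.Helper9.FixCount

theorem fix_cert : (∀ u ∈ fixWords, evalT u 3 = 3) ∧
    (∀ v ∈ vWords, evalT v 3 = 3 ∧ evalT v 4 = 4) := by decide +kernel

theorem tqs_len : tqs.length = 756 := by decide +kernel

theorem norm_cert' : ∀ e ∈ tqs, certP e := by
  intro e he
  obtain ⟨i, hi, rfl⟩ := List.mem_iff_getElem.1 he
  have hi' : i < 756 := tqs_len ▸ hi
  rw [← List.getD_eq_getElem tqs ([], 0) hi]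
  have hdm := Nat.div_add_mod i 84
  have hm : i % 84 < 84 := Nat.mod_lt _ (by norm_num)
  have hc : i / 84 = 0 ∨ i / 84 = 1 ∨ i / 84 = 2 ∨ i / 84 = 3 ∨ i / 84 = 4 ∨ i / 84 = 5 ∨
      i / 84 = 6 ∨ i / 84 = 7 ∨ i / 84 = 8 := by omega
  rcases hc with h | h | h | h | h | h | h | h | h <;> rw [h] at hdm <;> rw [← hdm]
  · exact norm_cert_0 _ hm
  · exact norm_cert_1 _ hm
  · exact norm_cert_2 _ hm
  · exact norm_cert_3 _ hm
  · exact norm_cert_4 _ hm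
  · exact norm_cert_5 _ hm
  · exact norm_cert_6 _ hm
  · exact norm_cert_7 _ hm
  · exact norm_cert_8 _ hm

theorem norm_cert : ∀ e ∈ tqs, ∀ u ∈ fixWords,
    evalT e.1 (evalT u 4) = sT^[e.2] (evalT e.1 3) →
    ∀ v ∈ vWords, normT (e.1 ++ (u ++ v)) e.2 → (e.1 ++ (u ++ v), e.2) ∈ nlist :=
  fun e he => norm_cert' e he

end Cfsg.Agent.Lib.Helper9.M24Seven
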