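import Mathlib
import Cfsg.Agent.Lib.Helper9.M24Seven2a

set_option autoImplicit false

namespace Cfsg.Agent.Lib.Helper9.M24Seven

open Cfsg Cfsg.Agent.Lib.Helper1 Cfsg.Agent.Lib.Helper9.M24Enum Cfsg.Agent.Lib.Helper9.FixCount

theorem nlist_ok : ∀ e ∈ nlist, e.2 ∈ K6 ∧ normT e.1 e.2 := by
  decide +kernel

theorem nlist_nodup : (nlist.map (fun e => (List.finRange 24).map (evalT e.1))).Nodup := by
  decide +kernel

theorem nlist_len : nlist.length = 126 := by decide +kernel

theorem clist_len : (nlist.filter (fun e => decide (e.2 = 1))).length = 42 := by decide +kernel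

theorem trio_cert : ∀ e ∈ nlist, fxT (evalT e.1) n0 = true := by decide +kernel

theorem trio_ok : popc (combo (n0 / 4096)) = 8 ∧ popc (combo (n0 % 4096)) = 8 ∧
    combo (n0 / 4096) &&& combo (n0 % 4096) = 0 := by decide +kernel


end Cfsg.Agent.Lib.Helper9.M24Seven
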