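import Mathlib
import Cfsg.Agent.Lib.Helper9.M24Seven2a

set_option autoImplicit false

namespace Cfsg.Agent.Lib.Helper9.M24Seven

open Cfsg Cfsg.Agent.Lib.Helper1 Cfsg.Agent.Lib.Helper9.M24Enum Cfsg.Agent.Lib.Helper9.FixCount

def xw : List ℕ := [3, 2, 0, 3, 0, 3, 2, 1, 3, 1, 1, 3, 0, 0, 3, 0, 3, 0, 4, 4, 0, 3, 3]
def yw : List ℕ := [0, 2, 1, 3, 0, 0, 3, 1, 4, 1, 1, 4, 1, 1, 1, 3, 1, 3, 1, 4, 1, 3, 3]

theorem xy_cert : (xw, 1) ∈ nlist ∧ (yw, 1) ∈ nlist ∧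
    evalT xw (evalT yw 0) ≠ evalT yw (evalT xw 0) := by decide +kernel

end Cfsg.Agent.Lib.Helper9.M24Seven
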