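import Mathlib
import Cfsg.Agent.Lib.Helper9.M24Seven2b
import Cfsg.Agent.Lib.Helper9.M24Seven2c
import Cfsg.Agent.Lib.Helper9.M24Seven2d
import Cfsg.Agent.Lib.Helper9.M24Seven2e

set_option autoImplicit false

namespace Cfsg.Agent.Lib.Helper9.M24Seven

open Cfsg Cfsg.Agent.Lib.Helper1 Cfsg.Agent.Lib.Helper9.M24Enum Cfsg.Agent.Lib.Helper9.FixCount
open scoped Pointwise

/-- the standard element of order seven -/
noncomputable def s7 : Equiv.Perm GolayPt := evalW s7w

theorem s7_mem : s7 ∈ M24 := evalW_mem_M24 s7w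

theorem s7_table : HasTable s7 sT := by
  intro i
  show evalW s7w (gpt i) = _
  rw [evalW_table s7w i, sT_eq i]

theorem s7_pow_table (k : ℕ) : HasTable (s7 ^ k) (sT^[k]) := by
  induction k with
  | zero =>
    intro i
    simp
  | succ k ih =>
    rw [pow_succ, Function.iterate_succ]
    exact ih.mul s7_table

theorem hasTable_one {T : Fin 24 → Fin 24} (h : ∀ i, T i = i) :
    HasTable (1 : Equiv.Perm GolayPt) T := by
  intro i
  rw [h i]
  rfl

theorem s7_pow7 : s7 ^ 7 = 1 :=
  eq_of_hasTable (s7_pow_table 7) (hasTable_one sT_cert.2.2.2.2)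

theorem s7_ne_one : s7 ≠ 1 := by
  intro h
  have h2 := s7_table 2
  rw [h, sT_cert.2.1] at h2
  have h3 : (2 : Fin 24) = 3 := gpt_bij.injective h2
  revert h3
  decide

theorem orderOf_s7 : orderOf s7 = 7 := by
  haveI : Fact (Nat.Prime 7) := ⟨by norm_num⟩
  exact orderOf_eq_prime s7_pow7 s7_ne_one

theorem evalT_append (a b : List ℕ) (i : Fin 24) : evalT (a ++ b) i = evalT a (evalT b i) := by
  induction a with
  | nil => rfl
  | cons l a ih =>
    show letterT l (evalT (a ++ b) i) = letterT l (evalT a (evalT b i))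
    rw [ih]

/-- enumeration of the elements normalizing `⟨s7⟩` -/
theorem norm_enum {n : Equiv.Perm GolayPt} (hn : n ∈ M24) {k : ℕ} (hk : k ∈ K6)
    (h : n * s7 = s7 ^ k * n) : ∃ e ∈ nlist, e.2 = k ∧ n = evalW e.1 := by
  have hpt : ∀ p, n (s7 p) = (s7 ^ k) (n p) := by
    intro p
    have := congrArg (fun f : Equiv.Perm GolayPt => f p) h
    simpa [Equiv.Perm.mul_apply] using this
  obtain ⟨T, hT⟩ : ∃ T : Fin 24 → Fin 24, HasTable n T := by
    refine ⟨fun i => (gpt_bij.surjective (n (gpt i))).choose, fun i => ?_⟩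
    exact ((gpt_bij.surjective (n (gpt i))).choose_spec).symm
  have hTinj : Function.Injective T := by
    intro i j hij
    apply gpt_bij.injective
    apply n.injective
    rw [hT i, hT j, hij]
  have hTs : ∀ i, T (sT i) = sT^[k] (T i) := by
    intro i
    apply gpt_bij.injective
    rw [← hT, ← s7_table i, hpt, hT i, s7_pow_table k (T i)]
  have hfix : ∀ i ∈ L3, T i ∈ L3 := by
    intro i hi
    have h1 : sT i = i := (sT_cert.1 i).2 hi
    have h2 : sT^[k] (T i) = T i := by rw [← hTs, h1]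
    exact (sT_cert.1 _).1 (sT_cert.2.2.2.1 k hk _ h2)
  have hy : T 2 ∉ L3 := by
    intro hmem
    have h1 : sT (T 2) = T 2 := (sT_cert.1 _).2 hmem
    have h2 : sT^[k] (T 2) = T 2 := Function.iterate_fixed h1 k
    have h3 : T (sT 2) = T 2 := by rw [hTs, h2]
    have h4 := hTinj h3
    rw [sT_cert.2.1] at h4
    revert h4
    decide
  have h3 : T 3 = sT^[k] (T 2) := by rw [← hTs, sT_cert.2.1]
  have hc := cover (T 23) (hfix 23 (by decide)) (T 0) (hfix 0 (by decide)) (T 1)
    (hfix 1 (by decide)) (fun h => absurd (hTinj h) (by decide))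
    (fun h => absurd (hTinj h) (by decide)) (fun h => absurd (hTinj h) (by decide)) (T 2) hy k hk
  unfold concl at hc
  obtain ⟨e, he, hek, e23, e0, e1, e2, e3⟩ := hc
  obtain ⟨u, hu, v, hv, huv⟩ := coset_enum hn e.1 (by
    intro i hi
    rw [hT i]
    congr 1
    simp only [List.mem_cons, List.not_mem_nil, or_false] at hi
    rcases hi with rfl | rfl | rfl | rfl | rfl
    · exact e23.symm
    · exact e0.symm
    · exact e1.symm
    · exact e2.symm
    · rw [e3, h3])
  have hT' : ∀ i, T i = evalT (e.1 ++ (u ++ v)) i := by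
    intro i
    apply gpt_bij.injective
    rw [← hT i, huv, evalW_table]
  have hnorm : normT (e.1 ++ (u ++ v)) e.2 := by
    intro i
    rw [← hT', ← hT', hek]
    exact hTs i
  have hpre : evalT e.1 (evalT u 4) = sT^[e.2] (evalT e.1 3) := by
    have h3' := hnorm 3
    rw [sT_cert.2.2.1, evalT_append, evalT_append, evalT_append, evalT_append,
      (fix_cert.2 v hv).1, (fix_cert.2 v hv).2, fix_cert.1 u hu] at h3'
    exact h3'
  exact ⟨_, norm_cert e he u hu hpre v hv hnorm, hek, huv⟩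

theorem norm_of_mem {e : List ℕ × ℕ} (he : e ∈ nlist) :
    evalW e.1 * s7 = s7 ^ e.2 * evalW e.1 := by
  obtain ⟨_, hnT⟩ := nlist_ok e he
  have h1 : HasTable (evalW e.1 * s7) (evalT e.1 ∘ sT) := (evalW_table e.1).mul s7_table
  have h2 : HasTable (s7 ^ e.2 * evalW e.1) (sT^[e.2] ∘ evalT e.1) :=
    (s7_pow_table e.2).mul (evalW_table e.1)
  have h3 : evalT e.1 ∘ sT = sT^[e.2] ∘ evalT e.1 := funext hnT
  rw [h3] at h1
  exact eq_of_hasTable h1 h2

theorem evalW_injOn {e e' : List ℕ × ℕ} (he : e ∈ nlist) (he' : e' ∈ nlist)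
    (h : evalW e.1 = evalW e'.1) : e = e' := by
  apply List.inj_on_of_nodup_map nlist_nodup he he'
  apply List.map_congr_left
  intro i _
  apply gpt_bij.injective
  rw [← evalW_table, ← evalW_table, h]

theorem nlist_nodup' : nlist.Nodup := List.Nodup.of_map _ nlist_nodup

/-- the set of normalizing permutations -/
def NS : Set (Equiv.Perm GolayPt) := {n | n ∈ M24 ∧ ∃ k ∈ K6, n * s7 = s7 ^ k * n}

/-- the set of centralizing permutations -/
def CS : Set (Equiv.Perm GolayPt) := {n | n ∈ M24 ∧ n * s7 = s7 * n}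

theorem mem_NS_iff {n : Equiv.Perm GolayPt} : n ∈ NS ↔ ∃ e ∈ nlist, n = evalW e.1 := by
  constructor
  · rintro ⟨hn, k, hk, h⟩
    obtain ⟨e, he, -, rfl⟩ := norm_enum hn hk h
    exact ⟨e, he, rfl⟩
  · rintro ⟨e, he, rfl⟩
    exact ⟨evalW_mem_M24 _, e.2, (nlist_ok e he).1, norm_of_mem he⟩

theorem mem_CS_iff {n : Equiv.Perm GolayPt} :
    n ∈ CS ↔ ∃ e ∈ nlist.filter (fun e => decide (e.2 = 1)), n = evalW e.1 := by
  constructor
  · rintro ⟨hn, h⟩
    have h' : n * s7 = s7 ^ 1 * n := by rw [pow_one]; exact h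
    obtain ⟨e, he, hek, rfl⟩ := norm_enum hn (by decide) h'
    exact ⟨e, List.mem_filter.2 ⟨he, by simpa using hek⟩, rfl⟩
  · rintro ⟨e, he, rfl⟩
    obtain ⟨he1, he2⟩ := List.mem_filter.1 he
    have hk : e.2 = 1 := by simpa using he2
    have := norm_of_mem he1
    rw [hk, pow_one] at this
    exact ⟨evalW_mem_M24 _, this⟩

theorem ncard_of_list (L : List (List ℕ × ℕ)) (hL : ∀ e ∈ L, e ∈ nlist) (hnd : L.Nodup) :
    {n : Equiv.Perm GolayPt | ∃ e ∈ L, n = evalW e.1}.ncard = L.length := by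
  classical
  have hset : {n : Equiv.Perm GolayPt | ∃ e ∈ L, n = evalW e.1} =
      (fun e : List ℕ × ℕ => evalW e.1) '' ((L.toFinset : Finset (List ℕ × ℕ)) : Set _) := by
    ext n
    constructor
    · rintro ⟨e, he, rfl⟩
      exact ⟨e, by simpa using he, rfl⟩
    · rintro ⟨e, he, rfl⟩
      exact ⟨e, by simpa using he, rfl⟩
  rw [hset, Set.ncard_image_of_injOn, Set.ncard_coe_finset, List.toFinset_card_of_nodup hnd]
  intro e he e' he' h
  rw [Finset.mem_coe, List.mem_toFinset] at he he'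
  exact evalW_injOn (hL e he) (hL e' he') h

theorem ncard_NS : NS.ncard = 126 := by
  have : NS = {n : Equiv.Perm GolayPt | ∃ e ∈ nlist, n = evalW e.1} := by
    ext n
    exact mem_NS_iff
  rw [this, ncard_of_list nlist (fun _ h => h) nlist_nodup', nlist_len]

theorem ncard_CS : CS.ncard = 42 := by
  have : CS = {n : Equiv.Perm GolayPt | ∃ e ∈ nlist.filter (fun e => decide (e.2 = 1)),
      n = evalW e.1} := by
    ext n
    exact mem_CS_iff
  rw [this, ncard_of_list _ (fun _ h => (List.mem_filter.1 h).1) (nlist_nodup'.filter _),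
    clist_len]

/-- the invariant trio -/
theorem trio_mem : objT n0 ∈ trios := objT_mem trio_ok.1 trio_ok.2.1 trio_ok.2.2

theorem trio_fixed {n : Equiv.Perm GolayPt} (hn : n⁻¹ ∈ NS) : n • objT n0 = objT n0 := by
  obtain ⟨e, he, hne⟩ := mem_NS_iff.1 hn
  have hT : HasTable n⁻¹ (evalT e.1) := by rw [hne]; exact evalW_table e.1
  exact (fxT_iff hT n0).2 (trio_cert e he)

/-- two centralizing elements that do not commute -/
theorem noncomm : evalW xw ∈ CS ∧ evalW yw ∈ CS ∧ evalW xw * evalW yw ≠ evalW yw * evalW xw := by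
  obtain ⟨hx, hy, hne⟩ := xy_cert
  refine ⟨mem_CS_iff.2 ⟨(xw, 1), List.mem_filter.2 ⟨hx, by simp⟩, rfl⟩,
    mem_CS_iff.2 ⟨(yw, 1), List.mem_filter.2 ⟨hy, by simp⟩, rfl⟩, ?_⟩
  intro h
  apply hne
  have h0 := congrArg (fun f : Equiv.Perm GolayPt => f (gpt 0)) h
  simp only [Equiv.Perm.mul_apply] at h0
  rw [evalW_table yw 0, evalW_table xw 0, evalW_table xw, evalW_table yw] at h0
  exact gpt_bij.injective h0

end Cfsg.Agent.Lib.Helper9.M24Seven
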