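import Mathlib
import Cfsg.Agent.Lib.Helper9.M24Seven3
import Cfsg.Agent.Lib.Helper9.SylowConj
import Cfsg.Agent.Lib.Helper1.M24Order

set_option autoImplicit false

namespace Cfsg.Agent.Lib.Helper9.M24Seven

open Cfsg Cfsg.Agent.Lib.Helper1 Cfsg.Agent.Lib.Helper9.M24Enum Cfsg.Agent.Lib.Helper9.FixCount
open scoped Pointwise

/-- the standard element of order seven, in the subtype -/
noncomputable def s7' : ↥M24 := ⟨s7, s7_mem⟩

/-- the standard subgroup of order seven -/
noncomputable def S0 : Subgroup ↥M24 := Subgroup.zpowers s7'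

theorem coe_s7' : (s7' : Equiv.Perm GolayPt) = s7 := rfl

theorem orderOf_s7' : orderOf s7' = 7 := by
  rw [← orderOf_s7]
  exact Subgroup.orderOf_mk s7 s7_mem

theorem card_S0 : Nat.card S0 = 7 := by
  unfold S0
  rw [Nat.card_zpowers, orderOf_s7']

theorem s7'_ne_one : s7' ≠ 1 := by
  intro h
  have := orderOf_s7'
  rw [h, orderOf_one] at this
  omega

theorem mem_normalizer_S0 {n : ↥M24} :
    n ∈ Subgroup.normalizer (S0 : Set ↥M24) ↔ (n : Equiv.Perm GolayPt) ∈ NS := by
  constructor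
  · intro hn
    have h1 : n * s7' * n⁻¹ ∈ S0 :=
      (Subgroup.mem_normalizer_iff.1 hn s7').1 (Subgroup.mem_zpowers s7')
    obtain ⟨j, hj⟩ := Subgroup.mem_zpowers_iff.1 h1
    have hmod : s7' ^ (j % 7) = s7' ^ j := by
      have := zpow_mod_orderOf s7' j
      rw [orderOf_s7'] at this
      exact this
    have hnn : 0 ≤ j % 7 := Int.emod_nonneg j (by norm_num)
    have hlt : j % 7 < 7 := Int.emod_lt_of_pos j (by norm_num)
    obtain ⟨k, hk⟩ := Int.eq_ofNat_of_zero_le hnn
    rw [hk, zpow_natCast] at hmod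
    have hk7 : k < 7 := by omega
    have hconj : n * s7' * n⁻¹ = s7' ^ k := by rw [hmod, hj]
    have hk0 : k ≠ 0 := by
      intro h0
      rw [h0, pow_zero] at hconj
      apply s7'_ne_one
      have : s7' = n⁻¹ * (n * s7' * n⁻¹) * n := by group
      rw [this, hconj]
      group
    have hkK : k ∈ K6 := by
      have : 1 ≤ k := Nat.one_le_iff_ne_zero.2 hk0
      interval_cases k <;> decide
    have h2 : n * s7' = s7' ^ k * n := by
      rw [← hconj]
      group
    refine ⟨n.2, k, hkK, ?_⟩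
    have := congrArg Subtype.val h2
    simpa [coe_s7'] using this
  · rintro ⟨_, k, hk, h⟩
    have h' : n * s7' = s7' ^ k * n := Subtype.ext (by simpa [coe_s7'] using h)
    have h2 : n * s7' * n⁻¹ = s7' ^ k := by
      rw [h']
      group
    apply Subgroup.mem_normalizer_fintype
    intro m hm
    obtain ⟨j, rfl⟩ := Subgroup.mem_zpowers_iff.1 hm
    have h3 : n * s7' ^ j * n⁻¹ = (s7' ^ k) ^ j := by
      rw [← h2, conj_zpow]
    rw [SetLike.mem_coe, h3]
    exact Subgroup.zpow_mem _ (Subgroup.pow_mem _ (Subgroup.mem_zpowers _) _) _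

theorem mem_centralizer_S0 {n : ↥M24} :
    n ∈ Subgroup.centralizer (S0 : Set ↥M24) ↔ (n : Equiv.Perm GolayPt) ∈ CS := by
  constructor
  · intro hn
    have h1 := Subgroup.mem_centralizer_iff.1 hn s7' (Subgroup.mem_zpowers s7')
    refine ⟨n.2, ?_⟩
    have := congrArg Subtype.val h1
    simpa [coe_s7'] using this.symm
  · rintro ⟨_, h⟩
    have h' : n * s7' = s7' * n := Subtype.ext (by simpa [coe_s7'] using h)
    rw [Subgroup.mem_centralizer_iff]
    intro m hm
    obtain ⟨j, rfl⟩ := Subgroup.mem_zpowers_iff.1 hm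
    have hc : Commute n s7' := h'
    exact (hc.zpow_right j).eq.symm

theorem card_of_set (K : Subgroup ↥M24) (A : Set (Equiv.Perm GolayPt))
    (h : ∀ n : ↥M24, n ∈ K ↔ (n : Equiv.Perm GolayPt) ∈ A) (hA : ∀ a ∈ A, a ∈ M24) :
    Nat.card ↥K = A.ncard := by
  have : A = Subtype.val '' (K : Set ↥M24) := by
    ext m
    constructor
    · intro hm
      exact ⟨⟨m, hA m hm⟩, (h _).2 hm, rfl⟩
    · rintro ⟨n, hn, rfl⟩
      exact (h n).1 hn
  rw [this, Set.ncard_image_of_injective _ Subtype.val_injective]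
  rfl

theorem card_normalizer_S0 : Nat.card ↥(Subgroup.normalizer (S0 : Set ↥M24)) = 126 := by
  rw [card_of_set _ NS (fun n => mem_normalizer_S0) (fun a ha => ha.1), ncard_NS]

theorem card_centralizer_S0 : Nat.card ↥(Subgroup.centralizer (S0 : Set ↥M24)) = 42 := by
  rw [card_of_set _ CS (fun n => mem_centralizer_S0) (fun a ha => ha.1), ncard_CS]

theorem fac7 : (Nat.card ↥M24).factorization 7 = 1 := by
  rw [card_M24]
  have h : (244823040 : ℕ) = 7 ^ 1 * 34974720 := by norm_num
  rw [h, Nat.factorization_mul (by norm_num) (by norm_num), Nat.Prime.factorization_pow (by norm_num)]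
  have h2 : (34974720 : ℕ).factorization 7 = 0 :=
    Nat.factorization_eq_zero_of_not_dvd (by norm_num)
  simp [h2]

/-- every subgroup of order seven is conjugate to the standard one -/
theorem exists_conj (S : Subgroup ↥M24) (hS : Nat.card S = 7) :
    ∃ c : ↥M24, S0.map (MulAut.conj c).toMonoidHom = S := by
  have : Fact (Nat.Prime 7) := ⟨by norm_num⟩
  let P : Sylow 7 ↥M24 := Sylow.ofCard S (by rw [hS, fac7, pow_one])
  have hp : IsPGroup 7 S0 := IsPGroup.of_card (n := 1) (by rw [card_S0, pow_one])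
  obtain ⟨c, hc⟩ := exists_conj_le_sylow 7 P hp
  refine ⟨c, ?_⟩
  have hle : S0.map (MulAut.conj c).toMonoidHom ≤ S := hc
  apply Subgroup.eq_of_le_of_card_ge hle
  rw [card_map_conj, card_S0, hS]

/-- the main statement -/
theorem main (S : Subgroup ↥M24) (hS : Nat.card S = 7) :
    Nat.card ↥(Subgroup.normalizer (S : Set ↥M24)) = 126 ∧
    Nat.card ↥(Subgroup.centralizer (S : Set ↥M24)) = 42 ∧
    (∃ x ∈ Subgroup.centralizer (S : Set ↥M24), ∃ y ∈ Subgroup.centralizer (S : Set ↥M24),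
      x * y ≠ y * x) ∧
    ∃ T ∈ trios, ∀ n ∈ Subgroup.normalizer (S : Set ↥M24),
      ((n : ↥M24) : Equiv.Perm GolayPt) • T = T := by
  obtain ⟨c, rfl⟩ := exists_conj S hS
  refine ⟨?_, ?_, ?_, ?_⟩
  · rw [normalizer_map_conj, card_map_conj, card_normalizer_S0]
  · rw [centralizer_map_conj, card_map_conj, card_centralizer_S0]
  · obtain ⟨hx, hy, hne⟩ := noncomm
    let x0 : ↥M24 := ⟨evalW xw, hx.1⟩
    let y0 : ↥M24 := ⟨evalW yw, hy.1⟩
    have hx0 : x0 ∈ Subgroup.centralizer (S0 : Set ↥M24) := mem_centralizer_S0.2 hx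
    have hy0 : y0 ∈ Subgroup.centralizer (S0 : Set ↥M24) := mem_centralizer_S0.2 hy
    rw [centralizer_map_conj]
    refine ⟨_, Subgroup.mem_map_of_mem _ hx0, _, Subgroup.mem_map_of_mem _ hy0, ?_⟩
    intro h
    rw [← map_mul, ← map_mul] at h
    have h2 : x0 * y0 = y0 * x0 := (MulAut.conj c).injective h
    apply hne
    have := congrArg Subtype.val h2
    simpa [coe_s7'] using this
  · refine ⟨(c : Equiv.Perm GolayPt) • objT n0, smul_mem_trios c.2 trio_mem, ?_⟩
    intro n hn
    rw [normalizer_map_conj] at hn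
    obtain ⟨m, hm, rfl⟩ := hn
    have hm' : ((m⁻¹ : ↥M24) : Equiv.Perm GolayPt) ∈ NS :=
      mem_normalizer_S0.1 (inv_mem hm)
    have hfix : (m : Equiv.Perm GolayPt) • objT n0 = objT n0 :=
      trio_fixed (by simpa using hm')
    show (((MulAut.conj c) m : ↥M24) : Equiv.Perm GolayPt) • _ = _
    rw [MulAut.conj_apply]
    simp only [Subgroup.coe_mul, Subgroup.coe_inv]
    rw [mul_smul, mul_smul, inv_smul_smul, hfix]

end Cfsg.Agent.Lib.Helper9.M24Seven
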