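import Mathlib
import Cfsg.Prelude.Def_Sporadic_a
import Cfsg.Agent.Lib.Helper1.M11Simple

set_option autoImplicit false

namespace Cfsg.Agent.Lib.Helper9.M9

open Cfsg Cfsg.Agent.Lib.Helper1

def all72 : List (List ℕ) := [[],
    [0, 2, 1, 4, 1, 4, 1, 2, 4, 1],
    [3, 3, 1, 4, 1, 1, 1, 3, 0, 3, 3, 0],
    [4, 1, 1, 3, 3, 2, 1, 1, 1, 2, 3, 3, 0, 4],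
    [4, 1, 1, 2, 0, 4, 4, 0, 3, 0, 0, 4, 1, 3, 1],
    [3, 3, 1, 4, 1, 1, 1, 3, 0, 3, 3, 0, 0, 2, 1, 4, 1, 4, 1, 2, 4, 1],
    [4, 1, 1, 3, 3, 2, 1, 1, 1, 2, 3, 3, 0, 4, 0, 2, 1, 4, 1, 4, 1, 2, 4, 1],
    [4, 1, 1, 2, 0, 4, 4, 0, 3, 0, 0, 4, 1, 3, 2, 1, 4, 1, 4, 1, 2, 4, 1],
    [0, 2, 1, 4, 1, 4, 1, 2, 4, 1, 3, 3, 1, 4, 1, 1, 1, 3, 0, 3, 3, 0],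
    [4, 1, 1, 3, 3, 2, 1, 1, 1, 2, 3, 3, 0, 3, 1, 4, 1, 1, 1, 3, 0, 3, 3, 0],
    [4, 1, 1, 2, 0, 4, 4, 0, 3, 0, 0, 4, 1, 3, 1, 3, 3, 1, 4, 1, 1, 1, 3, 0, 3, 3, 0],
    [0, 2, 1, 4, 1, 4, 1, 2, 4, 1, 4, 1, 1, 3, 3, 2, 1, 1, 1, 2, 3, 3, 0, 4],
    [4, 1, 1, 2, 0, 4, 4, 0, 3, 0, 0, 4, 1, 3, 1, 4, 1, 1, 3, 3, 2, 1, 1, 1, 2, 3, 3, 0, 4],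
    [0, 2, 1, 4, 1, 4, 1, 2, 4, 1, 4, 1, 1, 2, 0, 4, 4, 0, 3, 0, 0, 4, 1, 3, 1],
    [4, 1, 1, 3, 3, 2, 1, 1, 1, 2, 3, 3, 0, 4, 4, 1, 1, 2, 0, 4, 4, 0, 3, 0, 0, 4, 1, 3, 1],
    [0, 2, 1, 4, 1, 4, 1, 2, 4, 1, 3, 3, 1, 4, 1, 1, 1, 3, 0, 3, 3, 0, 0, 2, 1, 4, 1, 4, 1, 2, 4, 1],
    [4, 1, 1, 3, 3, 2, 1, 1, 1, 2, 3, 3, 0, 3, 1, 4, 1, 1, 1, 3, 0, 3, 3, 0, 0, 2, 1, 4, 1, 4, 1, 2, 4, 1],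
    [4, 1, 1, 2, 0, 4, 4, 0, 3, 0, 0, 4, 1, 3, 1, 3, 3, 1, 4, 1, 1, 1, 3, 0, 3, 3, 0, 0, 2, 1, 4, 1, 4, 1, 2, 4, 1],
    [0, 2, 1, 4, 1, 4, 1, 2, 4, 1, 4, 1, 1, 3, 3, 2, 1, 1, 1, 2, 3, 3, 0, 4, 0, 2, 1, 4, 1, 4, 1, 2, 4, 1],
    [4, 1, 1, 2, 0, 4, 4, 0, 3, 0, 0, 4, 1, 3, 1, 4, 1, 1, 3, 3, 2, 1, 1, 1, 2, 3, 3, 0, 4, 0, 2, 1, 4, 1, 4, 1, 2, 4, 1],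
    [0, 2, 1, 4, 1, 4, 1, 2, 4, 1, 4, 1, 1, 2, 0, 4, 4, 0, 3, 0, 0, 4, 1, 3, 2, 1, 4, 1, 4, 1, 2, 4, 1],
    [4, 1, 1, 3, 3, 2, 1, 1, 1, 2, 3, 3, 0, 4, 4, 1, 1, 2, 0, 4, 4, 0, 3, 0, 0, 4, 1, 3, 2, 1, 4, 1, 4, 1, 2, 4, 1],
    [4, 1, 1, 3, 3, 2, 1, 1, 1, 2, 3, 3, 0, 4, 0, 2, 1, 4, 1, 4, 1, 2, 4, 1, 3, 3, 1, 4, 1, 1, 1, 3, 0, 3, 3, 0],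
    [4, 1, 1, 2, 0, 4, 4, 0, 3, 0, 0, 4, 1, 3, 2, 1, 4, 1, 4, 1, 2, 4, 1, 3, 3, 1, 4, 1, 1, 1, 3, 0, 3, 3, 0],
    [0, 2, 1, 4, 1, 4, 1, 2, 4, 1, 4, 1, 1, 3, 3, 2, 1, 1, 1, 2, 3, 3, 0, 3, 1, 4, 1, 1, 1, 3, 0, 3, 3, 0],
    [0, 2, 1, 4, 1, 4, 1, 2, 4, 1, 4, 1, 1, 2, 0, 4, 4, 0, 3, 0, 0, 4, 1, 3, 1, 3, 3, 1, 4, 1, 1, 1, 3, 0, 3, 3, 0],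
    [3, 3, 1, 4, 1, 1, 1, 3, 0, 3, 3, 0, 0, 2, 1, 4, 1, 4, 1, 2, 4, 1, 4, 1, 1, 3, 3, 2, 1, 1, 1, 2, 3, 3, 0, 4],
    [4, 1, 1, 3, 3, 2, 1, 1, 1, 2, 3, 3, 0, 4, 0, 2, 1, 4, 1, 4, 1, 2, 4, 1, 4, 1, 1, 3, 3, 2, 1, 1, 1, 2, 3, 3, 0, 4],
    [4, 1, 1, 2, 0, 4, 4, 0, 3, 0, 0, 4, 1, 3, 2, 1, 4, 1, 4, 1, 2, 4, 1, 4, 1, 1, 3, 3, 2, 1, 1, 1, 2, 3, 3, 0, 4],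
    [0, 2, 1, 4, 1, 4, 1, 2, 4, 1, 4, 1, 1, 2, 0, 4, 4, 0, 3, 0, 0, 4, 1, 3, 1, 4, 1, 1, 3, 3, 2, 1, 1, 1, 2, 3, 3, 0, 4],
    [3, 3, 1, 4, 1, 1, 1, 3, 0, 3, 3, 0, 0, 2, 1, 4, 1, 4, 1, 2, 4, 1, 4, 1, 1, 2, 0, 4, 4, 0, 3, 0, 0, 4, 1, 3, 1],
    [4, 1, 1, 3, 3, 2, 1, 1, 1, 2, 3, 3, 0, 4, 0, 2, 1, 4, 1, 4, 1, 2, 4, 1, 4, 1, 1, 2, 0, 4, 4, 0, 3, 0, 0, 4, 1, 3, 1],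
    [4, 1, 1, 2, 0, 4, 4, 0, 3, 0, 0, 4, 1, 3, 2, 1, 4, 1, 4, 1, 2, 4, 1, 4, 1, 1, 2, 0, 4, 4, 0, 3, 0, 0, 4, 1, 3, 1],
    [0, 2, 1, 4, 1, 4, 1, 2, 4, 1, 4, 1, 1, 3, 3, 2, 1, 1, 1, 2, 3, 3, 0, 4, 4, 1, 1, 2, 0, 4, 4, 0, 3, 0, 0, 4, 1, 3, 1],
    [4, 1, 1, 3, 3, 2, 1, 1, 1, 2, 3, 3, 0, 4, 0, 2, 1, 4, 1, 4, 1, 2, 4, 1, 3, 3, 1, 4, 1, 1, 1, 3, 0, 3, 3, 0, 0, 2, 1, 4, 1, 4, 1, 2, 4, 1],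
    [4, 1, 1, 2, 0, 4, 4, 0, 3, 0, 0, 4, 1, 3, 2, 1, 4, 1, 4, 1, 2, 4, 1, 3, 3, 1, 4, 1, 1, 1, 3, 0, 3, 3, 0, 0, 2, 1, 4, 1, 4, 1, 2, 4, 1],
    [0, 2, 1, 4, 1, 4, 1, 2, 4, 1, 4, 1, 1, 3, 3, 2, 1, 1, 1, 2, 3, 3, 0, 3, 1, 4, 1, 1, 1, 3, 0, 3, 3, 0, 0, 2, 1, 4, 1, 4, 1, 2, 4, 1],
    [0, 2, 1, 4, 1, 4, 1, 2, 4, 1, 4, 1, 1, 2, 0, 4, 4, 0, 3, 0, 0, 4, 1, 3, 1, 3, 3, 1, 4, 1, 1, 1, 3, 0, 3, 3, 0, 0, 2, 1, 4, 1, 4, 1, 2, 4, 1],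
    [3, 3, 1, 4, 1, 1, 1, 3, 0, 3, 3, 0, 0, 2, 1, 4, 1, 4, 1, 2, 4, 1, 4, 1, 1, 3, 3, 2, 1, 1, 1, 2, 3, 3, 0, 4, 0, 2, 1, 4, 1, 4, 1, 2, 4, 1],
    [4, 1, 1, 3, 3, 2, 1, 1, 1, 2, 3, 3, 0, 4, 0, 2, 1, 4, 1, 4, 1, 2, 4, 1, 4, 1, 1, 3, 3, 2, 1, 1, 1, 2, 3, 3, 0, 4, 0, 2, 1, 4, 1, 4, 1, 2, 4, 1],
    [4, 1, 1, 2, 0, 4, 4, 0, 3, 0, 0, 4, 1, 3, 2, 1, 4, 1, 4, 1, 2, 4, 1, 4, 1, 1, 3, 3, 2, 1, 1, 1, 2, 3, 3, 0, 4, 0, 2, 1, 4, 1, 4, 1, 2, 4, 1],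
    [0, 2, 1, 4, 1, 4, 1, 2, 4, 1, 4, 1, 1, 2, 0, 4, 4, 0, 3, 0, 0, 4, 1, 3, 1, 4, 1, 1, 3, 3, 2, 1, 1, 1, 2, 3, 3, 0, 4, 0, 2, 1, 4, 1, 4, 1, 2, 4, 1],
    [3, 3, 1, 4, 1, 1, 1, 3, 0, 3, 3, 0, 0, 2, 1, 4, 1, 4, 1, 2, 4, 1, 4, 1, 1, 2, 0, 4, 4, 0, 3, 0, 0, 4, 1, 3, 2, 1, 4, 1, 4, 1, 2, 4, 1],
    [4, 1, 1, 3, 3, 2, 1, 1, 1, 2, 3, 3, 0, 4, 0, 2, 1, 4, 1, 4, 1, 2, 4, 1, 4, 1, 1, 2, 0, 4, 4, 0, 3, 0, 0, 4, 1, 3, 2, 1, 4, 1, 4, 1, 2, 4, 1],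
    [4, 1, 1, 2, 0, 4, 4, 0, 3, 0, 0, 4, 1, 3, 2, 1, 4, 1, 4, 1, 2, 4, 1, 4, 1, 1, 2, 0, 4, 4, 0, 3, 0, 0, 4, 1, 3, 2, 1, 4, 1, 4, 1, 2, 4, 1],
    [0, 2, 1, 4, 1, 4, 1, 2, 4, 1, 4, 1, 1, 3, 3, 2, 1, 1, 1, 2, 3, 3, 0, 4, 4, 1, 1, 2, 0, 4, 4, 0, 3, 0, 0, 4, 1, 3, 2, 1, 4, 1, 4, 1, 2, 4, 1],
    [0, 2, 1, 4, 1, 4, 1, 2, 4, 1, 4, 1, 1, 3, 3, 2, 1, 1, 1, 2, 3, 3, 0, 4, 0, 2, 1, 4, 1, 4, 1, 2, 4, 1, 3, 3, 1, 4, 1, 1, 1, 3, 0, 3, 3, 0],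
    [4, 1, 1, 2, 0, 4, 4, 0, 3, 0, 0, 4, 1, 3, 1, 4, 1, 1, 3, 3, 2, 1, 1, 1, 2, 3, 3, 0, 4, 0, 2, 1, 4, 1, 4, 1, 2, 4, 1, 3, 3, 1, 4, 1, 1, 1, 3, 0, 3, 3, 0],
    [0, 2, 1, 4, 1, 4, 1, 2, 4, 1, 4, 1, 1, 2, 0, 4, 4, 0, 3, 0, 0, 4, 1, 3, 2, 1, 4, 1, 4, 1, 2, 4, 1, 3, 3, 1, 4, 1, 1, 1, 3, 0, 3, 3, 0],
    [4, 1, 1, 3, 3, 2, 1, 1, 1, 2, 3, 3, 0, 4, 4, 1, 1, 2, 0, 4, 4, 0, 3, 0, 0, 4, 1, 3, 2, 1, 4, 1, 4, 1, 2, 4, 1, 3, 3, 1, 4, 1, 1, 1, 3, 0, 3, 3, 0],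
    [3, 3, 1, 4, 1, 1, 1, 3, 0, 3, 3, 0, 0, 2, 1, 4, 1, 4, 1, 2, 4, 1, 4, 1, 1, 3, 3, 2, 1, 1, 1, 2, 3, 3, 0, 3, 1, 4, 1, 1, 1, 3, 0, 3, 3, 0],
    [4, 1, 1, 3, 3, 2, 1, 1, 1, 2, 3, 3, 0, 4, 0, 2, 1, 4, 1, 4, 1, 2, 4, 1, 4, 1, 1, 3, 3, 2, 1, 1, 1, 2, 3, 3, 0, 3, 1, 4, 1, 1, 1, 3, 0, 3, 3, 0],
    [4, 1, 1, 2, 0, 4, 4, 0, 3, 0, 0, 4, 1, 3, 2, 1, 4, 1, 4, 1, 2, 4, 1, 4, 1, 1, 3, 3, 2, 1, 1, 1, 2, 3, 3, 0, 3, 1, 4, 1, 1, 1, 3, 0, 3, 3, 0],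
    [3, 3, 1, 4, 1, 1, 1, 3, 0, 3, 3, 0, 0, 2, 1, 4, 1, 4, 1, 2, 4, 1, 4, 1, 1, 2, 0, 4, 4, 0, 3, 0, 0, 4, 1, 3, 1, 3, 3, 1, 4, 1, 1, 1, 3, 0, 3, 3, 0],
    [4, 1, 1, 3, 3, 2, 1, 1, 1, 2, 3, 3, 0, 4, 0, 2, 1, 4, 1, 4, 1, 2, 4, 1, 4, 1, 1, 2, 0, 4, 4, 0, 3, 0, 0, 4, 1, 3, 1, 3, 3, 1, 4, 1, 1, 1, 3, 0, 3, 3, 0],
    [4, 1, 1, 2, 0, 4, 4, 0, 3, 0, 0, 4, 1, 3, 2, 1, 4, 1, 4, 1, 2, 4, 1, 4, 1, 1, 2, 0, 4, 4, 0, 3, 0, 0, 4, 1, 3, 1, 3, 3, 1, 4, 1, 1, 1, 3, 0, 3, 3, 0],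
    [4, 1, 1, 3, 3, 2, 1, 1, 1, 2, 3, 3, 0, 3, 1, 4, 1, 1, 1, 3, 0, 3, 3, 0, 0, 2, 1, 4, 1, 4, 1, 2, 4, 1, 4, 1, 1, 3, 3, 2, 1, 1, 1, 2, 3, 3, 0, 4],
    [4, 1, 1, 2, 0, 4, 4, 0, 3, 0, 0, 4, 1, 3, 1, 4, 1, 1, 3, 3, 2, 1, 1, 1, 2, 3, 3, 0, 4, 0, 2, 1, 4, 1, 4, 1, 2, 4, 1, 4, 1, 1, 3, 3, 2, 1, 1, 1, 2, 3, 3, 0, 4],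
    [4, 1, 1, 3, 3, 2, 1, 1, 1, 2, 3, 3, 0, 4, 4, 1, 1, 2, 0, 4, 4, 0, 3, 0, 0, 4, 1, 3, 2, 1, 4, 1, 4, 1, 2, 4, 1, 4, 1, 1, 3, 3, 2, 1, 1, 1, 2, 3, 3, 0, 4],
    [4, 1, 1, 2, 0, 4, 4, 0, 3, 0, 0, 4, 1, 3, 1, 3, 3, 1, 4, 1, 1, 1, 3, 0, 3, 3, 0, 0, 2, 1, 4, 1, 4, 1, 2, 4, 1, 4, 1, 1, 2, 0, 4, 4, 0, 3, 0, 0, 4, 1, 3, 1],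
    [4, 1, 1, 2, 0, 4, 4, 0, 3, 0, 0, 4, 1, 3, 1, 4, 1, 1, 3, 3, 2, 1, 1, 1, 2, 3, 3, 0, 4, 0, 2, 1, 4, 1, 4, 1, 2, 4, 1, 4, 1, 1, 2, 0, 4, 4, 0, 3, 0, 0, 4, 1, 3, 1],
    [4, 1, 1, 3, 3, 2, 1, 1, 1, 2, 3, 3, 0, 4, 4, 1, 1, 2, 0, 4, 4, 0, 3, 0, 0, 4, 1, 3, 2, 1, 4, 1, 4, 1, 2, 4, 1, 4, 1, 1, 2, 0, 4, 4, 0, 3, 0, 0, 4, 1, 3, 1],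
    [3, 3, 1, 4, 1, 1, 1, 3, 0, 3, 3, 0, 0, 2, 1, 4, 1, 4, 1, 2, 4, 1, 4, 1, 1, 3, 3, 2, 1, 1, 1, 2, 3, 3, 0, 3, 1, 4, 1, 1, 1, 3, 0, 3, 3, 0, 0, 2, 1, 4, 1, 4, 1, 2, 4, 1],
    [4, 1, 1, 3, 3, 2, 1, 1, 1, 2, 3, 3, 0, 4, 0, 2, 1, 4, 1, 4, 1, 2, 4, 1, 4, 1, 1, 3, 3, 2, 1, 1, 1, 2, 3, 3, 0, 3, 1, 4, 1, 1, 1, 3, 0, 3, 3, 0, 0, 2, 1, 4, 1, 4, 1, 2, 4, 1],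
    [3, 3, 1, 4, 1, 1, 1, 3, 0, 3, 3, 0, 0, 2, 1, 4, 1, 4, 1, 2, 4, 1, 4, 1, 1, 2, 0, 4, 4, 0, 3, 0, 0, 4, 1, 3, 1, 3, 3, 1, 4, 1, 1, 1, 3, 0, 3, 3, 0, 0, 2, 1, 4, 1, 4, 1, 2, 4, 1],
    [4, 1, 1, 2, 0, 4, 4, 0, 3, 0, 0, 4, 1, 3, 2, 1, 4, 1, 4, 1, 2, 4, 1, 4, 1, 1, 2, 0, 4, 4, 0, 3, 0, 0, 4, 1, 3, 1, 3, 3, 1, 4, 1, 1, 1, 3, 0, 3, 3, 0, 0, 2, 1, 4, 1, 4, 1, 2, 4, 1],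
    [4, 1, 1, 3, 3, 2, 1, 1, 1, 2, 3, 3, 0, 3, 1, 4, 1, 1, 1, 3, 0, 3, 3, 0, 0, 2, 1, 4, 1, 4, 1, 2, 4, 1, 4, 1, 1, 3, 3, 2, 1, 1, 1, 2, 3, 3, 0, 4, 0, 2, 1, 4, 1, 4, 1, 2, 4, 1],
    [4, 1, 1, 3, 3, 2, 1, 1, 1, 2, 3, 3, 0, 4, 4, 1, 1, 2, 0, 4, 4, 0, 3, 0, 0, 4, 1, 3, 2, 1, 4, 1, 4, 1, 2, 4, 1, 4, 1, 1, 3, 3, 2, 1, 1, 1, 2, 3, 3, 0, 4, 0, 2, 1, 4, 1, 4, 1, 2, 4, 1],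
    [4, 1, 1, 2, 0, 4, 4, 0, 3, 0, 0, 4, 1, 3, 1, 3, 3, 1, 4, 1, 1, 1, 3, 0, 3, 3, 0, 0, 2, 1, 4, 1, 4, 1, 2, 4, 1, 4, 1, 1, 2, 0, 4, 4, 0, 3, 0, 0, 4, 1, 3, 2, 1, 4, 1, 4, 1, 2, 4, 1],
    [4, 1, 1, 2, 0, 4, 4, 0, 3, 0, 0, 4, 1, 3, 1, 4, 1, 1, 3, 3, 2, 1, 1, 1, 2, 3, 3, 0, 4, 0, 2, 1, 4, 1, 4, 1, 2, 4, 1, 4, 1, 1, 2, 0, 4, 4, 0, 3, 0, 0, 4, 1, 3, 2, 1, 4, 1, 4, 1, 2, 4, 1],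
    [0, 2, 1, 4, 1, 4, 1, 2, 4, 1, 4, 1, 1, 2, 0, 4, 4, 0, 3, 0, 0, 4, 1, 3, 1, 4, 1, 1, 3, 3, 2, 1, 1, 1, 2, 3, 3, 0, 4, 0, 2, 1, 4, 1, 4, 1, 2, 4, 1, 3, 3, 1, 4, 1, 1, 1, 3, 0, 3, 3, 0],
    [0, 2, 1, 4, 1, 4, 1, 2, 4, 1, 4, 1, 1, 3, 3, 2, 1, 1, 1, 2, 3, 3, 0, 4, 4, 1, 1, 2, 0, 4, 4, 0, 3, 0, 0, 4, 1, 3, 2, 1, 4, 1, 4, 1, 2, 4, 1, 3, 3, 1, 4, 1, 1, 1, 3, 0, 3, 3, 0]]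

def n9 : List (List ℕ) := [[],
    [3, 3, 1, 4, 1, 1, 1, 3, 0, 3, 3, 0, 0, 2, 1, 4, 1, 4, 1, 2, 4, 1],
    [0, 2, 1, 4, 1, 4, 1, 2, 4, 1, 3, 3, 1, 4, 1, 1, 1, 3, 0, 3, 3, 0],
    [4, 1, 1, 3, 3, 2, 1, 1, 1, 2, 3, 3, 0, 4, 0, 2, 1, 4, 1, 4, 1, 2, 4, 1, 4, 1, 1, 3, 3, 2, 1, 1, 1, 2, 3, 3, 0, 4],
    [4, 1, 1, 2, 0, 4, 4, 0, 3, 0, 0, 4, 1, 3, 2, 1, 4, 1, 4, 1, 2, 4, 1, 4, 1, 1, 2, 0, 4, 4, 0, 3, 0, 0, 4, 1, 3, 1],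
    [4, 1, 1, 3, 3, 2, 1, 1, 1, 2, 3, 3, 0, 4, 0, 2, 1, 4, 1, 4, 1, 2, 4, 1, 4, 1, 1, 3, 3, 2, 1, 1, 1, 2, 3, 3, 0, 3, 1, 4, 1, 1, 1, 3, 0, 3, 3, 0, 0, 2, 1, 4, 1, 4, 1, 2, 4, 1],
    [4, 1, 1, 2, 0, 4, 4, 0, 3, 0, 0, 4, 1, 3, 2, 1, 4, 1, 4, 1, 2, 4, 1, 4, 1, 1, 2, 0, 4, 4, 0, 3, 0, 0, 4, 1, 3, 1, 3, 3, 1, 4, 1, 1, 1, 3, 0, 3, 3, 0, 0, 2, 1, 4, 1, 4, 1, 2, 4, 1],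
    [4, 1, 1, 3, 3, 2, 1, 1, 1, 2, 3, 3, 0, 3, 1, 4, 1, 1, 1, 3, 0, 3, 3, 0, 0, 2, 1, 4, 1, 4, 1, 2, 4, 1, 4, 1, 1, 3, 3, 2, 1, 1, 1, 2, 3, 3, 0, 4, 0, 2, 1, 4, 1, 4, 1, 2, 4, 1],
    [4, 1, 1, 2, 0, 4, 4, 0, 3, 0, 0, 4, 1, 3, 1, 3, 3, 1, 4, 1, 1, 1, 3, 0, 3, 3, 0, 0, 2, 1, 4, 1, 4, 1, 2, 4, 1, 4, 1, 1, 2, 0, 4, 4, 0, 3, 0, 0, 4, 1, 3, 2, 1, 4, 1, 4, 1, 2, 4, 1]]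

def wa : List ℕ := [4, 1, 1, 3, 3, 2, 1, 1, 1, 2, 3, 3, 0, 4]
def wb : List ℕ := [4, 1, 1, 2, 0, 4, 4, 0, 3, 0, 0, 4, 1, 3, 1]

end Cfsg.Agent.Lib.Helper9.M9
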