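import Mathlib
import Cfsg.Prelude.Def_Sporadic_a
import Cfsg.Agent.Lib.Helper9.M9Words

set_option autoImplicit false

namespace Cfsg.Agent.Lib.Helper9.M9

open Cfsg Cfsg.Agent.Lib.Helper1

theorem cert_all : ∀ w ∈ all72, (∀ i : Fin 24, (combo 1).testBit i = true →
    (combo 1).testBit (evalT w i) = true) ∧ evalT w 0 = 0 ∧ evalT w 1 = 1 ∧ evalT w 2 = 2 := by
  decide +kernel

theorem n9_sub : ∀ w ∈ n9, w ∈ all72 := by decide +kernel

theorem n9_nil : ([] : List ℕ) ∈ n9 := by decide +kernel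

theorem n9_mul : ∀ w ∈ n9, ∀ w' ∈ n9, ∃ w'' ∈ n9, ∀ i : Fin 24,
    evalT w (evalT w' i) = evalT w'' i := by
  decide +kernel

theorem n9_inv : ∀ w ∈ n9, ∃ w'' ∈ n9, ∀ i : Fin 24, evalT w (evalT w'' i) = i := by
  decide +kernel

theorem n9_cube : ∀ w ∈ n9, ∀ i : Fin 24, evalT w (evalT w (evalT w i)) = i := by
  decide +kernel

/-- identity or fixed point free on the nine remaining points of the dodecad -/
def isN (T : Fin 24 → Fin 24) : Prop :=
  (∀ i : Fin 24, T i = i) ∨
    (∀ i : Fin 24, (combo 1).testBit i = true → i ∉ ([0, 1, 2] : List (Fin 24)) → T i ≠ i)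

instance (T : Fin 24 → Fin 24) : Decidable (isN T) := by
  unfold isN
  infer_instance

theorem n9_isN : ∀ w ∈ n9, isN (evalT w) := by
  decide +kernel

theorem n9_char : ∀ u ∈ all72, isN (evalT u) → ∃ w ∈ n9, ∀ i : Fin 24, evalT u i = evalT w i := by
  decide +kernel

theorem n9_nodup : (n9.map (fun w => (List.finRange 24).map (evalT w))).Nodup := by
  decide +kernel

end Cfsg.Agent.Lib.Helper9.M9
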