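import Mathlib
import Cfsg.Prelude.Def_Sporadic_a
import Cfsg.Agent.Lib.Helper9.M9Words

set_option autoImplicit false

namespace Cfsg.Agent.Lib.Helper9.M9

open Cfsg Cfsg.Agent.Lib.Helper1

def coverHyp (i j : Fin 24) : Prop :=
  (combo 1).testBit i = true ∧ (combo 1).testBit j = true ∧
    i ∉ ([0, 1, 2] : List (Fin 24)) ∧ j ∉ ([0, 1, 2] : List (Fin 24)) ∧ i ≠ j

instance (i j : Fin 24) : Decidable (coverHyp i j) := by
  unfold coverHyp
  infer_instance

def coverConcl (i j : Fin 24) : Prop := ∃ w ∈ all72, evalT w 3 = i ∧ evalT w 4 = j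

instance (i j : Fin 24) : Decidable (coverConcl i j) := by
  unfold coverConcl
  infer_instance

theorem cover : ∀ i j : Fin 24, coverHyp i j → coverConcl i j := by
  decide +kernel

theorem ab_cert : (∀ w ∈ [wa, wb], (∀ i : Fin 24, (combo 1).testBit i = true →
      (combo 1).testBit (evalT w i) = true) ∧ evalT w 0 = 0 ∧ evalT w 1 = 1 ∧ evalT w 2 = 2 ∧
      evalT w 3 = 3) ∧
    (∀ i : Fin 24, evalT wa (evalT wa (evalT wa (evalT wa i))) = i) ∧
    (∃ i : Fin 24, evalT wa (evalT wa i) ≠ i) ∧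
    (∀ i : Fin 24, evalT wb (evalT wb i) = evalT wa (evalT wa i)) ∧
    (∀ i : Fin 24, evalT wa (evalT wb (evalT wa i)) = evalT wb i) ∧
    (∃ i : Fin 24, evalT wb i ≠ i) ∧ (∃ i : Fin 24, evalT wb i ≠ evalT wa i) ∧
    (∃ i : Fin 24, evalT wb i ≠ evalT wa (evalT wa i)) ∧
    (∃ i : Fin 24, evalT wb i ≠ evalT wa (evalT wa (evalT wa i))) := by
  decide +kernel

end Cfsg.Agent.Lib.Helper9.M9
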