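import Mathlib
import Cfsg.Prelude.Def_Sporadic_a
import Cfsg.Agent.Lib.Helper9.M9Cert1
import Cfsg.Agent.Lib.Helper9.M9Cert2
import Cfsg.Agent.Lib.Helper9.M24Ord3
import Cfsg.Agent.Lib.Helper6.QuatRec

set_option autoImplicit false

namespace Cfsg.Agent.Lib.Helper9.M9

open Cfsg Cfsg.Agent.Lib.Helper1 Cfsg.Agent.Lib.Helper9.M24Enum
open scoped Pointwise

/-- the pointwise stabilizer of three points of the base dodecad -/
abbrev G0 : Subgroup (Equiv.Perm GolayPt) := fixL M12 [0, 1, 2]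

/-- the pointwise stabilizer of four points of the base dodecad -/
abbrev K4 : Subgroup (Equiv.Perm GolayPt) := fixL M12 [0, 1, 2, 3]

theorem card_chain : Nat.card G0 = 72 ∧ Nat.card K4 = 8 := by
  have h0 := lower12_0
  have h1 := lower12_1
  have h2 := lower12_2
  have h3 := lower12_3
  have h4 := lower12_4
  simp only [List.nil_append, List.cons_append] at h0 h1 h2 h3 h4
  have hM : Nat.card (fixL M12 []) = 95040 := card_M12
  rw [hM] at h0
  have hbot : Nat.card (fixL M12 [0, 1, 2, 3, 4]) = 1 := by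
    rw [fixL_M12_base_eq_bot]; exact Subgroup.card_bot
  rw [hbot] at h4
  constructor
  · show Nat.card (fixL M12 [0, 1, 2]) = 72
    omega
  · show Nat.card (fixL M12 [0, 1, 2, 3]) = 8
    omega

theorem K4_le : K4 ≤ G0 := by
  intro g hg
  rw [mem_fixL] at hg ⊢
  exact ⟨hg.1, fun i hi => hg.2 i (by
    have : ∀ r : Fin 24, r ∈ ([0, 1, 2] : List (Fin 24)) → r ∈ ([0, 1, 2, 3] : List (Fin 24)) := by
      decide
    exact this i hi)⟩

theorem evalW_mem_G0 {w : List ℕ} (hw : w ∈ all72) : evalW w ∈ G0 := by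
  obtain ⟨hD, h0, h1, h2⟩ := cert_all w hw
  rw [mem_fixL]
  refine ⟨evalW_mem_M12 w hD, ?_⟩
  intro i hi
  have : i = 0 ∨ i = 1 ∨ i = 2 := by
    have hgen : ∀ r : Fin 24, r ∈ ([0, 1, 2] : List (Fin 24)) → r = 0 ∨ r = 1 ∨ r = 2 := by decide
    exact hgen i hi
  rcases this with rfl | rfl | rfl
  · rw [evalW_table w 0, h0]
  · rw [evalW_table w 1, h1]
  · rw [evalW_table w 2, h2]

/-- enumeration of `G0` -/
theorem G0_enum {g : Equiv.Perm GolayPt} (hg : g ∈ G0) : ∃ w ∈ all72, g = evalW w := by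
  have hg' := mem_fixL.1 hg
  have hgM := hg'.1
  have f0 : g (gpt 0) = gpt 0 := hg'.2 0 (by simp)
  have f1 : g (gpt 1) = gpt 1 := hg'.2 1 (by simp)
  have f2 : g (gpt 2) = gpt 2 := hg'.2 2 (by simp)
  obtain ⟨i, hi⟩ := gpt_bij.surjective (g (gpt 3))
  obtain ⟨j, hj⟩ := gpt_bij.surjective (g (gpt 4))
  have hbi : (combo 1).testBit i = true := M12_D g hgM 3 i hi.symm (by decide +kernel)
  have hbj : (combo 1).testBit j = true := M12_D g hgM 4 j hj.symm (by decide +kernel)
  have hne : ∀ {a b : Fin 24}, a ≠ b → g (gpt a) ≠ g (gpt b) := fun h h' =>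
    h (gpt_bij.injective (g.injective h'))
  have hi3 : i ∉ ([0, 1, 2] : List (Fin 24)) := by
    intro hmem
    have : i = 0 ∨ i = 1 ∨ i = 2 := by
      have hgen : ∀ r : Fin 24, r ∈ ([0, 1, 2] : List (Fin 24)) → r = 0 ∨ r = 1 ∨ r = 2 := by
        decide
      exact hgen i hmem
    rcases this with rfl | rfl | rfl
    · exact hne (show (3 : Fin 24) ≠ 0 by decide) (hi.symm.trans f0.symm)
    · exact hne (show (3 : Fin 24) ≠ 1 by decide) (hi.symm.trans f1.symm)
    · exact hne (show (3 : Fin 24) ≠ 2 by decide) (hi.symm.trans f2.symm)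
  have hj3 : j ∉ ([0, 1, 2] : List (Fin 24)) := by
    intro hmem
    have : j = 0 ∨ j = 1 ∨ j = 2 := by
      have hgen : ∀ r : Fin 24, r ∈ ([0, 1, 2] : List (Fin 24)) → r = 0 ∨ r = 1 ∨ r = 2 := by
        decide
      exact hgen j hmem
    rcases this with rfl | rfl | rfl
    · exact hne (show (4 : Fin 24) ≠ 0 by decide) (hj.symm.trans f0.symm)
    · exact hne (show (4 : Fin 24) ≠ 1 by decide) (hj.symm.trans f1.symm)
    · exact hne (show (4 : Fin 24) ≠ 2 by decide) (hj.symm.trans f2.symm)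
  have hij : i ≠ j := by
    intro h
    rw [h] at hi
    exact hne (show (3 : Fin 24) ≠ 4 by decide) (hi.symm.trans hj)
  obtain ⟨w, hw, hw3, hw4⟩ := cover i j ⟨hbi, hbj, hi3, hj3, hij⟩
  refine ⟨w, hw, ?_⟩
  obtain ⟨hD, h0, h1, h2⟩ := cert_all w hw
  apply M11Elusive.uniq hgM (evalW_mem_M12 w hD)
  intro k
  fin_cases k
  · show g (gpt 0) = evalW w (gpt 0)
    rw [f0, evalW_table w 0, h0]
  · show g (gpt 1) = evalW w (gpt 1)
    rw [f1, evalW_table w 1, h1]
  · show g (gpt 2) = evalW w (gpt 2)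
    rw [f2, evalW_table w 2, h2]
  · show g (gpt 3) = evalW w (gpt 3)
    rw [← hi, evalW_table w 3, hw3]
  · show g (gpt 4) = evalW w (gpt 4)
    rw [← hj, evalW_table w 4, hw4]

/-- the normal subgroup of order nine -/
def N0 : Subgroup (Equiv.Perm GolayPt) where
  carrier := {g | ∃ w ∈ n9, g = evalW w}
  one_mem' := ⟨[], n9_nil, rfl⟩
  mul_mem' := by
    rintro _ _ ⟨w, hw, rfl⟩ ⟨w', hw', rfl⟩
    obtain ⟨w'', hw'', h⟩ := n9_mul w hw w' hw'
    refine ⟨w'', hw'', ?_⟩
    apply eq_of_hasTable ((evalW_table w).mul (evalW_table w'))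
    have : evalT w ∘ evalT w' = evalT w'' := funext h
    rw [this]
    exact evalW_table w''
  inv_mem' := by
    rintro _ ⟨w, hw, rfl⟩
    obtain ⟨w'', hw'', h⟩ := n9_inv w hw
    refine ⟨w'', hw'', ?_⟩
    rw [inv_eq_iff_mul_eq_one]
    exact eq_one_of_hasTable_id ((evalW_table w).mul (evalW_table w'')) (fun i => h i)

theorem N0_le : N0 ≤ G0 := by
  rintro _ ⟨w, hw, rfl⟩
  exact evalW_mem_G0 (n9_sub w hw)

theorem table_eq_of_evalW_eq {w w' : List ℕ} (h : evalW w = evalW w') (i : Fin 24) :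
    evalT w i = evalT w' i := by
  apply gpt_bij.injective
  rw [← evalW_table w i, ← evalW_table w' i, h]

theorem card_N0 : Nat.card N0 = 9 := by
  classical
  have hinj : Set.InjOn evalW (↑(n9.toFinset) : Set (List ℕ)) := by
    intro w hw w' hw' h
    have hw1 : w ∈ n9 := List.mem_toFinset.mp hw
    have hw2 : w' ∈ n9 := List.mem_toFinset.mp hw'
    apply List.inj_on_of_nodup_map n9_nodup hw1 hw2
    apply List.map_congr_left
    intro i _
    exact table_eq_of_evalW_eq h i
  have hset : (N0 : Set (Equiv.Perm GolayPt)) = ↑(n9.toFinset.image evalW) := by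
    ext g
    simp only [SetLike.mem_coe, Finset.coe_image, Set.mem_image, List.coe_toFinset,
      Set.mem_setOf_eq]
    constructor
    · rintro ⟨w, hw, rfl⟩
      exact ⟨w, hw, rfl⟩
    · rintro ⟨w, hw, rfl⟩
      exact ⟨w, hw, rfl⟩
  have h1 : Nat.card N0 = (N0 : Set (Equiv.Perm GolayPt)).ncard := (Nat.card_coe_set_eq _)
  rw [h1, hset, Set.ncard_coe_finset, Finset.card_image_of_injOn hinj]
  decide +kernel

theorem N0_cube {g : Equiv.Perm GolayPt} (hg : g ∈ N0) : g ^ 3 = 1 := by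
  obtain ⟨w, hw, rfl⟩ := hg
  rw [pow_succ, pow_two]
  exact M24Ord3.cube_of_table (n9_cube w hw)

/-- membership in `N0` by the action on the nine points -/
theorem mem_N0_of_isN {g : Equiv.Perm GolayPt} (hg : g ∈ G0)
    (h : g = 1 ∨ ∀ i : Fin 24, (combo 1).testBit i = true → i ∉ ([0, 1, 2] : List (Fin 24)) →
      g (gpt i) ≠ gpt i) : g ∈ N0 := by
  obtain ⟨u, hu, rfl⟩ := G0_enum hg
  have hisN : isN (evalT u) := by
    rcases h with h | h
    · left
      intro i
      apply gpt_bij.injective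
      rw [← evalW_table u i, h]
      rfl
    · right
      intro i hb hi hfix
      apply h i hb hi
      rw [evalW_table u i, hfix]
  obtain ⟨w, hw, hwu⟩ := n9_char u hu hisN
  refine ⟨w, hw, ?_⟩
  apply eq_of_hasTable (evalW_table u)
  have : evalT u = evalT w := funext hwu
  rw [this]
  exact evalW_table w

theorem isN_of_mem_N0 {g : Equiv.Perm GolayPt} (hg : g ∈ N0) :
    g = 1 ∨ ∀ i : Fin 24, (combo 1).testBit i = true → i ∉ ([0, 1, 2] : List (Fin 24)) →
      g (gpt i) ≠ gpt i := by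
  obtain ⟨w, hw, rfl⟩ := hg
  rcases n9_isN w hw with h | h
  · left
    exact eq_one_of_hasTable_id (evalW_table w) h
  · right
    intro i hb hi hfix
    apply h i hb hi
    apply gpt_bij.injective
    rw [← evalW_table w i, hfix]

theorem N0_conj {n g : Equiv.Perm GolayPt} (hn : n ∈ N0) (hg : g ∈ G0) : g * n * g⁻¹ ∈ N0 := by
  apply mem_N0_of_isN (mul_mem (mul_mem hg (N0_le hn)) (inv_mem hg))
  rcases isN_of_mem_N0 hn with h | h
  · left
    rw [h]
    group
  · right
    intro i hb hi hfix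
    -- the preimage point
    have hginv : g⁻¹ ∈ G0 := inv_mem hg
    obtain ⟨k, hk⟩ := gpt_bij.surjective (g⁻¹ (gpt i))
    have hbk : (combo 1).testBit k = true :=
      M12_D g⁻¹ (mem_fixL.1 hginv).1 i k hk.symm hb
    have hk3 : k ∉ ([0, 1, 2] : List (Fin 24)) := by
      intro hmem
      have hfixk : g⁻¹ (gpt k) = gpt k := (mem_fixL.1 hginv).2 k hmem
      have : i = k := gpt_bij.injective (g⁻¹.injective (hk.symm.trans hfixk.symm))
      exact hi (this ▸ hmem)
    apply h k hbk hk3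
    rw [Equiv.Perm.mul_apply, Equiv.Perm.mul_apply, ← hk] at hfix
    have := congrArg (fun x => g⁻¹ x) hfix
    simp only [perm_inv_apply_self] at this
    rw [this, ← hk]

end Cfsg.Agent.Lib.Helper9.M9
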