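import Mathlib

set_option autoImplicit false

namespace Cfsg.Agent.Lib.Helper9.Sylow72

theorem pow_dvd_72_three {k : ℕ} (h : 3 ^ k ∣ 72) : k ≤ 2 := by
  by_contra hk
  push Not at hk
  have : 3 ^ 3 ∣ 3 ^ k := pow_dvd_pow 3 hk
  have h2 := dvd_trans this h
  revert h2
  decide

theorem pow_dvd_72_two {k : ℕ} (h : 2 ^ k ∣ 72) : k ≤ 3 := by
  by_contra hk
  push Not at hk
  have : 2 ^ 4 ∣ 2 ^ k := pow_dvd_pow 2 hk
  have h2 := dvd_trans this h
  revert h2
  decide

theorem le_of_pow_dvd_pow {p a b : ℕ} (hp : 1 < p) (h : p ^ a ∣ p ^ b) : a ≤ b :=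
  (Nat.pow_dvd_pow_iff_le_right hp).mp h

/-- Sylow structure of a group of order 72 with a normal subgroup of order 9 and exponent 3
and a quaternion subgroup of order 8 -/
theorem sylow_struct {K : Type*} [Group K] [Finite K] (hK : Nat.card K = 72)
    (N : Subgroup K) [hNn : N.Normal] (hN : Nat.card N = 9) (hN3 : ∀ x ∈ N, x ^ 3 = 1)
    (P1 : Subgroup K) (hP1 : Nat.card P1 = 8) (hQ8 : Nonempty (↥P1 ≃* QuaternionGroup 2)) :
    (∀ Q : Sylow 3 K, (Q : Subgroup K).Normal ∧ Nat.card ↥Q = 9 ∧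
      ∀ x ∈ (Q : Subgroup K), x ^ 3 = 1) ∧
    ∀ P : Sylow 2 K, Nonempty (↥P ≃* QuaternionGroup 2) := by
  constructor
  · haveI : Fact (Nat.Prime 3) := ⟨Nat.prime_three⟩
    have hNp : IsPGroup 3 N := IsPGroup.of_card (n := 2) (by rw [hN]; norm_num)
    obtain ⟨Q0, hQ0⟩ := hNp.exists_le_sylow
    obtain ⟨k, hk⟩ := IsPGroup.exists_card_eq Q0.isPGroup'
    have hdvd : Nat.card (Q0 : Subgroup K) ∣ 72 := by
      rw [← hK]; exact Subgroup.card_subgroup_dvd_card _
    have h9 : 9 ∣ Nat.card (Q0 : Subgroup K) := by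
      rw [← hN]; exact Subgroup.card_dvd_of_le hQ0
    have hcard : Nat.card (Q0 : Subgroup K) = 9 := by
      have hk' : Nat.card (Q0 : Subgroup K) = 3 ^ k := hk
      rw [hk'] at hdvd h9 ⊢
      have h1 := pow_dvd_72_three hdvd
      have h2 : 2 ≤ k := le_of_pow_dvd_pow (p := 3) (by norm_num) (by simpa using h9)
      have : k = 2 := le_antisymm h1 h2
      rw [this]
      norm_num
    have hEq : N = (Q0 : Subgroup K) := by
      apply Subgroup.eq_of_le_of_card_ge hQ0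
      rw [hcard, hN]
    haveI : (Q0 : Subgroup K).Normal := hEq ▸ hNn
    intro Q
    obtain ⟨g, hg⟩ := MulAction.exists_smul_eq K Q0 Q
    rw [Sylow.smul_eq_of_normal] at hg
    rw [← hg]
    refine ⟨inferInstance, hcard, ?_⟩
    intro x hx
    rw [← hEq] at hx
    exact hN3 x hx
  · haveI : Fact (Nat.Prime 2) := ⟨Nat.prime_two⟩
    have hPp : IsPGroup 2 P1 := IsPGroup.of_card (n := 3) (by rw [hP1]; norm_num)
    obtain ⟨P0, hP0⟩ := hPp.exists_le_sylow
    obtain ⟨k, hk⟩ := IsPGroup.exists_card_eq P0.isPGroup'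
    have hdvd : Nat.card (P0 : Subgroup K) ∣ 72 := by
      rw [← hK]; exact Subgroup.card_subgroup_dvd_card _
    have h8 : 8 ∣ Nat.card (P0 : Subgroup K) := by
      rw [← hP1]; exact Subgroup.card_dvd_of_le hP0
    have hcard : Nat.card (P0 : Subgroup K) = 8 := by
      have hk' : Nat.card (P0 : Subgroup K) = 2 ^ k := hk
      rw [hk'] at hdvd h8 ⊢
      have h1 := pow_dvd_72_two hdvd
      have h2 : 3 ≤ k := le_of_pow_dvd_pow (p := 2) (by norm_num) (by simpa using h8)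
      have : k = 3 := le_antisymm h1 h2
      rw [this]
      norm_num
    have hEq : P1 = (P0 : Subgroup K) := by
      apply Subgroup.eq_of_le_of_card_ge hP0
      rw [hcard, hP1]
    obtain ⟨e⟩ := hQ8
    intro P
    obtain ⟨g, hg⟩ := MulAction.exists_smul_eq K P0 P
    rw [← hg]
    exact ⟨((Sylow.equivSMul P0 g).symm.trans (MulEquiv.subgroupCongr hEq.symm)).trans e⟩

end Cfsg.Agent.Lib.Helper9.Sylow72
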