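import Mathlib
import Cfsg.Prelude.Def_Sporadic_a
import Cfsg.Agent.Lib.Helper9.M9Group
import Cfsg.Agent.Lib.Helper9.Sylow72

set_option autoImplicit false

namespace Cfsg.Agent.Lib.Helper9.M9

open Cfsg Cfsg.Agent.Lib.Helper1 Cfsg.Agent.Lib.Helper9.M24Enum
open scoped Pointwise

theorem ne_of_table {g g' : Equiv.Perm GolayPt} {T T' : Fin 24 → Fin 24} (h : HasTable g T)
    (h' : HasTable g' T') (hne : ∃ i, T i ≠ T' i) : g ≠ g' := by
  obtain ⟨i, hi⟩ := hne
  intro heq
  apply hi
  apply gpt_bij.injective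
  rw [← h i, ← h' i, heq]

theorem table2 (w : List ℕ) :
    HasTable (evalW w * evalW w) (fun i => evalT w (evalT w i)) :=
  (evalW_table w).mul (evalW_table w)

theorem table3 (w : List ℕ) :
    HasTable (evalW w * evalW w * evalW w) (fun i => evalT w (evalT w (evalT w i))) :=
  (table2 w).mul (evalW_table w)

theorem table4 (w : List ℕ) :
    HasTable (evalW w * evalW w * (evalW w * evalW w))
      (fun i => evalT w (evalT w (evalT w (evalT w i)))) :=
  (table2 w).mul (table2 w)

theorem table_aba (w w' : List ℕ) :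
    HasTable (evalW w * evalW w' * evalW w) (fun i => evalT w (evalT w' (evalT w i))) :=
  ((evalW_table w).mul (evalW_table w')).mul (evalW_table w)

theorem eq_of_tables {g g' : Equiv.Perm GolayPt} {T T' : Fin 24 → Fin 24} (h : HasTable g T)
    (h' : HasTable g' T') (heq : ∀ i, T i = T' i) : g = g' := by
  have : T = T' := funext heq
  subst this
  exact eq_of_hasTable h h'

/-- the certificate for the quaternion generators -/
def abProp (wa wb : List ℕ) : Prop :=
  (∀ w ∈ [wa, wb], (∀ i : Fin 24, (combo 1).testBit i = true →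
      (combo 1).testBit (evalT w i) = true) ∧ evalT w 0 = 0 ∧ evalT w 1 = 1 ∧ evalT w 2 = 2 ∧
      evalT w 3 = 3) ∧
    (∀ i : Fin 24, evalT wa (evalT wa (evalT wa (evalT wa i))) = i) ∧
    (∃ i : Fin 24, evalT wa (evalT wa i) ≠ i) ∧
    (∀ i : Fin 24, evalT wb (evalT wb i) = evalT wa (evalT wa i)) ∧
    (∀ i : Fin 24, evalT wa (evalT wb (evalT wa i)) = evalT wb i) ∧
    (∃ i : Fin 24, evalT wb i ≠ i) ∧ (∃ i : Fin 24, evalT wb i ≠ evalT wa i) ∧
    (∃ i : Fin 24, evalT wb i ≠ evalT wa (evalT wa i)) ∧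
    (∃ i : Fin 24, evalT wb i ≠ evalT wa (evalT wa (evalT wa i)))

theorem ab_cert' : abProp wa wb := ab_cert

theorem quat_of_tables (wa wb : List ℕ) (hcert : abProp wa wb) :
    Nonempty (↥K4 ≃* QuaternionGroup 2) := by
  classical
  haveI : Finite K4 := Nat.finite_of_card_ne_zero (by rw [card_chain.2]; norm_num)
  haveI : Fact (Nat.Prime 2) := ⟨Nat.prime_two⟩
  obtain ⟨hwab, ha4, ha2, hb2, hconj, hb1, hba, hba2, hba3⟩ := hcert
  have hTa : HasTable (evalW wa) (evalT wa) := evalW_table wa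
  have hTb : HasTable (evalW wb) (evalT wb) := evalW_table wb
  have hmemK : ∀ w ∈ [wa, wb], evalW w ∈ K4 := by
    intro w hw
    obtain ⟨hD, h0, h1, h2, h3⟩ := hwab w hw
    rw [mem_fixL]
    refine ⟨evalW_mem_M12 w hD, ?_⟩
    intro i hi
    have : i = 0 ∨ i = 1 ∨ i = 2 ∨ i = 3 := by
      have hgen : ∀ r : Fin 24, r ∈ ([0, 1, 2, 3] : List (Fin 24)) →
          r = 0 ∨ r = 1 ∨ r = 2 ∨ r = 3 := by decide
      exact hgen i hi
    rcases this with rfl | rfl | rfl | rfl
    · rw [evalW_table w 0, h0]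
    · rw [evalW_table w 1, h1]
    · rw [evalW_table w 2, h2]
    · rw [evalW_table w 3, h3]
  have haK : evalW wa ∈ K4 := hmemK wa (by simp)
  have hbK : evalW wb ∈ K4 := hmemK wb (by simp)
  have hTaa := table2 wa
  have hTaaa := table3 wa
  have hTa4 := table4 wa
  have hTbb := table2 wb
  have hTaba := table_aba wa wb
  have haa_ne : evalW wa * evalW wa ≠ 1 := by
    obtain ⟨i, hi⟩ := ha2
    exact ne_of_table hTaa HasTable.one ⟨i, hi⟩
  have ha4' : evalW wa ^ 4 = 1 := by
    have : evalW wa ^ 4 = evalW wa * evalW wa * (evalW wa * evalW wa) := by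
      rw [show (4 : ℕ) = 2 + 2 from rfl, pow_add, pow_two]
    rw [this]
    exact eq_one_of_hasTable_id hTa4 (fun i => ha4 i)
  have hord : orderOf (evalW wa) = 4 := by
    have := orderOf_eq_prime_pow (x := evalW wa) (p := 2) (n := 1)
      (by rw [pow_one, pow_two]; exact haa_ne) (by norm_num; exact ha4')
    simpa using this
  have hbb : evalW wb * evalW wb = evalW wa * evalW wa :=
    eq_of_tables hTbb hTaa (fun i => hb2 i)
  have haba : evalW wa * evalW wb * evalW wa = evalW wb :=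
    eq_of_tables hTaba hTb (fun i => hconj i)
  have hbab : evalW wb * evalW wa * (evalW wb)⁻¹ = (evalW wa)⁻¹ := by
    calc evalW wb * evalW wa * (evalW wb)⁻¹
        = (evalW wa)⁻¹ * (evalW wa * evalW wb * evalW wa) * (evalW wb)⁻¹ := by group
      _ = (evalW wa)⁻¹ * evalW wb * (evalW wb)⁻¹ := by rw [haba]
      _ = (evalW wa)⁻¹ := by group
  have hbnot : evalW wb ∉ Subgroup.zpowers (evalW wa) := by
    rw [mem_zpowers_iff_mem_range_orderOf, hord]
    intro hmem
    obtain ⟨k, hk, hkb⟩ := Finset.mem_image.mp hmem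
    rw [Finset.mem_range] at hk
    interval_cases k
    · rw [pow_zero] at hkb
      exact ne_of_table hTb HasTable.one hb1 hkb.symm
    · rw [pow_one] at hkb
      exact ne_of_table hTb hTa hba hkb.symm
    · rw [pow_two] at hkb
      exact ne_of_table hTb hTaa hba2 hkb.symm
    · have : evalW wa ^ 3 = evalW wa * evalW wa * evalW wa := by
        rw [pow_succ, pow_two]
      rw [this] at hkb
      exact ne_of_table hTb hTaaa hba3 hkb.symm
  apply Cfsg.Agent.Lib.Helper6.nonempty_mulEquiv_quaternion 2 (⟨evalW wa, haK⟩ : ↥K4)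
    ⟨evalW wb, hbK⟩
  · rw [Subgroup.orderOf_mk, hord]
  · apply Subtype.ext
    simp only [Subgroup.coe_pow]
    rw [pow_two, pow_two, hbb]
  · apply Subtype.ext
    simp only [Subgroup.coe_mul, Subgroup.coe_inv]
    exact hbab
  · intro hmem
    obtain ⟨k, hk⟩ := Subgroup.mem_zpowers_iff.1 hmem
    have h1 := congrArg Subtype.val hk
    simp only [Subgroup.coe_zpow] at h1
    apply hbnot
    rw [← h1]
    exact Subgroup.zpow_mem _ (Subgroup.mem_zpowers _) _
  · rw [card_chain.2]

theorem K4_quat : Nonempty (↥K4 ≃* QuaternionGroup 2) := quat_of_tables wa wb ab_cert'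

/-- the structure of the standard `M9` -/
theorem G0_struct :
    (∀ Q : Sylow 3 ↥G0, (Q : Subgroup ↥G0).Normal ∧ Nat.card ↥Q = 9 ∧
      ∀ x ∈ (Q : Subgroup ↥G0), x ^ 3 = 1) ∧
    ∀ P : Sylow 2 ↥G0, Nonempty (↥P ≃* QuaternionGroup 2) := by
  haveI : Finite G0 := Nat.finite_of_card_ne_zero (by rw [card_chain.1]; norm_num)
  haveI : (N0.subgroupOf G0).Normal := by
    constructor
    intro n hn g
    rw [Subgroup.mem_subgroupOf] at hn ⊢
    exact N0_conj hn g.2
  apply Sylow72.sylow_struct card_chain.1 (N0.subgroupOf G0) ?_ ?_ (K4.subgroupOf G0) ?_ ?_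
  · rw [Nat.card_congr (Subgroup.subgroupOfEquivOfLe N0_le).toEquiv, card_N0]
  · intro x hx
    rw [Subgroup.mem_subgroupOf] at hx
    apply Subtype.ext
    simp only [Subgroup.coe_pow, Subgroup.coe_one]
    exact N0_cube hx
  · rw [Nat.card_congr (Subgroup.subgroupOfEquivOfLe K4_le).toEquiv, card_chain.2]
  · obtain ⟨e⟩ := K4_quat
    exact ⟨(Subgroup.subgroupOfEquivOfLe K4_le).trans e⟩

end Cfsg.Agent.Lib.Helper9.M9
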