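import Mathlib
import Cfsg.Prelude.Def_Sporadic_a
import Cfsg.Agent.Lib.Helper9.M9Final

set_option autoImplicit false

namespace Cfsg.Agent.Lib.Helper9.M9

open Cfsg Cfsg.Agent.Lib.Helper1 Cfsg.Agent.Lib.Helper9.M24Enum
open scoped Pointwise

theorem struct_of_equiv {K K' : Type*} [Group K] [Group K'] [Finite K'] (e : K ≃* K')
    (hK' : Nat.card K' = 72)
    (N : Subgroup K') [hNn : N.Normal] (hN : Nat.card N = 9) (hN3 : ∀ x ∈ N, x ^ 3 = 1)
    (P1 : Subgroup K') (hP1 : Nat.card P1 = 8) (hQ8 : Nonempty (↥P1 ≃* QuaternionGroup 2)) :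
    (∀ Q : Sylow 3 K, (Q : Subgroup K).Normal ∧ Nat.card ↥Q = 9 ∧
      ∀ x ∈ (Q : Subgroup K), x ^ 3 = 1) ∧
    ∀ P : Sylow 2 K, Nonempty (↥P ≃* QuaternionGroup 2) := by
  haveI : Finite K := Finite.of_equiv _ e.symm.toEquiv
  have hK : Nat.card K = 72 := by rw [Nat.card_congr e.toEquiv, hK']
  haveI : (N.map (e.symm : K' →* K)).Normal :=
    Subgroup.Normal.map hNn (e.symm : K' →* K) e.symm.surjective
  apply Sylow72.sylow_struct hK (N.map (e.symm : K' →* K)) ?_ ?_ (P1.map (e.symm : K' →* K))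
    ?_ ?_
  · rw [Subgroup.card_map_of_injective (f := (e.symm : K' →* K)) e.symm.injective, hN]
  · rintro x ⟨y, hy, rfl⟩
    rw [← map_pow, hN3 y hy, map_one]
  · rw [Subgroup.card_map_of_injective (f := (e.symm : K' →* K)) e.symm.injective, hP1]
  · obtain ⟨f⟩ := hQ8
    exact ⟨(e.symm.subgroupMap P1).symm.trans f⟩

theorem G0_struct_of_equiv {K : Type*} [Group K] (e : K ≃* ↥G0) :
    (∀ Q : Sylow 3 K, (Q : Subgroup K).Normal ∧ Nat.card ↥Q = 9 ∧
      ∀ x ∈ (Q : Subgroup K), x ^ 3 = 1) ∧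
    ∀ P : Sylow 2 K, Nonempty (↥P ≃* QuaternionGroup 2) := by
  haveI : Finite G0 := Nat.finite_of_card_ne_zero (by rw [card_chain.1]; norm_num)
  haveI : (N0.subgroupOf G0).Normal := by
    constructor
    intro n hn g
    rw [Subgroup.mem_subgroupOf] at hn ⊢
    exact N0_conj hn g.2
  apply struct_of_equiv e card_chain.1 (N0.subgroupOf G0) ?_ ?_ (K4.subgroupOf G0) ?_ ?_
  · rw [Nat.card_congr (Subgroup.subgroupOfEquivOfLe N0_le).toEquiv, card_N0]
  · intro x hx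
    rw [Subgroup.mem_subgroupOf] at hx
    apply Subtype.ext
    simp only [Subgroup.coe_pow, Subgroup.coe_one]
    exact N0_cube hx
  · rw [Nat.card_congr (Subgroup.subgroupOfEquivOfLe K4_le).toEquiv, card_chain.2]
  · obtain ⟨f⟩ := K4_quat
    exact ⟨(Subgroup.subgroupOfEquivOfLe K4_le).trans f⟩

/-- the subgroup of the statement -/
abbrev GG (d : Finset GolayPt) (p q r : GolayPt) : Subgroup ↥M24 :=
  MulAction.stabilizer M24 d ⊓ MulAction.stabilizer M24 p ⊓ MulAction.stabilizer M24 q ⊓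
    MulAction.stabilizer M24 r

theorem mem_GG {d : Finset GolayPt} {p q r : GolayPt} (g : ↥M24) :
    g ∈ GG d p q r ↔ (g : Equiv.Perm GolayPt) • d = d ∧ (g : Equiv.Perm GolayPt) p = p ∧
      (g : Equiv.Perm GolayPt) q = q ∧ (g : Equiv.Perm GolayPt) r = r := by
  unfold GG
  simp only [Subgroup.mem_inf, MulAction.mem_stabilizer_iff]
  constructor
  · rintro ⟨⟨⟨h1, h2⟩, h3⟩, h4⟩
    exact ⟨h1, h2, h3, h4⟩
  · rintro ⟨h1, h2, h3, h4⟩
    exact ⟨⟨⟨h1, h2⟩, h3⟩, h4⟩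

theorem exists_frame (d : Finset GolayPt) (hd : d ∈ dodecads) (p q r : GolayPt) (hp : p ∈ d)
    (hq : q ∈ d) (hr : r ∈ d) (hpq : p ≠ q) (hpr : p ≠ r) (hqr : q ≠ r) :
    ∃ h ∈ M24, h • dod0 = d ∧ h (gpt 0) = p ∧ h (gpt 1) = q ∧ h (gpt 2) = r := by
  obtain ⟨t, ht, rfl⟩ := exists_smul_dod0 hd
  have hpre : ∀ (z : GolayPt), z ∈ t • dod0 → t⁻¹ z ∈ dod0 := by
    intro z hz
    obtain ⟨u, hu, rfl⟩ := Finset.mem_smul_finset.1 hz
    show t⁻¹ (t u) ∈ dod0
    rw [perm_inv_apply_self]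
    exact hu
  have hbit : ∀ i : Fin 24, i ∈ ([0, 1, 2] : List (Fin 24)) → gpt i ∈ dod0 := by
    intro i hi
    rw [gpt_mem_dod0]
    have : ∀ r : Fin 24, r ∈ ([0, 1, 2] : List (Fin 24)) → (combo 1).testBit r = true := by
      decide +kernel
    exact this i hi
  have hne : ∀ {i j : Fin 24}, i ≠ j → gpt i ≠ gpt j := fun h h' => h (gpt_bij.injective h')
  obtain ⟨m, hm, h0, h1, h2⟩ := M12_trans3 (hbit 0 (by simp)) (hbit 1 (by simp)) (hbit 2 (by simp))
    (hpre p hp) (hpre q hq) (hpre r hr) (hne (by decide)) (hne (by decide)) (hne (by decide))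
    (fun h => hpq (t⁻¹.injective h)) (fun h => hpr (t⁻¹.injective h))
    (fun h => hqr (t⁻¹.injective h))
  refine ⟨t * m, mul_mem ht hm.1, ?_, ?_, ?_, ?_⟩
  · have : m • dod0 = dod0 := MulAction.mem_stabilizer_iff.1 hm.2
    rw [mul_smul, this]
  · rw [Equiv.Perm.mul_apply, h0, perm_apply_inv_self]
  · rw [Equiv.Perm.mul_apply, h1, perm_apply_inv_self]
  · rw [Equiv.Perm.mul_apply, h2, perm_apply_inv_self]

theorem exists_equiv (d : Finset GolayPt) (hd : d ∈ dodecads) (p q r : GolayPt) (hp : p ∈ d)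
    (hq : q ∈ d) (hr : r ∈ d) (hpq : p ≠ q) (hpr : p ≠ r) (hqr : q ≠ r) :
    Nonempty (↥(GG d p q r) ≃* ↥G0) := by
  obtain ⟨h, hh, hd0, h0, h1, h2⟩ := exists_frame d hd p q r hp hq hr hpq hpr hqr
  have hinv0 : h⁻¹ p = gpt 0 := by rw [← h0, perm_inv_apply_self]
  have hinv1 : h⁻¹ q = gpt 1 := by rw [← h1, perm_inv_apply_self]
  have hinv2 : h⁻¹ r = gpt 2 := by rw [← h2, perm_inv_apply_self]
  have hdinv : h⁻¹ • d = dod0 := by rw [← hd0, inv_smul_smul]
  have hto : ∀ g : ↥(GG d p q r),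
      h⁻¹ * ((g : ↥M24) : Equiv.Perm GolayPt) * h ∈ G0 := by
    intro g
    obtain ⟨g1, g2, g3, g4⟩ := (mem_GG g.1).1 g.2
    rw [mem_fixL]
    have hM12 : h⁻¹ * ((g : ↥M24) : Equiv.Perm GolayPt) * h ∈ M12 := by
      unfold M12
      refine Subgroup.mem_inf.mpr ⟨mul_mem (mul_mem (inv_mem hh) g.1.2) hh,
        MulAction.mem_stabilizer_iff.mpr ?_⟩
      rw [mul_smul, mul_smul, hd0, g1, hdinv]
    refine ⟨hM12, ?_⟩
    · intro i hi
      have : i = 0 ∨ i = 1 ∨ i = 2 := by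
        have hgen : ∀ r : Fin 24, r ∈ ([0, 1, 2] : List (Fin 24)) → r = 0 ∨ r = 1 ∨ r = 2 := by
          decide
        exact hgen i hi
      rcases this with rfl | rfl | rfl
      · rw [Equiv.Perm.mul_apply, Equiv.Perm.mul_apply, h0, g2, hinv0]
      · rw [Equiv.Perm.mul_apply, Equiv.Perm.mul_apply, h1, g3, hinv1]
      · rw [Equiv.Perm.mul_apply, Equiv.Perm.mul_apply, h2, g4, hinv2]
  have hfromM : ∀ k : ↥G0, h * (k : Equiv.Perm GolayPt) * h⁻¹ ∈ M24 := fun k =>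
    mul_mem (mul_mem hh (mem_fixL.1 k.2).1.1) (inv_mem hh)
  have hfrom : ∀ k : ↥G0, (⟨h * (k : Equiv.Perm GolayPt) * h⁻¹, hfromM k⟩ : ↥M24) ∈
      GG d p q r := by
    intro k
    rw [mem_GG]
    have hk := mem_fixL.1 k.2
    have hkd : (k : Equiv.Perm GolayPt) • dod0 = dod0 := MulAction.mem_stabilizer_iff.1 hk.1.2
    refine ⟨?_, ?_, ?_, ?_⟩
    · show (h * (k : Equiv.Perm GolayPt) * h⁻¹) • d = d
      rw [mul_smul, mul_smul, hdinv, hkd, hd0]
    · show (h * (k : Equiv.Perm GolayPt) * h⁻¹) p = p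
      rw [Equiv.Perm.mul_apply, Equiv.Perm.mul_apply, hinv0, hk.2 0 (by simp), h0]
    · show (h * (k : Equiv.Perm GolayPt) * h⁻¹) q = q
      rw [Equiv.Perm.mul_apply, Equiv.Perm.mul_apply, hinv1, hk.2 1 (by simp), h1]
    · show (h * (k : Equiv.Perm GolayPt) * h⁻¹) r = r
      rw [Equiv.Perm.mul_apply, Equiv.Perm.mul_apply, hinv2, hk.2 2 (by simp), h2]
  exact ⟨{ toFun := fun g => ⟨h⁻¹ * ((g : ↥M24) : Equiv.Perm GolayPt) * h, hto g⟩
           invFun := fun k => ⟨⟨h * (k : Equiv.Perm GolayPt) * h⁻¹, hfromM k⟩, hfrom k⟩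
           left_inv := by
             intro g
             apply Subtype.ext
             apply Subtype.ext
             show h * (h⁻¹ * ((g : ↥M24) : Equiv.Perm GolayPt) * h) * h⁻¹ = _
             group
           right_inv := by
             intro k
             apply Subtype.ext
             show h⁻¹ * (h * (k : Equiv.Perm GolayPt) * h⁻¹) * h = _
             group
           map_mul' := by
             intro g g'
             apply Subtype.ext
             show h⁻¹ * (((g * g' : ↥(GG d p q r)) : ↥M24) : Equiv.Perm GolayPt) * h =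
               (h⁻¹ * ((g : ↥M24) : Equiv.Perm GolayPt) * h) *
                 (h⁻¹ * ((g' : ↥M24) : Equiv.Perm GolayPt) * h)
             simp only [Subgroup.coe_mul]
             group }⟩

theorem main (d : Finset GolayPt) (hd : d ∈ dodecads) (p q r : GolayPt) (hp : p ∈ d)
    (hq : q ∈ d) (hr : r ∈ d) (hpq : p ≠ q) (hpr : p ≠ r) (hqr : q ≠ r) :
    (∀ Q : Sylow 3 ↥(GG d p q r), (Q : Subgroup ↥(GG d p q r)).Normal ∧ Nat.card ↥Q = 9 ∧
      ∀ x ∈ (Q : Subgroup ↥(GG d p q r)), x ^ 3 = 1) ∧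
    ∀ P : Sylow 2 ↥(GG d p q r), Nonempty (↥P ≃* QuaternionGroup 2) := by
  obtain ⟨e⟩ := exists_equiv d hd p q r hp hq hr hpq hpr hqr
  exact G0_struct_of_equiv e

end Cfsg.Agent.Lib.Helper9.M9
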