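import Mathlib
import Cfsg.Prelude.Def_Solvable

set_option autoImplicit false

namespace Cfsg.Agent.Lib.Helper9.PStabFus

open Cfsg

theorem pCore_map_equiv_le {A B : Type*} [Group A] [Group B] (p : ℕ) (e : A ≃* B) :
    (pCore p A).map e.toMonoidHom ≤ pCore p B := by
  rw [Subgroup.map_le_iff_le_comap]
  apply sSup_le
  rintro N ⟨hN, hNp⟩
  intro x hx
  rw [Subgroup.mem_comap]
  have h1 : N.map e.toMonoidHom ∈ {N : Subgroup B | N.Normal ∧ IsPGroup p N} :=
    ⟨hN.map e.toMonoidHom e.surjective, hNp.map _⟩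
  exact (le_sSup h1) (Subgroup.mem_map_of_mem _ hx)

theorem mem_pCore_equiv {A B : Type*} [Group A] [Group B] (p : ℕ) (e : A ≃* B) (a : A) :
    a ∈ pCore p A ↔ e a ∈ pCore p B := by
  constructor
  · intro h; exact pCore_map_equiv_le p e (Subgroup.mem_map_of_mem e.toMonoidHom h)
  · intro h
    have := pCore_map_equiv_le p e.symm (Subgroup.mem_map_of_mem e.symm.toMonoidHom h)
    simpa using this

/-- `O_p` of a subgroup, viewed in the ambient group, is transported by isomorphisms. -/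
theorem mem_pCoreOf_map_equiv {X Y : Type*} [Group X] [Group Y] (p : ℕ) (E : X ≃* Y)
    (K : Subgroup X) (x : X) :
    x ∈ (pCore p ↥K).map K.subtype ↔
      E x ∈ (pCore p ↥(K.map (E : X →* Y))).map (K.map (E : X →* Y)).subtype := by
  constructor
  · intro hx
    obtain ⟨y, hy, rfl⟩ := Subgroup.mem_map.1 hx
    exact Subgroup.mem_map.2
      ⟨E.subgroupMap K y, (mem_pCore_equiv p (E.subgroupMap K) y).1 hy, rfl⟩
  · intro hx
    obtain ⟨y', hy', hxy⟩ := Subgroup.mem_map.1 hx
    have h3 : E.subgroupMap K ((E.subgroupMap K).symm y') = y' := MulEquiv.apply_symm_apply _ _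
    refine Subgroup.mem_map.2 ⟨(E.subgroupMap K).symm y', ?_, ?_⟩
    · apply (mem_pCore_equiv p (E.subgroupMap K) _).2
      rw [h3]
      exact hy'
    · apply E.injective
      rw [← hxy]
      exact congrArg Subtype.val h3

variable {Ω : Type*} [Group Ω]

theorem mem_pCore_quot_iff (p : ℕ) (R : Subgroup Ω) (n : ↥(Subgroup.normalizer (R : Set Ω))) :
    (QuotientGroup.mk (s := (Subgroup.centralizer (R : Set Ω)).subgroupOf
        (Subgroup.normalizer (R : Set Ω))) n) ∈
      pCore p (↥(Subgroup.normalizer (R : Set Ω)) ⧸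
        (Subgroup.centralizer (R : Set Ω)).subgroupOf (Subgroup.normalizer (R : Set Ω))) ↔
    R.normalizerMonoidHom n ∈
      (pCore p ↥(R.normalizerMonoidHom.range)).map (R.normalizerMonoidHom.range).subtype := by
  let e₁ := QuotientGroup.quotientMulEquivOfEq (Subgroup.normalizerMonoidHom_ker (H := R)).symm
  let e₂ := QuotientGroup.quotientKerEquivRange R.normalizerMonoidHom
  rw [mem_pCore_equiv p (e₁.trans e₂)]
  have h1 : (e₁.trans e₂) (QuotientGroup.mk n) =
      ⟨R.normalizerMonoidHom n, ⟨n, rfl⟩⟩ := rfl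
  rw [h1]
  constructor
  · intro h
    exact ⟨_, h, rfl⟩
  · rintro ⟨y, hy, hyn⟩
    have : y = ⟨R.normalizerMonoidHom n, ⟨n, rfl⟩⟩ := Subtype.ext hyn
    rw [← this]; exact hy

end Cfsg.Agent.Lib.Helper9.PStabFus
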