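import Mathlib

set_option autoImplicit false

namespace Cfsg.Agent.Lib.Helper9.PStabFus

open scoped commutatorElement

variable {Ω : Type*} [Group Ω]

theorem mem_cent_singleton {g u : Ω} :
    u ∈ Subgroup.centralizer ({g} : Set Ω) ↔ g * u = u * g := by
  rw [Subgroup.mem_centralizer_iff]; simp

theorem comm_mul_id (a h₁ h₂ : Ω) : ⁅a, h₁ * h₂⁆ = ⁅a, h₁⁆ * (h₁ * ⁅a, h₂⁆ * h₁⁻¹) := by
  simp only [commutatorElement_def]; group

theorem comm_inv_id (a h : Ω) : ⁅a, h⁻¹⁆ = h⁻¹ * ⁅a, h⁆⁻¹ * h := by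
  simp only [commutatorElement_def]; group

theorem quad_subgroup_iff (R : Subgroup Ω) (g : Ω) :
    ⁅⁅R, Subgroup.zpowers g⁆, Subgroup.zpowers g⁆ = ⊥ ↔ ∀ a ∈ R, ⁅⁅a, g⁆, g⁆ = 1 := by
  constructor
  · intro h a ha
    have h1 : ⁅⁅a, g⁆, g⁆ ∈ ⁅⁅R, Subgroup.zpowers g⁆, Subgroup.zpowers g⁆ :=
      Subgroup.commutator_mem_commutator
        (Subgroup.commutator_mem_commutator ha (Subgroup.mem_zpowers g)) (Subgroup.mem_zpowers g)
    rw [h] at h1
    exact Subgroup.mem_bot.1 h1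
  · intro hq
    have hgC : g ∈ Subgroup.centralizer ({g} : Set Ω) := mem_cent_singleton.2 rfl
    have hq' : ∀ a ∈ R, ⁅a, g⁆ ∈ Subgroup.centralizer ({g} : Set Ω) := by
      intro a ha
      rw [mem_cent_singleton]
      have := hq a ha
      rw [commutatorElement_eq_one_iff_commute] at this
      exact this.eq.symm
    have key : ∀ h ∈ Subgroup.zpowers g, h ∈ Subgroup.centralizer ({g} : Set Ω) ∧
        ∀ a ∈ R, ⁅a, h⁆ ∈ Subgroup.centralizer ({g} : Set Ω) := by
      intro h hh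
      rw [Subgroup.zpowers_eq_closure] at hh
      induction hh using Subgroup.closure_induction with
      | mem x hx =>
        rw [Set.mem_singleton_iff] at hx
        rw [hx]
        exact ⟨hgC, hq'⟩
      | one =>
        exact ⟨Subgroup.one_mem _, fun a _ => by
          rw [commutatorElement_one_right]; exact Subgroup.one_mem _⟩
      | mul x y _ _ ihx ihy =>
        refine ⟨Subgroup.mul_mem _ ihx.1 ihy.1, fun a ha => ?_⟩
        rw [comm_mul_id]
        exact Subgroup.mul_mem _ (ihx.2 a ha)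
          (Subgroup.mul_mem _ (Subgroup.mul_mem _ ihx.1 (ihy.2 a ha)) (Subgroup.inv_mem _ ihx.1))
      | inv x _ ih =>
        refine ⟨Subgroup.inv_mem _ ih.1, fun a ha => ?_⟩
        rw [comm_inv_id]
        exact Subgroup.mul_mem _ (Subgroup.mul_mem _ (Subgroup.inv_mem _ ih.1)
          (Subgroup.inv_mem _ (ih.2 a ha))) ih.1
    rw [Subgroup.commutator_eq_bot_iff_le_centralizer]
    have h1 : ⁅R, Subgroup.zpowers g⁆ ≤ Subgroup.centralizer ({g} : Set Ω) := by
      rw [Subgroup.commutator_le]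
      intro a ha h hh
      exact (key h hh).2 a ha
    refine le_trans h1 ?_
    intro u hu
    rw [Subgroup.mem_centralizer_iff]
    intro h hh
    obtain ⟨k, rfl⟩ := Subgroup.mem_zpowers_iff.1 hh
    have hc : Commute g u := mem_cent_singleton.1 hu
    exact (hc.zpow_left k).eq

theorem X_id (g a : Ω) :
    (g * a⁻¹ * g⁻¹) * a * (g * a⁻¹ * g⁻¹) * (g * (g * a * g⁻¹) * g⁻¹) = ⁅(⁅a⁻¹, g⁆)⁻¹, g⁆ := by
  simp only [commutatorElement_def]; group

theorem quad_elt_iff (R : Subgroup Ω) (n : ↥(Subgroup.normalizer (R : Set Ω))) :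
    (∀ a : ↥R, (R.normalizerMonoidHom n a⁻¹) * a * (R.normalizerMonoidHom n a⁻¹) *
      (R.normalizerMonoidHom n (R.normalizerMonoidHom n a)) = 1) ↔
    ∀ a ∈ R, ⁅⁅a, (n : Ω)⁆, (n : Ω)⁆ = 1 := by
  have hcoe : ∀ a : ↥R, (((R.normalizerMonoidHom n a⁻¹) * a * (R.normalizerMonoidHom n a⁻¹) *
      (R.normalizerMonoidHom n (R.normalizerMonoidHom n a)) : ↥R) : Ω) =
      ⁅(⁅(a : Ω)⁻¹, (n : Ω)⁆)⁻¹, (n : Ω)⁆ := by
    intro a
    rw [← X_id]
    rfl
  constructor
  · intro h a ha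
    have h1 := congrArg Subtype.val (h ⟨a⁻¹, R.inv_mem ha⟩)
    rw [hcoe] at h1
    simp only [inv_inv, Subgroup.coe_one] at h1
    rw [commutatorElement_eq_one_iff_commute] at h1 ⊢
    exact (Commute.inv_left_iff).1 h1
  · intro h a
    apply Subtype.ext
    rw [hcoe, Subgroup.coe_one]
    have h1 := h (a : Ω)⁻¹ (R.inv_mem a.2)
    rw [commutatorElement_eq_one_iff_commute] at h1 ⊢
    exact (Commute.inv_left_iff).2 h1

end Cfsg.Agent.Lib.Helper9.PStabFus
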