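import Mathlib
import Cfsg.Prelude.Def_FusionSystem
import Cfsg.Agent.Lib.Helper9.PStabFus1
import Cfsg.Agent.Lib.Helper9.PStabFus2
import Cfsg.Agent.Lib.Helper9.SylowConj

set_option autoImplicit false

namespace Cfsg.Agent.Lib.Helper9.PStabFus

open Cfsg
open scoped commutatorElement

variable {Ω : Type*} [Group Ω]

/-- the conjugate subgroup `h R h⁻¹` -/
abbrev cj (R : Subgroup Ω) (h : Ω) : Subgroup Ω :=
  R.map ((MulAut.conj h : Ω ≃* Ω) : Ω →* Ω)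

theorem mem_cj {R : Subgroup Ω} {h z : Ω} : z ∈ cj R h ↔ h⁻¹ * z * h ∈ R := by
  constructor
  · intro hz
    obtain ⟨r, hr, rfl⟩ := Subgroup.mem_map.1 hz
    have : h⁻¹ * ((MulAut.conj h : Ω ≃* Ω) : Ω →* Ω) r * h = r := by
      show h⁻¹ * (h * r * h⁻¹) * h = r
      group
    rw [this]; exact hr
  · intro hz
    refine Subgroup.mem_map.2 ⟨h⁻¹ * z * h, hz, ?_⟩
    show h * (h⁻¹ * z * h) * h⁻¹ = z
    group

theorem conj_mem_cj {R : Subgroup Ω} {h r : Ω} (hr : r ∈ R) : h * r * h⁻¹ ∈ cj R h := by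
  rw [mem_cj]
  have : h⁻¹ * (h * r * h⁻¹) * h = r := by group
  rw [this]; exact hr

theorem mem_normalizer_cj_iff {R : Subgroup Ω} {h m : Ω} :
    m ∈ Subgroup.normalizer (cj R h : Set Ω) ↔ h⁻¹ * m * h ∈ Subgroup.normalizer (R : Set Ω) := by
  constructor
  · intro hm
    rw [Subgroup.mem_normalizer_iff] at hm ⊢
    intro y
    have h1 := hm (h * y * h⁻¹)
    rw [mem_cj, mem_cj] at h1
    have e1 : h⁻¹ * (h * y * h⁻¹) * h = y := by group
    have e2 : h⁻¹ * (m * (h * y * h⁻¹) * m⁻¹) * h = h⁻¹ * m * h * y * (h⁻¹ * m * h)⁻¹ := by group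
    rw [e1, e2] at h1
    exact h1
  · intro hm
    rw [Subgroup.mem_normalizer_iff] at hm ⊢
    intro z
    have h1 := hm (h⁻¹ * z * h)
    rw [mem_cj, mem_cj]
    have e2 : h⁻¹ * m * h * (h⁻¹ * z * h) * (h⁻¹ * m * h)⁻¹ = h⁻¹ * (m * z * m⁻¹) * h := by group
    rw [e2] at h1
    exact h1

theorem conj_mem_normalizer_cj {R : Subgroup Ω} {h n : Ω}
    (hn : n ∈ Subgroup.normalizer (R : Set Ω)) :
    h * n * h⁻¹ ∈ Subgroup.normalizer (cj R h : Set Ω) := by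
  rw [mem_normalizer_cj_iff]
  have : h⁻¹ * (h * n * h⁻¹) * h = n := by group
  rw [this]; exact hn

/-- the isomorphism `Aut R ≃ Aut (h R h⁻¹)` -/
noncomputable abbrev autCj (R : Subgroup Ω) (h : Ω) : MulAut ↥R ≃* MulAut ↥(cj R h) :=
  MulAut.congr ((MulAut.conj h : Ω ≃* Ω).subgroupMap R)

theorem autCj_apply (R : Subgroup Ω) (h : Ω) (n : ↥(Subgroup.normalizer (R : Set Ω))) :
    autCj R h (R.normalizerMonoidHom n) =
      (cj R h).normalizerMonoidHom ⟨h * n * h⁻¹, conj_mem_normalizer_cj n.2⟩ := by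
  ext r'
  obtain ⟨r, rfl⟩ := ((MulAut.conj h : Ω ≃* Ω).subgroupMap R).surjective r'
  show ((((MulAut.conj h : Ω ≃* Ω).subgroupMap R)
    (R.normalizerMonoidHom n ((((MulAut.conj h : Ω ≃* Ω).subgroupMap R)).symm
      (((MulAut.conj h : Ω ≃* Ω).subgroupMap R) r))) : ↥(cj R h)) : Ω) = _
  rw [MulEquiv.symm_apply_apply]
  show h * ((n : Ω) * r * (n : Ω)⁻¹) * h⁻¹ = (h * n * h⁻¹) * (h * r * h⁻¹) * (h * n * h⁻¹)⁻¹
  group

theorem range_cj (R : Subgroup Ω) (h : Ω) :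
    (R.normalizerMonoidHom.range).map ((autCj R h : MulAut ↥R ≃* MulAut ↥(cj R h)) :
      MulAut ↥R →* MulAut ↥(cj R h)) = (cj R h).normalizerMonoidHom.range := by
  apply le_antisymm
  · intro y hy
    obtain ⟨x, hx, rfl⟩ := Subgroup.mem_map.1 hy
    obtain ⟨n, rfl⟩ := hx
    exact ⟨⟨h * n * h⁻¹, conj_mem_normalizer_cj n.2⟩, (autCj_apply R h n).symm⟩
  · rintro _ ⟨m, rfl⟩
    have hm : h⁻¹ * (m : Ω) * h ∈ Subgroup.normalizer (R : Set Ω) := mem_normalizer_cj_iff.1 m.2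
    refine Subgroup.mem_map.2 ⟨R.normalizerMonoidHom ⟨_, hm⟩, ⟨_, rfl⟩, ?_⟩
    have h1 := autCj_apply R h ⟨_, hm⟩
    have h2 : (⟨h * (⟨h⁻¹ * (m : Ω) * h, hm⟩ : ↥(Subgroup.normalizer (R : Set Ω))) * h⁻¹,
        conj_mem_normalizer_cj hm⟩ : ↥(Subgroup.normalizer (cj R h : Set Ω))) = m := by
      apply Subtype.ext
      show h * (h⁻¹ * (m : Ω) * h) * h⁻¹ = m
      group
    rw [h2] at h1
    exact h1

theorem conj_comm_comm (h a x : Ω) :
    ⁅⁅h * a * h⁻¹, h * x * h⁻¹⁆, h * x * h⁻¹⁆ = h * ⁅⁅a, x⁆, x⁆ * h⁻¹ := by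
  simp only [commutatorElement_def]; group

theorem quad_cj {R : Subgroup Ω} {h x : Ω} (hq : ∀ a ∈ R, ⁅⁅a, x⁆, x⁆ = 1) :
    ∀ a ∈ cj R h, ⁅⁅a, h * x * h⁻¹⁆, h * x * h⁻¹⁆ = 1 := by
  intro a ha
  rw [mem_cj] at ha
  have h1 := hq _ ha
  have h2 : a = h * (h⁻¹ * a * h) * h⁻¹ := by group
  rw [h2, conj_comm_comm, h1]
  group

/-- `Aut_F(Q)` for the fusion system of a group is the image of the normalizer -/
theorem autGroup_eq_range (P Q : Subgroup Ω) (hQP : Q ≤ P) :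
    (groupFusionSystem P).autGroup Q = Q.normalizerMonoidHom.range := by
  unfold FusionSystem.autGroup
  apply le_antisymm
  · rw [Subgroup.closure_le]
    intro α hα
    obtain ⟨_, _, g, hg⟩ := hα
    have hgN : g ∈ Subgroup.normalizer (Q : Set Ω) := by
      rw [Subgroup.mem_normalizer_iff]
      intro h
      constructor
      · intro hh
        have := hg ⟨h, hh⟩
        have h2 : g * h * g⁻¹ = ((α ⟨h, hh⟩ : Q) : Ω) := this.symm
        rw [h2]; exact (α ⟨h, hh⟩).2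
      · intro hh
        obtain ⟨x, hx⟩ := α.surjective ⟨g * h * g⁻¹, hh⟩
        have h1 : ((α x : Q) : Ω) = g * (x : Ω) * g⁻¹ := hg x
        have h2 : ((α x : Q) : Ω) = g * h * g⁻¹ := congrArg Subtype.val hx
        have h3 : (x : Ω) = h := by
          have : g * (x : Ω) * g⁻¹ = g * h * g⁻¹ := by rw [← h1]; exact h2
          exact mul_left_cancel (mul_right_cancel this)
        rw [← h3]; exact x.2
    refine ⟨⟨g, hgN⟩, ?_⟩
    ext x
    exact (hg x).symm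
  · rintro _ ⟨n, rfl⟩
    apply Subgroup.subset_closure
    exact ⟨hQP, fun x => hQP (Q.normalizerMonoidHom n x).2, (n : Ω), fun x => rfl⟩

end Cfsg.Agent.Lib.Helper9.PStabFus
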