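import Mathlib
import Cfsg.Prelude.Def_FusionSystem
import Cfsg.Agent.Lib.Helper9.PStabFus3

set_option autoImplicit false

namespace Cfsg.Agent.Lib.Helper9.PStabFus

open Cfsg Cfsg.Agent.Lib.Helper9

variable {Ω : Type*} [Group Ω]

theorem exists_fullyNormalized_cj [Finite Ω] {p : ℕ} [Fact p.Prime] (P : Sylow p Ω)
    (R : Subgroup Ω) (hR : IsPGroup p R) :
    ∃ h : Ω, (groupFusionSystem (P : Subgroup Ω)).IsFullyNormalized (cj R h) := by
  classical
  have hne : Nonempty ↥{h : Ω | cj R h ≤ (P : Subgroup Ω)} := by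
    obtain ⟨g, hg⟩ := exists_conj_le_sylow p P hR
    exact ⟨⟨g, hg⟩⟩
  obtain ⟨h₀, hmax⟩ := Finite.exists_max (fun h : ↥{h : Ω | cj R h ≤ (P : Subgroup Ω)} =>
    Nat.card (FusionSystem.normalizerIn (P : Subgroup Ω) (cj R h.1)))
  refine ⟨h₀.1, h₀.2, ?_⟩
  intro Q' hconj
  obtain ⟨φ, hφ, hrange⟩ := hconj
  obtain ⟨_, hval, g, hg⟩ := hφ
  have hQ' : Q' = cj R (g * h₀.1) := by
    rw [← hrange]
    ext z
    rw [mem_cj, MonoidHom.mem_range]
    constructor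
    · rintro ⟨x, rfl⟩
      rw [hg x]
      have hx := x.2
      rw [mem_cj] at hx
      have : (g * h₀.1)⁻¹ * (g * (x : Ω) * g⁻¹) * (g * h₀.1) = h₀.1⁻¹ * (x : Ω) * h₀.1 := by
        group
      rw [this]; exact hx
    · intro hz
      have hx : g⁻¹ * z * g ∈ cj R h₀.1 := by
        rw [mem_cj]
        have : h₀.1⁻¹ * (g⁻¹ * z * g) * h₀.1 = (g * h₀.1)⁻¹ * z * (g * h₀.1) := by group
        rw [this]; exact hz
      refine ⟨⟨_, hx⟩, ?_⟩
      rw [hg]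
      show g * (g⁻¹ * z * g) * g⁻¹ = z
      group
  have hle : cj R (g * h₀.1) ≤ (P : Subgroup Ω) := by
    rw [← hQ', ← hrange]
    rintro _ ⟨x, rfl⟩
    exact hval x
  have := hmax ⟨g * h₀.1, hle⟩
  rw [hQ']
  exact this

end Cfsg.Agent.Lib.Helper9.PStabFus
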