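import Mathlib

set_option autoImplicit false

namespace Cfsg.Agent.Lib.Helper9

open scoped BigOperators

/-- The relative trace (norm) map from `P`-fixed points to `A`-fixed points. -/
theorem exists_rel_trace {A M : Type*} [Group A] [Finite A] [CommGroup M] (ρ : A →* MulAut M)
    (P : Subgroup A) :
    ∃ τ : M →* M, (∀ v, (∀ h ∈ P, ρ h v = v) → ∀ a : A, ρ a (τ v) = τ v) ∧
      (∀ v, (∀ a : A, ρ a v = v) → τ v = v ^ P.index) := by
  classical
  haveI : Fintype (A ⧸ P) := Fintype.ofFinite _
  refine ⟨{ toFun := fun v => ∏ q : A ⧸ P, ρ (Quotient.out q) v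
            map_one' := by simp
            map_mul' := by intro x y; simp [Finset.prod_mul_distrib] }, ?_, ?_⟩
  · intro v hv a
    show ρ a (∏ q : A ⧸ P, ρ (Quotient.out q) v) = ∏ q : A ⧸ P, ρ (Quotient.out q) v
    rw [map_prod]
    have key : ∀ q : A ⧸ P, ρ a (ρ (Quotient.out q) v) = ρ (Quotient.out (a • q)) v := by
      intro q
      have h1 : ((Quotient.out (a • q))⁻¹ * (a * Quotient.out q)) ∈ P := by
        rw [← QuotientGroup.eq, QuotientGroup.out_eq']
        conv_lhs => rw [← QuotientGroup.out_eq' q]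
        rfl
      have h2 := hv _ h1
      have h3 : ρ (a * Quotient.out q) v = ρ (Quotient.out (a • q)) v := by
        have e : a * Quotient.out q = Quotient.out (a • q) *
            ((Quotient.out (a • q))⁻¹ * (a * Quotient.out q)) := by group
        rw [e, map_mul]
        show ρ _ (ρ _ v) = _
        rw [h2]
      rw [← h3, map_mul]
      rfl
    rw [Finset.prod_congr rfl (fun q _ => key q)]
    exact Fintype.prod_equiv (MulAction.toPerm a) _ _ (fun q => rfl)
  · intro v hv
    show ∏ q : A ⧸ P, ρ (Quotient.out q) v = v ^ P.index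
    rw [Finset.prod_congr rfl (fun q _ => hv _), Finset.prod_const, Finset.card_univ]
    congr 1
    rw [Subgroup.index, Nat.card_eq_fintype_card]

/-- For a coprime-index subgroup `P ≤ A` acting on a finite abelian group, the `A`-fixed points
are a direct factor of the `P`-fixed points. -/
theorem exists_fixed_complement {A M : Type*} [Group A] [Finite A] [CommGroup M] [Finite M]
    (ρ : A →* MulAut M) (P : Subgroup A) (hcop : (Nat.card M).Coprime P.index) :
    ∃ K : Subgroup M, (∀ v ∈ K, ∀ h ∈ P, ρ h v = v) ∧ (∀ v ∈ K, (∀ a, ρ a v = v) → v = 1) ∧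
      (∀ v, (∀ h ∈ P, ρ h v = v) → ∃ u k, (∀ a, ρ a u = u) ∧ k ∈ K ∧ v = u * k) := by
  obtain ⟨τ, hτP, hτA⟩ := exists_rel_trace ρ P
  refine ⟨{ carrier := {v | ∀ h ∈ P, ρ h v = v}
            one_mem' := by intro h _; simp
            mul_mem' := by
              intro a b ha hb h hh
              rw [map_mul, ha h hh, hb h hh]
            inv_mem' := by
              intro a ha h hh
              rw [map_inv, ha h hh] } ⊓ τ.ker, ?_, ?_, ?_⟩
  · intro v hv
    exact hv.1
  · intro v hv hvA
    have h1 : τ v = 1 := hv.2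
    rw [hτA v hvA] at h1
    have h2 : orderOf v ∣ P.index := orderOf_dvd_of_pow_eq_one h1
    have h3 : orderOf v ∣ Nat.card M := orderOf_dvd_natCard v
    have h4 := Nat.dvd_gcd h3 h2
    rw [hcop] at h4
    exact orderOf_eq_one_iff.mp (Nat.dvd_one.mp h4)
  · intro v hv
    have hu : ((powCoprime hcop).symm (τ v)) ^ P.index = τ v :=
      (powCoprime hcop).apply_symm_apply (τ v)
    have huA : ∀ a, ρ a ((powCoprime hcop).symm (τ v)) = (powCoprime hcop).symm (τ v) := by
      intro a
      apply (powCoprime hcop).injective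
      show (ρ a ((powCoprime hcop).symm (τ v))) ^ P.index = ((powCoprime hcop).symm (τ v)) ^ P.index
      rw [← map_pow, hu, hτP v hv a]
    refine ⟨(powCoprime hcop).symm (τ v), ((powCoprime hcop).symm (τ v))⁻¹ * v, huA, ⟨?_, ?_⟩,
      by group⟩
    · intro h hh
      rw [map_mul, map_inv, huA h, hv h hh]
    · show τ (((powCoprime hcop).symm (τ v))⁻¹ * v) = 1
      rw [map_mul, map_inv, hτA _ huA, hu, inv_mul_cancel]

end Cfsg.Agent.Lib.Helper9
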