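import Mathlib

set_option autoImplicit false

namespace Cfsg.Agent.Lib.Helper9

section S4Rel

variable {G : Type*} [Group G] {a b c : G}

theorem braid_of_cube (ha : a * a = 1) (hc : c * c = 1) (h3 : (a * c) ^ 3 = 1) :
    a * c * a = c * a * c := by
  have h : a * c * a * (c * a * c) = 1 := by
    have : (a * c) ^ 3 = a * c * a * (c * a * c) := by
      rw [pow_succ, pow_succ, pow_one]
      simp only [mul_assoc]
    rw [← this]; exact h3
  have h2 : (c * a * c) * (c * a * c) = 1 := by
    calc c * a * c * (c * a * c) = c * a * (c * c) * a * c := by simp only [mul_assoc]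
      _ = c * (a * a) * c := by rw [hc]; simp only [mul_assoc, mul_one]
      _ = 1 := by rw [ha, mul_one, hc]
  have h3' : a * c * a = (c * a * c)⁻¹ := eq_inv_of_mul_eq_one_left h
  rw [h3', inv_eq_of_mul_eq_one_left h2]

/-- `(ac) a (ca) = c`. -/
theorem s4_rel1 (ha : a * a = 1) (hc : c * c = 1) (h3 : (a * c) ^ 3 = 1) :
    a * c * a * (c * a) = c := by
  have hbr := braid_of_cube ha hc h3
  calc a * c * a * (c * a) = c * a * c * (c * a) := by rw [hbr]
    _ = c * a * (c * c) * a := by simp only [mul_assoc]
    _ = c * (a * a) := by rw [hc]; simp only [mul_assoc, mul_one]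
    _ = c := by rw [ha, mul_one]

/-- `(ac) b (ca) = (ab) c (ba)`. -/
theorem s4_rel2 (hb : b * b = 1) (hc : c * c = 1) (h3 : (b * c) ^ 3 = 1) :
    a * c * b * (c * a) = a * b * c * (b * a) := by
  have hbr := braid_of_cube hb hc h3
  calc a * c * b * (c * a) = a * (c * b * c) * a := by simp only [mul_assoc]
    _ = a * (b * c * b) * a := by rw [hbr]
    _ = a * b * c * (b * a) := by simp only [mul_assoc]

/-- `(abc)² = (cab)²`, in the form `u c u c = c u c u` for `u = ab`. -/
theorem s4_rel3 (ha : a * a = 1) (hb : b * b = 1) (hc : c * c = 1) (hab : a * b = b * a)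
    (hac : (a * c) ^ 3 = 1) (hbc : (b * c) ^ 3 = 1) :
    a * b * c * (a * b) * c = c * (a * b) * c * (a * b) := by
  have h1 := braid_of_cube ha hc hac
  have h2 := braid_of_cube hb hc hbc
  calc a * b * c * (a * b) * c = b * a * c * (a * b) * c := by rw [hab]
    _ = b * (a * c * a) * b * c := by simp only [mul_assoc]
    _ = b * (c * a * c) * b * c := by rw [h1]
    _ = b * c * a * (c * b * c) := by simp only [mul_assoc]
    _ = b * c * a * (b * c * b) := by rw [h2]
    _ = b * c * (a * b) * c * b := by simp only [mul_assoc]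
    _ = b * c * (b * a) * c * b := by rw [hab]
    _ = (b * c * b) * a * c * b := by simp only [mul_assoc]
    _ = (c * b * c) * a * c * b := by rw [h2]
    _ = c * b * (c * a * c) * b := by simp only [mul_assoc]
    _ = c * b * (a * c * a) * b := by rw [h1]
    _ = c * (b * a) * c * (a * b) := by simp only [mul_assoc]
    _ = c * (a * b) * c * (a * b) := by rw [hab]

/-- `(c ab c) a (c ab c) = b`. -/
theorem s4_rel4 (ha : a * a = 1) (hb : b * b = 1) (hc : c * c = 1) (hab : a * b = b * a)
    (hac : (a * c) ^ 3 = 1) (hbc : (b * c) ^ 3 = 1) :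
    c * (a * b) * c * a * (c * (a * b) * c) = b := by
  have h1 := braid_of_cube ha hc hac
  have h2 := braid_of_cube hb hc hbc
  calc c * (a * b) * c * a * (c * (a * b) * c)
      = c * a * b * (c * a * c) * a * b * c := by simp only [mul_assoc]
    _ = c * a * b * (a * c * a) * a * b * c := by rw [h1]
    _ = c * a * b * a * c * (a * a) * b * c := by simp only [mul_assoc]
    _ = c * (a * b) * a * c * b * c := by rw [ha]; simp only [mul_assoc, mul_one]
    _ = c * (b * a) * a * c * b * c := by rw [hab]
    _ = c * b * (a * a) * c * b * c := by simp only [mul_assoc]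
    _ = (c * b * c) * b * c := by rw [ha]; simp only [mul_assoc, mul_one]
    _ = (b * c * b) * b * c := by rw [h2]
    _ = b * c * (b * b) * c := by simp only [mul_assoc]
    _ = b * (c * c) := by rw [hb]; simp only [mul_assoc, mul_one]
    _ = b := by rw [hc, mul_one]

end S4Rel

end Cfsg.Agent.Lib.Helper9
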