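import Mathlib
import Cfsg.Prelude.Def_LocalEven
import Cfsg.Agent.Lib.Helper3.Sections
import Cfsg.Agent.Lib.Helper9.SylowConj

set_option autoImplicit false

namespace Cfsg.Agent.Lib.Helper9.SectionSylow

open Cfsg Cfsg.Agent.Lib.Helper3 Cfsg.Agent.Lib.Helper9

universe u v w

/-- a surjection from a subgroup gives a section -/
theorem involves_of_surj {G : Type v} [Group G] {X : Type u} [Group X] (K : Subgroup G)
    (ψ : ↥K →* X) (hs : Function.Surjective ψ) : Cfsg.Involves X G := by
  refine involves_of_surjective K (ψ.ker.map K.subtype) ψ hs ?_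
  rw [Subgroup.subgroupOf, Subgroup.comap_map_eq_self_of_injective K.subtype_injective]

/-- a surjection from the whole group gives a section -/
theorem involves_of_surj_top {G : Type v} [Group G] {X : Type u} [Group X]
    (ψ : G →* X) (hs : Function.Surjective ψ) : Cfsg.Involves X G :=
  involves_of_surj ⊤ (ψ.comp (Subgroup.topEquiv (G := G)).toMonoidHom)
    (hs.comp (Subgroup.topEquiv (G := G)).surjective)

/-- sections transport along injective homomorphisms -/
theorem involves_of_injective {A : Type v} [Group A] {B : Type w} [Group B] {X : Type u} [Group X]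
    (j : A →* B) (hj : Function.Injective j) (h : Cfsg.Involves X A) : Cfsg.Involves X B := by
  obtain ⟨K, R, ψ, hs, _⟩ := exists_surjective_of_involves h
  exact involves_of_surj (K.map j) (ψ.comp (K.equivMapOfInjective j hj).symm.toMonoidHom)
    (hs.comp (K.equivMapOfInjective j hj).symm.surjective)

/-- a `p`-group section of a finite group is a section of any Sylow `p`-subgroup -/
theorem involves_sylow {L : Type v} [Group L] [Finite L] {p : ℕ} [Fact p.Prime]
    {X : Type u} [Group X] (hX : IsPGroup p X) (h : Cfsg.Involves X L) (T : Sylow p L) :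
    Cfsg.Involves X ↥(T : Subgroup L) := by
  obtain ⟨K, R, ψ, hs, _⟩ := exists_surjective_of_involves h
  haveI : Finite X := Finite.of_surjective ψ hs
  obtain ⟨P₁⟩ : Nonempty (Sylow p ↥K) := inferInstance
  -- `ψ` restricted to `P₁` is surjective
  have hmap : (P₁ : Subgroup ↥K).map ψ = ⊤ := by
    rw [← Subgroup.index_eq_one]
    obtain ⟨n, hn⟩ := hX.index ((P₁ : Subgroup ↥K).map ψ)
    have hdvd : ((P₁ : Subgroup ↥K).map ψ).index ∣ (P₁ : Subgroup ↥K).index :=
      Subgroup.index_map_dvd _ hs
    have hnd : ¬ p ∣ (P₁ : Subgroup ↥K).index := P₁.not_dvd_index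
    rw [hn] at hdvd ⊢
    rcases Nat.eq_zero_or_pos n with h0 | hpos
    · rw [h0, pow_zero]
    · exact absurd (dvd_trans (dvd_pow_self p hpos.ne') hdvd) hnd
  have hs₁ : Function.Surjective (ψ.comp (P₁ : Subgroup ↥K).subtype) := by
    intro x
    have hx : x ∈ (P₁ : Subgroup ↥K).map ψ := by rw [hmap]; exact Subgroup.mem_top x
    obtain ⟨k, hk, rfl⟩ := Subgroup.mem_map.1 hx
    exact ⟨⟨k, hk⟩, rfl⟩
  have hinv₁ : Cfsg.Involves X ↥(P₁ : Subgroup ↥K) := involves_of_surj_top _ hs₁
  -- embed `P₁` into `T`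
  have hP' : IsPGroup p ((P₁ : Subgroup ↥K).map K.subtype) := P₁.isPGroup'.map _
  obtain ⟨g, hg⟩ := exists_conj_le_sylow p T hP'
  let j₀ : ↥(P₁ : Subgroup ↥K) →* L :=
    (MulAut.conj g).toMonoidHom.comp (K.subtype.comp (P₁ : Subgroup ↥K).subtype)
  have hj₀ : ∀ x, j₀ x ∈ (T : Subgroup L) := by
    intro x
    apply hg
    exact Subgroup.mem_map.2 ⟨K.subtype x.1, Subgroup.mem_map.2 ⟨x.1, x.2, rfl⟩, rfl⟩
  have hj₀inj : Function.Injective j₀ := by
    have h1 : Function.Injective (MulAut.conj g).toMonoidHom := (MulAut.conj g).injective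
    exact h1.comp (K.subtype_injective.comp (P₁ : Subgroup ↥K).subtype_injective)
  refine involves_of_injective (j₀.codRestrict (T : Subgroup L) hj₀) ?_ hinv₁
  intro a b hab
  apply hj₀inj
  exact congrArg Subtype.val hab

end Cfsg.Agent.Lib.Helper9.SectionSylow
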