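import Cfsg.Agent.Lib.Lead.ThompsonJ
import Cfsg.Agent.Lib.Helper9.SylowConj

set_option autoImplicit false

namespace Cfsg.Agent.Lib.Helper9

open Cfsg Cfsg.Agent.Lib.Helper4 Cfsg.Agent.Lib.Lead.ThompsonJ

variable {G : Type*} [Group G]

theorem Jr_cj_eq_of_le [Finite G] {p : ℕ} {P : Subgroup G} {u : G} (h : Jr p P ≤ cj u P) :
    Jr p (cj u P) = Jr p P := by
  have hinj : ∀ x ∈ P, (MulAut.conj u).toMonoidHom x = 1 → x = 1 := by
    intro x _ hx
    exact (MulAut.conj u).injective (a₁ := x) (a₂ := 1) (by simpa using hx)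
  have hle : Jr p P ≤ Jr p (cj u P) := by
    apply sSup_le
    intro A hA
    apply le_Jr
    refine ⟨le_trans (le_Jr hA) h, hA.2.1, ?_⟩
    intro B hB hBe
    have h1 := (maxEA_map (MulAut.conj u).toMonoidHom hinj hA).2.2 B hB hBe
    rw [card_map_conj] at h1
    exact h1
  symm
  apply Subgroup.eq_of_le_of_card_ge hle
  rw [Jr_cj]
  exact (card_map_conj _ _).le

theorem cj_inv_cj (g : G) (H : Subgroup G) : cj g⁻¹ (cj g H) = H := by
  rw [← cj_mul, inv_mul_cancel, cj_one]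

/-- Two `p`-subgroups of `C` can be put inside a common `p`-subgroup after conjugating one by an
element of `C`. -/
theorem exists_common_pgroup [Finite G] (p : ℕ) [Fact p.Prime] (C A B : Subgroup G)
    (hA : IsPGroup p A) (hB : IsPGroup p B) (hAC : A ≤ C) (hBC : B ≤ C) :
    ∃ c ∈ C, ∃ R : Subgroup G, IsPGroup p R ∧ A ≤ R ∧ cj c B ≤ R := by
  obtain ⟨Q1, hQ1⟩ := (hA.comap_subtype (K := C)).exists_le_sylow
  obtain ⟨c, hc⟩ := exists_conj_le_sylow p Q1 (hB.comap_subtype (K := C))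
  refine ⟨c, c.2, (Q1 : Subgroup C).map C.subtype, Q1.2.map _, ?_, ?_⟩
  · intro a ha
    exact ⟨⟨a, hAC ha⟩, hQ1 ha, rfl⟩
  · rintro _ ⟨b, hb, rfl⟩
    have h3 : (MulAut.conj c) (⟨b, hBC hb⟩ : C) ∈ (Q1 : Subgroup C) :=
      hc ⟨⟨b, hBC hb⟩, hb, rfl⟩
    exact ⟨_, h3, rfl⟩

theorem thompson_fuse [Finite G] (p : ℕ) [Fact p.Prime] (P : Sylow p G) (x y g : G)
    (hy : ∀ j ∈ Jr p (P : Subgroup G), Commute j y)
    (hx : ∀ j ∈ Jr p (P : Subgroup G), Commute j x)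
    (hg : g * x * g⁻¹ = y) :
    ∃ n ∈ Subgroup.normalizer ((Jr p (P : Subgroup G) : Subgroup G) : Set G), n * x * n⁻¹ = y := by
  have hJP : Jr p (P : Subgroup G) ≤ (P : Subgroup G) := Jr_le p _
  have hPp : IsPGroup p (P : Subgroup G) := P.isPGroup'
  have hJp : IsPGroup p (Jr p (P : Subgroup G)) := IsPGroup.to_le hPp hJP
  have hJC : Jr p (P : Subgroup G) ≤ Subgroup.centralizer {y} := by
    intro j hj
    rw [Subgroup.mem_centralizer_singleton_iff]
    exact (hy j hj).eq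
  have hgJC : cj g (Jr p (P : Subgroup G)) ≤ Subgroup.centralizer {y} := by
    rintro _ ⟨j, hj, rfl⟩
    rw [Subgroup.mem_centralizer_singleton_iff]
    have h1 : j * x = x * j := (hx j hj).eq
    show g * j * g⁻¹ * y = y * (g * j * g⁻¹)
    rw [← hg]
    calc g * j * g⁻¹ * (g * x * g⁻¹) = g * (j * x) * g⁻¹ := by group
      _ = g * (x * j) * g⁻¹ := by rw [h1]
      _ = g * x * g⁻¹ * (g * j * g⁻¹) := by group
  obtain ⟨c, hcC, R, hRp, hJR, hcR⟩ := exists_common_pgroup p _ _ _ hJp (cj_isPGroup p g hJp) hJC hgJC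
  obtain ⟨u, hu⟩ := exists_conj_le_sylow p P hRp
  have hR : R ≤ cj u⁻¹ (P : Subgroup G) := by
    intro r hr
    rw [mem_cj_iff, inv_inv]
    exact hu ⟨r, hr, rfl⟩
  have h1 : Jr p (P : Subgroup G) ≤ cj u⁻¹ (P : Subgroup G) := le_trans hJR hR
  have h2 : cj (c * g) (Jr p (P : Subgroup G)) ≤ cj u⁻¹ (P : Subgroup G) := by
    rw [cj_mul]
    exact le_trans hcR hR
  have e1 := Jr_cj_eq_of_le h1
  have h4 : cj u⁻¹ (P : Subgroup G) =
      cj (u⁻¹ * (c * g)⁻¹) (cj (c * g) (P : Subgroup G)) := by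
    rw [cj_mul, cj_inv_cj]
  have h5 : Jr p (cj (c * g) (P : Subgroup G)) ≤
      cj (u⁻¹ * (c * g)⁻¹) (cj (c * g) (P : Subgroup G)) := by
    rw [← h4, Jr_cj]
    exact h2
  have e2 := Jr_cj_eq_of_le h5
  rw [← h4, e1, Jr_cj] at e2
  refine ⟨c * g, ?_, ?_⟩
  · rw [Subgroup.mem_normalizer_iff_map_conj_eq]
    exact e2.symm
  · have hc' : c * y = y * c := by
      rw [Subgroup.mem_centralizer_singleton_iff] at hcC
      exact hcC
    rw [← hg]
    calc c * g * x * (c * g)⁻¹ = c * (g * x * g⁻¹) * c⁻¹ := by group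
      _ = c * y * c⁻¹ := by rw [hg]
      _ = g * x * g⁻¹ := by rw [hc', hg]; group

end Cfsg.Agent.Lib.Helper9
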