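import Mathlib
import Cfsg.Prelude.Def_SporadicB
import Cfsg.Agent.Lib.Helper9.CoxA3b

set_option autoImplicit false

namespace Cfsg.Agent.Lib.Helper9.ThreeTrS4

open Cfsg Equiv

variable {G : Type*} [Group G]

/-- the homomorphism from `S₄` attached to a 3-string of 3-transpositions -/
theorem string_hom {D : Set G} (hD : IsThreeTranspositionSet D) {a b c : G} (ha : a ∈ D)
    (hb : b ∈ D) (hc : c ∈ D) (hac : a ≠ c) (hac' : Commute a c) (hab : ¬ Commute a b)
    (hbc : ¬ Commute b c) :
    ∃ φ : Perm (Fin 4) →* G, Function.Injective φ ∧ φ (swap 0 1) = a ∧ φ (swap 1 2) = b ∧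
      φ (swap 2 3) = c := by
  have sq : ∀ d ∈ D, d * d = 1 := by
    intro d hdD
    have := pow_orderOf_eq_one d
    rwa [hD.1 d hdD, pow_two] at this
  have haa := sq a ha
  have hbb := sq b hb
  have hcc := sq c hc
  have h3ab : (a * b) ^ 3 = 1 := by
    rcases hD.2 a ha b hb with h | h
    · exact absurd (CoxA3.commute_of_sq haa hbb h) hab
    · exact h
  have h3bc : (b * c) ^ 3 = 1 := by
    rcases hD.2 b hb c hc with h | h
    · exact absurd (CoxA3.commute_of_sq hbb hcc h) hbc
    · exact h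
  have hrel : CoxA3.Rel a b c :=
    ⟨haa, hbb, hcc, hac'.eq.symm, CoxA3.braid_of_pow_three haa hbb h3ab,
      CoxA3.braid_of_pow_three hbb hcc h3bc⟩
  exact CoxA3.exists_hom hrel hac

/-- `x'` is the unique other member of `D` commuting with `x`, with the same commuting partners -/
structure IsPartner (D : Set G) (x x' : G) : Prop where
  mem : x' ∈ D
  ne : x' ≠ x
  comm : Commute x x'
  only : ∀ y ∈ D, Commute x y → y = x ∨ y = x'
  same : ∀ e ∈ D, Commute x' e ↔ Commute x e

theorem IsPartner.uniq {D : Set G} {x x₁ x₂ : G} (h₁ : IsPartner D x x₁) (h₂ : IsPartner D x x₂) :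
    x₁ = x₂ := by
  rcases h₁.only x₂ h₂.mem h₂.comm with h | h
  · exact absurd h h₂.ne
  · exact h.symm

theorem commute_conj_iff (g a b : G) : Commute (g * a * g⁻¹) (g * b * g⁻¹) ↔ Commute a b := by
  unfold Commute SemiconjBy
  constructor
  · intro h
    have h1 : g * (a * b) * g⁻¹ = g * (b * a) * g⁻¹ := by
      calc g * (a * b) * g⁻¹ = g * a * g⁻¹ * (g * b * g⁻¹) := by group
        _ = g * b * g⁻¹ * (g * a * g⁻¹) := h
        _ = g * (b * a) * g⁻¹ := by group
    exact mul_left_cancel (mul_right_cancel h1)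
  · intro h
    calc g * a * g⁻¹ * (g * b * g⁻¹) = g * (a * b) * g⁻¹ := by group
      _ = g * (b * a) * g⁻¹ := by rw [h]
      _ = g * b * g⁻¹ * (g * a * g⁻¹) := by group

theorem IsPartner.conj {D : Set G} (hconj : ∀ g : G, ∀ d ∈ D, g * d * g⁻¹ ∈ D) {x x' : G}
    (h : IsPartner D x x') (g : G) : IsPartner D (g * x * g⁻¹) (g * x' * g⁻¹) := by
  have back : ∀ y : G, y = g * (g⁻¹ * y * g⁻¹⁻¹) * g⁻¹ := fun y => by group
  refine ⟨hconj g x' h.mem, ?_, (commute_conj_iff g x x').2 h.comm, ?_, ?_⟩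
  · intro he
    apply h.ne
    exact mul_left_cancel (mul_right_cancel he)
  · intro y hy hc
    have hy' : g⁻¹ * y * g⁻¹⁻¹ ∈ D := hconj g⁻¹ y hy
    rw [back y, commute_conj_iff] at hc
    rcases h.only _ hy' hc with h1 | h1
    · left; rw [back y, h1]
    · right; rw [back y, h1]
  · intro e he
    have he' : g⁻¹ * e * g⁻¹⁻¹ ∈ D := hconj g⁻¹ e he
    rw [back e, commute_conj_iff, commute_conj_iff]
    exact h.same _ he'

theorem sq_one {D : Set G} (hD : IsThreeTranspositionSet D) {d : G} (hd : d ∈ D) : d * d = 1 := by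
  have := pow_orderOf_eq_one d
  rwa [hD.1 d hd, pow_two] at this

theorem inv_self {D : Set G} (hD : IsThreeTranspositionSet D) {d : G} (hd : d ∈ D) : d⁻¹ = d := by
  rw [inv_eq_iff_mul_eq_one]; exact sq_one hD hd

theorem IsPartner.z_sq {D : Set G} (hD : IsThreeTranspositionSet D) {x x' : G} (hx : x ∈ D)
    (h : IsPartner D x x') : (x * x') * (x * x') = 1 := by
  have h1 := sq_one hD hx
  have h2 := sq_one hD h.mem
  calc x * x' * (x * x') = x * (x' * x) * x' := by group
    _ = x * (x * x') * x' := by rw [h.comm.eq]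
    _ = (x * x) * (x' * x') := by group
    _ = 1 := by rw [h1, h2, one_mul]

/-- the `S₄` generated by `x`, `y`, `x'` and the partner of `y` inside it -/
theorem string_partner {D : Set G} (hD : IsThreeTranspositionSet D)
    (hconj : ∀ g : G, ∀ d ∈ D, g * d * g⁻¹ ∈ D) {x y x' y' : G} (hx : x ∈ D) (hy : y ∈ D)
    (px : IsPartner D x x') (py : IsPartner D y y') (hxy : ¬ Commute x y) :
    ∃ φ : Perm (Fin 4) →* G, Function.Injective φ ∧ φ (swap 0 1) = x ∧ φ (swap 1 2) = y ∧
      φ (swap 2 3) = x' ∧ φ (swap 0 3) = y' := by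
  have hyx' : ¬ Commute y x' := by
    intro h
    exact hxy ((px.same y hy).1 h.symm)
  obtain ⟨φ, hinj, h01, h12, h23⟩ := string_hom hD hx hy px.mem px.ne.symm px.comm hxy hyx'
  refine ⟨φ, hinj, h01, h12, h23, ?_⟩
  have e1 : (swap 0 3 : Perm (Fin 4)) = swap 1 3 * swap 0 1 * (swap 1 3)⁻¹ := by decide
  have h03D : φ (swap 0 3) ∈ D := by
    rw [e1, map_mul, map_mul, map_inv, h01]
    exact hconj _ x hx
  have e2 : (swap 1 2 : Perm (Fin 4)) * swap 0 3 = swap 0 3 * swap 1 2 := by decide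
  have h03c : Commute y (φ (swap 0 3)) := by
    unfold Commute SemiconjBy
    rw [← h12, ← map_mul, ← map_mul, e2]
  have h03ne : φ (swap 0 3) ≠ y := by
    rw [← h12]
    intro h
    have := hinj h
    revert this
    decide
  rcases py.only _ h03D h03c with h | h
  · exact absurd h h03ne
  · exact h

theorem star {D : Set G} (hD : IsThreeTranspositionSet D)
    (hconj : ∀ g : G, ∀ d ∈ D, g * d * g⁻¹ ∈ D) {x y x' y' : G} (hx : x ∈ D) (hy : y ∈ D)
    (px : IsPartner D x x') (py : IsPartner D y y') (hxy : ¬ Commute x y) :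
    y * (x * x') * y⁻¹ = (x * x') * (y * y') ∧ Commute (x * x') (y * y') := by
  obtain ⟨φ, _, h01, h12, h23, h03⟩ := string_partner hD hconj hx hy px py hxy
  have e1 : (swap 1 2 : Perm (Fin 4)) * (swap 0 1 * swap 2 3) * (swap 1 2)⁻¹ =
      (swap 0 1 * swap 2 3) * (swap 1 2 * swap 0 3) := by decide
  have e2 : (swap 0 1 * swap 2 3 : Perm (Fin 4)) * (swap 1 2 * swap 0 3) =
      (swap 1 2 * swap 0 3) * (swap 0 1 * swap 2 3) := by decide
  constructor
  · have := congrArg φ e1
    simpa only [map_mul, map_inv, h01, h12, h23, h03] using this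
  · have := congrArg φ e2
    unfold Commute SemiconjBy
    simpa only [map_mul, map_inv, h01, h12, h23, h03] using this

end Cfsg.Agent.Lib.Helper9.ThreeTrS4
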