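import Cfsg.Agent.Lib.Helper9.S4Rel
import Cfsg.Agent.Lib.Helper9.Basic
import Cfsg.Prelude.Def_SporadicB

set_option autoImplicit false
set_option maxHeartbeats 1600000

namespace Cfsg.Agent.Lib.Helper9

open Cfsg

section TT

variable {G : Type*} [Group G] {D : Set G}

/-- `x` and `y` commute with the same members of `D`. -/
def SameComm (D : Set G) (x y : G) : Prop := ∀ e ∈ D, Commute x e ↔ Commute y e

theorem SameComm.refl (x : G) : SameComm D x x := fun _ _ => Iff.rfl

theorem SameComm.symm {x y : G} (h : SameComm D x y) : SameComm D y x :=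
  fun e he => (h e he).symm

theorem SameComm.trans {x y z : G} (h₁ : SameComm D x y) (h₂ : SameComm D y z) :
    SameComm D x z := fun e he => (h₁ e he).trans (h₂ e he)

theorem SameComm.conj (hconj : ∀ g : G, ∀ d ∈ D, g * d * g⁻¹ ∈ D) {x y : G}
    (h : SameComm D x y) (g : G) : SameComm D (g * x * g⁻¹) (g * y * g⁻¹) := by
  intro e he
  have he' : g⁻¹ * e * g⁻¹⁻¹ ∈ D := hconj g⁻¹ e he
  have key : ∀ w : G, Commute (g * w * g⁻¹) e ↔ Commute w (g⁻¹ * e * g⁻¹⁻¹) := by
    intro w
    unfold Commute SemiconjBy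
    constructor
    · intro hw
      calc w * (g⁻¹ * e * g⁻¹⁻¹) = g⁻¹ * ((g * w * g⁻¹) * e) * g := by group
        _ = g⁻¹ * (e * (g * w * g⁻¹)) * g := by rw [hw]
        _ = g⁻¹ * e * g⁻¹⁻¹ * w := by group
    · intro hw
      calc g * w * g⁻¹ * e = g * (w * (g⁻¹ * e * g⁻¹⁻¹)) * g⁻¹ := by group
        _ = g * ((g⁻¹ * e * g⁻¹⁻¹) * w) * g⁻¹ := by rw [hw]
        _ = e * (g * w * g⁻¹) := by group
  rw [key x, key y]
  exact h _ he'

theorem tt_sq (hD : IsThreeTranspositionSet D) {x : G} (hx : x ∈ D) : x * x = 1 := by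
  have h := hD.1 x hx
  have h2 : x ^ 2 = 1 := by rw [← h]; exact pow_orderOf_eq_one x
  rwa [pow_two] at h2

theorem tt_inv (hD : IsThreeTranspositionSet D) {x : G} (hx : x ∈ D) : x⁻¹ = x :=
  inv_eq_of_mul_eq_one_left (tt_sq hD hx)

theorem tt_cube (hD : IsThreeTranspositionSet D) {x y : G} (hx : x ∈ D) (hy : y ∈ D)
    (hxy : ¬ Commute x y) : (x * y) ^ 3 = 1 := by
  rcases hD.2 x hx y hy with h | h
  · exfalso
    apply hxy
    have h2 : x * y * (x * y) = 1 := by rwa [pow_two] at h
    have h3 : x * y = (x * y)⁻¹ := eq_inv_of_mul_eq_one_left h2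
    rw [mul_inv_rev, tt_inv hD hx, tt_inv hD hy] at h3
    exact h3
  · exact h

/-- Members of `D` with the same commuting sets commute. -/
theorem SameComm.commute {x y : G} (hx : x ∈ D) (h : SameComm D x y) : Commute x y :=
  ((h x hx).mp (Commute.refl x)).symm

/-- The subgroup of the elements preserving each class of `SameComm`. -/
def sameCommKernel (D : Set G) (hconj : ∀ g : G, ∀ d ∈ D, g * d * g⁻¹ ∈ D) : Subgroup G where
  carrier := {k | ∀ y ∈ D, SameComm D (k * y * k⁻¹) y}
  one_mem' := by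
    intro y _
    simp only [one_mul, inv_one, mul_one]
    exact SameComm.refl y
  mul_mem' := by
    intro k l hk hl y hy
    have h1 := hl y hy
    have h2 := hk (l * y * l⁻¹) (hconj l y hy)
    have e : k * l * y * (k * l)⁻¹ = k * (l * y * l⁻¹) * k⁻¹ := by group
    rw [e]
    exact h2.trans h1
  inv_mem' := by
    intro k hk y hy
    have h1 := hk (k⁻¹ * y * k⁻¹⁻¹) (hconj k⁻¹ y hy)
    have e : k * (k⁻¹ * y * k⁻¹⁻¹) * k⁻¹ = y := by group
    rw [e] at h1
    exact h1.symm

/-- The products of two members of `D` with the same commuting set preserve the classes. -/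
theorem mul_mem_sameCommKernel (hD : IsThreeTranspositionSet D)
    (hconj : ∀ g : G, ∀ d ∈ D, g * d * g⁻¹ ∈ D) {y z : G} (hy : y ∈ D) (hz : z ∈ D)
    (h : SameComm D y z) : y * z ∈ sameCommKernel D hconj := by
  intro c hc
  have hyy := tt_sq hD hy
  have hzz := tt_sq hD hz
  have hcc := tt_sq hD hc
  have hyz : y * z = z * y := h.commute hy
  have hinv : (y * z)⁻¹ = z * y := by
    rw [mul_inv_rev, tt_inv hD hy, tt_inv hD hz]
  by_cases hyc : Commute y c
  · have hzc : Commute z c := (h c hc).mp hyc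
    have e : y * z * c * (y * z)⁻¹ = c := by
      rw [hinv]
      calc y * z * c * (z * y) = y * (z * c) * z * y := by simp only [mul_assoc]
        _ = y * (c * z) * z * y := by rw [hzc.eq]
        _ = y * c * (z * z) * y := by simp only [mul_assoc]
        _ = y * c * y := by rw [hzz, mul_one]
        _ = c * y * y := by rw [hyc.eq]
        _ = c := by rw [mul_assoc, hyy, mul_one]
    rw [e]
    exact SameComm.refl c
  · have hzc : ¬ Commute z c := fun hh => hyc ((h c hc).mpr hh)
    have h3y := tt_cube hD hy hc hyc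
    have h3z := tt_cube hD hz hc hzc
    have r1 := s4_rel1 hyy hcc h3y
    have r2 := s4_rel2 (a := y) hzz hcc h3z
    have hginv : (y * c)⁻¹ = c * y := by
      rw [mul_inv_rev, tt_inv hD hy, tt_inv hD hc]
    have h1 := h.conj hconj (y * c)
    rw [hginv] at h1
    have e1 : y * c * y * (c * y) = c := r1
    have e2 : y * c * z * (c * y) = y * z * c * (y * z)⁻¹ := by
      rw [hinv]; exact r2
    rw [e1, e2] at h1
    exact h1.symm

/-- The subgroup generated by the products of two members of `D` with the same commuting set. -/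
def sameCommGroup (D : Set G) : Subgroup G :=
  Subgroup.closure {t | ∃ y ∈ D, ∃ z ∈ D, SameComm D y z ∧ t = y * z}

theorem sameCommGroup_le_kernel (hD : IsThreeTranspositionSet D)
    (hconj : ∀ g : G, ∀ d ∈ D, g * d * g⁻¹ ∈ D) :
    sameCommGroup D ≤ sameCommKernel D hconj := by
  unfold sameCommGroup
  rw [Subgroup.closure_le]
  rintro t ⟨y, hy, z, hz, h, rfl⟩
  exact mul_mem_sameCommKernel hD hconj hy hz h

theorem sameCommGroup_normal (hconj : ∀ g : G, ∀ d ∈ D, g * d * g⁻¹ ∈ D) :
    (sameCommGroup D).Normal := by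
  constructor
  intro m hm g
  have hle : (sameCommGroup D).map (MulAut.conj g).toMonoidHom ≤ sameCommGroup D := by
    unfold sameCommGroup
    rw [MonoidHom.map_closure, Subgroup.closure_le]
    rintro _ ⟨t, ⟨y, hy, z, hz, h, rfl⟩, rfl⟩
    apply Subgroup.subset_closure
    refine ⟨g * y * g⁻¹, hconj g y hy, g * z * g⁻¹, hconj g z hz, h.conj hconj g, ?_⟩
    show g * (y * z) * g⁻¹ = _
    group
  exact hle ⟨m, hm, rfl⟩

/-- The closure of a class of `SameComm` is a `2`-group. -/
theorem isPGroup_closure_class (hD : IsThreeTranspositionSet D) (x : G) :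
    IsPGroup 2 ↥(Subgroup.closure {y | y ∈ D ∧ SameComm D y x}) := by
  have hcomm : ∀ a ∈ {y | y ∈ D ∧ SameComm D y x}, ∀ b ∈ {y | y ∈ D ∧ SameComm D y x},
      a * b = b * a := by
    rintro a ⟨ha, hax⟩ b ⟨hb, hbx⟩
    exact (hax.trans hbx.symm).commute ha
  have hsq : ∀ w ∈ Subgroup.closure {y | y ∈ D ∧ SameComm D y x}, w * w = 1 := by
    letI := Subgroup.closureCommGroupOfComm hcomm
    intro w hw
    induction hw using Subgroup.closure_induction with
    | mem a ha => exact tt_sq hD ha.1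
    | one => simp
    | mul a b ha hb iha ihb =>
      have hab : (⟨a, ha⟩ : Subgroup.closure {y | y ∈ D ∧ SameComm D y x}) * ⟨b, hb⟩ =
          ⟨b, hb⟩ * ⟨a, ha⟩ := mul_comm _ _
      have hab' : a * b = b * a := congrArg Subtype.val hab
      calc a * b * (a * b) = a * (b * a) * b := by simp only [mul_assoc]
        _ = a * (a * b) * b := by rw [hab']
        _ = (a * a) * (b * b) := by simp only [mul_assoc]
        _ = 1 := by rw [iha, ihb, mul_one]
    | inv a ha iha =>
      have : a⁻¹ = a := inv_eq_of_mul_eq_one_left iha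
      rw [this]; exact iha
  intro w
  refine ⟨1, ?_⟩
  apply Subtype.ext
  show (w : G) ^ 2 ^ 1 = 1
  rw [pow_one, pow_two]
  exact hsq w w.2

theorem sameCommGroup_isPGroup [Finite G] (hD : IsThreeTranspositionSet D)
    (hconj : ∀ g : G, ∀ d ∈ D, g * d * g⁻¹ ∈ D) : IsPGroup 2 ↥(sameCommGroup D) := by
  -- every generator lies in `O₂(M)`
  have hgen : ∀ t ∈ {t | ∃ y ∈ D, ∃ z ∈ D, SameComm D y z ∧ t = y * z},
      ∃ ht : t ∈ sameCommGroup D, (⟨t, ht⟩ : ↥(sameCommGroup D)) ∈ pCore 2 ↥(sameCommGroup D) := by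
    rintro t ⟨y, hy, z, hz, h, rfl⟩
    have ht : y * z ∈ sameCommGroup D := Subgroup.subset_closure ⟨y, hy, z, hz, h, rfl⟩
    refine ⟨ht, ?_⟩
    have hN2 : IsPGroup 2 ↥((Subgroup.closure {w | w ∈ D ∧ SameComm D w y} ⊓
        sameCommGroup D).subgroupOf (sameCommGroup D)) :=
      ((isPGroup_closure_class hD y).to_le inf_le_left).comap_subtype
    have hNn : ((Subgroup.closure {w | w ∈ D ∧ SameComm D w y} ⊓
        sameCommGroup D).subgroupOf (sameCommGroup D)).Normal := by
      constructor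
      intro n hn m
      rw [Subgroup.mem_subgroupOf] at hn ⊢
      refine Subgroup.mem_inf.mpr ⟨?_, (m * n * m⁻¹).2⟩
      have hmK := sameCommGroup_le_kernel hD hconj m.2
      have hle : (Subgroup.closure {w | w ∈ D ∧ SameComm D w y}).map
          (MulAut.conj (m : G)).toMonoidHom ≤ Subgroup.closure {w | w ∈ D ∧ SameComm D w y} := by
        rw [MonoidHom.map_closure, Subgroup.closure_le]
        rintro _ ⟨w, ⟨hw, hwy⟩, rfl⟩
        apply Subgroup.subset_closure
        exact ⟨hconj _ w hw, (hmK w hw).trans hwy⟩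
      exact hle ⟨_, (Subgroup.mem_inf.mp hn).1, rfl⟩
    have hle : (Subgroup.closure {w | w ∈ D ∧ SameComm D w y} ⊓
        sameCommGroup D).subgroupOf (sameCommGroup D) ≤ pCore 2 ↥(sameCommGroup D) :=
      le_sSup ⟨hNn, hN2⟩
    apply hle
    rw [Subgroup.mem_subgroupOf]
    refine Subgroup.mem_inf.mpr ⟨?_, ht⟩
    exact Subgroup.mul_mem _ (Subgroup.subset_closure ⟨hy, SameComm.refl y⟩)
      (Subgroup.subset_closure ⟨hz, h.symm⟩)
  have hall : ∀ m ∈ sameCommGroup D,
      ∃ hm : m ∈ sameCommGroup D, (⟨m, hm⟩ : ↥(sameCommGroup D)) ∈ pCore 2 ↥(sameCommGroup D) := by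
    intro m hm
    unfold sameCommGroup at hm
    induction hm using Subgroup.closure_induction with
    | mem t ht => exact hgen t ht
    | one => exact ⟨Subgroup.one_mem _, Subgroup.one_mem _⟩
    | mul a b _ _ iha ihb =>
      obtain ⟨ha, ha'⟩ := iha
      obtain ⟨hb, hb'⟩ := ihb
      exact ⟨Subgroup.mul_mem _ ha hb, Subgroup.mul_mem _ ha' hb'⟩
    | inv a _ iha =>
      obtain ⟨ha, ha'⟩ := iha
      exact ⟨Subgroup.inv_mem _ ha, Subgroup.inv_mem _ ha'⟩
  have htop : pCore 2 ↥(sameCommGroup D) = ⊤ := by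
    rw [eq_top_iff]
    intro m _
    obtain ⟨_, h⟩ := hall m m.2
    exact h
  have h2 : IsPGroup 2 ↥(pCore 2 ↥(sameCommGroup D)) := pCore_isPGroup'
  rw [htop] at h2
  exact h2.of_equiv Subgroup.topEquiv

theorem sameCommGroup_le_pCore [Finite G] (hD : IsThreeTranspositionSet D)
    (hconj : ∀ g : G, ∀ d ∈ D, g * d * g⁻¹ ∈ D) : sameCommGroup D ≤ pCore 2 G :=
  le_sSup ⟨sameCommGroup_normal hconj, sameCommGroup_isPGroup hD hconj⟩

end TT

end Cfsg.Agent.Lib.Helper9
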